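import Groth.Agent.CohqA.CechSheaf
import Groth.Agent.CohqA.AffVan
import Groth.Agent.CohqA.HOpen
import Groth.Agent.Fdesc.QCohStalk
import Groth.Agent.S0464

/-!
# Cohomology of quasi-coherent modules is local on an affine target (elementary form)

For a quasi-coherent module `M`, a quasi-compact open `W` of a scheme such that intersections of affine opens of `W`
are affine, and functions `a ∈ Γ(X, W)`:

* `subsingleton_HU_basicOpen`: if `H^{p+1}(W, M) = 0` then `H^{p+1}(W_a, M) = 0`;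
* `subsingleton_HU_of_span`: if the `a` with `H^{p+1}(W_a, M) = 0` generate the unit ideal then `H^{p+1}(W, M) = 0`.
-/

set_option autoImplicit false
universe u

open CategoryTheory Limits Opposite TopologicalSpace AlgebraicGeometry

namespace Groth.Agent.Flat2C.CechLocal

open Groth.Agent.CohqA.CechBasic Groth.Agent.CohqA.CechSheaf Groth.Agent.Fdesc.QCohStalk

variable {X : Scheme.{u}} (M : X.Modules)

section Act

variable {W : X.Opens}

/-- A function on `W` acts on the sections over the smaller opens. -/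
noncomputable def act {V : X.Opens} (h : V ≤ W) (a : Γ(X, W)) (s : Γ(M, V)) : Γ(M, V) :=
  (X.presheaf.map (homOfLE h).op a) • s

lemma act_add {V : X.Opens} (h : V ≤ W) (a : Γ(X, W)) (s t : Γ(M, V)) :
    act M h a (s + t) = act M h a s + act M h a t := smul_add _ _ _

lemma act_zero {V : X.Opens} (h : V ≤ W) (a : Γ(X, W)) : act M h a (0 : Γ(M, V)) = 0 := smul_zero _

lemma zero_act {V : X.Opens} (h : V ≤ W) (s : Γ(M, V)) : act M h 0 s = 0 := by
  rw [act, map_zero, zero_smul]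

lemma one_act {V : X.Opens} (h : V ≤ W) (s : Γ(M, V)) : act M h 1 s = s := by
  rw [act, map_one, one_smul]

lemma add_act {V : X.Opens} (h : V ≤ W) (a b : Γ(X, W)) (s : Γ(M, V)) :
    act M h (a + b) s = act M h a s + act M h b s := by
  rw [act, map_add, add_smul]; rfl

lemma mul_act {V : X.Opens} (h : V ≤ W) (a b : Γ(X, W)) (s : Γ(M, V)) :
    act M h (a * b) s = act M h a (act M h b s) := by
  rw [act, map_mul, mul_smul]; rfl

lemma act_zsmul {V : X.Opens} (h : V ≤ W) (a : Γ(X, W)) (n : ℤ) (s : Γ(M, V)) :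
    act M h a (n • s) = n • act M h a s := smul_comm _ _ _

lemma act_sum {V : X.Opens} (h : V ≤ W) (a : Γ(X, W)) {J : Type*} (T : Finset J) (s : J → Γ(M, V)) :
    act M h a (∑ j ∈ T, s j) = ∑ j ∈ T, act M h a (s j) := Finset.smul_sum

lemma act_sub {V : X.Opens} (h : V ≤ W) (a : Γ(X, W)) (s t : Γ(M, V)) :
    act M h a (s - t) = act M h a s - act M h a t := smul_sub _ _ _

lemma res_act {V V' : X.Opens} (h : V ≤ W) (h' : V' ≤ V) (a : Γ(X, W)) (s : Γ(M, V)) :
    res M.presheaf h' (act M h a s) = act M (h'.trans h) a (res M.presheaf h' s) := by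
  rw [act, act]
  refine (map_smul' M h' _ s).trans ?_
  congr 1
  rw [← CommRingCat.comp_apply, ← Functor.map_comp]
  rfl

/-- The action can be computed on a smaller open. -/
lemma act_map {W' V : X.Opens} (h : V ≤ W') (h' : W' ≤ W) (a : Γ(X, W)) (s : Γ(M, V)) :
    act M h (X.presheaf.map (homOfLE h').op a) s = act M (h.trans h') a s := by
  rw [act, act]
  congr 1
  rw [← CommRingCat.comp_apply, ← Functor.map_comp]
  rfl

end Act

section Loc

variable {W V : X.Opens}

variable {M} in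
theorem exists_act_eq_zero (hM : Coh.IsQCoh M) (hV : IsAffineOpen V) (h : V ≤ W) (a : Γ(X, W)) (s : Γ(M, V))
    (hs : res M.presheaf (inf_le_left : V ⊓ X.basicOpen a ≤ V) s = 0) : ∃ n : ℕ, act M h (a ^ n) s = 0 := by
  have h1 : X.basicOpen (X.presheaf.map (homOfLE h).op a) ≤ V ⊓ X.basicOpen a := (X.basicOpen_res _ _).le
  obtain ⟨n, hn⟩ := exists_pow_smul_eq_zero M hV hM (X.presheaf.map (homOfLE h).op a) s (by
    have h2 := congrArg (res M.presheaf h1) hs
    rw [map_zero, res_res] at h2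
    exact h2)
  refine ⟨n, ?_⟩
  rw [act, map_pow]
  exact hn

variable {M} in
theorem exists_res_eq_act (hM : Coh.IsQCoh M) (hV : IsAffineOpen V) (h : V ≤ W) (a : Γ(X, W))
    (t : Γ(M, V ⊓ X.basicOpen a)) :
    ∃ (n : ℕ) (s : Γ(M, V)), res M.presheaf (inf_le_left : V ⊓ X.basicOpen a ≤ V) s =
      act M (inf_le_left.trans h) (a ^ n) t := by
  have h1 : X.basicOpen (X.presheaf.map (homOfLE h).op a) ≤ V ⊓ X.basicOpen a := (X.basicOpen_res _ _).le
  have h1' : V ⊓ X.basicOpen a ≤ X.basicOpen (X.presheaf.map (homOfLE h).op a) := (X.basicOpen_res _ _).ge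
  obtain ⟨n, s, hs⟩ := exists_map_eq_pow_smul M hV hM (X.presheaf.map (homOfLE h).op a) (res M.presheaf h1 t)
  refine ⟨n, s, ?_⟩
  have h2 := congrArg (res M.presheaf h1') hs
  have h3 : res M.presheaf h1' (M.presheaf.map (homOfLE (X.basicOpen_le (X.presheaf.map (homOfLE h).op a))).op s) =
      res M.presheaf (inf_le_left : V ⊓ X.basicOpen a ≤ V) s :=
    res_res M.presheaf h1' (X.basicOpen_le _) s
  rw [← h3, h2]
  rw [← map_pow, ← map_pow]
  have h4 := res_act M (W := V) (X.basicOpen_le (X.presheaf.map (homOfLE h).op a)) h1'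
    (X.presheaf.map (homOfLE h).op (a ^ n)) (res M.presheaf h1 t)
  refine (h4.trans ?_)
  rw [act_map, res_res, res_self]

end Loc

section Cech

variable {ι : Type u} (U : ι → X.Opens) {W : X.Opens}

variable {U} in
lemma iInf_le_of (hU : ∀ i, U i ≤ W) {p : ℕ} (i : Fin (p + 1) → ι) : ⨅ k, U (i k) ≤ W :=
  (iInf_le (fun k => U (i k)) 0).trans (hU (i 0))

/-- The family intersected with a basic open. -/
abbrev UD (a : Γ(X, W)) : ι → X.Opens := fun i => U i ⊓ X.basicOpen a

lemma UD_le (a : Γ(X, W)) {p : ℕ} (i : Fin (p + 1) → ι) : ⨅ k, UD U a (i k) ≤ ⨅ k, U (i k) :=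
  le_iInf fun k => (iInf_le _ k).trans inf_le_left

lemma UD_le' (a : Γ(X, W)) {p : ℕ} (i : Fin (p + 1) → ι) :
    ⨅ k, UD U a (i k) ≤ (⨅ k, U (i k)) ⊓ X.basicOpen a :=
  le_inf (UD_le U a i) ((iInf_le _ 0).trans inf_le_right)

lemma le_UD (a : Γ(X, W)) {p : ℕ} (i : Fin (p + 1) → ι) :
    (⨅ k, U (i k)) ⊓ X.basicOpen a ≤ ⨅ k, UD U a (i k) :=
  le_iInf fun k => le_inf (inf_le_left.trans (iInf_le _ k)) inf_le_right

lemma haff_UD (hU : ∀ i, U i ≤ W) (a : Γ(X, W))
    (haff : ∀ (p : ℕ) (i : Fin (p + 1) → ι), IsAffineOpen (⨅ k, U (i k))) (p : ℕ) (i : Fin (p + 1) → ι) :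
    IsAffineOpen (⨅ k, UD U a (i k)) := by
  rw [le_antisymm (UD_le' U a i) (le_UD U a i)]
  have h1 : (⨅ k, U (i k)) ⊓ X.basicOpen a =
      X.basicOpen (X.presheaf.map (homOfLE (iInf_le_of hU i)).op a) := (X.basicOpen_res _ _).symm
  rw [h1]
  exact (haff p i).basicOpen _

lemma UD_basicOpen (a : Γ(X, W)) (i : ι) : UD U a i ≤ X.basicOpen a := inf_le_right

/-- Restriction of cochains. -/
noncomputable def resC (a : Γ(X, W)) (p : ℕ) (s : Cochain (X := X.toTopCat) U M.presheaf p) :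
    Cochain (X := X.toTopCat) (UD U a) M.presheaf p :=
  fun i => res M.presheaf (UD_le U a i) (s i)

lemma resC_dC (a : Γ(X, W)) (p : ℕ) (s : Cochain (X := X.toTopCat) U M.presheaf p) :
    resC M U a (p + 1) (dC (X := X.toTopCat) U M.presheaf p s) =
      dC (X := X.toTopCat) (UD U a) M.presheaf p (resC M U a p s) := by
  funext i
  rw [resC, dC_apply, dC_apply, map_sum]
  refine Finset.sum_congr rfl fun j _ => ?_
  rw [map_zsmul, resC, res_res, res_res]

/-- Action on cochains. -/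
noncomputable def actC (hU : ∀ i, U i ≤ W) (a : Γ(X, W)) (p : ℕ) (s : Cochain (X := X.toTopCat) U M.presheaf p) :
    Cochain (X := X.toTopCat) U M.presheaf p :=
  fun i => act M ((iInf_le _ 0).trans (hU (i 0))) a (s i)

lemma actC_dC (hU : ∀ i, U i ≤ W) (a : Γ(X, W)) (p : ℕ) (s : Cochain (X := X.toTopCat) U M.presheaf p) :
    actC M U hU a (p + 1) (dC (X := X.toTopCat) U M.presheaf p s) =
      dC (X := X.toTopCat) U M.presheaf p (actC M U hU a p s) := by
  funext i
  rw [actC, dC_apply, dC_apply, act_sum]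
  refine Finset.sum_congr rfl fun j _ => ?_
  rw [act_zsmul, actC, res_act]

lemma actC_zero (hU : ∀ i, U i ≤ W) (a : Γ(X, W)) (p : ℕ) :
    actC M U hU a p (0 : Cochain (X := X.toTopCat) U M.presheaf p) = 0 := by
  funext i
  exact act_zero M _ _

lemma actC_mul (hU : ∀ i, U i ≤ W) (a b : Γ(X, W)) (p : ℕ) (s : Cochain (X := X.toTopCat) U M.presheaf p) :
    actC M U hU (a * b) p s = actC M U hU a p (actC M U hU b p s) := by
  funext i
  exact mul_act M _ _ _ _

lemma actC_one (hU : ∀ i, U i ≤ W) (p : ℕ) (s : Cochain (X := X.toTopCat) U M.presheaf p) :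
    actC M U hU 1 p s = s := by
  funext i
  exact one_act M _ _

lemma actC_add (hU : ∀ i, U i ≤ W) (a b : Γ(X, W)) (p : ℕ) (s : Cochain (X := X.toTopCat) U M.presheaf p) :
    actC M U hU (a + b) p s = actC M U hU a p s + actC M U hU b p s := by
  funext i
  exact add_act M _ _ _ _

lemma zero_actC (hU : ∀ i, U i ≤ W) (p : ℕ) (s : Cochain (X := X.toTopCat) U M.presheaf p) :
    actC M U hU 0 p s = 0 := by
  funext i
  exact zero_act M _ _

lemma actC_sub (hU : ∀ i, U i ≤ W) (a : Γ(X, W)) (p : ℕ) (s t : Cochain (X := X.toTopCat) U M.presheaf p) :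
    actC M U hU a p (s - t) = actC M U hU a p s - actC M U hU a p t := by
  funext i
  exact act_sub M _ _ _ _

lemma resC_actC (hU : ∀ i, U i ≤ W) (a b : Γ(X, W)) (p : ℕ) (s : Cochain (X := X.toTopCat) U M.presheaf p) :
    resC M U a p (actC M U hU b p s) =
      actC M (UD U a) (fun i => inf_le_left.trans (hU i)) b p (resC M U a p s) := by
  funext i
  exact res_act M _ _ _ _

/-- every cochain over `D(a)` extends after multiplying with a power of `a`. -/
lemma exists_resC_eq [Finite ι] (hM : Coh.IsQCoh M) (hU : ∀ i, U i ≤ W) (a : Γ(X, W)) (p : ℕ)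
    (haff : ∀ i : Fin (p + 1) → ι, IsAffineOpen (⨅ k, U (i k)))
    (s : Cochain (X := X.toTopCat) (UD U a) M.presheaf p) :
    ∃ (n : ℕ) (t : Cochain (X := X.toTopCat) U M.presheaf p),
      resC M U a p t = actC M (UD U a) (fun i => inf_le_left.trans (hU i)) (a ^ n) p s := by
  have := Fintype.ofFinite ι
  have h1 : ∀ i : Fin (p + 1) → ι, ∃ (n : ℕ) (t : Γ(M, ⨅ k, U (i k))),
      res M.presheaf (UD_le U a i) t =
        act M ((UD_le U a i).trans (iInf_le_of hU i)) (a ^ n) (s i) := by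
    intro i
    obtain ⟨n, t, ht⟩ := exists_res_eq_act hM (haff i) (iInf_le_of hU i) a
      (res M.presheaf (le_UD U a i) (s i))
    refine ⟨n, t, ?_⟩
    have h2 := congrArg (res M.presheaf (UD_le' U a i)) ht
    rw [res_res, res_act, res_res, res_self] at h2
    exact h2
  choose n t ht using h1
  refine ⟨Finset.univ.sup n, fun i => act M (iInf_le_of hU i) (a ^ (Finset.univ.sup n - n i)) (t i), ?_⟩
  funext i
  rw [resC, res_act, ht i, ← mul_act, ← pow_add, Nat.sub_add_cancel (Finset.le_sup (Finset.mem_univ i))]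
  rfl

/-- a cochain vanishing over `D(a)` is killed by a power of `a`. -/
lemma exists_actC_eq_zero [Finite ι] (hM : Coh.IsQCoh M) (hU : ∀ i, U i ≤ W) (a : Γ(X, W)) (p : ℕ)
    (haff : ∀ i : Fin (p + 1) → ι, IsAffineOpen (⨅ k, U (i k)))
    (s : Cochain (X := X.toTopCat) U M.presheaf p) (hs : resC M U a p s = 0) :
    ∃ n : ℕ, actC M U hU (a ^ n) p s = 0 := by
  have := Fintype.ofFinite ι
  have h1 : ∀ i : Fin (p + 1) → ι, ∃ n : ℕ, act M (iInf_le_of hU i) (a ^ n) (s i) = 0 := by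
    intro i
    refine exists_act_eq_zero hM (haff i) _ a (s i) ?_
    have h2 := congrArg (res M.presheaf (le_UD U a i)) (congrFun hs i)
    rw [resC, res_res] at h2
    exact h2.trans (map_zero _)
  choose n hn using h1
  refine ⟨Finset.univ.sup n, ?_⟩
  funext i
  change act M _ _ (s i) = 0
  rw [← Nat.sub_add_cancel (Finset.le_sup (Finset.mem_univ i) : n i ≤ Finset.univ.sup n), pow_add, mul_act, hn i,
    act_zero]

theorem cechExact_UD [Finite ι] (hM : Coh.IsQCoh M) (hU : ∀ i, U i ≤ W) (a : Γ(X, W)) (p : ℕ)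
    (haff : ∀ (p : ℕ) (i : Fin (p + 1) → ι), IsAffineOpen (⨅ k, U (i k)))
    (h : CechExact (X := X.toTopCat) U M.presheaf p) : CechExact (X := X.toTopCat) (UD U a) M.presheaf p := by
  intro s hs
  have hU' : ∀ i, UD U a i ≤ W := fun i => inf_le_left.trans (hU i)
  obtain ⟨n, t, ht⟩ := exists_resC_eq M U hM hU a (p + 1) (haff (p + 1)) s
  obtain ⟨m, hm⟩ := exists_actC_eq_zero M U hM hU a (p + 2) (haff (p + 2))
    (dC (X := X.toTopCat) U M.presheaf (p + 1) t) (by
      rw [resC_dC, ht, ← actC_dC, hs, actC_zero])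
  obtain ⟨v, hv⟩ := h (actC M U hU (a ^ m) (p + 1) t) (by rw [← actC_dC, hm])
  have h3 : actC M (UD U a) hU' (a ^ (m + n)) (p + 1) s =
      dC (X := X.toTopCat) (UD U a) M.presheaf p (resC M U a p v) := by
    rw [← resC_dC, hv, resC_actC, ht, ← actC_mul, ← pow_add]
  -- invert `a` on `D(a)`
  let a' : Γ(X, X.basicOpen a) := X.presheaf.map (homOfLE (X.basicOpen_le a)).op a
  have ha' : IsUnit a' := by
    exact RingedSpace.isUnit_res_basicOpen _ a
  obtain ⟨b, hb⟩ := (ha'.pow (m + n)).exists_left_inv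
  refine ⟨actC M (UD U a) (UD_basicOpen U a) b p (resC M U a p v), ?_⟩
  rw [← actC_dC, ← h3]
  have h4 : actC M (UD U a) hU' (a ^ (m + n)) (p + 1) s =
      actC M (UD U a) (UD_basicOpen U a) (a' ^ (m + n)) (p + 1) s := by
    funext i
    have := act_map M (V := ⨅ k, UD U a (i k)) ((iInf_le _ 0).trans (UD_basicOpen U a (i 0))) (X.basicOpen_le a)
      (a ^ (m + n)) (s i)
    rw [map_pow] at this
    exact this.symm
  rw [h4, ← actC_mul, hb, actC_one]

theorem cechExact_of_span [Finite ι] (hM : Coh.IsQCoh M) (hU : ∀ i, U i ≤ W) (p : ℕ)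
    (haff : ∀ (p : ℕ) (i : Fin (p + 1) → ι), IsAffineOpen (⨅ k, U (i k)))
    (h : Ideal.span {a : Γ(X, W) | CechExact (X := X.toTopCat) (UD U a) M.presheaf p} = ⊤) :
    CechExact (X := X.toTopCat) U M.presheaf p := by
  intro s hs
  let J : Ideal Γ(X, W) :=
    { carrier := {b | ∃ t : Cochain (X := X.toTopCat) U M.presheaf p,
        dC (X := X.toTopCat) U M.presheaf p t = actC M U hU b (p + 1) s}
      add_mem' := by
        rintro b c ⟨t, ht⟩ ⟨t', ht'⟩
        exact ⟨t + t', by rw [map_add, ht, ht', actC_add]⟩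
      zero_mem' := ⟨0, by rw [map_zero, zero_actC]⟩
      smul_mem' := by
        rintro c b ⟨t, ht⟩
        exact ⟨actC M U hU c p t, by rw [← actC_dC, ht, smul_eq_mul, actC_mul]⟩ }
  suffices hJ : J = ⊤ by
    obtain ⟨t, ht⟩ : (1 : Γ(X, W)) ∈ J := hJ ▸ Submodule.mem_top
    exact ⟨t, by rw [ht, actC_one]⟩
  rw [← Ideal.radical_eq_top, eq_top_iff, ← h, Ideal.span_le]
  intro a ha
  obtain ⟨t, ht⟩ := ha (resC M U a (p + 1) s) (by rw [← resC_dC, hs]; funext i; exact map_zero _)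
  obtain ⟨n, t', ht'⟩ := exists_resC_eq M U hM hU a p (haff p) t
  obtain ⟨m, hm⟩ := exists_actC_eq_zero M U hM hU a (p + 1) (haff (p + 1))
    (actC M U hU (a ^ n) (p + 1) s - dC (X := X.toTopCat) U M.presheaf p t') (by
      have h5 : resC M U a (p + 1) (actC M U hU (a ^ n) (p + 1) s - dC (X := X.toTopCat) U M.presheaf p t') =
          resC M U a (p + 1) (actC M U hU (a ^ n) (p + 1) s) -
            resC M U a (p + 1) (dC (X := X.toTopCat) U M.presheaf p t') := by
        funext i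
        exact map_sub _ _ _
      rw [h5, resC_actC, resC_dC, ht', ← actC_dC, ht, sub_self])
  refine ⟨m + n, actC M U hU (a ^ m) p t', ?_⟩
  rw [← actC_dC, pow_add, actC_mul]
  rw [actC_sub, sub_eq_zero] at hm
  exact hm.symm

/-- Čech exactness in terms of cohomology. -/
theorem cechExact_iff_subsingleton [Coh.IsQCoh M] (p : ℕ)
    (haff : ∀ (p : ℕ) (i : Fin (p + 1) → ι), IsAffineOpen (⨅ k, U (i k))) :
    CechExact (X := X.toTopCat) U M.presheaf p ↔
      Subsingleton (CohTop.HU (X := X.toTopCat) (Coh.toAb M) (p + 1) (iSup U)) := by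
  obtain ⟨e⟩ := Groth.Agent.S0464.result (X := X.toTopCat) (Coh.toAb M) U
    (fun q i n => Groth.Agent.CohqA.AffVan.subsingleton_HU_of_isAffineOpen M (haff q i) n) (p + 1)
  rw [cechExact_iff, ← e.toEquiv.subsingleton_congr]
  constructor
  · intro h
    exact AddCommGrpCat.subsingleton_of_isZero h
  · intro h
    exact @AddCommGrpCat.isZero_of_subsingleton _ h

end Cech

section Cover

variable {W : X.Opens}

/-- Good finite covers. -/
theorem exists_cover (hW : IsCompact (W : Set X))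
    (hd : ∀ V ≤ W, ∀ V' ≤ W, IsAffineOpen V → IsAffineOpen V' → IsAffineOpen (V ⊓ V')) :
    ∃ (ι : Type u) (_ : Finite ι) (U : ι → X.Opens), (∀ i, U i ≤ W) ∧ iSup U = W ∧
      ∀ (p : ℕ) (i : Fin (p + 1) → ι), IsAffineOpen (⨅ k, U (i k)) := by
  obtain ⟨s, hs, hWs⟩ := isCompact_iff_finite_and_eq_biUnion_affineOpens.mp hW
  have hfin : Finite s := hs.to_subtype
  have hle : ∀ i : s, (i.1 : X.Opens) ≤ W := fun i => by
    rw [hWs]
    exact le_iSup₂_of_le i.1 i.2 le_rfl
  refine ⟨s, hfin, fun i => i.1, hle, ?_, fun p i => ?_⟩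
  · rw [hWs, iSup_subtype]
  · have hT : InfClosed {V : X.Opens | V ≤ W ∧ IsAffineOpen V} := fun V hV V' hV' =>
      ⟨inf_le_left.trans hV.1, hd V hV.1 V' hV'.1 hV.2 hV'.2⟩
    exact (InfClosed.iInf_mem_of_nonempty hT (fun k => ⟨hle (i k), (i k).1.2⟩)).2

variable [Coh.IsQCoh M]

/-- Vanishing passes to basic opens. -/
theorem subsingleton_HU_basicOpen (hW : IsCompact (W : Set X))
    (hd : ∀ V ≤ W, ∀ V' ≤ W, IsAffineOpen V → IsAffineOpen V' → IsAffineOpen (V ⊓ V')) (a : Γ(X, W)) (p : ℕ)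
    (h : Subsingleton (CohTop.HU (X := X.toTopCat) (Coh.toAb M) (p + 1) W)) :
    Subsingleton (CohTop.HU (X := X.toTopCat) (Coh.toAb M) (p + 1) (X.basicOpen a)) := by
  obtain ⟨ι, _, U, hU, hUW, haff⟩ := exists_cover hW hd
  have h1 : CechExact (X := X.toTopCat) U M.presheaf p := by
    rw [cechExact_iff_subsingleton M U p haff, hUW]
    exact h
  have h2 := cechExact_UD M U ‹_› hU a p haff h1
  have haff' := haff_UD U hU a haff
  have h3 : iSup (UD U a) = X.basicOpen a := by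
    rw [← iSup_inf_eq, hUW]
    exact inf_eq_right.mpr (X.basicOpen_le a)
  rw [cechExact_iff_subsingleton M (UD U a) p haff', h3] at h2
  exact h2

/-- Vanishing is local on the base. -/
theorem subsingleton_HU_of_span (hW : IsCompact (W : Set X))
    (hd : ∀ V ≤ W, ∀ V' ≤ W, IsAffineOpen V → IsAffineOpen V' → IsAffineOpen (V ⊓ V')) (p : ℕ)
    (h : Ideal.span {a : Γ(X, W) |
      Subsingleton (CohTop.HU (X := X.toTopCat) (Coh.toAb M) (p + 1) (X.basicOpen a))} = ⊤) :
    Subsingleton (CohTop.HU (X := X.toTopCat) (Coh.toAb M) (p + 1) W) := by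
  obtain ⟨ι, _, U, hU, hUW, haff⟩ := exists_cover hW hd
  have h1 : CechExact (X := X.toTopCat) U M.presheaf p := by
    refine cechExact_of_span M U ‹_› hU p haff ?_
    convert h using 2
    ext a
    have h3 : iSup (UD U a) = X.basicOpen a := by
      rw [← iSup_inf_eq, hUW]
      exact inf_eq_right.mpr (X.basicOpen_le a)
    rw [Set.mem_ofPred_eq, Set.mem_ofPred_eq, cechExact_iff_subsingleton M (UD U a) p (haff_UD U hU a haff), h3]
  rw [cechExact_iff_subsingleton M U p haff, hUW] at h1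
  exact h1

end Cover

section Geom

variable {Y : Scheme.{u}} (f : X ⟶ Y) [QuasiCompact f] [IsSeparated f] {U : Y.Opens}

omit M [IsSeparated f] in
theorem isCompact_preimage (hU : IsAffineOpen U) : IsCompact ((f ⁻¹ᵁ U : X.Opens) : Set X) :=
  QuasiCompact.isCompact_preimage (f := f) _ U.2 hU.isCompact

omit M [QuasiCompact f] in
theorem isAffineOpen_inf (hU : IsAffineOpen U) (V : X.Opens) (hV : V ≤ f ⁻¹ᵁ U) (V' : X.Opens)
    (hV' : V' ≤ f ⁻¹ᵁ U) (h : IsAffineOpen V) (h' : IsAffineOpen V') : IsAffineOpen (V ⊓ V') :=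
  isAffineHom_diagonal_iff.mp (inferInstanceAs (IsAffineHom (pullback.diagonal f))) U hU V hV V' hV' h h'

variable [Coh.IsQCoh M]

/-- For `f` quasi-compact separated and `U` affine: if `H^{p+1}(f⁻¹ U, M) = 0` then
`H^{p+1}(f⁻¹ D(a), M) = 0`. -/
theorem subsingleton_HU_preimage_basicOpen (hU : IsAffineOpen U) (a : Γ(Y, U)) (p : ℕ)
    (h : Subsingleton (CohTop.HU (X := X.toTopCat) (Coh.toAb M) (p + 1) (f ⁻¹ᵁ U))) :
    Subsingleton (CohTop.HU (X := X.toTopCat) (Coh.toAb M) (p + 1) (f ⁻¹ᵁ Y.basicOpen a)) := by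
  rw [Scheme.preimage_basicOpen]
  exact subsingleton_HU_basicOpen M (isCompact_preimage f hU) (isAffineOpen_inf f hU) _ p h

/-- For `f` quasi-compact separated and `U` affine: `H^{p+1}(f⁻¹ U, M) = 0` if `U` is covered by affine opens with
this property. -/
theorem subsingleton_HU_preimage_of_forall (hU : IsAffineOpen U) (p : ℕ)
    (h : ∀ y ∈ U, ∃ U' : Y.Opens, IsAffineOpen U' ∧ y ∈ U' ∧
      Subsingleton (CohTop.HU (X := X.toTopCat) (Coh.toAb M) (p + 1) (f ⁻¹ᵁ U'))) :
    Subsingleton (CohTop.HU (X := X.toTopCat) (Coh.toAb M) (p + 1) (f ⁻¹ᵁ U)) := by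
  refine subsingleton_HU_of_span M (isCompact_preimage f hU) (isAffineOpen_inf f hU) p ?_
  let T : Set Γ(Y, U) := {a | Subsingleton (CohTop.HU (X := X.toTopCat) (Coh.toAb M) (p + 1)
    (f ⁻¹ᵁ Y.basicOpen a))}
  have hT : Ideal.span T = ⊤ := by
    rw [← hU.self_le_iSup_basicOpen_iff]
    intro y hy
    obtain ⟨U', hU', hyU', hs⟩ := h y hy
    obtain ⟨a, b, hab, hya⟩ := exists_basicOpen_le_affine_inter hU hU' y ⟨hy, hyU'⟩
    have ha : a ∈ T := by
      change Subsingleton _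
      rw [hab]
      exact subsingleton_HU_preimage_basicOpen M f hU' b p hs
    exact Opens.mem_iSup.mpr ⟨⟨a, ha⟩, hya⟩
  rw [eq_top_iff, ← Ideal.map_top (f.app U).hom, ← hT, Ideal.map_span]
  refine Ideal.span_mono ?_
  rintro _ ⟨a, ha, rfl⟩
  have ha' : Subsingleton _ := ha
  rw [Scheme.preimage_basicOpen] at ha'
  exact ha'

/-- Vanishing passes from an affine open to all smaller affine opens. -/
theorem subsingleton_HU_preimage_of_le (hU : IsAffineOpen U) {U' : Y.Opens} (hU' : IsAffineOpen U') (hle : U' ≤ U)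
    (p : ℕ) (h : Subsingleton (CohTop.HU (X := X.toTopCat) (Coh.toAb M) (p + 1) (f ⁻¹ᵁ U))) :
    Subsingleton (CohTop.HU (X := X.toTopCat) (Coh.toAb M) (p + 1) (f ⁻¹ᵁ U')) :=
  subsingleton_HU_preimage_of_forall M f hU' p fun _ hy => ⟨U, hU, hle hy, h⟩

/-- The same with `HHon`. -/
theorem subsingleton_HHon_preimage_of_forall (hU : IsAffineOpen U) (p : ℕ)
    (h : ∀ y ∈ U, ∃ U' : Y.Opens, IsAffineOpen U' ∧ y ∈ U' ∧
      Subsingleton (Coh.HHon X M (f ⁻¹ᵁ U') (p + 1))) :
    Subsingleton (Coh.HHon X M (f ⁻¹ᵁ U) (p + 1)) := by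
  refine (Groth.Agent.CohqA.HOpen.HHonEquiv M (f ⁻¹ᵁ U) (p + 1)).symm.toEquiv.subsingleton_congr.mpr ?_
  refine subsingleton_HU_preimage_of_forall M f hU p fun y hy => ?_
  obtain ⟨U', hU', hy', h'⟩ := h y hy
  exact ⟨U', hU', hy',
    (Groth.Agent.CohqA.HOpen.HHonEquiv M (f ⁻¹ᵁ U') (p + 1)).toEquiv.subsingleton_congr.mpr h'⟩

theorem subsingleton_HHon_preimage_of_le (hU : IsAffineOpen U) {U' : Y.Opens} (hU' : IsAffineOpen U') (hle : U' ≤ U)
    (p : ℕ) (h : Subsingleton (Coh.HHon X M (f ⁻¹ᵁ U) (p + 1))) :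
    Subsingleton (Coh.HHon X M (f ⁻¹ᵁ U') (p + 1)) :=
  subsingleton_HHon_preimage_of_forall M f hU' p fun _ hy => ⟨U, hU, hle hy, h⟩

/-- Global version: `Y` affine. -/
theorem subsingleton_HH_of_forall [IsAffine Y] (p : ℕ)
    (h : ∀ y : Y, ∃ U' : Y.Opens, IsAffineOpen U' ∧ y ∈ U' ∧
      Subsingleton (Coh.HHon X M (f ⁻¹ᵁ U') (p + 1))) :
    Subsingleton (Coh.HH X M (p + 1)) := by
  refine (Groth.Agent.CohqA.HOpen.HHTopEquiv M (p + 1)).toEquiv.subsingleton_congr.mpr ?_
  refine subsingleton_HU_preimage_of_forall M f (isAffineOpen_top Y) p fun y _ => ?_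
  obtain ⟨U', hU', hy', h'⟩ := h y
  exact ⟨U', hU', hy',
    (Groth.Agent.CohqA.HOpen.HHonEquiv M (f ⁻¹ᵁ U') (p + 1)).toEquiv.subsingleton_congr.mpr h'⟩

theorem subsingleton_HHon_of_subsingleton_HH [IsAffine Y] (hU : IsAffineOpen U) (p : ℕ)
    (h : Subsingleton (Coh.HH X M (p + 1))) : Subsingleton (Coh.HHon X M (f ⁻¹ᵁ U) (p + 1)) := by
  refine (Groth.Agent.CohqA.HOpen.HHonEquiv M (f ⁻¹ᵁ U) (p + 1)).symm.toEquiv.subsingleton_congr.mpr ?_
  refine subsingleton_HU_preimage_of_le M f (isAffineOpen_top Y) hU le_top p ?_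
  exact (Groth.Agent.CohqA.HOpen.HHTopEquiv M (p + 1)).toEquiv.subsingleton_congr.mp h

end Geom

end Groth.Agent.Flat2C.CechLocal
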