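import Groth.Agent.Flat2C.CechLocal
import Groth.Agent.S0386
import Groth.Agent.S0403
import Groth.Agent.Fdesc.StructMod
import Groth.Prelude.Def_MoreMor

/-!
# Local nature of the conclusions of the contraction criteria (S1473, S1466)

* `surjective_app_of_forall`, `bijective_app_of_forall`: for `f` quasi-compact quasi-separated, surjectivity
  (bijectivity) of `Γ(Y, U) → Γ(X, f⁻¹ U)` is local on the affine open `U`, and passes to smaller affine opens.
* `flatLocus`: for `f` closed, the locus of `y ∈ Y` such that `X → S` is flat along `f⁻¹(y)` is open.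
* `dim_fiber_fiberMap`: the fibre of `X_s → Y_s` over `y'` has the same dimension as the fibre of `f`.
* `exists_open_of_pointwise`: assembly.
-/

set_option autoImplicit false
universe u

open CategoryTheory Limits Opposite TopologicalSpace AlgebraicGeometry

namespace Groth.Agent.Flat2C.ContrLocal

variable {X Y : Scheme.{u}} (f : X ⟶ Y)

section Surj

variable {U : Y.Opens}

lemma map_map' {V W Z : X.Opens} (h : W ≤ V) (h' : Z ≤ W) (s : Γ(X, V)) :
    X.presheaf.map (homOfLE h').op (X.presheaf.map (homOfLE h).op s) =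
      X.presheaf.map (homOfLE (h'.trans h)).op s := by
  rw [← CommRingCat.comp_apply, ← Functor.map_comp]
  rfl

lemma map_self' {V : X.Opens} (h : V ≤ V) (s : Γ(X, V)) : X.presheaf.map (homOfLE h).op s = s := by
  have : (homOfLE h).op = 𝟙 (op V) := rfl
  rw [this, CategoryTheory.Functor.map_id]
  rfl

lemma exists_res_eq {W : X.Opens} (hW : IsCompact (W : Set X)) (hW' : IsQuasiSeparated (W : Set X))
    (b : Γ(X, W)) (x : Γ(X, X.basicOpen b)) :
    ∃ (n : ℕ) (y : Γ(X, W)), X.presheaf.map (homOfLE (X.basicOpen_le b)).op y =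
      X.presheaf.map (homOfLE (X.basicOpen_le b)).op b ^ n * x :=
  exists_eq_pow_mul_of_isCompact_of_isQuasiSeparated X W hW hW' b x

lemma exists_mul_eq_zero {W : X.Opens} (hW : IsCompact (W : Set X)) (b x : Γ(X, W))
    (h : X.presheaf.map (homOfLE (X.basicOpen_le b)).op x = 0) : ∃ n : ℕ, b ^ n * x = 0 :=
  exists_pow_mul_eq_zero_of_res_basicOpen_eq_zero_of_isCompact X hW x b h

lemma res_app {V : Y.Opens} (h : V ≤ U) (s : Γ(Y, U)) :
    f.app V (Y.presheaf.map (homOfLE h).op s) =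
      X.presheaf.map (homOfLE (f.preimage_mono h)).op (f.app U s) := by
  have := f.naturality (homOfLE h).op
  exact congr($this s)

lemma exists_res_eq_preimage [QuasiCompact f] [QuasiSeparated f] (hU : IsAffineOpen U) (a : Γ(Y, U))
    (t : Γ(X, f ⁻¹ᵁ Y.basicOpen a)) :
    ∃ (n : ℕ) (y : Γ(X, f ⁻¹ᵁ U)), X.presheaf.map (homOfLE (f.preimage_mono (Y.basicOpen_le a))).op y =
      f.app (Y.basicOpen a) (Y.presheaf.map (homOfLE (Y.basicOpen_le a)).op (a ^ n)) * t := by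
  have h1 : X.basicOpen (f.app U a) ≤ f ⁻¹ᵁ Y.basicOpen a := (Scheme.preimage_basicOpen f a).ge
  have h1' : f ⁻¹ᵁ Y.basicOpen a ≤ X.basicOpen (f.app U a) := (Scheme.preimage_basicOpen f a).le
  obtain ⟨n, y, hy⟩ := exists_res_eq
    (QuasiCompact.isCompact_preimage (f := f) _ U.2 hU.isCompact)
    (f.isQuasiSeparated_preimage hU.isQuasiSeparated) (f.app U a) (X.presheaf.map (homOfLE h1).op t)
  refine ⟨n, y, ?_⟩
  have h2 := congrArg (X.presheaf.map (homOfLE h1').op) hy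
  rw [map_mul, map_pow, map_map', map_map', map_map', map_self'] at h2
  rw [res_app, map_pow, map_pow]
  exact h2

lemma exists_mul_eq_zero_preimage [QuasiCompact f] (hU : IsAffineOpen U) (a : Γ(Y, U))
    (t : Γ(X, f ⁻¹ᵁ U)) (h : X.presheaf.map (homOfLE (f.preimage_mono (Y.basicOpen_le a))).op t = 0) :
    ∃ n : ℕ, f.app U (a ^ n) * t = 0 := by
  have h1 : X.basicOpen (f.app U a) ≤ f ⁻¹ᵁ Y.basicOpen a := (Scheme.preimage_basicOpen f a).ge
  obtain ⟨n, hn⟩ := exists_mul_eq_zero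
    (QuasiCompact.isCompact_preimage (f := f) _ U.2 hU.isCompact) (f.app U a) t (by
      have h2 := congrArg (X.presheaf.map (homOfLE h1).op) h
      rw [map_map', map_zero] at h2
      exact h2)
  exact ⟨n, by rw [map_pow]; exact hn⟩

variable {f}

theorem surjective_app_basicOpen [QuasiCompact f] [QuasiSeparated f] (hU : IsAffineOpen U) (a : Γ(Y, U))
    (h : Function.Surjective (f.app U)) : Function.Surjective (f.app (Y.basicOpen a)) := by
  intro t
  obtain ⟨n, y, hy⟩ := exists_res_eq_preimage f hU a t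
  obtain ⟨y0, rfl⟩ := h y
  have ha : IsUnit ((Y.presheaf.map (homOfLE (Y.basicOpen_le a)).op a)) := RingedSpace.isUnit_res_basicOpen _ a
  obtain ⟨c, hc⟩ := (ha.pow n).exists_left_inv
  refine ⟨c * Y.presheaf.map (homOfLE (Y.basicOpen_le a)).op y0, ?_⟩
  rw [map_mul, res_app, hy, ← mul_assoc, ← map_mul, map_pow, hc, map_one, one_mul]

theorem injective_app_basicOpen [QuasiCompact f] (hU : IsAffineOpen U) (a : Γ(Y, U))
    (h : Function.Injective (f.app U)) : Function.Injective (f.app (Y.basicOpen a)) := by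
  rw [injective_iff_map_eq_zero]
  intro t ht
  obtain ⟨n, y, hy⟩ := exists_res_eq hU.isCompact hU.isQuasiSeparated a t
  have h1 : X.presheaf.map (homOfLE (f.preimage_mono (Y.basicOpen_le a))).op (f.app U y) = 0 := by
    rw [← res_app f (Y.basicOpen_le a), hy, map_mul, ht, mul_zero]
  obtain ⟨m, hm⟩ := exists_mul_eq_zero_preimage f hU a _ h1
  rw [← map_mul] at hm
  have h2 : a ^ m * y = 0 := h (by rw [hm, map_zero])
  have ha : IsUnit ((Y.presheaf.map (homOfLE (Y.basicOpen_le a)).op a)) := RingedSpace.isUnit_res_basicOpen _ a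
  have h3 := congrArg (Y.presheaf.map (homOfLE (Y.basicOpen_le a)).op) h2
  rw [map_mul, map_pow, hy, ← mul_assoc, ← pow_add, map_zero] at h3
  exact ((ha.pow _).mul_right_eq_zero).mp h3

/-- Surjectivity of `Γ(Y, U) → Γ(X, f⁻¹ U)` is local on the affine open `U`. -/
theorem surjective_app_of_forall [QuasiCompact f] [QuasiSeparated f] (hU : IsAffineOpen U)
    (h : ∀ y ∈ U, ∃ U' : Y.Opens, IsAffineOpen U' ∧ y ∈ U' ∧ Function.Surjective (f.app U')) :
    Function.Surjective (f.app U) := by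
  intro t
  let J : Ideal Γ(Y, U) :=
    { carrier := {b | ∃ y, f.app U y = f.app U b * t}
      add_mem' := by
        rintro b c ⟨y, hy⟩ ⟨y', hy'⟩
        exact ⟨y + y', by rw [map_add, hy, hy', map_add, add_mul]⟩
      zero_mem' := ⟨0, by rw [map_zero, zero_mul]⟩
      smul_mem' := by
        rintro c b ⟨y, hy⟩
        exact ⟨c * y, by rw [map_mul, hy, smul_eq_mul, map_mul, mul_assoc]⟩ }
  suffices hJ : J = ⊤ by
    obtain ⟨y, hy⟩ : (1 : Γ(Y, U)) ∈ J := hJ ▸ Submodule.mem_top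
    exact ⟨y, by rw [hy, map_one, one_mul]⟩
  rw [← Ideal.radical_eq_top]
  have hT : Ideal.span {a : Γ(Y, U) | Function.Surjective (f.app (Y.basicOpen a))} = ⊤ := by
    rw [← hU.self_le_iSup_basicOpen_iff]
    intro y hy
    obtain ⟨U', hU', hyU', hs⟩ := h y hy
    obtain ⟨a, b, hab, hya⟩ := exists_basicOpen_le_affine_inter hU hU' y ⟨hy, hyU'⟩
    have ha : a ∈ {a : Γ(Y, U) | Function.Surjective (f.app (Y.basicOpen a))} := by
      rw [Set.mem_ofPred_eq, hab]
      exact surjective_app_basicOpen hU' b hs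
    exact Opens.mem_iSup.mpr ⟨⟨a, ha⟩, hya⟩
  rw [eq_top_iff, ← hT, Ideal.span_le]
  intro a ha
  obtain ⟨s, hs⟩ := ha (X.presheaf.map (homOfLE (f.preimage_mono (Y.basicOpen_le a))).op t)
  obtain ⟨n, y, hy⟩ := exists_res_eq hU.isCompact hU.isQuasiSeparated a s
  obtain ⟨m, hm⟩ := exists_mul_eq_zero_preimage f hU a (f.app U y - f.app U (a ^ n) * t) (by
    rw [map_sub, ← res_app f (Y.basicOpen_le a), hy, map_mul, hs, map_mul, ← res_app f (Y.basicOpen_le a) (a ^ n),
      map_pow (Y.presheaf.map (homOfLE (Y.basicOpen_le a)).op).hom, sub_self])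
  refine ⟨m + n, a ^ m * y, ?_⟩
  rw [mul_sub, sub_eq_zero, ← mul_assoc, ← map_mul, ← map_mul, ← pow_add] at hm
  exact hm

/-- Injectivity of `Γ(Y, U) → Γ(X, f⁻¹ U)` is local on the affine open `U`. -/
theorem injective_app_of_forall [QuasiCompact f] (hU : IsAffineOpen U)
    (h : ∀ y ∈ U, ∃ U' : Y.Opens, IsAffineOpen U' ∧ y ∈ U' ∧ Function.Injective (f.app U')) :
    Function.Injective (f.app U) := by
  rw [injective_iff_map_eq_zero]
  intro t ht
  let J : Ideal Γ(Y, U) := Submodule.annihilator (Submodule.span Γ(Y, U) {t})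
  have hI : ∀ b : Γ(Y, U), b ∈ J ↔ b • t = 0 := fun b => Submodule.mem_annihilator_span_singleton t b
  suffices hJ : J = ⊤ by
    have h1 : (1 : Γ(Y, U)) ∈ J := hJ ▸ Submodule.mem_top
    rw [hI, one_smul] at h1
    exact h1
  rw [← Ideal.radical_eq_top]
  have hT : Ideal.span {a : Γ(Y, U) | Function.Injective (f.app (Y.basicOpen a))} = ⊤ := by
    rw [← hU.self_le_iSup_basicOpen_iff]
    intro y hy
    obtain ⟨U', hU', hyU', hs⟩ := h y hy
    obtain ⟨a, b, hab, hya⟩ := exists_basicOpen_le_affine_inter hU hU' y ⟨hy, hyU'⟩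
    have ha : a ∈ {a : Γ(Y, U) | Function.Injective (f.app (Y.basicOpen a))} := by
      rw [Set.mem_ofPred_eq, hab]
      exact injective_app_basicOpen hU' b hs
    exact Opens.mem_iSup.mpr ⟨⟨a, ha⟩, hya⟩
  rw [eq_top_iff, ← hT, Ideal.span_le]
  intro a ha
  have h2 : Y.presheaf.map (homOfLE (Y.basicOpen_le a)).op t = 0 := ha (by
    rw [res_app f (Y.basicOpen_le a), ht, map_zero, map_zero])
  obtain ⟨n, hn⟩ := exists_mul_eq_zero hU.isCompact a t h2
  exact ⟨n, (hI _).mpr hn⟩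

theorem bijective_app_of_forall [QuasiCompact f] [QuasiSeparated f] (hU : IsAffineOpen U)
    (h : ∀ y ∈ U, ∃ U' : Y.Opens, IsAffineOpen U' ∧ y ∈ U' ∧ Function.Bijective (f.app U')) :
    Function.Bijective (f.app U) := by
  refine ⟨injective_app_of_forall hU fun y hy => ?_, surjective_app_of_forall hU fun y hy => ?_⟩
  · obtain ⟨U', h1, h2, h3⟩ := h y hy
    exact ⟨U', h1, h2, h3.1⟩
  · obtain ⟨U', h1, h2, h3⟩ := h y hy
    exact ⟨U', h1, h2, h3.2⟩

end Surj

section Iso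

variable {f}

theorem eq_zero_of_app_eq_zero {V : Y.Opens}
    (h : ∀ U : Y.Opens, U ≤ V → IsAffineOpen U → Function.Injective (f.app U)) (U : Y.Opens) (hU : U ≤ V)
    (t : Γ(Y, U)) (ht : f.app U t = 0) : t = 0 := by
  refine Y.IsSheaf.section_ext (s := t) (t := 0) ?_
  intro y hy
  obtain ⟨U', hU', hyU', hle⟩ := Opens.isBasis_iff_nbhd.mp Y.isBasis_affineOpens hy
  refine ⟨U', hle, hyU', ?_⟩
  rw [map_zero]
  refine h U' (hle.trans hU) hU' ?_
  rw [map_zero]
  refine (res_app f hle t).trans ?_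
  rw [ht, map_zero]

/-- bijectivity over all opens from bijectivity over affine opens. -/
theorem isIso_app_of_forall {V : Y.Opens}
    (h : ∀ U : Y.Opens, U ≤ V → IsAffineOpen U → Function.Bijective (f.app U)) (U : Y.Opens) (hU : U ≤ V) :
    IsIso (f.app U) := by
  have hinj : ∀ U : Y.Opens, U ≤ V → Function.Injective (f.app U) := fun U hU => by
    rw [injective_iff_map_eq_zero]
    exact fun t ht => eq_zero_of_app_eq_zero (fun U h1 h2 => (h U h1 h2).1) U hU t ht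
  have hsurj : Function.Surjective (f.app U) := by
    intro t
    have hcov : ∀ y : U, ∃ U' : Y.Opens, IsAffineOpen U' ∧ y.1 ∈ U' ∧ U' ≤ U := fun y => by
      obtain ⟨U', hU', hyU', hle⟩ := Opens.isBasis_iff_nbhd.mp Y.isBasis_affineOpens y.2
      exact ⟨U', hU', hyU', hle⟩
    choose W hW hyW hWU using hcov
    have hs : ∀ y : U, ∃ s : Γ(Y, W y), f.app (W y) s =
        X.presheaf.map (homOfLE (f.preimage_mono (hWU y))).op t :=
      fun y => (h (W y) ((hWU y).trans hU) (hW y)).2 _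
    choose s hs using hs
    obtain ⟨r, hr, -⟩ := Y.sheaf.existsUnique_gluing' W U (fun y => homOfLE (hWU y))
      (fun y hy => Opens.mem_iSup.mpr ⟨⟨y, hy⟩, hyW ⟨y, hy⟩⟩) s (fun y z => by
        apply hinj (W y ⊓ W z) (inf_le_left.trans ((hWU y).trans hU))
        have h1 := res_app f (inf_le_left : W y ⊓ W z ≤ W y) (s y)
        have h2 := res_app f (inf_le_right : W y ⊓ W z ≤ W z) (s z)
        refine (h1.trans ?_).trans h2.symm
        rw [hs, hs, map_map', map_map'])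
    refine ⟨r, ?_⟩
    refine X.sheaf.eq_of_locally_eq' (fun y => f ⁻¹ᵁ W y) (f ⁻¹ᵁ U) (fun y => homOfLE (f.preimage_mono (hWU y)))
      (fun x hx => Opens.mem_iSup.mpr ⟨⟨f x, hx⟩, hyW ⟨f x, hx⟩⟩) _ _ fun y => ?_
    refine (res_app f (hWU y) r).symm.trans ((congrArg (f.app (W y)) (hr y)).trans (hs y))
  exact (ConcreteCategory.isIso_iff_bijective _).mpr ⟨hinj U hU, hsurj⟩

end Iso

section Flat

variable {S : Scheme.{u}} (g : Y ⟶ S)

/-- The locus in `Y` over which `X` is flat over `S`. -/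
def flatOver : Set Y := {y : Y | ∀ x : X, f x = y → ((f ≫ g).stalkMap x).hom.Flat}

theorem isOpen_flatOver [UniversallyClosed f] [LocallyOfFinitePresentation (f ≫ g)] : IsOpen (flatOver f g) := by
  have h1 : flatOver f g = (f '' {x : X | ((f ≫ g).stalkMap x).hom.Flat}ᶜ)ᶜ := by
    ext y
    simp only [flatOver, Set.mem_ofPred_eq, Set.mem_compl_iff, Set.mem_image, not_exists, not_and]
    constructor
    · intro h x hx hxy
      exact hx (h x hxy)
    · intro h x hxy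
      by_contra hx
      exact h x hx hxy
  rw [h1, isOpen_compl_iff]
  exact f.isClosedMap _ (isClosed_compl_iff.mpr (Groth.Agent.S0386.result (f ≫ g)))

theorem flat_of_le_flatOver (V : Y.Opens) (hV : (V : Set Y) ⊆ flatOver f g) : Flat ((f ⁻¹ᵁ V).ι ≫ f ≫ g) := by
  rw [Flat.iff_flat_stalkMap]
  intro x
  have h1 := Scheme.Hom.stalkMap_comp (f ⁻¹ᵁ V).ι (f ≫ g) x
  have h2 : ((f ≫ g).stalkMap ((f ⁻¹ᵁ V).ι x) ≫ (f ⁻¹ᵁ V).ι.stalkMap x).hom.Flat := by
    rw [CommRingCat.hom_comp]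
    refine RingHom.Flat.comp (hV x.2 _ rfl) (RingHom.Flat.of_bijective ?_)
    exact (ConcreteCategory.isIso_iff_bijective _).mp inferInstance
  rw [h1]
  exact h2

end Flat

section Dim

variable {S : Scheme.{u}} (g : Y ⟶ S) (s : S)

lemma fiberMap_fiberι : MoreMor.fiberMap f g s ≫ g.fiberι s = (f ≫ g).fiberι s ≫ f := pullback.lift_fst _ _ _

lemma fiberMap_mem_iff (y' : g.fiber s) (x' : (f ≫ g).fiber s) :
    MoreMor.fiberMap f g s x' = y' ↔ f ((f ≫ g).fiberι s x') = g.fiberι s y' := by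
  rw [← Scheme.Hom.comp_apply, ← fiberMap_fiberι, Scheme.Hom.comp_apply]
  exact ⟨fun h => by rw [h], fun h => (g.fiberι s).isEmbedding.injective h⟩

/-- the fibre of `X_s → Y_s` over `y'` is homeomorphic to the fibre of `f` over the image of `y'`. -/
noncomputable def homeoFiber (y' : g.fiber s) :
    (MoreMor.fiberMap f g s ⁻¹' {y'} : Set _) ≃ₜ (f ⁻¹' {g.fiberι s y'} : Set _) :=
  let φ : (MoreMor.fiberMap f g s ⁻¹' {y'} : Set _) → (f ⁻¹' {g.fiberι s y'} : Set _) :=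
    fun x => ⟨(f ≫ g).fiberι s x.1, (fiberMap_mem_iff f g s y' x.1).mp x.2⟩
  have hφ : Topology.IsEmbedding φ := by
    exact Topology.IsEmbedding.codRestrict (((f ≫ g).fiberι s).isEmbedding.comp
      (Topology.IsEmbedding.subtypeVal (p := fun x => x ∈ MoreMor.fiberMap f g s ⁻¹' {y'}))) (f ⁻¹' {g.fiberι s y'})
      (fun x => (fiberMap_mem_iff f g s y' x.1).mp x.2)
  have hsurj : Function.Surjective φ := by
    rintro ⟨x, hx⟩
    have hx' : x ∈ Set.range ((f ≫ g).fiberι s) := by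
      rw [Scheme.Hom.range_fiberι]
      have h1 : g.fiberι s y' ∈ g ⁻¹' {s} := by
        rw [← Scheme.Hom.range_fiberι]
        exact ⟨y', rfl⟩
      have h2 : f x = g.fiberι s y' := hx
      change (f ≫ g) x = s
      rw [Scheme.Hom.comp_apply, h2]
      exact h1
    obtain ⟨x', rfl⟩ := hx'
    exact ⟨⟨x', (fiberMap_mem_iff f g s y' x').mpr hx⟩, rfl⟩
  (Equiv.ofBijective φ ⟨hφ.injective, hsurj⟩).toHomeomorphOfIsInducing hφ.isInducing

theorem dim_fiber_fiberMap (y' : g.fiber s) :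
    topologicalKrullDim ((MoreMor.fiberMap f g s).fiber y') = topologicalKrullDim (f.fiber (g.fiberι s y')) :=
  IsHomeomorph.topologicalKrullDim_eq _
    ((((MoreMor.fiberMap f g s).fiberHomeo y').trans (homeoFiber f g s y')).trans
      (f.fiberHomeo (g.fiberι s y')).symm).isHomeomorph

theorem dim_fiber_le (n : WithBot ℕ∞)
    (hdim : ∀ y' : ↥(g.fiber s), topologicalKrullDim ↑((MoreMor.fiberMap f g s).fiber y') ≤ n) (y : Y)
    (hy : g y = s) : topologicalKrullDim (f.fiber y) ≤ n := by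
  have hy' : y ∈ Set.range (g.fiberι s) := by
    rw [Scheme.Hom.range_fiberι]
    exact hy
  obtain ⟨y', rfl⟩ := hy'
  rw [← dim_fiber_fiberMap]
  exact hdim y'

end Dim

section Assembly

variable {f} {S : Scheme.{u}} {g : Y ⟶ S}

/-- The affine opens over which `H¹ = 0` and `O_Y → f_* O_X` is surjective. -/
theorem conclusion_of_cover [QuasiCompact f] [IsSeparated f] {V : Y.Opens}
    (h : ∀ y ∈ V, ∃ U : Y.Opens, IsAffineOpen U ∧ y ∈ U ∧
      Subsingleton (Coh.HHon X (Coh.structureModule X) (f ⁻¹ᵁ U) 1) ∧ Function.Surjective (f.app U)) :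
    (∀ U : Y.Opens, U ≤ V → IsAffineOpen U → Subsingleton (Coh.HHon X (Coh.structureModule X) (f ⁻¹ᵁ U) 1)) ∧
      ∀ U : Y.Opens, U ≤ V → IsAffineOpen U → Function.Surjective (f.app U) := by
  have hq : Coh.IsQCoh (Coh.structureModule X) := Groth.Agent.Fdesc.StructMod.isQCoh_structureModule X
  refine ⟨fun U hUV hU => ?_, fun U hUV hU => ?_⟩
  · refine CechLocal.subsingleton_HHon_preimage_of_forall (Coh.structureModule X) f hU 0 fun y hy => ?_
    obtain ⟨U', h1, h2, h3, -⟩ := h y (hUV hy)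
    exact ⟨U', h1, h2, h3⟩
  · refine surjective_app_of_forall hU fun y hy => ?_
    obtain ⟨U', h1, h2, -, h3⟩ := h y (hUV hy)
    exact ⟨U', h1, h2, h3⟩

/-- The open set `V` of S1473 from the pointwise statement. -/
theorem exists_open_of_pointwise [IsProper f] [LocallyOfFinitePresentation (f ≫ g)] (s : S)
    (hflat : ∀ x : X, g (f x) = s → ((f ≫ g).stalkMap x).hom.Flat)
    (hdim : ∀ y' : ↥(g.fiber s), topologicalKrullDim ↑((MoreMor.fiberMap f g s).fiber y') ≤ 1)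
    (hloc : ∀ y : Y, g y = s → ∃ U : Y.Opens, IsAffineOpen U ∧ y ∈ U ∧
      Subsingleton (Coh.HHon X (Coh.structureModule X) (f ⁻¹ᵁ U) 1) ∧ Function.Surjective (f.app U)) :
    ∃ V : Y.Opens, g ⁻¹' {s} ⊆ (V : Set ↑Y) ∧ Flat ((f ⁻¹ᵁ V).ι ≫ f ≫ g) ∧
      (∀ y ∈ V, topologicalKrullDim ↑(f.fiber y) ≤ 1) ∧
      (∀ U : Y.Opens, U ≤ V → IsAffineOpen U → Subsingleton (Coh.HHon X (Coh.structureModule X) (f ⁻¹ᵁ U) 1)) ∧
      ∀ U : Y.Opens, U ≤ V → IsAffineOpen U → Function.Surjective (f.app U) := by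
  let T : Set Y.Opens := {U | IsAffineOpen U ∧
    Subsingleton (Coh.HHon X (Coh.structureModule X) (f ⁻¹ᵁ U) 1) ∧ Function.Surjective (f.app U)}
  let V1 : Y.Opens := sSup T
  let V2 : Y.Opens := ⟨flatOver f g, isOpen_flatOver f g⟩
  let V3 : Y.Opens := ⟨{y | topologicalKrullDim (f.fiber y) ≤ 1}, Groth.Agent.S0403.result f 1⟩
  have hV : ∀ y ∈ V1 ⊓ V2 ⊓ V3, ∃ U : Y.Opens, IsAffineOpen U ∧ y ∈ U ∧
      Subsingleton (Coh.HHon X (Coh.structureModule X) (f ⁻¹ᵁ U) 1) ∧ Function.Surjective (f.app U) := by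
    rintro y ⟨⟨hy, -⟩, -⟩
    obtain ⟨U, hU, hyU⟩ := Opens.mem_sSup.mp hy
    exact ⟨U, hU.1, hyU, hU.2⟩
  refine ⟨V1 ⊓ V2 ⊓ V3, ?_, ?_, fun y hy => hy.2, conclusion_of_cover hV⟩
  · intro y hy
    obtain ⟨U, h1, h2, h3, h4⟩ := hloc y hy
    refine ⟨⟨Opens.mem_sSup.mpr ⟨U, ⟨h1, h3, h4⟩, h2⟩, ?_⟩, ?_⟩
    · rintro x rfl
      exact hflat x hy
    · exact dim_fiber_le f g s 1 hdim y hy
  · exact flat_of_le_flatOver f g _ fun y hy => hy.1.2

theorem flat_opens_ι (V : Y.Opens) (hV : ∀ y ∈ V, (g.stalkMap y).hom.Flat) : Flat (V.ι ≫ g) := by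
  rw [Flat.iff_flat_stalkMap]
  intro x
  have h1 := Scheme.Hom.stalkMap_comp V.ι g x
  have h2 : (g.stalkMap (V.ι x) ≫ V.ι.stalkMap x).hom.Flat := by
    rw [CommRingCat.hom_comp]
    refine RingHom.Flat.comp (hV _ x.2) (RingHom.Flat.of_bijective ?_)
    exact (ConcreteCategory.isIso_iff_bijective _).mp inferInstance
  rw [h1]
  exact h2

/-- The open set `V` of S1466 from the pointwise statement. -/
theorem exists_open_of_pointwise_iso [IsProper f] [LocallyOfFinitePresentation g]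
    [LocallyOfFinitePresentation (f ≫ g)] (s : S)
    (hflat : ∀ x : X, g (f x) = s → ((f ≫ g).stalkMap x).hom.Flat)
    (hdim : ∀ y' : ↥(g.fiber s), topologicalKrullDim ↑((MoreMor.fiberMap f g s).fiber y') ≤ 1)
    (hflat' : ∀ y : Y, g y = s → (g.stalkMap y).hom.Flat)
    (hloc : ∀ y : Y, g y = s → ∃ U : Y.Opens, IsAffineOpen U ∧ y ∈ U ∧
      Subsingleton (Coh.HHon X (Coh.structureModule X) (f ⁻¹ᵁ U) 1) ∧ Function.Bijective (f.app U)) :
    ∃ V : Y.Opens, g ⁻¹' {s} ⊆ (V : Set ↑Y) ∧ Flat (V.ι ≫ g) ∧ Flat ((f ⁻¹ᵁ V).ι ≫ f ≫ g) ∧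
      (∀ y ∈ V, topologicalKrullDim ↑(f.fiber y) ≤ 1) ∧
      (∀ U : Y.Opens, U ≤ V → IsAffineOpen U → Subsingleton (Coh.HHon X (Coh.structureModule X) (f ⁻¹ᵁ U) 1)) ∧
      ∀ U : Y.Opens, U ≤ V → IsIso (f.app U) := by
  let T : Set Y.Opens := {U | IsAffineOpen U ∧
    Subsingleton (Coh.HHon X (Coh.structureModule X) (f ⁻¹ᵁ U) 1) ∧ Function.Bijective (f.app U)}
  let V1 : Y.Opens := sSup T
  let V2 : Y.Opens := ⟨flatOver f g, isOpen_flatOver f g⟩
  let V3 : Y.Opens := ⟨{y | topologicalKrullDim (f.fiber y) ≤ 1}, Groth.Agent.S0403.result f 1⟩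
  let V4 : Y.Opens := ⟨{y | (g.stalkMap y).hom.Flat}, Groth.Agent.S0386.result g⟩
  have hV : ∀ y ∈ V1 ⊓ V2 ⊓ V3 ⊓ V4, ∃ U : Y.Opens, IsAffineOpen U ∧ y ∈ U ∧
      Subsingleton (Coh.HHon X (Coh.structureModule X) (f ⁻¹ᵁ U) 1) ∧ Function.Bijective (f.app U) := by
    rintro y ⟨⟨⟨hy, -⟩, -⟩, -⟩
    obtain ⟨U, hU, hyU⟩ := Opens.mem_sSup.mp hy
    exact ⟨U, hU.1, hyU, hU.2⟩
  refine ⟨V1 ⊓ V2 ⊓ V3 ⊓ V4, ?_, flat_opens_ι _ fun y hy => hy.2, ?_, fun y hy => hy.1.2, ?_, ?_⟩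
  · intro y hy
    obtain ⟨U, h1, h2, h3, h4⟩ := hloc y hy
    refine ⟨⟨⟨Opens.mem_sSup.mpr ⟨U, ⟨h1, h3, h4⟩, h2⟩, ?_⟩, ?_⟩, hflat' y hy⟩
    · rintro x rfl
      exact hflat x hy
    · exact dim_fiber_le f g s 1 hdim y hy
  · exact flat_of_le_flatOver f g _ fun y hy => hy.1.1.2
  · refine (conclusion_of_cover fun y hy => ?_).1
    obtain ⟨U, h1, h2, h3, h4⟩ := hV y hy
    exact ⟨U, h1, h2, h3, h4.2⟩
  · refine isIso_app_of_forall fun U hUV hU => bijective_app_of_forall hU fun y hy => ?_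
    obtain ⟨U', h1, h2, -, h4⟩ := hV y (hUV hy)
    exact ⟨U', h1, h2, h4⟩

end Assembly

end Groth.Agent.Flat2C.ContrLocal
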