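import Groth.Agent.Flat2C.FibreSections
import Mathlib.RingTheory.LocalProperties.Reduced
import Mathlib.RingTheory.Localization.BaseChange
import Mathlib.AlgebraicGeometry.Properties
import Mathlib.AlgebraicGeometry.IdealSheaf.Subscheme

set_option autoImplicit false
universe u

/-!
# The generic fibre of a reduced scheme over an irreducible scheme is reduced
-/

namespace Groth.Agent.Flat2C.GenericReduced

open AlgebraicGeometry CategoryTheory Limits TopologicalSpace TensorProduct
open Groth.Agent.Flat2C.FibreSections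

theorem isReduced_tensor {A B : Type u} [CommRing A] [CommRing B] [Algebra A B] [IsReduced B]
    (p₀ : Ideal A) [p₀.IsPrime] (K : Type u) [CommRing K] [Nontrivial K] [Algebra A K]
    (hK0 : ∀ x ∈ p₀, algebraMap A K x = 0) (hK1 : ∀ d ∉ p₀, IsUnit (algebraMap A K d))
    (hK2 : ∀ z : K, ∃ n d : A, d ∉ p₀ ∧ z * algebraMap A K d = algebraMap A K n)
    (hnil : ∀ x ∈ p₀, algebraMap A B x = 0) : IsReduced (K ⊗[A] B) := by
  let A' := A ⧸ p₀
  let _ : Algebra A' K := (Ideal.Quotient.lift p₀ (algebraMap A K) hK0).toAlgebra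
  have : IsScalarTower A A' K := IsScalarTower.of_algebraMap_eq (fun x => by
    simp [A', RingHom.algebraMap_toAlgebra])
  have hinj : Function.Injective (algebraMap A' K) := by
    rw [injective_iff_map_eq_zero]
    intro x hx
    obtain ⟨x, rfl⟩ := Ideal.Quotient.mk_surjective x
    by_contra hx0
    have : x ∉ p₀ := fun h => hx0 (Ideal.Quotient.eq_zero_iff_mem.mpr h)
    have h1 := hK1 x this
    have h2 : algebraMap A K x = 0 := hx
    rw [h2] at h1
    exact not_isUnit_zero h1
  have : IsFractionRing A' K :=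
    { map_units := fun ⟨y, hy⟩ => by
        obtain ⟨y, rfl⟩ := Ideal.Quotient.mk_surjective y
        exact hK1 y (fun h => nonZeroDivisors.ne_zero hy (Ideal.Quotient.eq_zero_iff_mem.mpr h))
      surj := fun z => by
        obtain ⟨n, d, hd, h⟩ := hK2 z
        refine ⟨⟨Ideal.Quotient.mk p₀ n, ⟨Ideal.Quotient.mk p₀ d, mem_nonZeroDivisors_of_ne_zero
          (fun h => hd (Ideal.Quotient.eq_zero_iff_mem.mp h))⟩⟩, h⟩
      exists_of_eq := fun {x y} h => ⟨1, by rw [hinj h]⟩ }
  let _ : Algebra A' B := (Ideal.Quotient.lift p₀ (algebraMap A B) hnil).toAlgebra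
  have : IsScalarTower A A' B := IsScalarTower.of_algebraMap_eq (fun x => by
    simp [A', RingHom.algebraMap_toAlgebra])
  have hB' : IsReduced (A' ⊗[A] B) := by
    let φ : A' ⊗[A] B →ₐ[A] B := Algebra.TensorProduct.lift (IsScalarTower.toAlgHom A A' B) (AlgHom.id A B)
      (fun _ _ => Commute.all _ _)
    refine isReduced_of_injective φ ?_
    have hsurj : Function.Surjective (Algebra.TensorProduct.includeRight : B →ₐ[A] A' ⊗[A] B) := by
      intro z
      induction z with
      | zero => exact ⟨0, map_zero _⟩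
      | tmul x y =>
        obtain ⟨x, rfl⟩ := Ideal.Quotient.mk_surjective x
        refine ⟨x • y, ?_⟩
        change (1 : A') ⊗ₜ[A] (x • y) = _
        rw [← TensorProduct.smul_tmul]
        congr 1
        change algebraMap A A' x * 1 = _
        rw [mul_one]; rfl
      | add x y hx hy =>
        obtain ⟨a, rfl⟩ := hx
        obtain ⟨b, rfl⟩ := hy
        exact ⟨a + b, map_add _ _ _⟩
    intro x y hxy
    obtain ⟨x, rfl⟩ := hsurj x
    obtain ⟨y, rfl⟩ := hsurj y
    have h1 : ∀ x : B, φ ((1 : A') ⊗ₜ x) = x := fun x => by simp [φ]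
    have h2 := (h1 x).symm.trans (hxy.trans (h1 y))
    rw [h2]
  have h3 : IsReduced (K ⊗[A'] (A' ⊗[A] B)) := by
    let _ : Algebra (A' ⊗[A] B) (K ⊗[A'] (A' ⊗[A] B)) := Algebra.TensorProduct.rightAlgebra
    have : IsLocalization (Algebra.algebraMapSubmonoid (A' ⊗[A] B) (nonZeroDivisors A')) (K ⊗[A'] (A' ⊗[A] B)) :=
      IsLocalization.tensorRight K (nonZeroDivisors A')
    exact isReduced_localizationPreserves (Algebra.algebraMapSubmonoid (A' ⊗[A] B) (nonZeroDivisors A'))
      (K ⊗[A'] (A' ⊗[A] B)) hB'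
  exact isReduced_of_injective (Algebra.TensorProduct.cancelBaseChange A A' K K B).symm
    (Algebra.TensorProduct.cancelBaseChange A A' K K B).symm.injective

theorem isReduced_subscheme_nilradical (X : Scheme.{u}) : IsReduced X.nilradical.subscheme := by
  have : ∀ i, IsReduced (X.nilradical.subschemeCover.openCover.X i) := by
    intro U
    have h1 : _root_.IsReduced (Γ(X, U.1) ⧸ X.nilradical.ideal U) := by
      rw [← Ideal.isRadical_iff_quotient_reduced]
      exact Ideal.radical_isRadical _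
    exact inferInstanceAs (IsReduced (Spec (CommRingCat.of (Γ(X, U.1) ⧸ X.nilradical.ideal U))))
  exact IsReduced.of_openCover _ X.nilradical.subschemeCover.openCover

/-- A scheme with reduced sections on an affine cover is reduced. -/
theorem isReduced_of_affine_cover {Z : Scheme.{u}} {ι : Type*} (V : ι → Z.Opens) (hV : ∀ i, IsAffineOpen (V i))
    (hcov : ∀ z : Z, ∃ i, z ∈ V i) (h : ∀ i, _root_.IsReduced Γ(Z, V i)) : IsReduced Z := by
  have : ∀ z : Z, _root_.IsReduced (Z.presheaf.stalk z) := by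
    intro z
    obtain ⟨i, hi⟩ := hcov z
    have := (hV i).isLocalization_stalk ⟨z, hi⟩
    let _ : Algebra Γ(Z, V i) (Z.presheaf.stalk z) := (Z.presheaf.germ (V i) z hi).hom.toAlgebra
    exact isReduced_localizationPreserves ((hV i).primeIdealOf ⟨z, hi⟩).asIdeal.primeCompl _ (h i)
  exact isReduced_of_isReduced_stalk Z

instance isReduced_fiber_genericPoint {X Y : Scheme.{u}} (f : X ⟶ Y) [IrreducibleSpace Y] [IsReduced X] :
    IsReduced (f.fiber (genericPoint Y)) := by
  obtain ⟨_, ⟨W, hW, rfl⟩, hηW, -⟩ := Y.isBasis_affineOpens.exists_subset_of_mem_open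
    (Set.mem_univ (genericPoint Y)) isOpen_univ
  let η := genericPoint Y
  refine isReduced_of_affine_cover (ι := {V : X.affineOpens // V.1 ≤ f ⁻¹ᵁ W}) (fun V => f.fiberι η ⁻¹ᵁ V.1.1)
    (fun V => isAffineOpen_fiber f η hW hηW V.1.2 V.2) ?_ ?_
  · intro z
    have hz : f.fiberι η z ∈ f ⁻¹ᵁ W := by
      change f (f.fiberι η z) ∈ W
      have : f.fiberι η z ∈ Set.range (f.fiberι η) := ⟨z, rfl⟩
      rw [Scheme.Hom.range_fiberι] at this
      rw [show f (f.fiberι η z) = η from this]
      exact hηW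
    obtain ⟨_, ⟨V, hV, rfl⟩, hzV, hVW⟩ := X.isBasis_affineOpens.exists_subset_of_mem_open hz (f ⁻¹ᵁ W).2
    exact ⟨⟨⟨V, hV⟩, hVW⟩, hzV⟩
  · rintro ⟨⟨V, hV⟩, hVW⟩
    let _ : Algebra Γ(Y, W) Γ(X, V) := (f.appLE W V hVW).hom.toAlgebra
    let K := Γ(Spec (Y.residueField η), ⊤)
    let _ : Algebra Γ(Y, W) K := (evalHom η W hηW).hom.toAlgebra
    have : Nontrivial K := (isField_Γ η).nontrivial
    have : IsDomain K := (isField_Γ η).isDomain
    let p₀ : Ideal Γ(Y, W) := RingHom.ker (algebraMap Γ(Y, W) K)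
    have hp₀ : ∀ a : Γ(Y, W), a ∈ p₀ ↔ η ∉ Y.basicOpen a := fun a => evalHom_eq_zero_iff η hηW a
    have : p₀.IsPrime := RingHom.ker_isPrime _
    have hred : _root_.IsReduced (K ⊗[Γ(Y, W)] Γ(X, V)) := by
      refine isReduced_tensor (A := Γ(Y, W)) (B := Γ(X, V)) p₀ K (fun x hx => hx)
        (fun d hd => (isUnit_evalHom_iff η hηW d).mpr (by by_contra hc; exact hd ((hp₀ d).mpr hc)))
        (fun z => by
          obtain ⟨n, d, hd, h⟩ := exists_frac η hW hηW z
          exact ⟨n, d, fun hc => (hp₀ d).mp hc hd, h⟩) (fun x hx => ?_)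
      have h1 : Y.basicOpen x = ⊥ := by
        rw [eq_bot_iff]
        intro y hy
        exact (hp₀ x).mp hx (((genericPoint_spec Y).mem_open_set_iff (Y.basicOpen x).2).mpr ⟨y, trivial, hy⟩)
      have h2 : IsNilpotent x := (Scheme.isNilpotent_iff_basicOpen_eq_bot_of_isCompact hW.isCompact x).mpr h1
      exact (h2.map (algebraMap Γ(Y, W) Γ(X, V))).eq_zero
    obtain ⟨e, he, -⟩ := exists_ringEquiv_of_isPushout (isPushout_fiber f η hW hηW hV hVW)
    exact isReduced_of_injective e.symm e.symm.injective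

end Groth.Agent.Flat2C.GenericReduced
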