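import Groth.Prelude.Def_FlatCA
import Mathlib.RingTheory.Flat.FaithfullyFlat.Algebra
import Mathlib.RingTheory.Flat.Localization

/-!
# Flatness at a prime and flat base change on the source

* `flat_tensor`: `F` flat over `S`, `X` an `S`-module flat over `R` implies `F ⊗[S] X` flat over `R`.
* `flat_of_flat_tensor`: the converse for `F` faithfully flat over `S`.
* `flatAt_iff_of_isBaseChange`: for `T` flat over `S`, `N = T ⊗_S M`, `Q` a prime of `T` over `q`:
  `M` is flat over `R` at `q` iff `N` is flat over `R` at `Q`.
-/

set_option autoImplicit false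
universe u v w

namespace Groth.Agent.Flat2C.FlatAt

open TensorProduct

section Tensor

variable {R S : Type*} [CommRing R] [CommRing S] [Algebra R S]
  (F X : Type*) [AddCommGroup F] [Module S F] [Module R F] [IsScalarTower R S F]
  [AddCommGroup X] [Module S X] [Module R X] [IsScalarTower R S X]

theorem lTensor_eq_conj {N P : Type*} [AddCommGroup N] [AddCommGroup P] [Module R N] [Module R P]
    (f : N →ₗ[R] P) :
    ⇑(LinearMap.lTensor (F ⊗[S] X) f) =
      ⇑(AlgebraTensorModule.assoc R S S F X P).symm ∘
        ⇑(LinearMap.lTensor F (AlgebraTensorModule.lTensor S X f)) ∘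
          ⇑(AlgebraTensorModule.assoc R S S F X N) := by
  have h : (AlgebraTensorModule.lTensor S (F ⊗[S] X) f) =
      (AlgebraTensorModule.assoc R S S F X P).symm.toLinearMap ∘ₗ
        LinearMap.lTensor F (AlgebraTensorModule.lTensor S X f) ∘ₗ
          (AlgebraTensorModule.assoc R S S F X N).toLinearMap := by
    ext a b c
    simp
  have := congrArg (fun g => (g : (F ⊗[S] X) ⊗[R] N → (F ⊗[S] X) ⊗[R] P)) (congrArg DFunLike.coe h)
  simpa using this

theorem flat_tensor [Module.Flat S F] [Module.Flat R X] : Module.Flat R (F ⊗[S] X) := by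
  rw [Module.Flat.iff_lTensor_preserves_injective_linearMap]
  intro N P _ _ _ _ f hf
  rw [lTensor_eq_conj]
  refine (LinearEquiv.injective _).comp (Function.Injective.comp ?_ (LinearEquiv.injective _))
  apply Module.Flat.lTensor_preserves_injective_linearMap
  exact Module.Flat.lTensor_preserves_injective_linearMap (M := X) f hf

theorem flat_of_flat_tensor [Module.FaithfullyFlat S F] [Module.Flat R (F ⊗[S] X)] :
    Module.Flat R X := by
  rw [Module.Flat.iff_lTensor_preserves_injective_linearMap]
  intro N P _ _ _ _ f hf
  have h := Module.Flat.lTensor_preserves_injective_linearMap (M := F ⊗[S] X) f hf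
  rw [lTensor_eq_conj] at h
  have h2 : Function.Injective (LinearMap.lTensor F (AlgebraTensorModule.lTensor S X f)) := by
    have h3 := (Function.Injective.of_comp_iff (LinearEquiv.injective _) _).1 h
    exact (Function.Injective.of_comp_iff' _ (LinearEquiv.bijective _)).1 h3
  exact (Module.FaithfullyFlat.lTensor_injective_iff_injective S F _).1 h2

theorem flat_tensor_iff [Module.FaithfullyFlat S F] :
    Module.Flat R (F ⊗[S] X) ↔ Module.Flat R X :=
  ⟨fun _ => flat_of_flat_tensor (S := S) F X, fun _ => flat_tensor (S := S) F X⟩

end Tensor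

section Local

variable {R S T : Type u} [CommRing R] [CommRing S] [CommRing T] [Algebra R S] [Algebra R T]
  [Algebra S T] [IsScalarTower R S T]
  {M N : Type u} [AddCommGroup M] [AddCommGroup N] [Module S M] [Module R M] [IsScalarTower R S M]
  [Module T N] [Module R N] [IsScalarTower R T N] [Module S N] [IsScalarTower S T N]
  (g : M →ₗ[S] N) (q : Ideal S) [q.IsPrime] (Q : Ideal T) [Q.IsPrime] [Q.LiesOver q]

/-- The localization of a base change is the base change of the localization. -/
theorem exists_equiv_localized (hg : IsBaseChange T g)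
    [Algebra (Localization.AtPrime q) (Localization.AtPrime Q)]
    [Localization.AtPrime.IsLiesOverAlgebra q Q] :
    Nonempty ((Localization.AtPrime Q) ⊗[Localization.AtPrime q] (LocalizedModule q.primeCompl M)
      ≃ₗ[R] LocalizedModule Q.primeCompl N) := by
  let Sq := Localization.AtPrime q
  let TQ := Localization.AtPrime Q
  let Mq := LocalizedModule q.primeCompl M
  let NQ := LocalizedModule Q.primeCompl N
  let : Module Sq NQ := Module.compHom NQ (algebraMap Sq TQ)
  have : IsScalarTower Sq TQ NQ := IsScalarTower.of_algebraMap_smul fun r x => rfl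
  have : IsScalarTower S TQ NQ := inferInstance
  have : IsScalarTower S Sq NQ := IsScalarTower.to₁₂₄ S Sq TQ NQ
  have h1 : IsBaseChange TQ (LocalizedModule.mkLinearMap Q.primeCompl N) :=
    IsLocalizedModule.isBaseChange Q.primeCompl TQ _
  have h2 : IsBaseChange Sq (LocalizedModule.mkLinearMap q.primeCompl M) :=
    IsLocalizedModule.isBaseChange q.primeCompl Sq _
  have : IsScalarTower S T NQ := inferInstance
  have h3 : IsBaseChange TQ (((LocalizedModule.mkLinearMap Q.primeCompl N).restrictScalars S).comp g) :=
    IsBaseChange.comp hg h1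
  let l : Mq →ₗ[Sq] NQ := h2.lift (((LocalizedModule.mkLinearMap Q.primeCompl N).restrictScalars S).comp g)
  have h4 : IsBaseChange TQ l := by
    refine IsBaseChange.of_comp h2 ?_
    rw [IsBaseChange.lift_comp]
    exact h3
  have : IsScalarTower R TQ NQ := inferInstance
  exact ⟨h4.equiv.restrictScalars R⟩

/-- Flatness at a prime is insensitive to flat base change on the source. -/
theorem flatAt_iff_of_isBaseChange (hg : IsBaseChange T g) [Module.Flat S T] :
    FlatCA.FlatAt R q M ↔ FlatCA.FlatAt R Q N := by
  let := Localization.AtPrime.algebraOfLiesOver q Q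
  obtain ⟨e⟩ := exists_equiv_localized (R := R) g q Q hg
  have : IsLocalHom (algebraMap (Localization.AtPrime q) (Localization.AtPrime Q)) := by
    rw [Localization.AtPrime.IsLiesOverAlgebra.algebraMap_eq]
    infer_instance
  have : Module.FaithfullyFlat (Localization.AtPrime q) (Localization.AtPrime Q) :=
    Module.FaithfullyFlat.of_flat_of_isLocalHom
  unfold FlatCA.FlatAt
  rw [← flat_tensor_iff (R := R) (S := Localization.AtPrime q) (Localization.AtPrime Q)
    (LocalizedModule q.primeCompl M)]
  exact ⟨fun h => Module.Flat.of_linearEquiv e.symm, fun h => Module.Flat.of_linearEquiv e⟩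

end Local

end Groth.Agent.Flat2C.FlatAt
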