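import Mathlib.RingTheory.IsTensorProduct
import Mathlib.RingTheory.LocalRing.ResidueField.Ideal
import Mathlib.RingTheory.Flat.FaithfullyFlat.Basic
import Mathlib.LinearAlgebra.Basis.VectorSpace
import Mathlib.LinearAlgebra.FreeModule.Basic

/-!
# Primes of a pushout of rings

`exists_prime_of_isPushout`: if `U = S ⊗_R T` and `P`, `Q` are primes of `S`, `T` with the same
contraction to `R`, there is a prime of `U` lying over both.
-/

set_option autoImplicit false
universe u v w

namespace Groth.Agent.Flat2C.PushoutPrimes

open TensorProduct

/-- If `U = S ⊗_R T` and `P`, `Q` are primes of `S`, `T` with the same contraction `p` to `R`, there is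
a prime of `U` lying over both. -/
theorem exists_prime_of_isPushout {R S T U : Type*} [CommRing R] [CommRing S] [CommRing T] [CommRing U]
    [Algebra R S] [Algebra R T] [Algebra S U] [Algebra T U] [Algebra R U] [IsScalarTower R S U]
    [IsScalarTower R T U] [Algebra.IsPushout R S T U]
    (P : Ideal S) (Q : Ideal T) [P.IsPrime] [Q.IsPrime]
    (h : P.comap (algebraMap R S) = Q.comap (algebraMap R T)) :
    ∃ W : Ideal U, W.IsPrime ∧ W.comap (algebraMap S U) = P ∧ W.comap (algebraMap T U) = Q := by
  let p : Ideal R := P.comap (algebraMap R S)
  let φP : p.ResidueField →+* P.ResidueField := Ideal.ResidueField.map p P (algebraMap R S) rfl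
  let φQ : p.ResidueField →+* Q.ResidueField := Ideal.ResidueField.map p Q (algebraMap R T) h
  let : Algebra p.ResidueField P.ResidueField := φP.toAlgebra
  let : Algebra p.ResidueField Q.ResidueField := φQ.toAlgebra
  let D := P.ResidueField ⊗[p.ResidueField] Q.ResidueField
  have hD : Nontrivial D := by
    have : Module.FaithfullyFlat p.ResidueField P.ResidueField := inferInstance
    exact Module.FaithfullyFlat.lTensor_nontrivial _ P.ResidueField Q.ResidueField
  let iP : S →+* D := (algebraMap P.ResidueField D).comp (algebraMap S P.ResidueField)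
  let jQ : Q.ResidueField →+* D := Algebra.TensorProduct.includeRight.toRingHom
  let iQ : T →+* D := jQ.comp (algebraMap T Q.ResidueField)
  have hcomp : iP.comp (algebraMap R S) = iQ.comp (algebraMap R T) := by
    ext r
    have h1 : algebraMap S P.ResidueField (algebraMap R S r) =
        algebraMap p.ResidueField P.ResidueField (algebraMap R p.ResidueField r) := by
      exact (Ideal.ResidueField.map_algebraMap ..).symm
    have h2 : algebraMap T Q.ResidueField (algebraMap R T r) =
        algebraMap p.ResidueField Q.ResidueField (algebraMap R p.ResidueField r) := by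
      exact (Ideal.ResidueField.map_algebraMap ..).symm
    change algebraMap P.ResidueField D (algebraMap S P.ResidueField (algebraMap R S r)) =
      (1 : P.ResidueField) ⊗ₜ[p.ResidueField] (algebraMap T Q.ResidueField (algebraMap R T r))
    rw [h1, h2, ← Algebra.TensorProduct.tmul_one_eq_one_tmul]
    rfl
  let : Algebra R D := (iP.comp (algebraMap R S)).toAlgebra
  let fS : S →ₐ[R] D := { iP with commutes' := fun r => rfl }
  let fT : T →ₐ[R] D := { iQ with commutes' := fun r => (RingHom.congr_fun hcomp r).symm }
  let F : U →ₐ[R] D := Algebra.pushoutDesc U fS fT (fun x y => mul_comm _ _)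
  obtain ⟨n, hn⟩ := Ideal.exists_maximal D
  refine ⟨n.comap F.toRingHom, inferInstance, ?_, ?_⟩
  · rw [Ideal.comap_comap]
    have : F.toRingHom.comp (algebraMap S U) = iP := by
      ext x
      exact Algebra.pushoutDesc_left U fS fT (fun x y => mul_comm _ _) x
    rw [this]
    change n.comap ((algebraMap P.ResidueField D).comp (algebraMap S P.ResidueField)) = P
    rw [← Ideal.comap_comap]
    have : n.comap (algebraMap P.ResidueField D) = ⊥ :=
      (Ideal.eq_bot_or_top _).resolve_right (Ideal.comap_ne_top _ hn.ne_top)
    rw [this]
    exact Ideal.ker_algebraMap_residueField P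
  · rw [Ideal.comap_comap]
    have : F.toRingHom.comp (algebraMap T U) = iQ := by
      ext x
      exact Algebra.pushoutDesc_right U fS fT (fun x y => mul_comm _ _) x
    rw [this]
    change n.comap (jQ.comp (algebraMap T Q.ResidueField)) = Q
    rw [← Ideal.comap_comap]
    have : n.comap jQ = ⊥ :=
      (Ideal.eq_bot_or_top _).resolve_right (Ideal.comap_ne_top _ hn.ne_top)
    rw [this]
    exact Ideal.ker_algebraMap_residueField Q

end Groth.Agent.Flat2C.PushoutPrimes
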