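import Groth.Prelude.Def_FlatCA
import Mathlib.LinearAlgebra.TensorProduct.Vanishing
import Mathlib.LinearAlgebra.Matrix.Adjugate
import Mathlib.LinearAlgebra.TensorProduct.Quotient
import Mathlib.RingTheory.Flat.EquationalCriterion
import Mathlib.Algebra.Module.Projective

/-!
# Maps out of projective modules that are injective modulo every maximal ideal

`univInj_of_projective`: let `P` be projective, `M` flat over `A` and `v : P → M` with `A/𝔪 ⊗ v`
injective for each maximal `𝔪`; then `v` is universally injective.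
-/

set_option autoImplicit false
universe u

namespace Groth.Agent.Flat2C.UnivInjMod

open TensorProduct

variable {A : Type u} [CommRing A]

/-- If `v = y ∘ a` with `a : Aⁿ → Aᵏ` given by a matrix and `v` is injective modulo `𝔪`, then `a` has a left
inverse up to an element outside `𝔪`. -/
theorem exists_leftInverse_up_to {n k : ℕ} (a : (Fin n → A) →ₗ[A] (Fin k → A)) (m : Ideal A) [m.IsMaximal]
    (h : Function.Injective (a.lTensor (A ⧸ m))) :
    ∃ (δ : A) (c : (Fin k → A) →ₗ[A] (Fin n → A)), δ ∉ m ∧ c ∘ₗ a = δ • LinearMap.id := by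
  classical
  let _ : Field (A ⧸ m) := Ideal.Quotient.field m
  -- the base change over the field `A ⧸ m`
  let a' : ((A ⧸ m) ⊗[A] (Fin n → A)) →ₗ[A ⧸ m] ((A ⧸ m) ⊗[A] (Fin k → A)) := a.baseChange (A ⧸ m)
  have ha' : Function.Injective a' := h
  obtain ⟨g, hg⟩ := a'.exists_leftInverse_of_injective (LinearMap.ker_eq_bot.mpr ha')
  -- compare with functions
  let en : ((A ⧸ m) ⊗[A] (Fin n → A)) ≃ₗ[A ⧸ m] (Fin n → A ⧸ m) := TensorProduct.piScalarRight A (A ⧸ m) (A ⧸ m) (Fin n)
  let ek : ((A ⧸ m) ⊗[A] (Fin k → A)) ≃ₗ[A ⧸ m] (Fin k → A ⧸ m) := TensorProduct.piScalarRight A (A ⧸ m) (A ⧸ m) (Fin k)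
  have hsurj : Function.Surjective (Ideal.Quotient.mk m) := Ideal.Quotient.mk_surjective
  -- choose lifts
  have key : ∀ l : Fin k, ∃ c : Fin n → A, ∀ i, Ideal.Quotient.mk m (c i) = en (g (1 ⊗ₜ Pi.single l 1)) i := by
    intro l
    choose c hc using fun i => hsurj (en (g (1 ⊗ₜ Pi.single l 1)) i)
    exact ⟨c, hc⟩
  choose c hc using key
  let C : (Fin k → A) →ₗ[A] (Fin n → A) := (Pi.basisFun A (Fin k)).constr A c
  have hC : ∀ l, C (Pi.single l 1) = c l := by
    intro l
    simp [C]
  have hC' : C.baseChange (A ⧸ m) = g := by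
    apply TensorProduct.AlgebraTensorModule.ext
    intro x y
    have hx : x ⊗ₜ[A] y = x • ((1 : A ⧸ m) ⊗ₜ[A] y) := by
      rw [TensorProduct.smul_tmul', smul_eq_mul, mul_one]
    rw [hx, map_smul, map_smul]
    congr 1
    -- reduce to basis vectors
    have : ((C.baseChange (A ⧸ m)).restrictScalars A ∘ₗ (TensorProduct.mk A (A ⧸ m) (Fin k → A) 1)) =
        (g.restrictScalars A ∘ₗ (TensorProduct.mk A (A ⧸ m) (Fin k → A) 1)) := by
      apply (Pi.basisFun A (Fin k)).ext
      intro l
      apply en.injective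
      ext i
      simp only [Pi.basisFun_apply, LinearMap.coe_comp, LinearMap.coe_restrictScalars, Function.comp_apply,
        TensorProduct.mk_apply, LinearMap.baseChange_tmul]
      rw [hC, ← hc]
      simp [en, TensorProduct.piScalarRight_apply, Algebra.smul_def]
    exact LinearMap.congr_fun this y
  have hCa : (C ∘ₗ a).baseChange (A ⧸ m) = LinearMap.id := by
    rw [LinearMap.baseChange_comp, hC']
    exact hg
  let Mx : Matrix (Fin n) (Fin n) A := LinearMap.toMatrix' (C ∘ₗ a)
  have hMx : Mx.map (Ideal.Quotient.mk m) = 1 := by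
    ext i j
    have h1 := congrArg (fun f => en (f (1 ⊗ₜ Pi.single j 1)) i) hCa
    simp only [LinearMap.baseChange_tmul, LinearMap.id_apply] at h1
    simp only [en, TensorProduct.piScalarRight_apply, TensorProduct.piScalarRightHom_tmul] at h1
    simp only [Matrix.map_apply, Mx, LinearMap.toMatrix'_apply]
    simp only [Algebra.smul_def, mul_one] at h1
    have h2 : (fun j' => if j' = j then (1:A) else 0) = Pi.single j 1 := by
      ext j'; simp [Pi.single_apply]
    refine Eq.trans ?_ (h1.trans ?_)
    · rfl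
    · by_cases hij : i = j
      · subst hij; simp
      · simp [hij]
  refine ⟨Mx.det, (Matrix.toLin' Mx.adjugate) ∘ₗ C, ?_, ?_⟩
  · intro hdet
    have h1 : Ideal.Quotient.mk m Mx.det = 0 := Ideal.Quotient.eq_zero_iff_mem.mpr hdet
    rw [RingHom.map_det] at h1
    have h2 : (Ideal.Quotient.mk m).mapMatrix Mx = 1 := hMx
    rw [h2, Matrix.det_one] at h1
    exact one_ne_zero h1
  · rw [LinearMap.comp_assoc]
    have h1 : C ∘ₗ a = Matrix.toLin' Mx := by simp [Mx]
    rw [h1, ← Matrix.toLin'_mul, Matrix.adjugate_mul, map_smul, Matrix.toLin'_one]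

/-- The finite free case. -/
theorem eq_zero_of_finite_free {n : ℕ} {M : Type u} [AddCommGroup M] [Module A M] [Module.Flat A M]
    (v : (Fin n → A) →ₗ[A] M) (h : ∀ (m : Ideal A) [m.IsMaximal], Function.Injective (v.lTensor (A ⧸ m)))
    (Q : Type u) [AddCommGroup Q] [Module A Q] (z : Q ⊗[A] (Fin n → A)) (hz : v.lTensor Q z = 0) : z = 0 := by
  classical
  -- write `z = ∑ qᵢ ⊗ eᵢ`
  let e : (Q ⊗[A] (Fin n → A)) ≃ₗ[A] (Fin n → Q) := TensorProduct.piScalarRight A A Q (Fin n)
  set q : Fin n → Q := e z with hq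
  have hzq : z = ∑ i, q i ⊗ₜ[A] (Pi.single i 1 : Fin n → A) := by
    apply e.injective
    rw [map_sum]
    ext j
    simp only [e, TensorProduct.piScalarRight_apply, TensorProduct.piScalarRightHom_tmul, Finset.sum_apply]
    rw [Finset.sum_eq_single j]
    · simp [hq, e, TensorProduct.piScalarRight_apply]
    · intro b _ hb
      simp [Ne.symm hb]
    · simp
  have h0 : ∑ i, q i ⊗ₜ[A] (v (Pi.single i 1)) = 0 := by
    rw [hzq, map_sum] at hz
    simpa using hz
  obtain ⟨k, a, y, hay, haq⟩ := TensorProduct.vanishesTrivially_of_sum_tmul_eq_zero_of_rTensor_injective A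
    (m := q) (n := fun i => v (Pi.single i 1))
    (Module.Flat.rTensor_preserves_injective_linearMap _ (Submodule.injective_subtype _)) h0
  -- the matrix `a` as a linear map
  let α : (Fin n → A) →ₗ[A] (Fin k → A) := (Pi.basisFun A (Fin n)).constr A (fun i => a i)
  have hα : ∀ i, α (Pi.single i 1) = a i := by
    intro l
    simp [α]
  let Y : (Fin k → A) →ₗ[A] M := (Pi.basisFun A (Fin k)).constr A y
  have hY : ∀ f, Y f = ∑ j, f j • y j := by
    intro f
    simp [Y, Module.Basis.constr_apply_fintype]
  have hv : v = Y ∘ₗ α := by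
    apply (Pi.basisFun A (Fin n)).ext
    intro i
    simp only [Pi.basisFun_apply, LinearMap.coe_comp, Function.comp_apply]
    rw [hα, hY]
    exact hay i
  -- `α` kills `q`
  have hαz : α.lTensor Q z = 0 := by
    rw [hzq, map_sum]
    simp only [LinearMap.lTensor_tmul, hα]
    let e' : (Q ⊗[A] (Fin k → A)) ≃ₗ[A] (Fin k → Q) := TensorProduct.piScalarRight A A Q (Fin k)
    apply e'.injective
    rw [map_sum, map_zero]
    ext j
    simp only [e', TensorProduct.piScalarRight_apply, TensorProduct.piScalarRightHom_tmul, Finset.sum_apply,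
      Pi.zero_apply]
    exact haq j
  -- annihilator argument
  by_contra hne
  have hAnn : (Submodule.span A {z}).annihilator ≠ ⊤ := by
    intro htop
    have : (1 : A) ∈ (Submodule.span A {z}).annihilator := htop ▸ Submodule.mem_top
    rw [Submodule.mem_annihilator_span_singleton, one_smul] at this
    exact hne this
  obtain ⟨m, hm, hle⟩ := Ideal.exists_le_maximal _ hAnn
  have hinj : Function.Injective (α.lTensor (A ⧸ m)) := by
    have := h m
    rw [hv, LinearMap.lTensor_comp] at this
    exact Function.Injective.of_comp this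
  obtain ⟨δ, c, hδ, hc⟩ := exists_leftInverse_up_to α m hinj
  apply hδ
  apply hle
  rw [Submodule.mem_annihilator_span_singleton]
  have h1 : (c ∘ₗ α).lTensor Q z = 0 := by
    rw [LinearMap.lTensor_comp, LinearMap.comp_apply, hαz, map_zero]
  rw [hc, LinearMap.lTensor_smul, LinearMap.lTensor_id] at h1
  exact h1

/-- The case of a finite free module. -/
theorem eq_zero_of_finite_free' {F : Type u} [AddCommGroup F] [Module A F] [Module.Free A F] [Module.Finite A F]
    {M : Type u} [AddCommGroup M] [Module A M] [Module.Flat A M]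
    (v : F →ₗ[A] M) (h : ∀ (m : Ideal A) [m.IsMaximal], Function.Injective (v.lTensor (A ⧸ m)))
    (Q : Type u) [AddCommGroup Q] [Module A Q] (z : Q ⊗[A] F) (hz : v.lTensor Q z = 0) : z = 0 := by
  rcases subsingleton_or_nontrivial A with hA | hA
  · have : Subsingleton (Q ⊗[A] F) := Module.subsingleton A _
    exact Subsingleton.elim _ _
  let b := Module.finBasis A F
  let e : F ≃ₗ[A] (Fin _ → A) := b.equivFun
  have h1 : (e.toLinearMap).lTensor Q z = 0 := by
    apply eq_zero_of_finite_free (v ∘ₗ e.symm.toLinearMap) _ Q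
    · rw [← LinearMap.comp_apply, ← LinearMap.lTensor_comp, LinearMap.comp_assoc]
      simpa using hz
    · intro m _
      rw [LinearMap.lTensor_comp]
      exact (h m).comp (LinearEquiv.lTensor (A ⧸ m) e.symm).injective
  exact (LinearEquiv.lTensor Q e).injective (by rw [map_zero]; exact h1)

/-- The free case. -/
theorem eq_zero_of_free {ι : Type u} {M : Type u} [AddCommGroup M] [Module A M] [Module.Flat A M]
    (v : (ι →₀ A) →ₗ[A] M) (h : ∀ (m : Ideal A) [m.IsMaximal], Function.Injective (v.lTensor (A ⧸ m)))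
    (Q : Type u) [AddCommGroup Q] [Module A Q] (z : Q ⊗[A] (ι →₀ A)) (hz : v.lTensor Q z = 0) : z = 0 := by
  classical
  -- `z` comes from a finite coordinate subspace
  let j : ∀ s : Finset ι, (s →₀ A) →ₗ[A] (ι →₀ A) := fun s => Finsupp.lmapDomain A A ((↑) : s → ι)
  let r : ∀ s : Finset ι, (ι →₀ A) →ₗ[A] (s →₀ A) := fun s => Finsupp.lsubtypeDomain (s : Set ι)
  have hrj : ∀ s, r s ∘ₗ j s = LinearMap.id := by
    intro s
    ext x y
    simp only [j, r, LinearMap.coe_comp, Function.comp_apply, Finsupp.lsingle_apply, Finsupp.lmapDomain_apply,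
      Finsupp.mapDomain_single, LinearMap.id_apply]
    refine (Finsupp.subtypeDomain_apply (p := fun x => x ∈ (s : Set ι)) (v := Finsupp.single (x : ι) (1 : A))
      (a := y)).trans ?_
    rw [Finsupp.single_apply, Finsupp.single_apply]
    simp only [Subtype.ext_iff]
  have hjr : ∀ s (f : ι →₀ A), f.support ⊆ s → j s (r s f) = f := by
    intro s f hf
    ext x
    simp only [j, r, Finsupp.lmapDomain_apply]
    by_cases hx : x ∈ s
    · have := Finsupp.mapDomain_apply (Subtype.val_injective (p := (· ∈ s)))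
        (r s f) ⟨x, hx⟩
      exact this
    · have h1 : f x = 0 := by
        by_contra hne
        exact hx (hf (Finsupp.mem_support_iff.mpr hne))
      rw [h1]
      apply Finsupp.mapDomain_of_notMem_range
      rintro ⟨y, rfl⟩
      exact hx y.2
  have hex : ∃ s : Finset ι, ∀ t, s ⊆ t → (j t).lTensor Q ((r t).lTensor Q z) = z := by
    clear hz
    induction z using TensorProduct.induction_on with
    | zero => exact ⟨∅, fun t _ => by rw [map_zero, map_zero]⟩
    | tmul x f =>
      exact ⟨f.support, fun t ht => by rw [LinearMap.lTensor_tmul, LinearMap.lTensor_tmul, hjr t f ht]⟩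
    | add x y hx hy =>
      obtain ⟨s₁, h₁⟩ := hx
      obtain ⟨s₂, h₂⟩ := hy
      exact ⟨s₁ ∪ s₂, fun t ht => by
        rw [map_add, map_add, h₁ t (Finset.union_subset_left ht), h₂ t (Finset.union_subset_right ht)]⟩
  obtain ⟨s, hs⟩ := hex
  have hs' := hs s (Finset.Subset.refl s)
  have h0 : (r s).lTensor Q z = 0 := by
    apply eq_zero_of_finite_free' (v ∘ₗ j s) _ Q
    · rw [LinearMap.lTensor_comp, LinearMap.comp_apply, hs']; exact hz
    · intro m _
      rw [LinearMap.lTensor_comp]
      refine (h m).comp ?_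
      have h2 : (r s).lTensor (A ⧸ m) ∘ₗ (j s).lTensor (A ⧸ m) = LinearMap.id := by
        rw [← LinearMap.lTensor_comp, hrj, LinearMap.lTensor_id]
      exact Function.HasLeftInverse.injective ⟨_, LinearMap.congr_fun h2⟩
  rw [← hs', h0, map_zero]

/-- Products of flat modules are flat. -/
theorem flat_prod {M F : Type u} [AddCommGroup M] [Module A M] [Module.Flat A M] [AddCommGroup F] [Module A F]
    [Module.Flat A F] : Module.Flat A (M × F) := by
  rw [Module.Flat.iff_rTensor_preserves_injective_linearMap]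
  intro N N' _ _ _ _ f hf
  rw [injective_iff_map_eq_zero]
  intro z hz
  have h1 : (LinearMap.fst A M F).lTensor N z = 0 := by
    apply Module.Flat.rTensor_preserves_injective_linearMap (M := M) f hf
    rw [map_zero, ← LinearMap.comp_apply, LinearMap.rTensor_comp_lTensor, ← LinearMap.lTensor_comp_rTensor,
      LinearMap.comp_apply, hz, map_zero]
  have h2 : (LinearMap.snd A M F).lTensor N z = 0 := by
    apply Module.Flat.rTensor_preserves_injective_linearMap (M := F) f hf
    rw [map_zero, ← LinearMap.comp_apply, LinearMap.rTensor_comp_lTensor, ← LinearMap.lTensor_comp_rTensor,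
      LinearMap.comp_apply, hz, map_zero]
  have h3 : (LinearMap.inl A M F ∘ₗ LinearMap.fst A M F + LinearMap.inr A M F ∘ₗ LinearMap.snd A M F) =
      LinearMap.id := by ext <;> simp
  have h4 : (LinearMap.id : (M × F) →ₗ[A] (M × F)).lTensor N z = z := by simp
  rw [← h4, ← h3, LinearMap.lTensor_add, LinearMap.lTensor_comp, LinearMap.lTensor_comp, LinearMap.add_apply,
    LinearMap.comp_apply, LinearMap.comp_apply, h1, h2, map_zero, map_zero, add_zero]

/-- A map from a projective module to a flat module which is injective modulo every maximal ideal is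
universally injective. -/
theorem univInj_of_projective {P M : Type u} [AddCommGroup P] [Module A P] [Module.Projective A P]
    [AddCommGroup M] [Module A M] [Module.Flat A M] (v : P →ₗ[A] M)
    (h : ∀ (m : Ideal A) [m.IsMaximal], Function.Injective (v.lTensor (A ⧸ m))) : FlatCA.UnivInj A v := by
  intro Q _ _
  rw [injective_iff_map_eq_zero]
  intro z hz
  obtain ⟨i, hi⟩ := Module.projective_def'.mp (inferInstance : Module.Projective A P)
  let r : (P →₀ A) →ₗ[A] P := Finsupp.linearCombination A id
  have hri : r ∘ₗ i = LinearMap.id := hi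
  let w : (P →₀ A) →ₗ[A] (M × (P →₀ A)) := (v ∘ₗ r).prod (LinearMap.id - i ∘ₗ r)
  have hw1 : LinearMap.fst A M (P →₀ A) ∘ₗ w = v ∘ₗ r := by ext1; simp [w]
  have hw2 : LinearMap.snd A M (P →₀ A) ∘ₗ w = LinearMap.id - i ∘ₗ r := by ext1; simp [w]
  have hz' : w.lTensor Q (i.lTensor Q z) = 0 := by
    rw [← LinearMap.comp_apply, ← LinearMap.lTensor_comp]
    have : w ∘ₗ i = LinearMap.inl A M (P →₀ A) ∘ₗ v := by
      have h1 : v ∘ₗ r ∘ₗ i = v := by rw [hri, LinearMap.comp_id]
      have h2 : (LinearMap.id - i ∘ₗ r) ∘ₗ i = 0 := by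
        rw [LinearMap.sub_comp, LinearMap.comp_assoc, hri, LinearMap.id_comp, LinearMap.comp_id]
        exact sub_self i
      ext1 x
      · have := LinearMap.congr_fun h1 x
        have h2' := LinearMap.congr_fun h2 x
        simp only [LinearMap.comp_apply] at this h2'
        simp only [LinearMap.comp_apply, w, LinearMap.prod_apply, LinearMap.inl_apply]
        exact Prod.ext this h2'
    rw [this, LinearMap.lTensor_comp, LinearMap.comp_apply, hz, map_zero]
  have hfl : Module.Flat A (M × (P →₀ A)) := flat_prod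
  have h0 : i.lTensor Q z = 0 := by
    refine eq_zero_of_free w ?_ Q _ hz'
    intro m _
    rw [injective_iff_map_eq_zero]
    intro x hx
    have hx1 : (r.lTensor (A ⧸ m)) x = 0 := by
      apply h m
      rw [map_zero, ← LinearMap.comp_apply, ← LinearMap.lTensor_comp, ← hw1, LinearMap.lTensor_comp,
        LinearMap.comp_apply, hx, map_zero]
    have hx2 : (LinearMap.id - i ∘ₗ r).lTensor (A ⧸ m) x = 0 := by
      rw [← hw2, LinearMap.lTensor_comp, LinearMap.comp_apply, hx, map_zero]
    rw [LinearMap.lTensor_sub, LinearMap.lTensor_id, LinearMap.lTensor_comp] at hx2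
    simpa [hx1] using hx2
  have h3 : (r.lTensor Q) (i.lTensor Q z) = z := by
    rw [← LinearMap.comp_apply, ← LinearMap.lTensor_comp, hri, LinearMap.lTensor_id, LinearMap.id_apply]
  rw [← h3, h0, map_zero]

/-- Content ideals in projective modules. -/
theorem exists_content_of_projective {P : Type u} [AddCommGroup P] [Module A P] [Module.Projective A P] (x : P) :
    ∃ I : Ideal A, x ∈ I • (⊤ : Submodule A P) ∧ ∀ J : Ideal A, x ∈ J • (⊤ : Submodule A P) → I ≤ J := by
  obtain ⟨i, hi⟩ := Module.projective_def'.mp (inferInstance : Module.Projective A P)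
  refine ⟨Ideal.span (Set.range (i x)), ?_, ?_⟩
  · have hx : x = Finsupp.linearCombination A (id : P → P) (i x) := (LinearMap.congr_fun hi x).symm
    have key : Finsupp.linearCombination A (id : P → P) (i x) ∈ Ideal.span (Set.range (i x)) • (⊤ : Submodule A P) := by
      rw [Finsupp.linearCombination_apply]
      refine Submodule.sum_mem _ fun p _ => Submodule.smul_mem_smul ?_ trivial
      exact Ideal.subset_span ⟨p, rfl⟩
    rwa [← hx] at key
  · intro J hJ
    rw [Ideal.span_le]
    rintro _ ⟨p, rfl⟩
    have h1 : ((Finsupp.lapply p) ∘ₗ i) x ∈ J • (⊤ : Submodule A A) := by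
      have := Submodule.map_smul'' J (⊤ : Submodule A P) ((Finsupp.lapply p) ∘ₗ i)
      have h2 : ((Finsupp.lapply p) ∘ₗ i) x ∈ Submodule.map ((Finsupp.lapply p) ∘ₗ i) (J • (⊤ : Submodule A P)) :=
        ⟨x, hJ, rfl⟩
      rw [this] at h2
      exact Submodule.smul_mono le_rfl le_top h2
    simpa using h1

/-- Membership in `J M` in terms of the tensor product with `A ⧸ J`. -/
theorem mem_smul_top_iff {M : Type u} [AddCommGroup M] [Module A M] (J : Ideal A) (x : M) :
    x ∈ J • (⊤ : Submodule A M) ↔ (1 : A ⧸ J) ⊗ₜ[A] x = 0 := by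
  rw [← (TensorProduct.quotTensorEquivQuotSMul M J).map_eq_zero_iff, ← map_one (Ideal.Quotient.mk J),
    TensorProduct.quotTensorEquivQuotSMul_mk_tmul, one_smul, Submodule.Quotient.mk_eq_zero]

/-- Linear maps send `J P` into `J P'`. -/
theorem map_mem_smul_top {P P' : Type u} [AddCommGroup P] [AddCommGroup P'] [Module A P] [Module A P']
    (J : Ideal A) (φ : P →ₗ[A] P') {p : P} (hp : p ∈ J • (⊤ : Submodule A P)) : φ p ∈ J • (⊤ : Submodule A P') := by
  have h1 : φ p ∈ Submodule.map φ (J • (⊤ : Submodule A P)) := ⟨p, hp, rfl⟩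
  rw [Submodule.map_smul''] at h1
  exact Submodule.smul_mono le_rfl le_top h1

/-- A universally injective map reflects membership in `J M`. -/
theorem mem_smul_top_of_univInj {P P' : Type u} [AddCommGroup P] [AddCommGroup P'] [Module A P] [Module A P']
    {φ : P →ₗ[A] P'} (hφ : FlatCA.UnivInj A φ) (J : Ideal A) {p : P} (hp : φ p ∈ J • (⊤ : Submodule A P')) :
    p ∈ J • (⊤ : Submodule A P) := by
  rw [mem_smul_top_iff] at hp ⊢
  apply hφ (A ⧸ J)
  rw [map_zero, LinearMap.lTensor_tmul, hp]

end Groth.Agent.Flat2C.UnivInjMod
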