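import Mathlib.RingTheory.Ideal.AssociatedPrime.Finiteness
import Mathlib.RingTheory.Ideal.AssociatedPrime.Localization
import Mathlib.RingTheory.Flat.Basic
import Mathlib.RingTheory.IsTensorProduct

/-!
Associated primes and flat base change (Stacks 05DB and 0312): for `S → S'` flat with `S` Noetherian, `M` a
finite `S`-module and `M'` its base change, every associated prime of `M'` contracts to an associated prime of `M`.
-/

set_option autoImplicit false

namespace Groth.Agent.Flat2C.AssFlat

open TensorProduct

variable {S S' M M' : Type*} [CommRing S] [CommRing S'] [Algebra S S'] [AddCommGroup M] [Module S M]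
  [AddCommGroup M'] [Module S M'] [Module S' M'] [IsScalarTower S S' M']

/-- If `s` kills the kernel of `a` on `M`, then `s` kills the kernel of `a` on a flat base change. -/
theorem smul_eq_zero_of_baseChange [Module.Flat S S'] (f : M →ₗ[S] M') (hf : IsBaseChange S' f) (a s : S)
    (h : ∀ m : M, a • m = 0 → s • m = 0) (z : M') (hz : a • z = 0) : s • z = 0 := by
  -- transfer to the tensor product
  have key : ∀ w : S' ⊗[S] M, a • w = 0 → s • w = 0 := by
    intro w hw
    let φ : M →ₗ[S] M := LinearMap.lsmul S M a
    have hφ : (φ.lTensor S') w = a • w := by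
      have : φ.lTensor S' = LinearMap.lsmul S (S' ⊗[S] M) a := by
        ext x m
        simp [φ]
      rw [this]; rfl
    have hex := Module.Flat.lTensor_exact S' (LinearMap.exact_subtype_ker_map φ)
    obtain ⟨y, rfl⟩ := (hex w).1 (by rw [hφ, hw])
    have h0 : s • (LinearMap.ker φ).subtype = 0 := by
      ext ⟨m, hm⟩
      simpa using h m (by simpa [φ] using hm)
    have h1 : s • ((LinearMap.ker φ).subtype.lTensor S') y = ((s • (LinearMap.ker φ).subtype).lTensor S') y := by
      rw [LinearMap.lTensor_smul]; rfl
    rw [h1, h0]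
    simp
  obtain ⟨w, rfl⟩ := hf.equiv.surjective z
  have hz' : a • w = 0 := by
    apply hf.equiv.injective
    have : hf.equiv (a • w) = a • hf.equiv w := by
      rw [← algebraMap_smul S' a w, map_smul, algebraMap_smul]
    rw [this, hz, map_zero]
  have : hf.equiv (s • w) = s • hf.equiv w := by
    rw [← algebraMap_smul S' s w, map_smul, algebraMap_smul]
  rw [← this, key w hz', map_zero]

theorem comap_mem_associatedPrimes [IsNoetherianRing S] [Module.Flat S S'] [Module.Finite S M]
    (f : M →ₗ[S] M') (hf : IsBaseChange S' f) {Q : Ideal S'} (hQ : Q ∈ associatedPrimes S' M') :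
    Q.comap (algebraMap S S') ∈ associatedPrimes S M := by
  classical
  obtain ⟨hQp, x, hx⟩ := hQ
  set q := Q.comap (algebraMap S S') with hq
  have hqp : q.IsPrime := Ideal.comap_isPrime _ _
  by_contra hcon
  have hfin : (associatedPrimes S M).Finite := associatedPrimes.finite S M
  let T := hfin.toFinset.filter (fun p => p ≤ q)
  have hT : ∀ p ∈ T, ¬ q ≤ p := by
    intro p hp hle
    have h1 := (Finset.mem_filter.mp hp)
    have : q = p := le_antisymm hle h1.2
    exact hcon (this ▸ hfin.mem_toFinset.mp h1.1)
  have hav : ¬ ((q : Set S) ⊆ ⋃ p ∈ (T : Set (Ideal S)), (p : Set S)) := by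
    intro hsub
    rw [Ideal.subset_union_prime (f := fun p : Ideal S => p) ⊥ ⊥] at hsub
    · obtain ⟨p, hp, hle⟩ := hsub
      exact hT p hp hle
    · intro p hp _ _
      exact (hfin.mem_toFinset.mp (Finset.mem_filter.mp hp).1).1
  obtain ⟨a, haq, haT⟩ := Set.not_subset.mp hav
  have haT' : ∀ p ∈ T, a ∉ p := by
    intro p hp hap
    exact haT (Set.mem_biUnion (Finset.mem_coe.mpr hp) hap)
  let K : Submodule S M := LinearMap.ker (LinearMap.lsmul S M a)
  have hK : ¬ (Module.annihilator S K ≤ q) := by
    intro hle
    obtain ⟨p, hp, hpq⟩ := Ideal.exists_minimalPrimes_le hle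
    have hpK : p ∈ associatedPrimes S K := Module.associatedPrimes.minimalPrimes_annihilator_subset_associatedPrimes S K hp
    have hpM : p ∈ associatedPrimes S M := associatedPrimes.subset_of_injective K.injective_subtype hpK
    have hpT : p ∈ T := Finset.mem_filter.mpr ⟨hfin.mem_toFinset.mpr hpM, hpq⟩
    apply haT' p hpT
    apply hp.1.2
    rw [Module.mem_annihilator]
    rintro ⟨m, hm⟩
    ext
    simpa [K] using hm
  obtain ⟨s, hsK, hsq⟩ := SetLike.not_le_iff_exists.mp hK
  have hsK' : ∀ m : M, a • m = 0 → s • m = 0 := by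
    intro m hm
    have := Module.mem_annihilator.mp hsK ⟨m, by simpa [K] using hm⟩
    simpa using congrArg Subtype.val this
  have hpow : ∀ (n : ℕ) (z : M'), a ^ n • z = 0 → s ^ n • z = 0 := by
    intro n
    induction n with
    | zero => intro z hz; simpa using hz
    | succ n ih =>
      intro z hz
      have h1 : a ^ n • (a • z) = 0 := by rw [smul_smul, ← pow_succ]; exact hz
      have h2 := ih _ h1
      rw [smul_comm] at h2
      have h3 := smul_eq_zero_of_baseChange f hf a s hsK' _ h2
      rw [pow_succ', mul_smul]
      exact h3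
  have haQ : algebraMap S S' a ∈ Q := haq
  rw [hx] at haQ
  obtain ⟨n, hn⟩ := haQ
  rw [Submodule.mem_colon_singleton, Submodule.mem_bot, ← map_pow, algebraMap_smul] at hn
  have hs := hpow n x hn
  apply hsq
  change algebraMap S S' s ∈ Q
  rw [hx]
  refine ⟨n, ?_⟩
  rw [Submodule.mem_colon_singleton, Submodule.mem_bot, ← map_pow, algebraMap_smul]
  exact hs

end Groth.Agent.Flat2C.AssFlat
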