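import Groth.Agent.Flat2A.Fiber
import Groth.Agent.Flat2C.AssFlat
import Mathlib.RingTheory.Flat.Stability
import Mathlib.RingTheory.FiniteType

/-!
Base change of fibre rings and fibre modules: for a pushout square `A₁ → A₂`, `B₁ → B₂` and a prime `t₂` of `A₂`
over `t₁`, the fibre ring of `B₂` at `t₂` is the base change along `κ(t₁) → κ(t₂)` of the fibre ring of `B₁` at
`t₁`, and similarly for modules. Consequence: relatively associated primes contract to relatively associated primes.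
-/

set_option autoImplicit false
universe u

namespace Groth.Agent.Flat2C.FiberBC

open TensorProduct

theorem flat_of_cube {A₁ A₂ B₁ B₂ K₁ K₂ F₁ F₂ : Type*} [CommRing A₁] [CommRing A₂] [CommRing B₁] [CommRing B₂]
    [CommRing K₁] [CommRing K₂] [CommRing F₁] [CommRing F₂]
    [Algebra A₁ A₂] [Algebra A₁ B₁] [Algebra A₂ B₂] [Algebra B₁ B₂] [Algebra A₁ B₂]
    [IsScalarTower A₁ A₂ B₂] [IsScalarTower A₁ B₁ B₂] [Algebra.IsPushout A₁ A₂ B₁ B₂]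
    [Algebra A₁ K₁] [Algebra A₁ F₁] [Algebra K₁ F₁] [Algebra B₁ F₁] [IsScalarTower A₁ K₁ F₁]
    [IsScalarTower A₁ B₁ F₁] [Algebra.IsPushout A₁ K₁ B₁ F₁]
    [Algebra A₂ K₂] [Algebra A₂ F₂] [Algebra K₂ F₂] [Algebra B₂ F₂] [IsScalarTower A₂ K₂ F₂]
    [IsScalarTower A₂ B₂ F₂] [Algebra.IsPushout A₂ K₂ B₂ F₂]
    (κ : K₁ →+* K₂) (φ : F₁ →+* F₂)
    (hκ : ∀ a, κ (algebraMap A₁ K₁ a) = algebraMap A₂ K₂ (algebraMap A₁ A₂ a))
    (hφ : ∀ b, φ (algebraMap B₁ F₁ b) = algebraMap B₂ F₂ (algebraMap B₁ B₂ b))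
    (hφκ : ∀ x, φ (algebraMap K₁ F₁ x) = algebraMap K₂ F₂ (κ x)) (hf : κ.Flat) : φ.Flat := by
  algebraize [κ, φ, φ.comp (algebraMap K₁ F₁), (algebraMap B₂ F₂).comp (algebraMap B₁ B₂),
    (algebraMap A₂ K₂).comp (algebraMap A₁ A₂), (algebraMap A₂ F₂).comp (algebraMap A₁ A₂)]
  have i1 : IsScalarTower A₁ K₁ K₂ :=
    IsScalarTower.of_algebraMap_eq fun a => (hκ a).symm
  have i2 : IsScalarTower K₁ K₂ F₂ :=
    IsScalarTower.of_algebraMap_eq fun a => hφκ a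
  have i5 : IsScalarTower B₁ F₁ F₂ :=
    IsScalarTower.of_algebraMap_eq fun a => (hφ a).symm
  have i6 : IsScalarTower A₁ B₁ F₂ :=
    IsScalarTower.of_algebraMap_eq fun a => by
      change algebraMap A₂ F₂ (algebraMap A₁ A₂ a) = algebraMap B₂ F₂ (algebraMap B₁ B₂ (algebraMap A₁ B₁ a))
      rw [← IsScalarTower.algebraMap_apply A₁ B₁ B₂, IsScalarTower.algebraMap_apply A₁ A₂ B₂,
        ← IsScalarTower.algebraMap_apply A₂ B₂ F₂]
  have i9 : IsScalarTower A₁ B₂ F₂ :=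
    IsScalarTower.of_algebraMap_eq fun a => by
      change algebraMap A₂ F₂ (algebraMap A₁ A₂ a) = algebraMap B₂ F₂ (algebraMap A₁ B₂ a)
      rw [IsScalarTower.algebraMap_apply A₁ A₂ B₂, ← IsScalarTower.algebraMap_apply A₂ B₂ F₂]
  have i10 : IsScalarTower A₁ K₂ F₂ :=
    IsScalarTower.of_algebraMap_eq fun a => by
      change algebraMap A₂ F₂ (algebraMap A₁ A₂ a) = algebraMap K₂ F₂ (algebraMap A₂ K₂ (algebraMap A₁ A₂ a))
      rw [← IsScalarTower.algebraMap_apply A₂ K₂ F₂]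
  have i8 : IsScalarTower A₁ F₁ F₂ :=
    IsScalarTower.of_algebraMap_eq fun a => by
      change algebraMap A₂ F₂ (algebraMap A₁ A₂ a) = φ (algebraMap A₁ F₁ a)
      rw [IsScalarTower.algebraMap_apply A₁ K₁ F₁, hφκ, hκ, ← IsScalarTower.algebraMap_apply A₂ K₂ F₂]
  have p1 : Algebra.IsPushout A₁ K₂ B₁ F₂ := by
    rw [Algebra.IsPushout.comp_iff (R := A₁) (S := A₂) (R' := B₁) (S' := B₂)]
    infer_instance
  have p2 : Algebra.IsPushout K₁ K₂ F₁ F₂ := by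
    rw [← Algebra.IsPushout.comp_iff (R := A₁) (S := K₁) (R' := B₁) (S' := F₁)]
    infer_instance
  exact Module.Flat.isBaseChange K₁ F₁ K₂ F₂ p2.symm.out

theorem ass_of_square {B₁ B₂ F₁ F₂ N₁ N₂ M₁ M₂ : Type*} [CommRing B₁] [CommRing B₂] [CommRing F₁] [CommRing F₂]
    [Algebra B₁ B₂] [Algebra B₁ F₁] [Algebra B₂ F₂]
    [AddCommGroup N₁] [Module B₁ N₁]
    [AddCommGroup N₂] [Module B₂ N₂] [Module B₁ N₂] [IsScalarTower B₁ B₂ N₂]
    [AddCommGroup M₁] [Module F₁ M₁] [Module B₁ M₁] [IsScalarTower B₁ F₁ M₁]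
    [AddCommGroup M₂] [Module F₂ M₂] [Module B₂ M₂] [IsScalarTower B₂ F₂ M₂]
    (f : N₁ →ₗ[B₁] N₂) (hf : IsBaseChange B₂ f) (g₁ : N₁ →ₗ[B₁] M₁) (hg₁ : IsBaseChange F₁ g₁)
    (g₂ : N₂ →ₗ[B₂] M₂) (hg₂ : IsBaseChange F₂ g₂) (φ : F₁ →+* F₂) (hφ : φ.Flat)
    (hc : ∀ b, φ (algebraMap B₁ F₁ b) = algebraMap B₂ F₂ (algebraMap B₁ B₂ b))
    [IsNoetherianRing F₁] [Module.Finite F₁ M₁] {Q : Ideal F₂} (hQ : Q ∈ associatedPrimes F₂ M₂) :
    Q.comap φ ∈ associatedPrimes F₁ M₁ := by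
  algebraize [φ, (algebraMap B₂ F₂).comp (algebraMap B₁ B₂)]
  have i1 : IsScalarTower B₁ F₁ F₂ := IsScalarTower.of_algebraMap_eq fun b => (hc b).symm
  let m1 : Module F₁ M₂ := Module.compHom M₂ φ
  let m2 : Module B₁ M₂ := Module.compHom M₂ (algebraMap B₁ F₂)
  have t1 : IsScalarTower F₁ F₂ M₂ := IsScalarTower.of_algebraMap_smul fun r x => rfl
  have t2 : IsScalarTower B₁ F₂ M₂ := IsScalarTower.of_algebraMap_smul fun r x => rfl
  have t3 : IsScalarTower B₁ F₁ M₂ := IsScalarTower.of_algebraMap_smul fun r x => by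
    change φ (algebraMap B₁ F₁ r) • x = algebraMap B₁ F₂ r • x
    rw [hc]; rfl
  have t4 : IsScalarTower B₁ B₂ M₂ := IsScalarTower.of_algebraMap_smul fun r x => by
    exact (algebraMap_smul F₂ (algebraMap B₁ B₂ r) x).symm
  have hc2 : IsBaseChange F₂ ((g₂.restrictScalars B₁) ∘ₗ f) := IsBaseChange.comp hf hg₂
  let h : M₁ →ₗ[F₁] M₂ := hg₁.lift ((g₂.restrictScalars B₁) ∘ₗ f)
  have hh : (h.restrictScalars B₁) ∘ₗ g₁ = (g₂.restrictScalars B₁) ∘ₗ f := hg₁.lift_comp _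
  have hb : IsBaseChange F₂ h := by
    apply IsBaseChange.of_comp hg₁
    rw [hh]
    exact hc2
  exact AssFlat.comap_mem_associatedPrimes h hb hQ

section

variable {A₁ A₂ B₁ B₂ : Type u} [CommRing A₁] [CommRing A₂] [CommRing B₁] [CommRing B₂]
  [Algebra A₁ A₂] [Algebra A₁ B₁] [Algebra A₂ B₂] [Algebra B₁ B₂] [Algebra A₁ B₂]
  [IsScalarTower A₁ A₂ B₂] [IsScalarTower A₁ B₁ B₂]
  (t₁ : Ideal A₁) (t₂ : Ideal A₂) [t₁.IsPrime] [t₂.IsPrime] [ht : t₂.LiesOver t₁]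

/-- the extension of residue fields -/
noncomputable def resMap : t₁.ResidueField →+* t₂.ResidueField :=
  Ideal.ResidueField.map t₁ t₂ (algebraMap A₁ A₂) ht.over

theorem resMap_algebraMap (a : A₁) :
    resMap t₁ t₂ (algebraMap A₁ t₁.ResidueField a) = algebraMap A₂ t₂.ResidueField (algebraMap A₁ A₂ a) :=
  Ideal.ResidueField.map_algebraMap t₁ t₂ _ ht.over a

/-- the map of fibre rings -/
noncomputable def fiberMap : t₁.Fiber B₁ →+* t₂.Fiber B₂ :=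
  letI : Algebra t₁.ResidueField t₂.ResidueField := (resMap t₁ t₂).toAlgebra
  (Algebra.TensorProduct.lift (R := A₁) (S := A₁) (A := t₁.ResidueField) (B := B₁) (C := t₂.Fiber B₂)
    { toRingHom := (algebraMap t₂.ResidueField (t₂.Fiber B₂)).comp (resMap t₁ t₂)
      commutes' := fun a => by
        change algebraMap t₂.ResidueField (t₂.Fiber B₂) (resMap t₁ t₂ (algebraMap A₁ t₁.ResidueField a)) = _
        rw [resMap_algebraMap, IsScalarTower.algebraMap_apply A₁ t₂.ResidueField (t₂.Fiber B₂),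
          IsScalarTower.algebraMap_apply A₁ A₂ t₂.ResidueField] }
    { toRingHom := (Algebra.TensorProduct.includeRight (R := A₂) (A := t₂.ResidueField) (B := B₂)).toRingHom.comp
        (algebraMap B₁ B₂)
      commutes' := fun a => by
        change (1 : t₂.ResidueField) ⊗ₜ[A₂] (algebraMap B₁ B₂ (algebraMap A₁ B₁ a)) = _
        rw [← IsScalarTower.algebraMap_apply A₁ B₁ B₂, IsScalarTower.algebraMap_apply A₁ A₂ B₂,
          Algebra.algebraMap_eq_smul_one (R := A₂) (A := B₂), ← TensorProduct.smul_tmul,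
          ← Algebra.algebraMap_eq_smul_one, IsScalarTower.algebraMap_apply A₁ t₂.ResidueField (t₂.Fiber B₂),
          IsScalarTower.algebraMap_apply A₁ A₂ t₂.ResidueField]
        rfl }
    (fun x y => mul_comm _ _)).toRingHom

theorem fiberMap_tmul (x : t₁.ResidueField) (b : B₁) :
    fiberMap (B₁ := B₁) (B₂ := B₂) t₁ t₂ (x ⊗ₜ[A₁] b) = (resMap t₁ t₂ x) ⊗ₜ[A₂] (algebraMap B₁ B₂ b) := by
  change (algebraMap t₂.ResidueField (t₂.Fiber B₂) (resMap t₁ t₂ x)) * ((1 : t₂.ResidueField) ⊗ₜ[A₂] (algebraMap B₁ B₂ b)) = _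
  rw [Algebra.TensorProduct.algebraMap_apply, Algebra.TensorProduct.tmul_mul_tmul]
  simp

attribute [local instance] Algebra.TensorProduct.rightAlgebra

theorem fiberMap_comp_algebraMap (b : B₁) :
    fiberMap (B₁ := B₁) (B₂ := B₂) t₁ t₂ (algebraMap B₁ (t₁.Fiber B₁) b) =
      algebraMap B₂ (t₂.Fiber B₂) (algebraMap B₁ B₂ b) := by
  change fiberMap (B₁ := B₁) (B₂ := B₂) t₁ t₂ (1 ⊗ₜ[A₁] b) = 1 ⊗ₜ[A₂] _
  rw [fiberMap_tmul, map_one]

theorem fiberMap_algebraMap_left (x : t₁.ResidueField) :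
    fiberMap (B₁ := B₁) (B₂ := B₂) t₁ t₂ (algebraMap _ (t₁.Fiber B₁) x) =
      algebraMap t₂.ResidueField (t₂.Fiber B₂) (resMap t₁ t₂ x) := by
  change fiberMap (B₁ := B₁) (B₂ := B₂) t₁ t₂ (x ⊗ₜ[A₁] 1) = _ ⊗ₜ[A₂] _
  rw [fiberMap_tmul, map_one]
  rfl

/-- the map of fibre rings is flat -/
theorem fiberMap_flat [Algebra.IsPushout A₁ A₂ B₁ B₂] :
    (fiberMap (B₁ := B₁) (B₂ := B₂) t₁ t₂).Flat :=
  flat_of_cube (A₁ := A₁) (A₂ := A₂) (B₁ := B₁) (B₂ := B₂) (resMap t₁ t₂) _ (resMap_algebraMap t₁ t₂)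
    (fiberMap_comp_algebraMap t₁ t₂) (fiberMap_algebraMap_left t₁ t₂)
    (by
      let : Algebra t₁.ResidueField t₂.ResidueField := (resMap t₁ t₂).toAlgebra
      exact (inferInstance : Module.Flat t₁.ResidueField t₂.ResidueField))

theorem comap_fiberIdeal_eq (P₂ : Ideal B₂) [P₂.IsPrime] [P₂.LiesOver t₂] :
    (FlatCA.fiberIdeal t₂ P₂).comap (fiberMap (B₁ := B₁) (B₂ := B₂) t₁ t₂) =
      FlatCA.fiberIdeal t₁ (P₂.comap (algebraMap B₁ B₂)) := by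
  rw [← Flat2A.Fiber.fiberIdeal_comap t₁ ((FlatCA.fiberIdeal t₂ P₂).comap (fiberMap (B₁ := B₁) (B₂ := B₂) t₁ t₂))]
  congr 1
  conv_rhs => rw [← Flat2A.Fiber.comap_fiberIdeal t₂ P₂]
  ext b
  simp only [Ideal.mem_comap]
  exact iff_of_eq (congrArg (· ∈ FlatCA.fiberIdeal t₂ P₂) (fiberMap_comp_algebraMap (B₁ := B₁) (B₂ := B₂) t₁ t₂ b))

/-- Relatively associated primes contract to relatively associated primes (part of Stacks 05DB / 0AVM). -/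
theorem ass_descent [Algebra.IsPushout A₁ A₂ B₁ B₂] [Algebra.FiniteType A₁ B₁]
    (N₁ N₂ : Type u) [AddCommGroup N₁] [Module B₁ N₁] [Module A₁ N₁] [IsScalarTower A₁ B₁ N₁] [Module.Finite B₁ N₁]
    [AddCommGroup N₂] [Module B₂ N₂] [Module A₂ N₂] [IsScalarTower A₂ B₂ N₂] [Module B₁ N₂] [IsScalarTower B₁ B₂ N₂]
    (f : N₁ →ₗ[B₁] N₂) (hf : IsBaseChange B₂ f)
    (P₂ : Ideal B₂) [P₂.IsPrime] [P₂.LiesOver t₂]
    (h : FlatCA.fiberIdeal t₂ P₂ ∈ associatedPrimes (t₂.Fiber B₂) (FlatCA.fiberMod t₂ B₂ N₂)) :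
    FlatCA.fiberIdeal t₁ (P₂.comap (algebraMap B₁ B₂)) ∈
      associatedPrimes (t₁.Fiber B₁) (FlatCA.fiberMod t₁ B₁ N₁) := by
  have : IsNoetherianRing (t₁.Fiber B₁) := Flat2A.Fiber.fiber_isNoetherianRing t₁
  have : Module.Finite (t₁.Fiber B₁) (FlatCA.fiberMod t₁ B₁ N₁) := Flat2A.Fiber.fiberMod_finite N₁ t₁
  rw [← comap_fiberIdeal_eq (B₁ := B₁) t₁ t₂ P₂]
  exact ass_of_square f hf (TensorProduct.mk B₁ (t₁.Fiber B₁) N₁ 1) (TensorProduct.isBaseChange B₁ N₁ (t₁.Fiber B₁))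
    (TensorProduct.mk B₂ (t₂.Fiber B₂) N₂ 1) (TensorProduct.isBaseChange B₂ N₂ (t₂.Fiber B₂))
    (fiberMap t₁ t₂) (fiberMap_flat t₁ t₂) (fiberMap_comp_algebraMap t₁ t₂) h

end

end Groth.Agent.Flat2C.FiberBC
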