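import Mathlib.RingTheory.IsTensorProduct

/-!
Base change of modules along a pushout of rings can be tested on either side of the square.
-/

set_option autoImplicit false

namespace Groth.Agent.Flat2C.PushoutBC

open TensorProduct

variable {R S A B : Type*} [CommRing R] [CommRing S] [CommRing A] [CommRing B]
  [Algebra R S] [Algebra R A] [Algebra S B] [Algebra A B] [Algebra R B] [IsScalarTower R S B] [IsScalarTower R A B]
  [Algebra.IsPushout R S A B]
  {M N : Type*} [AddCommGroup M] [Module A M] [Module R M] [IsScalarTower R A M]
  [AddCommGroup N] [Module B N] [Module A N] [IsScalarTower A B N] [Module S N] [IsScalarTower S B N]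
  [Module R N] [IsScalarTower R A N] [IsScalarTower R S N]

/-- For a pushout square `R → S`, `A → B = A ⊗_R S` and an `A`-linear map `M → N` to a `B`-module, being the base
change to `B` over `A` is the same as being the base change to `S` over `R`. -/
theorem isBaseChange_iff (φ : M →ₗ[A] N) : IsBaseChange B φ ↔ IsBaseChange S (φ.restrictScalars R) := by
  constructor
  · intro h
    refine IsBaseChange.of_equiv ((Algebra.IsPushout.cancelBaseChange R S A B M).symm ≪≫ₗ h.equiv.restrictScalars S) ?_
    intro x
    rw [LinearEquiv.trans_apply, Algebra.IsPushout.cancelBaseChange_symm_tmul, map_one]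
    simp [h.equiv_tmul]
  · intro h
    let ψ : B ⊗[A] M →ₗ[B] N := (TensorProduct.isBaseChange A M B).lift φ
    have hψ1 : ∀ m, ψ ((1 : B) ⊗ₜ m) = φ m := fun m => (TensorProduct.isBaseChange A M B).lift_eq φ m
    let e : B ⊗[A] M ≃ₗ[S] N := Algebra.IsPushout.cancelBaseChange R S A B M ≪≫ₗ h.equiv
    have hψ : ∀ x, ψ x = e x := by
      intro x
      obtain ⟨y, rfl⟩ := (Algebra.IsPushout.cancelBaseChange R S A B M).symm.surjective x
      induction y with
      | zero => simp
      | add x y hx hy => rw [map_add, map_add, map_add, hx, hy]
      | tmul s m =>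
        simp only [e, LinearEquiv.trans_apply, LinearEquiv.apply_symm_apply, h.equiv_tmul]
        rw [Algebra.IsPushout.cancelBaseChange_symm_tmul]
        have : algebraMap S B s ⊗ₜ[A] m = (algebraMap S B s) • ((1 : B) ⊗ₜ[A] m) := by
          rw [TensorProduct.smul_tmul', smul_eq_mul, mul_one]
        rw [this, map_smul, hψ1, algebraMap_smul]
        rfl
    have hbij : Function.Bijective ψ := by
      have : (ψ : B ⊗[A] M → N) = e := funext hψ
      rw [this]
      exact e.bijective
    exact IsBaseChange.of_equiv (LinearEquiv.ofBijective ψ hbij) hψ1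

end Groth.Agent.Flat2C.PushoutBC
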