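import Mathlib.RingTheory.IsTensorProduct
import Mathlib.Algebra.Module.FinitePresentation
import Mathlib.RingTheory.TensorProduct.MvPolynomial
import Mathlib.RingTheory.Localization.AtPrime.Basic

/-!
Descent of finitely presented modules: cokernels of matrices commute with base change; a finitely presented module
over a polynomial ring over `A` (in particular over a finitely presented `A`-algebra) comes by base change from a finitely
generated `ℤ`-subalgebra of `A`.
-/

set_option autoImplicit false
universe u

namespace Groth.Agent.Flat2C.CokerBC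

/-- Cokernels of matrices commute with base change. -/
theorem isBaseChange_coker {S' S : Type*} [CommRing S'] [CommRing S] [Algebra S' S] {n m : ℕ}
    (g' : (Fin m → S') →ₗ[S'] (Fin n → S')) (g : (Fin m → S) →ₗ[S] (Fin n → S))
    (hgg' : ∀ j i, g (Pi.single j 1) i = algebraMap S' S (g' (Pi.single j 1) i))
    (M : Type*) [AddCommGroup M] [Module S M] [Module S' M] [IsScalarTower S' S M]
    (f : (Fin n → S) →ₗ[S] M) (hf : Function.Surjective f) (hex : Function.Exact g f) :
    ∃ φ : ((Fin n → S') ⧸ LinearMap.range g') →ₗ[S'] M, IsBaseChange S φ := by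
  classical
  -- the map on free modules
  let ι : (Fin n → S') →ₗ[S'] (Fin n → S) := LinearMap.pi fun i => (Algebra.linearMap S' S) ∘ₗ LinearMap.proj i
  have hι : ∀ i, ι (Pi.single i 1) = Pi.single i 1 := by
    intro i
    ext j
    simp only [ι, LinearMap.pi_apply, LinearMap.comp_apply, LinearMap.proj_apply, Algebra.linearMap_apply,
      Pi.single_apply]
    split_ifs <;> simp
  have hιg : ∀ j, ι (g' (Pi.single j 1)) = g (Pi.single j 1) := by
    intro j
    ext i
    rw [hgg']
    rfl
  let φ₀ : (Fin n → S') →ₗ[S'] M := (f.restrictScalars S') ∘ₗ ι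
  have hφ₀ : LinearMap.range g' ≤ LinearMap.ker φ₀ := by
    rw [LinearMap.range_le_ker_iff]
    ext j
    simp only [φ₀, LinearMap.comp_apply, LinearMap.single_apply, LinearMap.zero_apply, LinearMap.restrictScalars_apply, hιg]
    exact hex.apply_apply_eq_zero _
  obtain ⟨φ, hφ⟩ : ∃ φ : ((Fin n → S') ⧸ LinearMap.range g') →ₗ[S'] M, ∀ v, φ (Submodule.mkQ _ v) = f (ι v) :=
    ⟨Submodule.liftQ _ φ₀ hφ₀, fun v => rfl⟩
  refine ⟨φ, ?_⟩
  apply IsBaseChange.of_lift_unique
  intro Q iQ _ _ _ g₀
  obtain ⟨h, hh'⟩ : ∃ h : (Fin n → S) →ₗ[S] Q, ∀ i, h (Pi.single i 1) = g₀ (Submodule.mkQ _ (Pi.single i 1)) :=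
    ⟨Fintype.linearCombination S (fun i => g₀ (Submodule.mkQ _ (Pi.single i 1))), fun i => by
      rw [Fintype.linearCombination_apply_single, one_smul]⟩
  have hh : ∀ v : Fin n → S', h (ι v) = g₀ (Submodule.mkQ _ v) := by
    intro v
    have h1 : ((h.restrictScalars S') ∘ₗ ι) = g₀ ∘ₗ (Submodule.mkQ _) := by
      ext i
      rw [LinearMap.comp_apply, LinearMap.comp_apply, LinearMap.comp_apply, LinearMap.comp_apply,
        LinearMap.restrictScalars_apply, LinearMap.single_apply, hι, hh']
    exact LinearMap.congr_fun h1 v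
  have hker : LinearMap.ker f ≤ LinearMap.ker h := by
    rw [LinearMap.exact_iff.mp hex, LinearMap.range_le_ker_iff]
    ext j
    rw [LinearMap.comp_apply, LinearMap.single_apply, LinearMap.comp_apply, ← hιg, hh]
    have h0 : (Submodule.mkQ (LinearMap.range g')) (g' (Pi.single j 1)) = 0 := by
      rw [Submodule.mkQ_apply]
      exact (Submodule.Quotient.mk_eq_zero (LinearMap.range g')).mpr (LinearMap.mem_range_self g' _)
    rw [h0, map_zero]
    rfl
  obtain ⟨k, hk⟩ : ∃ k : M →ₗ[S] Q, ∀ v, k (f v) = h v := by
    have hwd : ∀ v w, f v = f w → h v = h w := by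
      intro v w hvw
      have h3 : v - w ∈ LinearMap.ker f := by rw [LinearMap.mem_ker, map_sub, hvw, sub_self]
      have h4 : h (v - w) = 0 := hker h3
      calc h v = h ((v - w) + w) := by rw [sub_add_cancel]
        _ = h w := by rw [map_add, h4, zero_add]
    refine ⟨{ toFun := fun m => h (hf m).choose, map_add' := ?_, map_smul' := ?_ }, ?_⟩
    · intro a b
      rw [← map_add]
      apply hwd
      rw [map_add, (hf _).choose_spec, (hf _).choose_spec, (hf _).choose_spec]
    · intro c a
      rw [RingHom.id_apply, ← map_smul]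
      apply hwd
      rw [map_smul, (hf _).choose_spec, (hf _).choose_spec]
    · intro v
      exact hwd _ _ (hf _).choose_spec
  refine ⟨k, ?_, ?_⟩
  · apply LinearMap.ext
    intro x
    obtain ⟨v, rfl⟩ := Submodule.mkQ_surjective _ x
    rw [LinearMap.comp_apply, hφ, LinearMap.restrictScalars_apply, hk, hh]
  · intro k' hk'
    apply LinearMap.ext
    intro m
    obtain ⟨v, rfl⟩ := hf m
    have h2 : k' ∘ₗ f = k ∘ₗ f := by
      ext i
      rw [LinearMap.comp_apply, LinearMap.comp_apply, LinearMap.comp_apply, LinearMap.comp_apply,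
        LinearMap.single_apply, ← hι, hk, hh, ← hk', LinearMap.comp_apply, hφ]
      rfl
    exact LinearMap.congr_fun h2 v

attribute [local instance] MvPolynomial.algebraMvPolynomial

/-- A finitely presented module over `A[x₁..xₙ]` comes by base change from a finitely generated `ℤ`-subalgebra. -/
theorem exists_descent_mvPolynomial (A : Type u) [CommRing A] (n : ℕ) (M : Type u) [AddCommGroup M]
    [Module (MvPolynomial (Fin n) A) M] [Module.FinitePresentation (MvPolynomial (Fin n) A) M] :
    ∃ (A' : Subalgebra ℤ A), A'.FG ∧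
      ∃ (M' : Type u) (_ : AddCommGroup M') (_ : Module (MvPolynomial (Fin n) A') M')
        (_ : Module.FinitePresentation (MvPolynomial (Fin n) A') M')
        (_ : Module (MvPolynomial (Fin n) A') M)
        (_ : IsScalarTower (MvPolynomial (Fin n) A') (MvPolynomial (Fin n) A) M)
        (φ : M' →ₗ[MvPolynomial (Fin n) A'] M), IsBaseChange (MvPolynomial (Fin n) A) φ := by
  classical
  obtain ⟨s, m, f, g, hf, hex⟩ := Module.FinitePresentation.exists_fin' (MvPolynomial (Fin n) A) M
  let C : Finset A := Finset.univ.biUnion fun j : Fin m => Finset.univ.biUnion fun i : Fin s =>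
    (g (Pi.single j 1) i).coeffs
  let A' : Subalgebra ℤ A := Algebra.adjoin ℤ (C : Set A)
  have hA' : A'.FG := ⟨C, rfl⟩
  have hmem : ∀ j i (d : Fin n →₀ ℕ), (g (Pi.single j 1) i).coeff d ∈ A' := by
    intro j i d
    by_cases h : (g (Pi.single j 1) i).coeff d = 0
    · rw [h]; exact zero_mem _
    · apply Algebra.subset_adjoin
      simp only [C, Finset.coe_biUnion, Set.mem_iUnion]
      exact ⟨j, by simp, i, by simp, MvPolynomial.coeff_mem_coeffs d h⟩
  have hlift : ∀ j i, ∃ q : MvPolynomial (Fin n) A', MvPolynomial.map (algebraMap A' A) q = g (Pi.single j 1) i := by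
    intro j i
    have : g (Pi.single j 1) i ∈ Set.range (MvPolynomial.map (σ := Fin n) (algebraMap A' A)) := by
      rw [MvPolynomial.mem_range_map_iff_coeffs_subset]
      intro c hc
      obtain ⟨d, _, rfl⟩ := MvPolynomial.mem_coeffs_iff.mp hc
      exact ⟨⟨_, hmem j i d⟩, rfl⟩
    exact this
  choose q hq using hlift
  let g' : (Fin m → MvPolynomial (Fin n) A') →ₗ[MvPolynomial (Fin n) A'] (Fin s → MvPolynomial (Fin n) A') :=
    Fintype.linearCombination _ q
  let mM : Module (MvPolynomial (Fin n) A') M := Module.compHom M (algebraMap (MvPolynomial (Fin n) A') (MvPolynomial (Fin n) A))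
  have tM : IsScalarTower (MvPolynomial (Fin n) A') (MvPolynomial (Fin n) A) M :=
    IsScalarTower.of_algebraMap_smul fun _ _ => rfl
  obtain ⟨φ, hφ⟩ := isBaseChange_coker g' g (fun j i => by
    rw [← hq]
    simp only [g', Fintype.linearCombination_apply_single, one_smul]
    rfl) M f hf hex
  refine ⟨A', hA', _, inferInstance, inferInstance, ?_, mM, tM, φ, hφ⟩
  exact Module.finitePresentation_of_surjective (Submodule.mkQ _) (Submodule.mkQ_surjective _)
    (by rw [Submodule.ker_mkQ, LinearMap.range_eq_map]; exact (Module.Finite.fg_top).map _)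

end Groth.Agent.Flat2C.CokerBC
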