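import Mathlib.Algebra.Module.Projective
import Mathlib.RingTheory.Finiteness.Basic
import Mathlib.RingTheory.IsTensorProduct
import Mathlib.RingTheory.Ideal.Maps
import Mathlib.RingTheory.Finiteness.Ideal
import Mathlib.LinearAlgebra.TensorProduct.Pi

/-!
# Content ideals of subsets of projective algebras

For a projective `A`-algebra `B` (projective as a module) and `W ⊆ B`, `content A W` is the smallest
ideal `I` of `A` with `W ⊆ I B`; it is generated by the values on `W` of the linear forms of `B`, is
finitely generated when `W` is finite, and commutes with base change.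
-/

set_option autoImplicit false
universe u v w

namespace Groth.Agent.Flat2C.Content

variable (A : Type u) [CommRing A] {B : Type v} [CommRing B] [Algebra A B]

/-- The content ideal of a set: generated by all values of linear forms. -/
def content (W : Set B) : Ideal A :=
  Ideal.span {a | ∃ (φ : B →ₗ[A] A) (w : B), w ∈ W ∧ a = φ w}

variable {A}

theorem apply_mem_content {W : Set B} (φ : B →ₗ[A] A) {w : B} (hw : w ∈ W) :
    φ w ∈ content A W := Ideal.subset_span ⟨φ, w, hw, rfl⟩

/-- Linear forms map `I B` into `I`. -/
theorem apply_mem_of_mem_map (I : Ideal A) (φ : B →ₗ[A] A) {b : B}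
    (hb : b ∈ I.map (algebraMap A B)) : φ b ∈ I := by
  rw [← Submodule.restrictScalars_mem A, ← Ideal.smul_top_eq_map] at hb
  refine Submodule.smul_induction_on hb ?_ ?_
  · intro r hr n _
    rw [map_smul, smul_eq_mul]
    exact I.mul_mem_right _ hr
  · intro x y hx hy
    rw [map_add]
    exact I.add_mem hx hy

theorem mem_map_content [Module.Projective A B] {W : Set B} {w : B} (hw : w ∈ W) :
    w ∈ (content A W).map (algebraMap A B) := by
  obtain ⟨s, hs⟩ := Module.projective_def'.mp (inferInstance : Module.Projective A B)
  have h1 : w = Finsupp.linearCombination A (id : B → B) (s w) := (LinearMap.congr_fun hs w).symm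
  have h2 : Finsupp.linearCombination A (id : B → B) (s w) ∈
      (content A W).map (algebraMap A B) := by
    rw [Finsupp.linearCombination_apply]
    refine Submodule.sum_mem _ fun b _ => ?_
    change (s w b) • b ∈ _
    rw [Algebra.smul_def]
    exact Ideal.mul_mem_right _ _ (Ideal.mem_map_of_mem _
      (apply_mem_content ((Finsupp.lapply b) ∘ₗ s) hw))
  rwa [← h1] at h2

theorem content_le_iff [Module.Projective A B] {W : Set B} {I : Ideal A} :
    content A W ≤ I ↔ W ⊆ I.map (algebraMap A B) := by
  constructor
  · intro h w hw
    exact Ideal.map_mono h (mem_map_content hw)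
  · intro h
    refine Ideal.span_le.mpr ?_
    rintro _ ⟨φ, w, hw, rfl⟩
    exact apply_mem_of_mem_map I φ (h hw)

theorem content_span [Module.Projective A B] (W : Set B) :
    content A (Ideal.span W : Set B) = content A W := by
  apply le_antisymm
  · rw [content_le_iff]
    intro w hw
    have : Ideal.span W ≤ (content A W).map (algebraMap A B) :=
      Ideal.span_le.mpr fun w hw => mem_map_content hw
    exact this hw
  · rw [content_le_iff]
    exact fun w hw => mem_map_content (Ideal.subset_span hw)

/-- The content ideal of a single element is finitely generated. -/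
theorem content_singleton_fg [Module.Projective A B] (w : B) : (content A ({w} : Set B)).FG := by
  classical
  obtain ⟨s, hs⟩ := Module.projective_def'.mp (inferInstance : Module.Projective A B)
  refine ⟨(s w).support.image (s w), ?_⟩
  apply le_antisymm
  · refine Ideal.span_le.mpr ?_
    intro a ha
    simp only [Finset.coe_image, Set.mem_image] at ha
    obtain ⟨b, -, rfl⟩ := ha
    exact apply_mem_content ((Finsupp.lapply b) ∘ₗ s) (Set.mem_singleton w)
  · refine Ideal.span_le.mpr ?_
    rintro _ ⟨φ, w', rfl, rfl⟩
    have h1 : w' = Finsupp.linearCombination A (id : B → B) (s w') :=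
      (LinearMap.congr_fun hs w').symm
    have h2 : φ (Finsupp.linearCombination A (id : B → B) (s w')) ∈
        Ideal.span (((s w').support.image (s w') : Finset A) : Set A) := by
      rw [Finsupp.linearCombination_apply, map_finsuppSum]
      refine Submodule.sum_mem _ fun b hb => ?_
      change φ ((s w' b) • b) ∈ _
      rw [map_smul, smul_eq_mul]
      exact Ideal.mul_mem_right _ _ (Ideal.subset_span (by
        rw [Finset.coe_image]
        exact ⟨b, hb, rfl⟩))
    rw [← h1] at h2
    exact h2

theorem content_eq_iSup (W : Set B) : content A W = ⨆ w ∈ W, content A ({w} : Set B) := by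
  apply le_antisymm
  · refine Ideal.span_le.mpr ?_
    rintro _ ⟨φ, w, hw, rfl⟩
    have : content A ({w} : Set B) ≤ ⨆ w ∈ W, content A ({w} : Set B) :=
      le_iSup₂_of_le w hw le_rfl
    exact this (apply_mem_content φ (Set.mem_singleton w))
  · refine iSup₂_le fun w hw => ?_
    refine Ideal.span_mono ?_
    rintro _ ⟨φ, w', rfl, rfl⟩
    exact ⟨φ, w', hw, rfl⟩

/-- The content ideal of a finite set is finitely generated. -/
theorem content_fg [Module.Projective A B] {W : Set B} (hW : W.Finite) : (content A W).FG := by
  rw [content_eq_iSup]
  have : (⨆ w ∈ W, content A ({w} : Set B)) = ⨆ w ∈ hW.toFinset, content A ({w} : Set B) := by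
    simp
  rw [this]
  exact Submodule.fg_biSup hW.toFinset _ fun w _ => content_singleton_fg w

/-- Content ideals commute with base change. -/
theorem content_baseChange [Module.Projective A B] (R : Type w) [CommRing R] [Algebra A R]
    (S' : Type*) [CommRing S'] [Algebra R S'] [Algebra B S'] [Algebra A S'] [IsScalarTower A R S']
    [IsScalarTower A B S'] [Algebra.IsPushout A R B S'] (W : Set B) :
    content R (algebraMap B S' '' W) = (content A W).map (algebraMap A R) := by
  have hbc : IsBaseChange R (IsScalarTower.toAlgHom A B S').toLinearMap :=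
    Algebra.IsPushout.out
  have hproj : Module.Projective R S' := Module.Projective.of_equiv hbc.equiv
  apply le_antisymm
  · rw [content_le_iff]
    rintro _ ⟨w, hw, rfl⟩
    rw [SetLike.mem_coe, Ideal.map_map, ← IsScalarTower.algebraMap_eq,
      IsScalarTower.algebraMap_eq A B S', ← Ideal.map_map]
    exact Ideal.mem_map_of_mem _ (mem_map_content hw)
  · rw [content, Ideal.map_span, Ideal.span_le]
    rintro _ ⟨_, ⟨φ, w, hw, rfl⟩, rfl⟩
    let φ' : S' →ₗ[R] R := hbc.lift ((Algebra.linearMap A R) ∘ₗ φ)
    have h1 : φ' (algebraMap B S' w) = algebraMap A R (φ w) := hbc.lift_eq _ w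
    rw [← h1]
    exact apply_mem_content φ' ⟨w, hw, rfl⟩

end Groth.Agent.Flat2C.Content
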