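import Mathlib.RingTheory.IsTensorProduct
import Mathlib.Algebra.Module.Projective
import Mathlib.RingTheory.Ideal.Maps
import Mathlib.RingTheory.Finiteness.Basic
import Mathlib.RingTheory.Finiteness.Ideal

/-!
# Content ideals with respect to coordinates of a projective algebra

For a projective `R`-algebra `S` we choose `u : S →ₗ[R] (S →₀ R)` with `linearCombination R id ∘ u = id`.

* `content u g` : the ideal generated by all coordinates of the elements `g i` of a finite family.
* `mem_of_content_le` : `g i ∈ p S` if `content u g ≤ p`.
* `exists_baseChange` : coordinates on a base change `S'` over `R'`.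
* `exists_div` : if `content u g` becomes principal, generated by a nonzerodivisor `y`, over `R'`, then
  `g i = y g' i` in `S'` for a family `g'` not contained in `p S'` for any proper ideal `p`.
-/

set_option autoImplicit false
universe u

namespace Groth.Agent.Flat2C.ContentAux

variable {R S : Type u} [CommRing R] [CommRing S] [Algebra R S]

/-- The ideal generated by all coordinates of the members of a family. -/
def content (c : S →ₗ[R] (S →₀ R)) {κ : Type*} (g : κ → S) : Ideal R :=
  Ideal.span (Set.range fun x : κ × S => c (g x.1) x.2)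

variable (c : S →ₗ[R] (S →₀ R))

theorem coord_mem_content {κ : Type*} (g : κ → S) (i : κ) (s : S) : c (g i) s ∈ content c g :=
  Ideal.subset_span ⟨(i, s), rfl⟩

theorem content_fg {κ : Type*} [Finite κ] (g : κ → S) : (content c g).FG := by
  classical
  have := Fintype.ofFinite κ
  let T : Finset R := Finset.univ.biUnion fun i : κ => (c (g i)).support.image (c (g i))
  refine ⟨T, ?_⟩
  apply le_antisymm
  · rw [Ideal.span_le]
    intro x hx
    simp only [T, Finset.coe_biUnion, Set.mem_iUnion, Finset.coe_image, Set.mem_image] at hx
    obtain ⟨i, -, s, -, rfl⟩ := hx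
    exact coord_mem_content c g i s
  · rw [content, Ideal.span_le]
    rintro _ ⟨⟨i, s⟩, rfl⟩
    by_cases h : c (g i) s = 0
    · simp only [h]
      exact zero_mem _
    · apply Ideal.subset_span
      simp only [T, Finset.coe_biUnion, Set.mem_iUnion, Finset.coe_image, Set.mem_image]
      exact ⟨i, by simp, s, by simpa using h, rfl⟩

theorem mem_of_content_le (hc : ∀ x, Finsupp.linearCombination R id (c x) = x) {κ : Type*}
    (g : κ → S) (p : Ideal R) (h : content c g ≤ p) (i : κ) : g i ∈ p.map (algebraMap R S) := by
  rw [← hc (g i), Finsupp.linearCombination_apply]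
  refine sum_mem fun s _ => ?_
  beta_reduce
  rw [Algebra.smul_def]
  exact Ideal.mul_mem_right _ _ (Ideal.mem_map_of_mem _ (h (coord_mem_content c g i s)))

/-- Coordinates on a base change. -/
theorem exists_baseChange (hc : ∀ x, Finsupp.linearCombination R id (c x) = x)
    {R' S' : Type u} [CommRing R'] [CommRing S'] [Algebra R R'] [Algebra S S'] [Algebra R' S']
    [Algebra R S'] [IsScalarTower R S S'] [IsScalarTower R R' S'] [Algebra.IsPushout R R' S S'] :
    ∃ c' : S' →ₗ[R'] (S →₀ R'), (∀ (x : S) (s : S), c' (algebraMap S S' x) s = algebraMap R R' (c x s)) ∧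
      ∀ x, Finsupp.linearCombination R' (algebraMap S S') (c' x) = x := by
  have hb : IsBaseChange R' (IsScalarTower.toAlgHom R S S').toLinearMap := Algebra.IsPushout.out
  let m : (S →₀ R) →ₗ[R] (S →₀ R') := Finsupp.mapRange.linearMap (Algebra.linearMap R R')
  let c' : S' →ₗ[R'] (S →₀ R') := hb.lift (m ∘ₗ c)
  have h1 : ∀ x : S, c' (algebraMap S S' x) = m (c x) := fun x => hb.lift_eq (m ∘ₗ c) x
  refine ⟨c', fun x s => ?_, fun x => ?_⟩
  · rw [h1]
    rfl
  · have h2 : Finsupp.linearCombination R' (algebraMap S S') ∘ₗ c' = LinearMap.id := by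
      apply hb.algHom_ext'
      ext x
      change Finsupp.linearCombination R' (algebraMap S S') (c' (algebraMap S S' x)) = algebraMap S S' x
      rw [h1]
      conv_rhs => rw [← hc x]
      have h3 : ∀ z : S →₀ R, Finsupp.linearCombination R' (algebraMap S S') (m z) =
          algebraMap S S' (Finsupp.linearCombination R id z) := by
        intro z
        induction z using Finsupp.induction_linear with
        | zero => simp
        | add a b ha hb => rw [map_add, map_add, map_add, map_add, ha, hb]
        | single a b =>
          simp only [m, Finsupp.mapRange.linearMap_apply, Finsupp.mapRange_single,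
            Finsupp.linearCombination_single, Algebra.linearMap_apply, id]
          rw [Algebra.smul_def, Algebra.smul_def, map_mul, ← IsScalarTower.algebraMap_apply,
            ← IsScalarTower.algebraMap_apply]
      exact h3 _
    exact LinearMap.congr_fun h2 x

theorem coord_mem_of_mem_map {R' S' : Type u} [CommRing R'] [CommRing S'] [Algebra R' S']
    {T : Type*} (c' : S' →ₗ[R'] (T →₀ R')) (p : Ideal R') (x : S')
    (hx : x ∈ p.map (algebraMap R' S')) (s : T) : c' x s ∈ p := by
  have hx' : x ∈ (p • ⊤ : Submodule R' S') := by
    rw [Ideal.smul_top_eq_map]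
    exact hx
  refine Submodule.smul_induction_on hx' ?_ ?_
  · intro r hr n _
    rw [map_smul, Finsupp.smul_apply, smul_eq_mul]
    exact Ideal.mul_mem_right _ _ hr
  · intro x y hx hy
    rw [map_add, Finsupp.add_apply]
    exact add_mem hx hy

/-- Division of a family by a generator of its content. -/
theorem exists_div (hc : ∀ x, Finsupp.linearCombination R id (c x) = x)
    {R' S' : Type u} [CommRing R'] [CommRing S'] [Algebra R R'] [Algebra S S'] [Algebra R' S']
    [Algebra R S'] [IsScalarTower R S S'] [IsScalarTower R R' S'] [Algebra.IsPushout R R' S S']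
    {κ : Type*} (g : κ → S) (y : R') (hy : y ∈ nonZeroDivisors R')
    (hI : (content c g).map (algebraMap R R') = Ideal.span {y}) :
    ∃ g' : κ → S', (∀ i, algebraMap S S' (g i) = y • g' i) ∧
      ∀ p : Ideal R', p ≠ ⊤ → ∃ i, g' i ∉ p.map (algebraMap R' S') := by
  classical
  obtain ⟨c', hc1, hc2⟩ := exists_baseChange (R' := R') (S' := S') c hc
  have h1 : ∀ (i : κ) (s : S), ∃ w : R', c' (algebraMap S S' (g i)) s = y * w := by
    intro i s
    have : algebraMap R R' (c (g i) s) ∈ Ideal.span {y} := by
      rw [← hI]
      exact Ideal.mem_map_of_mem _ (coord_mem_content c g i s)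
    obtain ⟨w, hw⟩ := Ideal.mem_span_singleton.mp this
    exact ⟨w, by rw [hc1, hw]⟩
  choose w hw using h1
  let z : κ → (S →₀ R') := fun i =>
    Finsupp.onFinset (c' (algebraMap S S' (g i))).support
      (fun s => if c' (algebraMap S S' (g i)) s = 0 then 0 else w i s) (by
        intro s hs
        rw [Finsupp.mem_support_iff]
        intro h
        exact hs (by simp [h]))
  have hz : ∀ i, c' (algebraMap S S' (g i)) = y • z i := by
    intro i
    ext s
    rw [Finsupp.smul_apply, smul_eq_mul]
    change _ = y * (if c' (algebraMap S S' (g i)) s = 0 then 0 else w i s)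
    split_ifs with h
    · rw [h, mul_zero]
    · exact hw i s
  refine ⟨fun i => Finsupp.linearCombination R' (algebraMap S S') (z i), fun i => ?_, ?_⟩
  · rw [← map_smul, ← hz, hc2]
  · intro p hp
    by_contra hcon
    push Not at hcon
    have h2 : (content c g).map (algebraMap R R') ≤ Ideal.span {y} * p := by
      rw [Ideal.map_le_iff_le_comap, content, Ideal.span_le]
      rintro _ ⟨⟨i, s⟩, rfl⟩
      change algebraMap R R' (c (g i) s) ∈ Ideal.span {y} * p
      rw [← hc1]
      have h3 : c' (algebraMap S S' (g i)) =
          y • c' (Finsupp.linearCombination R' (algebraMap S S') (z i)) := by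
        rw [← map_smul, ← map_smul (Finsupp.linearCombination R' (algebraMap S S')), ← hz, hc2]
      rw [h3, Finsupp.smul_apply, smul_eq_mul]
      exact Ideal.mul_mem_mul (Ideal.mem_span_singleton_self y) (coord_mem_of_mem_map c' p _ (hcon i) s)
    rw [hI, Ideal.span_singleton_le_iff_mem, Ideal.mem_span_singleton_mul] at h2
    obtain ⟨t, ht, hty⟩ := h2
    apply hp
    rw [Ideal.eq_top_iff_one]
    have h4 : y * (t - 1) = 0 := by rw [mul_sub, hty, mul_one, sub_self]
    have h5 : t - 1 = 0 := (mem_nonZeroDivisors_iff.mp hy).1 _ h4
    rwa [← sub_eq_zero.mp h5]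

end Groth.Agent.Flat2C.ContentAux
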