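import Groth.Agent.Flat2C.DisjointStep
import Groth.Agent.Flat2C.CompData
import Groth.Agent.S1282

/-!
# The disjointness step for S1280, in terms of `CompData`

`exists_disjoint`: given `U = U₁ ∪ U₂` and partial compactifications `D₁`, `D₂` of `U₁`, `U₂`, after admissible
blow-ups the closure of `V₁ ×_U V₂` in `X₁ ×_S X₂` does not meet `C₁ × C₂`, where `Cᵢ` is the closure in `Xᵢ` of
`ψᵢ⁻¹ (U ∖ Uᵢ)`.
-/

set_option autoImplicit false
universe u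

open CategoryTheory AlgebraicGeometry Limits TopologicalSpace Topology

namespace Groth.Agent.Flat2C.DisjointStep2

open Groth.Agent.Flat2C.DisjointStep Groth.Agent.Flat2C.CompData

theorem preimage_image_eq {X X' U : Scheme.{u}} (b : X' ⟶ X) (V : X.Opens) (ψ : (V : Scheme.{u}) ⟶ U)
    (D : Set U) : (b ⁻¹ᵁ V).ι '' (((b ∣_ V) ≫ ψ) ⁻¹' D) = b ⁻¹' (V.ι '' (ψ ⁻¹' D)) := by
  ext x
  constructor
  · rintro ⟨y, hy, rfl⟩
    refine ⟨(b ∣_ V) y, hy, ?_⟩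
    rw [← Scheme.Hom.comp_apply, morphismRestrict_ι]
    rfl
  · rintro ⟨a, ha, hx⟩
    have hxV : b x ∈ V := by rw [← hx]; exact a.2
    let x' : (b ⁻¹ᵁ V : X'.Opens) := ⟨x, hxV⟩
    have e : (b ∣_ V) x' = a := by
      apply V.ι.isOpenEmbedding.injective
      rw [← Scheme.Hom.comp_apply, morphismRestrict_ι, hx]
      rfl
    refine ⟨x', ?_, rfl⟩
    change ψ ((b ∣_ V) x') ∈ D
    rw [e]
    exact ha

/-- `StrictIsoNear` holds for proper morphisms of Noetherian schemes (S1282). -/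
theorem strictIsoNear {X Y : Scheme.{u}} [IsNoetherian X] [IsNoetherian Y] (f : X ⟶ Y) [IsProper f] (V : Y.Opens)
    (T : Set Y) (hTV : T ⊆ V) (hT : IsClosed (Subtype.val ⁻¹' T : Set V))
    (hiso : ∃ W : Y.Opens, T ⊆ W ∧ W ≤ V ∧ IsIso (f ∣_ W)) : StrictIsoNear f V T :=
  Groth.Agent.S1282.result f V (NoetherianSpace.isCompact _) T hTV hT hiso

/-- **The disjointness step.** -/
theorem exists_disjoint {U S : Scheme.{u}} [IsNoetherian S] {g : U ⟶ S} {U₁ U₂ : U.Opens} (hcov : U₁ ⊔ U₂ = ⊤)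
    (D₁ : CompData g U₁) (D₂ : CompData g U₂) :
    ∃ (E₁ : CompData g U₁) (E₂ : CompData g U₂),
      ∀ (T : Scheme.{u}) (t : T ⟶ pullback E₁.π E₂.π) (t₁ : T ⟶ E₁.V) (t₂ : T ⟶ E₂.V),
        t ≫ pullback.fst _ _ = t₁ ≫ E₁.V.ι → t ≫ pullback.snd _ _ = t₂ ≫ E₂.V.ι → t₁ ≫ E₁.ψ = t₂ ≫ E₂.ψ →
        ∀ z ∈ closure (Set.range t),
          pullback.fst E₁.π E₂.π z ∈ closure (E₁.V.ι '' (E₁.ψ ⁻¹' (U₁ : Set U)ᶜ)) →
          pullback.snd E₁.π E₂.π z ∉ closure (E₂.V.ι '' (E₂.ψ ⁻¹' (U₂ : Set U)ᶜ)) := by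
  have hX₁ : IsLocallyNoetherian D₁.X := LocallyOfFiniteType.isLocallyNoetherian D₁.π
  have hX₁c : CompactSpace D₁.X := QuasiCompact.compactSpace_of_compactSpace D₁.π
  have hX₁n : IsNoetherian D₁.X := {}
  have h := raw D₁.comm D₂.comm U₁ U₂ hcov (fun Z f hf hW => by
    have hZ : IsLocallyNoetherian Z := LocallyOfFiniteType.isLocallyNoetherian f
    have hZc : CompactSpace Z := QuasiCompact.compactSpace_of_compactSpace f
    have hZn : IsNoetherian Z := {}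
    refine strictIsoNear f D₁.V _ ?_ ?_ hW
    · rintro _ ⟨v, -, rfl⟩
      exact v.2
    · have : IsClosed (D₁.ψ ⁻¹' (U₁ : Set U)ᶜ) := U₁.2.isClosed_compl.preimage D₁.ψ.continuous
      convert this using 1
      exact Set.preimage_image_eq _ D₁.V.ι.isOpenEmbedding.injective)
  obtain ⟨𝓘₁, X₁', b₁, 𝓘₂, X₂', b₂, hb₁, hI₁, hb₂, hI₂, hd⟩ := h
  refine ⟨D₁.blowUp b₁ 𝓘₁ hb₁ hI₁, D₂.blowUp b₂ 𝓘₂ hb₂ hI₂, ?_⟩
  intro T t t₁ t₂ ht₁ ht₂ ht z hz hz₁ hz₂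
  refine hd T t t₁ t₂ ht₁ ht₂ ?_ z hz ?_ ?_
  · exact ht
  · rw [← preimage_image_eq]
    exact hz₁
  · rw [← preimage_image_eq]
    exact hz₂

end Groth.Agent.Flat2C.DisjointStep2
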