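import Groth.Agent.Flat2C.DomOpenRing
import Mathlib.AlgebraicGeometry.AffineScheme
import Mathlib.AlgebraicGeometry.Restrict

/-!
# Local form of an open immersion over an open subset of the target
-/

set_option autoImplicit false
universe u

open AlgebraicGeometry CategoryTheory

namespace Groth.Agent.Flat2C.DomOpenLoc

open Groth.Agent.Flat2C.DomOpenRing

/-- If `W → Y` induces an isomorphism `𝒪(D(h)) ≅ 𝒪(V ∩ f⁻¹ D(h))` then `Loc` holds for `𝒪(W) → 𝒪(V)`. -/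
theorem loc_of_isIso {X Y : Scheme.{u}} (f : X ⟶ Y) (W : Y.Opens)
    (hW : IsAffineOpen W) (V : X.Opens) (hV : IsAffineOpen V) (hVW : V ≤ f ⁻¹ᵁ W) (h : Γ(Y, W))
    (e : X.basicOpen ((f.appLE W V hVW).hom h) ≤ f ⁻¹ᵁ (Y.basicOpen h))
    (hiso : IsIso (f.appLE (Y.basicOpen h) (X.basicOpen ((f.appLE W V hVW).hom h)) e)) :
    letI := (f.appLE W V hVW).hom.toAlgebra
    Loc Γ(Y, W) Γ(X, V) h := by
  let _ := (f.appLE W V hVW).hom.toAlgebra
  set h' : Γ(X, V) := (f.appLE W V hVW).hom h with hh'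
  have hlY : IsLocalization.Away h Γ(Y, Y.basicOpen h) := hW.isLocalization_basicOpen h
  have hlX : IsLocalization.Away h' Γ(X, X.basicOpen h') := hV.isLocalization_basicOpen h'
  have hcomm : ∀ a : Γ(Y, W), (X.presheaf.map (homOfLE (X.basicOpen_le h')).op).hom ((f.appLE W V hVW).hom a) =
      (f.appLE _ _ e).hom ((Y.presheaf.map (homOfLE (Y.basicOpen_le h)).op).hom a) := by
    intro a
    rw [← CommRingCat.comp_apply, ← CommRingCat.comp_apply, Scheme.Hom.appLE_map, Scheme.Hom.map_appLE]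
  have hb : Function.Bijective (f.appLE _ _ e).hom := ConcreteCategory.bijective_of_isIso _
  refine ⟨fun x ↦ ?_, fun r hr ↦ ?_⟩
  · obtain ⟨s, hs⟩ := hb.2 ((X.presheaf.map (homOfLE (X.basicOpen_le h')).op).hom x)
    obtain ⟨n, a, ha⟩ := IsLocalization.Away.surj h s
    have h1 : algebraMap Γ(X, V) Γ(X, X.basicOpen h') (h' ^ n * x) =
        algebraMap Γ(X, V) Γ(X, X.basicOpen h') ((f.appLE W V hVW).hom a) := by
      have h2 := congrArg (f.appLE _ _ e).hom ha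
      rw [map_mul, hs, map_pow] at h2
      change (X.presheaf.map (homOfLE (X.basicOpen_le h')).op).hom (h' ^ n * x) =
        (X.presheaf.map (homOfLE (X.basicOpen_le h')).op).hom ((f.appLE W V hVW).hom a)
      have h3 : (X.presheaf.map (homOfLE (X.basicOpen_le h')).op).hom h' = (f.appLE _ _ e).hom
        ((Y.presheaf.map (homOfLE (Y.basicOpen_le h)).op).hom h) := hcomm h
      rw [map_mul, map_pow, hcomm a, h3, mul_comm]
      exact h2
    obtain ⟨m, hm⟩ := IsLocalization.Away.exists_of_eq h' h1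
    refine ⟨m + n, h ^ m * a, ?_⟩
    change h' ^ (m + n) * x = (f.appLE W V hVW).hom (h ^ m * a)
    rw [map_mul, map_pow, pow_add, mul_assoc, hm]
  · have h1 : (f.appLE _ _ e).hom ((Y.presheaf.map (homOfLE (Y.basicOpen_le h)).op).hom r) = 0 := by
      rw [← hcomm]
      have : (f.appLE W V hVW).hom r = 0 := hr
      rw [this, map_zero]
    have h2 : (Y.presheaf.map (homOfLE (Y.basicOpen_le h)).op).hom r = 0 := hb.1 (by rw [h1, map_zero])
    obtain ⟨m, hm⟩ := IsLocalization.Away.exists_of_eq (S := Γ(Y, Y.basicOpen h)) h (a := r) (b := 0)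
      (by rw [map_zero]; exact h2)
    exact ⟨m, by rw [hm, mul_zero]⟩

/-- Let `f : X ⟶ Y` be an open immersion over the open `U`, `W` affine open in `Y`, `V ≤ f ⁻¹ᵁ W` affine open in `X`
and `x ∈ V` over `U`. Then there is a basic open `D(h)` of `W` inside `U` and containing `f x` over which
`V → W` is an isomorphism. -/
theorem exists_loc {X Y : Scheme.{u}} (f : X ⟶ Y) (U : Y.Opens) [IsOpenImmersion (f ∣_ U)] (W : Y.Opens)
    (hW : IsAffineOpen W) (V : X.Opens) (hV : IsAffineOpen V) (hVW : V ≤ f ⁻¹ᵁ W) (x : X) (hxV : x ∈ V)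
    (hxU : f x ∈ U) :
    letI := (f.appLE W V hVW).hom.toAlgebra
    ∃ h : Γ(Y, W), Y.basicOpen h ≤ U ∧ f x ∈ Y.basicOpen h ∧ Loc Γ(Y, W) Γ(X, V) h := by
  let _ := (f.appLE W V hVW).hom.toAlgebra
  let V' : X.Opens := V ⊓ f ⁻¹ᵁ U
  have hV' : V' ≤ f ⁻¹ᵁ U := inf_le_right
  have hg : IsOpenImmersion (V'.ι ≫ f) := by
    have h1 : V'.ι ≫ f = X.homOfLE hV' ≫ (f ∣_ U) ≫ U.ι := by
      rw [morphismRestrict_ι, ← Category.assoc, Scheme.homOfLE_ι]
    rw [h1]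
    infer_instance
  have hxr : f x ∈ (V'.ι ≫ f).opensRange := ⟨⟨x, hxV, hxU⟩, rfl⟩
  obtain ⟨h, hh, hxh⟩ := hW.exists_basicOpen_le (V := (V'.ι ≫ f).opensRange ⊓ W) ⟨f x, ⟨hxr, hVW hxV⟩⟩ (hVW hxV)
  have hD : Y.basicOpen h ≤ (V'.ι ≫ f).opensRange := hh.trans inf_le_left
  have hrU : (V'.ι ≫ f).opensRange ≤ U := by
    rintro _ ⟨⟨y, hy⟩, rfl⟩
    exact hV' hy
  refine ⟨h, hD.trans hrU, hxh, ?_⟩
  have hbo : X.basicOpen ((f.appLE W V hVW).hom h) = V ⊓ f ⁻¹ᵁ (Y.basicOpen h) := Scheme.basicOpen_appLE f V W hVW h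
  have e : X.basicOpen ((f.appLE W V hVW).hom h) ≤ f ⁻¹ᵁ (Y.basicOpen h) := hbo.le.trans inf_le_right
  refine loc_of_isIso f W hW V hV hVW h e ?_
  have h1 : IsIso ((V'.ι ≫ f).app (Y.basicOpen h)) := Scheme.Hom.isIso_app _ _ hD
  have hle : X.basicOpen ((f.appLE W V hVW).hom h) ≤ V' := by
    rw [hbo]
    exact fun y hy ↦ ⟨hy.1, (hD.trans hrU) hy.2⟩
  have h2 : IsIso (V'.ι.app (X.basicOpen ((f.appLE W V hVW).hom h))) :=
    Scheme.Hom.isIso_app _ _ (by rwa [Scheme.Opens.opensRange_ι])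
  have hpre : (V'.ι ≫ f) ⁻¹ᵁ (Y.basicOpen h) = V'.ι ⁻¹ᵁ (X.basicOpen ((f.appLE W V hVW).hom h)) := by
    rw [hbo]
    ext ⟨y, hy⟩
    exact ⟨fun h3 ↦ ⟨hy.1, h3⟩, fun h3 ↦ h3.2⟩
  have h3 : f.appLE (Y.basicOpen h) (X.basicOpen ((f.appLE W V hVW).hom h)) e ≫
      V'.ι.app (X.basicOpen ((f.appLE W V hVW).hom h)) =
      (V'.ι ≫ f).app (Y.basicOpen h) ≫ (V' : Scheme).presheaf.map (eqToHom hpre.symm).op := by
    rw [Scheme.Hom.app_eq_appLE, Scheme.Hom.appLE_comp_appLE, Scheme.Hom.app_eq_appLE, Scheme.Hom.appLE_map]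
  have h4 : f.appLE (Y.basicOpen h) (X.basicOpen ((f.appLE W V hVW).hom h)) e =
      ((V'.ι ≫ f).app (Y.basicOpen h) ≫ (V' : Scheme).presheaf.map (eqToHom hpre.symm).op) ≫
        inv (V'.ι.app (X.basicOpen ((f.appLE W V hVW).hom h))) := by
    rw [← h3, Category.assoc, IsIso.hom_inv_id, Category.comp_id]
  rw [h4]
  infer_instance

end Groth.Agent.Flat2C.DomOpenLoc
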