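import Mathlib.AlgebraicGeometry.Morphisms.OpenImmersion
import Mathlib.RingTheory.TensorProduct.Basic
import Mathlib.RingTheory.FiniteType
import Mathlib.RingTheory.Localization.Away.Basic

/-!
# Domination by blowing up: the ring-level statement

If `Spec B → Spec A` is of finite type and an open immersion over the complement of `V(I₀)`, there is a finitely
generated ideal `J` with the same radical as `I₀` such that over every `A`-algebra `R` in which `J` becomes
principal, generated by a nonzerodivisor `d`, the quotient of `R ⊗ B` by its `d`-power torsion defines an open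
subscheme of `Spec R`.
-/

set_option autoImplicit false
universe u

open TensorProduct AlgebraicGeometry CategoryTheory

namespace Groth.Agent.Flat2C.DomOpenRing

/-- `R_t → C_t` is bijective, in elementary terms. -/
def Loc (R : Type*) (C : Type*) [CommRing R] [CommRing C] [Algebra R C] (t : R) : Prop :=
  (∀ x : C, ∃ (n : ℕ) (r : R), algebraMap R C t ^ n * x = algebraMap R C r) ∧
    ∀ r : R, algebraMap R C r = 0 → ∃ n : ℕ, t ^ n * r = 0

section
variable {R C : Type u} [CommRing R] [CommRing C] [Algebra R C]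

theorem Loc.isLocalization {t : R} (h : Loc R C t) (Ct : Type*) [CommRing Ct] [Algebra C Ct] [Algebra R Ct]
    [IsScalarTower R C Ct] [IsLocalization.Away (algebraMap R C t) Ct] : IsLocalization.Away t Ct := by
  have hu : IsUnit (algebraMap C Ct (algebraMap R C t)) := IsLocalization.Away.algebraMap_isUnit _
  refine IsLocalization.Away.mk t ?_ ?_ ?_
  · rwa [IsScalarTower.algebraMap_apply R C Ct]
  · intro s
    obtain ⟨n, c, hc⟩ := IsLocalization.Away.surj (algebraMap R C t) s
    obtain ⟨m, r, hr⟩ := h.1 c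
    refine ⟨n + m, r, ?_⟩
    rw [IsScalarTower.algebraMap_apply R C Ct, IsScalarTower.algebraMap_apply R C Ct, ← hr, map_mul, ← hc, map_pow]
    ring
  · intro a b hab
    rw [IsScalarTower.algebraMap_apply R C Ct, IsScalarTower.algebraMap_apply R C Ct] at hab
    obtain ⟨n, hn⟩ := IsLocalization.Away.exists_of_eq (algebraMap R C t) hab
    have h1 : algebraMap R C (t ^ n * (a - b)) = 0 := by
      rw [map_mul, map_sub, mul_sub, map_pow, hn, sub_self]
    obtain ⟨m, hm⟩ := h.2 _ h1
    refine ⟨m + n, ?_⟩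
    rw [← sub_eq_zero]
    calc _ = t ^ m * (t ^ n * (a - b)) := by ring
      _ = 0 := hm

/-- A ring map that is a localization `R_t = C_t` around every prime of `C`, with `t` from `R`, defines an open
immersion. -/
theorem isOpenImmersion_of_local
    (h : ∀ q : PrimeSpectrum C, ∃ t : R, algebraMap R C t ∉ q.asIdeal ∧ Loc R C t) :
    IsOpenImmersion (Spec.map (CommRingCat.ofHom (algebraMap R C))) := by
  refine IsOpenImmersion.of_forall_source_exists _ ?_ ?_
  · have key : ∀ q₁ q₂ : PrimeSpectrum C,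
        q₁.asIdeal.comap (algebraMap R C) = q₂.asIdeal.comap (algebraMap R C) → q₁.asIdeal ≤ q₂.asIdeal := by
      intro q₁ q₂ hcm x hx
      obtain ⟨t, ht, hs, -⟩ := h q₂
      obtain ⟨n, r, hr⟩ := hs x
      have h1 : r ∈ q₁.asIdeal.comap (algebraMap R C) := by
        rw [Ideal.mem_comap, ← hr]
        exact q₁.asIdeal.mul_mem_left _ hx
      rw [hcm, Ideal.mem_comap, ← hr] at h1
      refine (q₂.isPrime.mem_or_mem h1).resolve_left fun h2 ↦ ht (q₂.isPrime.mem_of_pow_mem _ h2)
    intro q₁ q₂ h12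
    have hcm : q₁.asIdeal.comap (algebraMap R C) = q₂.asIdeal.comap (algebraMap R C) :=
      congrArg PrimeSpectrum.asIdeal h12
    exact PrimeSpectrum.ext (le_antisymm (key q₁ q₂ hcm) (key q₂ q₁ hcm.symm))
  · intro q
    obtain ⟨t, ht, hb⟩ := h q
    refine ⟨Spec (CommRingCat.of (Localization.Away (algebraMap R C t))),
      Spec.map (CommRingCat.ofHom (algebraMap C (Localization.Away (algebraMap R C t)))), inferInstance, ?_, ?_⟩
    · have h1 : (Spec.map (CommRingCat.ofHom (algebraMap C (Localization.Away (algebraMap R C t))))).opensRange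
          = PrimeSpectrum.basicOpen (algebraMap R C t) :=
        Scheme.Hom.opensRange_localizationAway (R := .of C) (algebraMap R C t)
      rw [h1]
      exact ht
    · have := hb.isLocalization (Localization.Away (algebraMap R C t))
      have h2 : Spec.map (CommRingCat.ofHom (algebraMap C (Localization.Away (algebraMap R C t)))) ≫
          Spec.map (CommRingCat.ofHom (algebraMap R C)) =
          Spec.map (CommRingCat.ofHom (algebraMap R (Localization.Away (algebraMap R C t)))) := by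
        rw [← Spec.map_comp, ← CommRingCat.ofHom_comp, ← IsScalarTower.algebraMap_eq]
      rw [h2]
      exact IsOpenImmersion.of_isLocalization t

end

/-- If `span S * J = (f)` with `f` a nonzerodivisor, then near every prime some element of `S` generates. -/
theorem gen {R : Type*} [CommRing R] {S : Set R} {J : Ideal R} {f : R} (hf : f ∈ nonZeroDivisors R)
    (h : Ideal.span S * J = Ideal.span {f}) (p : Ideal R) [hp : p.IsPrime] :
    ∃ g ∈ S, ∃ c, c ∉ p ∧ (∀ x ∈ Ideal.span S, ∃ r, c * x = g * r) ∧ ∃ b, g * b = f * c := by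
  obtain ⟨g, hg, b, hb, c, hc, hgb⟩ : ∃ g ∈ S, ∃ b ∈ J, ∃ c, c ∉ p ∧ g * b = f * c := by
    by_contra hcon
    push Not at hcon
    apply hp.ne_top
    rw [Ideal.eq_top_iff_one]
    have h1 : Ideal.span S * J ≤ Ideal.span {f} * p := by
      rw [Ideal.mul_le]
      intro a ha b hb
      induction ha using Submodule.span_induction with
      | mem x hx =>
        have : x * b ∈ Ideal.span {f} := h ▸ Ideal.mul_mem_mul (Ideal.subset_span hx) hb
        obtain ⟨c, hc⟩ := Ideal.mem_span_singleton'.mp this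
        rw [Ideal.mem_span_singleton_mul]
        refine ⟨c, ?_, by rw [mul_comm]; exact hc⟩
        by_contra hcp
        exact hcon x hx b hb c hcp (by rw [mul_comm f]; exact hc.symm)
      | zero => simp
      | add x y _ _ hx hy => rw [add_mul]; exact Ideal.add_mem _ hx hy
      | smul a x _ hx => rw [smul_eq_mul, mul_assoc]; exact Ideal.mul_mem_left _ _ hx
    have h2 : f ∈ Ideal.span {f} * p := h1 (h ▸ Ideal.mem_span_singleton_self f)
    rw [Ideal.mem_span_singleton_mul] at h2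
    obtain ⟨c, hc, hfc⟩ := h2
    have : f * (c - 1) = 0 := by rw [mul_sub, hfc]; simp
    have h3 : c - 1 = 0 := (mul_left_mem_nonZeroDivisors_eq_zero_iff hf).mp this
    rw [← sub_eq_zero.mp h3]
    exact hc
  refine ⟨g, hg, c ^ 2, fun h2 ↦ hc (hp.mem_of_pow_mem _ h2), ?_, b * c, by rw [← mul_assoc, hgb]; ring⟩
  intro x hx
  have h1 : x * b ∈ Ideal.span {f} := h ▸ Ideal.mul_mem_mul hx hb
  obtain ⟨r, hr⟩ := Ideal.mem_span_singleton'.mp h1
  refine ⟨c * r, ?_⟩
  have h2 : f * (c * (x * c - g * r)) = 0 := by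
    calc f * (c * (x * c - g * r)) = (f * c) * x * c - (f * c) * (g * r) := by ring
      _ = g * c * (x * b) - (f * c) * (g * r) := by rw [← hgb]; ring
      _ = 0 := by rw [← hr]; ring
  have h3 : c * (x * c - g * r) = 0 := (mul_left_mem_nonZeroDivisors_eq_zero_iff hf).mp h2
  calc c ^ 2 * x = g * (c * r) + c * (x * c - g * r) := by ring
    _ = g * (c * r) := by rw [h3, add_zero]

section Main

variable {A B : Type u} [CommRing A] [CommRing B] [Algebra A B]

/-- If `A_h → B_h` is bijective and `s ⊗ 1 = 0` in `R ⊗ B` then `s` is killed by a power of `h`. -/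
theorem pow_mul_eq_zero_of_tmul {h : A} (hl : Loc A B h) {R : Type u} [CommRing R] [Algebra A R] {s : R}
    (hs : (s ⊗ₜ[A] (1 : B)) = 0) : ∃ n : ℕ, (algebraMap A R h) ^ n * s = 0 := by
  have : IsLocalization.Away h (Localization.Away (algebraMap A B h)) := hl.isLocalization _
  let Rh := Localization.Away (algebraMap A R h)
  have hu : IsUnit (((algebraMap R Rh).comp (algebraMap A R)) h) :=
    IsLocalization.Away.algebraMap_isUnit (S := Rh) (algebraMap A R h)
  let ψ : Localization.Away (algebraMap A B h) →+* Rh := IsLocalization.Away.lift h hu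
  let ψ' : B →ₐ[A] Rh :=
    { toRingHom := ψ.comp (algebraMap B _)
      commutes' := by
        intro a
        change ψ (algebraMap B _ (algebraMap A B a)) = _
        rw [← IsScalarTower.algebraMap_apply A B]
        rw [IsLocalization.Away.lift_eq]
        rw [IsScalarTower.algebraMap_apply A R Rh]
        rfl }
  let Φ : R ⊗[A] B →ₐ[A] Rh := Algebra.TensorProduct.lift (IsScalarTower.toAlgHom A R Rh) ψ' (fun _ _ ↦ Commute.all _ _)
  have h1 : Φ (s ⊗ₜ[A] (1 : B)) = algebraMap R Rh s := by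
    simp [Φ]
  rw [hs, map_zero] at h1
  obtain ⟨n, hn⟩ := IsLocalization.Away.exists_of_eq (S := Rh) (algebraMap A R h) (a := s) (b := 0) (by rw [← h1, map_zero])
  exact ⟨n, by simpa using hn⟩

/-- Elements `x` of `B` with `h ^ n x ∈ A`: bounded exponents on finite sets. -/
theorem exists_uniform {K : Finset A} (hK : ∀ h ∈ K, Loc A B h) (X : Finset B) :
    ∃ N : ℕ, ∀ h ∈ K, ∀ x ∈ X, ∃ y : A, algebraMap A B h ^ N * x = algebraMap A B y := by
  classical
  have h1 : ∀ p : A × B, p ∈ K ×ˢ X → ∃ n : ℕ, ∃ y : A, algebraMap A B p.1 ^ n * p.2 = algebraMap A B y := by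
    rintro ⟨h, x⟩ hp
    exact (hK h (Finset.mem_product.mp hp).1).1 x
  choose! n hn using h1
  refine ⟨(K ×ˢ X).sup n, fun h hh x hx ↦ ?_⟩
  have hp : (h, x) ∈ K ×ˢ X := Finset.mem_product.mpr ⟨hh, hx⟩
  obtain ⟨y, hy⟩ := hn (h, x) hp
  have hle : n (h, x) ≤ (K ×ˢ X).sup n := Finset.le_sup hp
  refine ⟨h ^ ((K ×ˢ X).sup n - n (h, x)) * y, ?_⟩
  rw [map_mul, ← hy, map_pow, ← mul_assoc, ← pow_add, Nat.sub_add_cancel hle]

theorem exists_cover (I₀ : Ideal A) (hI₀ : I₀.FG)
    (hU : ∀ q : Ideal B, q.IsPrime → ¬ I₀.map (algebraMap A B) ≤ q →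
      ∃ h ∈ I₀.radical, algebraMap A B h ∉ q ∧ Loc A B h) :
    ∃ (F K : Finset A) (N : ℕ), Ideal.span (F : Set A) = I₀ ∧ (∀ h ∈ K, h ∈ I₀.radical ∧ Loc A B h) ∧
      ∀ f ∈ F, algebraMap A B f ^ N ∈ Ideal.span (algebraMap A B '' (K : Set A)) := by
  classical
  obtain ⟨F, hF⟩ := hI₀
  let H : Set A := {h | h ∈ I₀.radical ∧ Loc A B h}
  have h1 : ∀ f ∈ F, algebraMap A B f ∈ (Ideal.span (algebraMap A B '' H)).radical := by
    intro f hf
    rw [Ideal.radical_eq_sInf, Ideal.mem_sInf]
    rintro q ⟨hq, hqp⟩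
    by_contra hfq
    obtain ⟨h, hh1, hh2, hh3⟩ := hU q hqp (fun hle ↦ hfq (hle (Ideal.mem_map_of_mem _
      (hF ▸ Ideal.subset_span hf))))
    exact hh2 (hq (Ideal.subset_span ⟨h, ⟨hh1, hh3⟩, rfl⟩))
  choose! n hn using h1
  have h2 : ∀ f ∈ F, ∃ T : Finset B, (T : Set B) ⊆ algebraMap A B '' H ∧
      algebraMap A B f ^ n f ∈ Ideal.span (T : Set B) :=
    fun f hf ↦ Submodule.mem_span_finite_of_mem_span (hn f hf)
  choose! T hT hT' using h2
  have h3 : ∀ f ∈ F, ∃ K : Finset A, (K : Set A) ⊆ H ∧ (T f : Set B) ⊆ algebraMap A B '' (K : Set A) := by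
    intro f hf
    obtain ⟨K, hK1, hK2⟩ := (Finset.subset_set_image_iff).mp (hT f hf)
    exact ⟨K, hK1, by rw [← hK2]; simp⟩
  choose! K hK hK' using h3
  refine ⟨F, F.biUnion K, F.sup n, hF, ?_, ?_⟩
  · intro h hh
    obtain ⟨f, hf, hhf⟩ := Finset.mem_biUnion.mp hh
    exact hK f hf hhf
  · intro f hf
    have h4 : algebraMap A B f ^ n f ∈ Ideal.span (algebraMap A B '' ((F.biUnion K : Finset A) : Set A)) := by
      refine Ideal.span_mono ?_ (hT' f hf)
      refine (hK' f hf).trans (Set.image_mono ?_)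
      intro x hx
      exact Finset.mem_biUnion.mpr ⟨f, hf, hx⟩
    have hle : n f ≤ F.sup n := Finset.le_sup hf
    rw [← Nat.sub_add_cancel hle, pow_add]
    exact Ideal.mul_mem_left _ _ h4

/-- `R_h → C_h` is bijective if `A_h → B_h` is, for `C` the quotient of `R ⊗ B` by `d`-power torsion. -/
theorem loc_of_loc {h : A} (hl : Loc A B h) {R C : Type u} [CommRing R] [Algebra A R] [CommRing C] [Algebra R C]
    (φ : R ⊗[A] B →ₐ[R] C) (hφ : Function.Surjective φ) {d : R} (hk : ∀ z, φ z = 0 → ∃ n : ℕ, d ^ n • z = 0)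
    (hd : ∃ m : ℕ, ∃ e : R, algebraMap A R h ^ m = d * e) : Loc R C (algebraMap A R h) := by
  refine ⟨fun z ↦ ?_, fun r hr ↦ ?_⟩
  · obtain ⟨w, rfl⟩ := hφ z
    induction w using TensorProduct.induction_on with
    | zero => exact ⟨0, 0, by simp⟩
    | tmul r b =>
      obtain ⟨n, a, ha⟩ := hl.1 b
      refine ⟨n, r * algebraMap A R a, ?_⟩
      have h1 : algebraMap R C (algebraMap A R h) ^ n * φ (r ⊗ₜ[A] b) =
          φ (r ⊗ₜ[A] (algebraMap A B h ^ n * b)) := by
        rw [← map_pow, ← Algebra.smul_def, ← map_smul, ← map_pow, ← map_pow, TensorProduct.smul_tmul',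
          ← Algebra.smul_def (h ^ n) b, ← TensorProduct.smul_tmul, smul_eq_mul, Algebra.smul_def]
      have h2 : r ⊗ₜ[A] algebraMap A B a = (r * algebraMap A R a) • (1 : R ⊗[A] B) := by
        rw [Algebra.TensorProduct.one_def, TensorProduct.smul_tmul', smul_eq_mul, mul_one,
          Algebra.algebraMap_eq_smul_one a, ← TensorProduct.smul_tmul, Algebra.smul_def, mul_comm r]
      rw [h1, ha, h2, map_smul, map_one]
      exact (Algebra.algebraMap_eq_smul_one _).symm
    | add x y hx hy =>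
      obtain ⟨n, r, hr⟩ := hx
      obtain ⟨m, s, hs⟩ := hy
      refine ⟨n + m, algebraMap A R h ^ m * r + algebraMap A R h ^ n * s, ?_⟩
      rw [map_add, map_add, map_mul, map_mul, ← hr, ← hs, map_pow, map_pow]
      ring
  · have h1 : φ (r ⊗ₜ[A] (1 : B)) = 0 := by
      rw [← hr, ← mul_one r, ← smul_eq_mul, ← TensorProduct.smul_tmul', map_smul]
      have : (1 : R) ⊗ₜ[A] (1 : B) = 1 := rfl
      rw [this, map_one, smul_eq_mul, mul_one, Algebra.algebraMap_eq_smul_one]
    obtain ⟨n, hn⟩ := hk _ h1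
    obtain ⟨m, e, he⟩ := hd
    have h2 : ((algebraMap A R h ^ m) ^ n * r) ⊗ₜ[A] (1 : B) = 0 := by
      rw [he, mul_pow, mul_comm (d ^ n), mul_assoc, ← smul_eq_mul (a := e ^ n), ← smul_eq_mul (a := d ^ n),
        ← TensorProduct.smul_tmul', ← TensorProduct.smul_tmul', hn, smul_zero]
    obtain ⟨k, hk⟩ := pow_mul_eq_zero_of_tmul hl h2
    refine ⟨k + m * n, ?_⟩
    rw [pow_add, pow_mul, mul_assoc]
    exact hk

theorem exists_ideal [Algebra.FiniteType A B] (I₀ : Ideal A) (hI₀ : I₀.FG)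
    (hU : ∀ q : Ideal B, q.IsPrime → ¬ I₀.map (algebraMap A B) ≤ q →
      ∃ h ∈ I₀.radical, algebraMap A B h ∉ q ∧ Loc A B h) :
    ∃ J : Ideal A, J.FG ∧ J.radical = I₀.radical ∧
      ∀ (R : Type u) [CommRing R] [Algebra A R] (C : Type u) [CommRing C] [Algebra R C]
        (φ : R ⊗[A] B →ₐ[R] C) (d : R), d ∈ nonZeroDivisors R → J.map (algebraMap A R) = Ideal.span {d} →
        Function.Surjective φ → (∀ z, φ z = 0 ↔ ∃ n : ℕ, d ^ n • z = 0) →
        IsOpenImmersion (Spec.map (CommRingCat.ofHom (algebraMap R C))) := by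
  classical
  obtain ⟨F, K, N, hF, hK, hFK⟩ := exists_cover I₀ hI₀ hU
  obtain ⟨X, hX⟩ := Algebra.FiniteType.out (R := A) (A := B)
  obtain ⟨N₁, hN₁⟩ := exists_uniform (fun h hh ↦ (hK h hh).2) X
  choose! y hy using hN₁
  -- the centre
  let Sc : Set A := (K : Set A) ∪ (fun f ↦ f ^ (N + 1)) '' (F : Set A)
  let Sh : A → Set A := fun h ↦ {h ^ N₁} ∪ (y h '' (X : Set B)) ∪ (fun f ↦ f ^ ((N + 1) * N₁)) '' (F : Set A)
  have hScfin : Sc.Finite := K.finite_toSet.union (F.finite_toSet.image _)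
  have hShfin : ∀ h, (Sh h).Finite := fun h ↦
    ((Set.finite_singleton _).union (X.finite_toSet.image _)).union (F.finite_toSet.image _)
  let J : Ideal A := Ideal.span Sc * ∏ h ∈ K, Ideal.span (Sh h)
  have hFG : ∀ S : Set A, S.Finite → (Ideal.span S).FG := fun S hS ↦ ⟨hS.toFinset, by simp⟩
  have hJFG : J.FG := by
    refine (hFG _ hScfin).mul ?_
    have : ∀ K' : Finset A, (∏ h ∈ K', Ideal.span (Sh h)).FG := by
      intro K'
      induction K' using Finset.induction_on with
      | empty => rw [Finset.prod_empty, Ideal.one_eq_top]; exact Ideal.fg_top _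
      | insert a s ha ih => rw [Finset.prod_insert ha]; exact (hFG _ (hShfin a)).mul ih
    exact this K
  have hFrad : ∀ f ∈ F, f ∈ I₀.radical := fun f hf ↦ Ideal.le_radical (hF ▸ Ideal.subset_span hf)
  have hJle : J ≤ I₀.radical := by
    refine Ideal.mul_le_left.trans (Ideal.span_le.mpr ?_)
    rintro x (hx | ⟨f, hf, rfl⟩)
    · exact (hK x hx).1
    · exact Ideal.pow_mem_of_mem _ (hFrad f hf) _ (Nat.succ_pos _)
  have hleJ : I₀ ≤ J.radical := by
    have h1 : ∀ f ∈ F, f ∈ (Ideal.span Sc).radical := fun f hf ↦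
      ⟨N + 1, Ideal.subset_span (Or.inr ⟨f, hf, rfl⟩)⟩
    have h2 : ∀ f ∈ F, ∀ K' : Finset A, f ∈ (∏ h ∈ K', Ideal.span (Sh h)).radical := by
      intro f hf K'
      induction K' using Finset.induction_on with
      | empty => rw [Finset.prod_empty, Ideal.one_eq_top, Ideal.radical_top]; trivial
      | insert a s ha ih =>
        rw [Finset.prod_insert ha, Ideal.radical_mul]
        exact ⟨⟨(N + 1) * N₁, Ideal.subset_span (Or.inr ⟨f, hf, rfl⟩)⟩, ih⟩
    rw [← hF, Ideal.span_le]
    intro f hf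
    change f ∈ (Ideal.span Sc * ∏ h ∈ K, Ideal.span (Sh h)).radical
    rw [Ideal.radical_mul]
    exact ⟨h1 f hf, h2 f hf K⟩
  have hJrad : J.radical = I₀.radical := by
    apply le_antisymm
    · rw [← Ideal.radical_idem I₀]
      exact Ideal.radical_mono hJle
    · rw [← Ideal.radical_idem J]
      exact Ideal.radical_mono hleJ
  refine ⟨J, hJFG, hJrad, ?_⟩
  intro R _ _ C _ _ φ d hd hJd hφ hker
  let ι : A →+* R := algebraMap A R
  let β : B →+* C := (φ : R ⊗[A] B →+* C).comp (Algebra.TensorProduct.includeRight : B →ₐ[A] R ⊗[A] B).toRingHom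
  have hβι : ∀ a : A, β (algebraMap A B a) = algebraMap R C (ι a) := by
    intro a
    change φ ((1 : R) ⊗ₜ[A] algebraMap A B a) = _
    rw [Algebra.algebraMap_eq_smul_one a, ← TensorProduct.smul_tmul, Algebra.smul_def, mul_one]
    rw [← mul_one (algebraMap A R a), ← smul_eq_mul, ← TensorProduct.smul_tmul', map_smul]
    have : (1 : R) ⊗ₜ[A] (1 : B) = 1 := rfl
    rw [this, map_one, smul_eq_mul, mul_one]
    exact (Algebra.algebraMap_eq_smul_one _).symm
  have hdC : ∀ z : C, algebraMap R C d * z = 0 → z = 0 := by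
    intro z hz
    obtain ⟨w, rfl⟩ := hφ z
    rw [← Algebra.smul_def, ← map_smul, hker] at hz
    obtain ⟨n, hn⟩ := hz
    rw [hker]
    exact ⟨n + 1, by rw [pow_succ, mul_smul]; exact hn⟩
  have hIdvd : ∀ h ∈ K, ∃ m : ℕ, ∃ e : R, ι h ^ m = d * e := by
    intro h hh
    have h1 : h ∈ J.radical := by rw [hJrad]; exact (hK h hh).1
    obtain ⟨m, hm⟩ := h1
    have h2 : ι (h ^ m) ∈ Ideal.span {d} := hJd ▸ Ideal.mem_map_of_mem _ hm
    obtain ⟨e, he⟩ := Ideal.mem_span_singleton.mp h2
    exact ⟨m, e, by rw [← map_pow, he]⟩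
  have hlocK : ∀ h ∈ K, Loc R C (ι h) := fun h hh ↦
    loc_of_loc (hK h hh).2 φ hφ (fun z hz ↦ (hker z).mp hz) (hIdvd h hh)
  have hJR : Ideal.span (ι '' Sc) * ∏ h ∈ K, Ideal.span (ι '' Sh h) = Ideal.span {d} := by
    rw [← hJd]
    change _ = (Ideal.span Sc * ∏ h ∈ K, Ideal.span (Sh h)).map ι
    have h1 : ∀ K' : Finset A, (∏ h ∈ K', Ideal.span (Sh h)).map ι = ∏ h ∈ K', Ideal.span (ι '' Sh h) := by
      intro K'
      induction K' using Finset.induction_on with
      | empty => rw [Finset.prod_empty, Finset.prod_empty, Ideal.one_eq_top, Ideal.one_eq_top, Ideal.map_top]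
      | insert a s ha ih => rw [Finset.prod_insert ha, Finset.prod_insert ha, Ideal.map_mul, ih, Ideal.map_span]
    rw [Ideal.map_mul, Ideal.map_span, h1]
  -- torsion-freeness
  have hreg : ∀ g b c : R, g * b = d * c → ∀ z : C, algebraMap R C g * z = 0 → algebraMap R C c * z = 0 := by
    intro g b c h z hz
    apply hdC
    rw [← mul_assoc, ← map_mul, ← h, map_mul, mul_comm (algebraMap R C g), mul_assoc, hz, mul_zero]
  have hregR : ∀ g b c : R, g * b = d * c → ∀ z : R, g * z = 0 → c * z = 0 := by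
    intro g b c h z hz
    have : d * (c * z) = 0 := by rw [← mul_assoc, ← h, mul_comm g, mul_assoc, hz, mul_zero]
    exact (mul_left_mem_nonZeroDivisors_eq_zero_iff hd).mp this
  apply isOpenImmersion_of_local
  intro q
  let P : Ideal R := q.asIdeal.comap (algebraMap R C)
  have hP : P.IsPrime := inferInstance
  have hPq : ∀ c : R, c ∉ P → algebraMap R C c ∉ q.asIdeal := fun c hc h ↦ hc h
  -- reduction to finding an element of `R`
  by_cases hKq : ∃ h ∈ K, algebraMap R C (ι h) ∉ q.asIdeal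
  · obtain ⟨h, hh, hhq⟩ := hKq
    exact ⟨ι h, hhq, hlocK h hh⟩
  push Not at hKq
  have hFq : ∀ f ∈ F, algebraMap R C (ι f) ∈ q.asIdeal := by
    intro f hf
    apply q.isPrime.mem_of_pow_mem N
    have h1 : β (algebraMap A B f ^ N) ∈ (Ideal.span (algebraMap A B '' (K : Set A))).map β :=
      Ideal.mem_map_of_mem _ (hFK f hf)
    rw [map_pow, hβι] at h1
    refine (?_ : (Ideal.span (algebraMap A B '' (K : Set A))).map β ≤ q.asIdeal) h1
    rw [Ideal.map_span, Ideal.span_le]
    rintro _ ⟨_, ⟨h, hh, rfl⟩, rfl⟩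
    rw [hβι]
    exact hKq h hh
  obtain ⟨g, hg, c, hcP, hc, b, hb⟩ := gen hd hJR P
  obtain ⟨k, hk, rfl⟩ | ⟨f, hf, rfl⟩ : (∃ k ∈ K, g = ι k) ∨ ∃ f ∈ F, g = ι f ^ (N + 1) := by
    obtain ⟨x, hx | ⟨f, hf, rfl⟩, rfl⟩ := hg
    · exact Or.inl ⟨x, hx, rfl⟩
    · exact Or.inr ⟨f, hf, map_pow _ _ _⟩
  swap
  · -- the element `f ^ (N + 1)` generates the centre: impossible
    exfalso
    have h1 : ∀ x ∈ (Ideal.span (algebraMap A B '' (K : Set A))).map β,
        ∃ w, algebraMap R C c * x = algebraMap R C (ι f ^ (N + 1)) * w := by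
      intro x hx
      rw [Ideal.map_span] at hx
      induction hx using Submodule.span_induction with
      | mem x hx =>
        obtain ⟨_, ⟨h, hh, rfl⟩, rfl⟩ := hx
        obtain ⟨r, hr⟩ := hc (ι h) (Ideal.subset_span ⟨h, Or.inl hh, rfl⟩)
        exact ⟨algebraMap R C r, by rw [hβι, ← map_mul, ← map_mul, hr]⟩
      | zero => exact ⟨0, by simp⟩
      | add x y _ _ hx hy =>
        obtain ⟨w, hw⟩ := hx
        obtain ⟨v, hv⟩ := hy
        exact ⟨w + v, by rw [mul_add, mul_add, hw, hv]⟩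
      | smul a x _ hx =>
        obtain ⟨w, hw⟩ := hx
        exact ⟨a * w, by rw [smul_eq_mul, mul_left_comm, hw]; ring⟩
    obtain ⟨w, hw⟩ := h1 _ (Ideal.mem_map_of_mem _ (hFK f hf))
    rw [map_pow, hβι] at hw
    have h2 : algebraMap R C (ι f ^ (N + 1)) * (algebraMap R C c - algebraMap R C (ι f) * w) = 0 := by
      have : algebraMap R C (ι f ^ (N + 1)) * (algebraMap R C c - algebraMap R C (ι f) * w) =
        algebraMap R C (ι f) * (algebraMap R C c * algebraMap R C (ι f) ^ N -
          algebraMap R C (ι f ^ (N + 1)) * w) := by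
        rw [map_pow]; ring
      rw [this, hw, sub_self, mul_zero]
    have h3 := hreg _ _ _ hb _ h2
    rw [mul_sub, sub_eq_zero] at h3
    have h4 : algebraMap R C c * algebraMap R C c ∈ q.asIdeal := by
      rw [h3]
      exact Ideal.mul_mem_left _ _ (Ideal.mul_mem_right _ _ (hFq f hf))
    exact hPq c hcP ((q.isPrime.mem_or_mem h4).elim id id)
  -- an element `k ∈ K` generates the centre
  have hJR2 : Ideal.span (ι '' Sh k) * (Ideal.span (ι '' Sc) * ∏ h ∈ K.erase k, Ideal.span (ι '' Sh h)) =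
      Ideal.span {d} := by
    rw [← hJR, ← Finset.mul_prod_erase K _ hk]
    ring
  obtain ⟨g', hg', c', hcP', hc', b', hb'⟩ := gen hd hJR2 P
  have hpowreg : ∀ (n : ℕ) (z : C), algebraMap R C (ι k) ^ n * z = 0 → algebraMap R C c ^ n * z = 0 := by
    intro n
    induction n with
    | zero => intro z hz; simpa using hz
    | succ n ih =>
      intro z hz
      rw [pow_succ, mul_assoc] at hz
      have h1 := ih _ hz
      have h2 : algebraMap R C (ι k) * (algebraMap R C c ^ n * z) = 0 := by rw [← h1]; ring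
      have h3 := hreg _ _ _ hb _ h2
      rw [pow_succ, ← h3]; ring
  have hpowregR : ∀ (n : ℕ) (z : R), ι k ^ n * z = 0 → c ^ n * z = 0 := by
    intro n
    induction n with
    | zero => intro z hz; simpa using hz
    | succ n ih =>
      intro z hz
      rw [pow_succ, mul_assoc] at hz
      have h1 := ih _ hz
      have h2 : ι k * (c ^ n * z) = 0 := by rw [← h1]; ring
      have h3 := hregR _ _ _ hb _ h2
      rw [pow_succ, ← h3]; ring
  have hkx : ∀ x ∈ X, algebraMap R C (ι k) ^ N₁ * β x = algebraMap R C (ι (y k x)) := by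
    intro x hx
    have := congrArg β (hy k hk x hx)
    rwa [map_mul, map_pow, hβι, hβι] at this
  obtain ⟨c₂, hc₂P, hc₂⟩ : ∃ c₂, c₂ ∉ P ∧ ∀ x ∈ X, ∃ r, c₂ * ι (y k x) = ι k ^ N₁ * r := by
    have hmem : ∀ x ∈ X, ι (y k x) ∈ Ideal.span (ι '' Sh k) := fun x hx ↦
      Ideal.subset_span ⟨_, Or.inl (Or.inr ⟨x, hx, rfl⟩), rfl⟩
    obtain ⟨_, ((rfl | ⟨x₀, hx₀, rfl⟩) | ⟨f, hf, rfl⟩), rfl⟩ := hg'
    · refine ⟨c', hcP', fun x hx ↦ ?_⟩
      obtain ⟨r, hr⟩ := hc' _ (hmem x hx)
      exact ⟨r, by rw [hr, map_pow]⟩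
    · have hkN : ι k ^ N₁ ∈ Ideal.span (ι '' Sh k) :=
        Ideal.subset_span ⟨_, Or.inl (Or.inl rfl), map_pow _ _ _⟩
      obtain ⟨s, hs⟩ := hc' _ hkN
      have h1 : algebraMap R C (ι k) ^ N₁ * (algebraMap R C c' - β x₀ * algebraMap R C s) = 0 := by
        have h2 := congrArg (algebraMap R C) hs
        rw [map_mul, map_mul, map_pow, ← hkx x₀ hx₀] at h2
        rw [mul_sub, mul_comm _ (algebraMap R C c'), h2]
        ring
      have h2 := hpowreg _ _ h1
      have hs' : s ∉ P := by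
        intro hsP
        have h3 : algebraMap R C c ^ N₁ * algebraMap R C c' ∈ q.asIdeal := by
          rw [mul_sub, sub_eq_zero] at h2
          rw [h2]
          exact Ideal.mul_mem_left _ _ (Ideal.mul_mem_left _ _ hsP)
        rcases q.isPrime.mem_or_mem h3 with h4 | h4
        · exact hPq c hcP (q.isPrime.mem_of_pow_mem _ h4)
        · exact hPq c' hcP' h4
      refine ⟨s * c', fun h ↦ (hP.mem_or_mem h).elim hs' hcP', fun x hx ↦ ?_⟩
      obtain ⟨r, hr⟩ := hc' _ (hmem x hx)
      refine ⟨c' * r, ?_⟩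
      calc s * c' * ι (y k x) = s * (c' * ι (y k x)) := by ring
        _ = (ι (y k x₀) * s) * r := by rw [hr]; ring
        _ = ι k ^ N₁ * (c' * r) := by rw [← hs]; ring
    · obtain ⟨r₀, hr₀⟩ := hc (ι f ^ (N + 1)) (Ideal.subset_span ⟨f ^ (N + 1), Or.inr ⟨f, hf, rfl⟩, map_pow _ _ _⟩)
      refine ⟨c' * c ^ N₁, fun h ↦ (hP.mem_or_mem h).elim hcP' (fun h2 ↦ hcP (hP.mem_of_pow_mem _ h2)), fun x hx ↦ ?_⟩
      obtain ⟨r, hr⟩ := hc' _ (hmem x hx)
      refine ⟨r₀ ^ N₁ * r, ?_⟩
      calc c' * c ^ N₁ * ι (y k x) = c ^ N₁ * (c' * ι (y k x)) := by ring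
        _ = (c * ι f ^ (N + 1)) ^ N₁ * r := by rw [hr, map_pow, mul_pow, ← pow_mul]; ring
        _ = ι k ^ N₁ * (r₀ ^ N₁ * r) := by rw [hr₀, mul_pow]; ring
  refine ⟨c * c₂, fun h ↦ ?_, fun z ↦ ?_, fun r hr ↦ ?_⟩
  · rw [map_mul] at h
    exact (q.isPrime.mem_or_mem h).elim (hPq c hcP) (hPq c₂ hc₂P)
  · -- surjectivity
    have hβx : ∀ x ∈ X, ∃ (n : ℕ) (r : R), algebraMap R C (c * c₂) ^ n * β x = algebraMap R C r := by
      intro x hx
      obtain ⟨r, hr⟩ := hc₂ x hx
      have h1 : algebraMap R C (ι k) ^ N₁ * (algebraMap R C c₂ * β x - algebraMap R C r) = 0 := by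
        have h2 := congrArg (algebraMap R C) hr
        rw [map_mul, map_mul, map_pow, ← hkx x hx] at h2
        rw [mul_sub, ← h2]
        ring
      have h2 := hpowreg _ _ h1
      refine ⟨N₁ + 1, c ^ (N₁ + 1) * c₂ ^ N₁ * r, ?_⟩
      rw [mul_sub, sub_eq_zero] at h2
      calc algebraMap R C (c * c₂) ^ (N₁ + 1) * β x =
          algebraMap R C c * algebraMap R C c₂ ^ N₁ * (algebraMap R C c ^ N₁ * (algebraMap R C c₂ * β x)) := by
            rw [map_mul]; ring
        _ = _ := by rw [h2]; simp only [map_mul, map_pow]; ring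
    let T : Subalgebra R C :=
      { carrier := {z | ∃ (n : ℕ) (r : R), algebraMap R C (c * c₂) ^ n * z = algebraMap R C r}
        mul_mem' := by
          rintro a b ⟨n, r, h1⟩ ⟨m, s, h2⟩
          exact ⟨n + m, r * s, by rw [map_mul _ r s, ← h1, ← h2]; ring⟩
        add_mem' := by
          rintro a b ⟨n, r, h1⟩ ⟨m, s, h2⟩
          refine ⟨n + m, (c * c₂) ^ m * r + (c * c₂) ^ n * s, ?_⟩
          rw [map_add, map_mul _ _ r, map_mul _ _ s, ← h1, ← h2, map_pow, map_pow]; ring
        algebraMap_mem' := fun r ↦ ⟨0, r, by simp⟩ }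
    have hβT : ∀ b : B, β b ∈ T := by
      intro b
      have hbX : b ∈ Algebra.adjoin A (X : Set B) := hX ▸ Algebra.mem_top
      induction hbX using Algebra.adjoin_induction with
      | mem x hx => exact hβx x hx
      | algebraMap r => rw [hβι]; exact T.algebraMap_mem _
      | add x y _ _ hx hy => rw [map_add]; exact T.add_mem hx hy
      | mul x y _ _ hx hy => rw [map_mul]; exact T.mul_mem hx hy
    obtain ⟨w, rfl⟩ := hφ z
    change φ w ∈ T
    induction w using TensorProduct.induction_on with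
    | zero => rw [map_zero]; exact T.zero_mem
    | tmul r b =>
      have : φ (r ⊗ₜ[A] b) = r • β b := by
        change _ = r • φ ((1 : R) ⊗ₜ[A] b)
        rw [← map_smul, TensorProduct.smul_tmul', smul_eq_mul, mul_one]
      rw [this]
      exact T.smul_mem (hβT b) r
    | add x y hx hy => rw [map_add]; exact T.add_mem hx hy
  · obtain ⟨n, hn⟩ := (hlocK k hk).2 r hr
    exact ⟨n, by rw [mul_pow, mul_right_comm, hpowregR n r hn, zero_mul]⟩

end Main

end Groth.Agent.Flat2C.DomOpenRing
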