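import Groth.Agent.Flat2C.DomLift2
import Groth.Agent.Flat2C.StrictTr
import Groth.Agent.Flat2C.BlowExist
import Groth.Agent.Flat2C.BlowProper

/-!
# Extending an open immersion of a compactification to a proper morphism (Stacks 0F3Z), over the base
-/

set_option autoImplicit false

universe u

open CategoryTheory AlgebraicGeometry Limits TopologicalSpace Opposite

namespace Groth.Agent.Flat2C.DomProper2

open Groth.Agent.Flat2C.TorsIdeal Groth.Agent.Flat2C.DomLift Groth.Agent.Flat2C.ClosureIso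

theorem exists_proper_extension {U S Y : Scheme.{u}} [CompactSpace S] [QuasiSeparatedSpace S]
    (g : U ⟶ S) [IsSeparated g] [LocallyOfFiniteType g] [QuasiCompact g]
    (V : U.Opens) (hV : IsCompact (V : Set U)) (j : (V : Scheme.{u}) ⟶ Y) [IsOpenImmersion j] [QuasiCompact j]
    (πY : Y ⟶ S) [IsProper πY] (hj : j ≫ πY = V.ι ≫ g) :
    ∃ 𝓘 : Y.IdealSheafData, BlowUp.IsAdmissibleFor j.opensRange 𝓘 ∧
      ∀ (Y' : Scheme.{u}) (b : Y' ⟶ Y), BlowUp.IsEffCartierIdeal (𝓘.comap b) → IsProper b →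
      ∃ (V' : Y'.Opens) (hle : b ⁻¹ᵁ j.opensRange ≤ V') (h : (V' : Scheme.{u}) ⟶ U),
        IsProper h ∧ h ≫ g = V'.ι ≫ b ≫ πY ∧
        ∃ k : ((b ⁻¹ᵁ j.opensRange : Y'.Opens) : Scheme.{u}) ⟶ V,
          k ≫ j = (b ∣_ j.opensRange) ≫ j.opensRange.ι ∧ Y'.homOfLE hle ≫ h = k ≫ V.ι := by
  have hVc : CompactSpace (V : Scheme.{u}) := isCompact_iff_compactSpace.1 hV
  let p : pullback πY g ⟶ Y := pullback.fst πY g
  let j' : (V : Scheme.{u}) ⟶ pullback πY g := pullback.lift j V.ι hj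
  have hj'p : j' ≫ p = j := pullback.lift_fst _ _ _
  have hopen : IsOpenImmersion (j' ≫ p) := by rw [hj'p]; infer_instance
  have hqc : QuasiCompact j' := by
    have : QuasiCompact (j' ≫ p) := by rw [hj'p]; infer_instance
    exact QuasiCompact.of_comp j' p
  have hiso := isIso_image_restrict j' p
  have hYc : CompactSpace Y := QuasiCompact.compactSpace_of_compactSpace πY
  have hYq : QuasiSeparatedSpace Y := quasiSeparatedSpace_of_quasiSeparated πY
  have hrc : IsCompact (((j' ≫ p).opensRange : Y.Opens) : Set Y) := by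
    rw [Scheme.Hom.coe_opensRange]
    exact isCompact_range (j' ≫ p).continuous
  obtain ⟨𝓘, h1, h2, h3⟩ := Groth.Agent.Flat2C.DomOpen.exists_admissible_openImmersion (j'.imageι ≫ p)
    (j' ≫ p).opensRange hrc
  have hr : (j' ≫ p).opensRange = j.opensRange := by simp_rw [hj'p]
  rw [hr] at h1 h2
  have hc : compl 𝓘 = j.opensRange := by
    ext x
    have : x ∈ compl 𝓘 ↔ x ∉ (𝓘.support : Set Y) := Iff.rfl
    simp only [SetLike.mem_coe]
    rw [this, h2]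
    simp
  refine ⟨𝓘, h1, fun Y' b hb hbp => ?_⟩
  have hpb := IsPullback.of_hasPullback (j'.imageι ≫ p) b
  have hJ := isTorsIdeal_torsIdeal (isFiniteTypeIdeal_comap
    (isFiniteTypeIdeal_comap h1.1 (j'.imageι ≫ p)) (pullback.fst (j'.imageι ≫ p) b))
  set 𝒥 := torsIdeal ((𝓘.comap (j'.imageι ≫ p)).comap (pullback.fst (j'.imageι ≫ p) b)) with h𝒥
  let o := 𝒥.subschemeι ≫ pullback.snd (j'.imageι ≫ p) b
  have ho : IsOpenImmersion o := h3 Y' b hb _ _ _ hpb 𝒥 hJ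
  have hs : ∀ s ∈ compl 𝓘, ∃ x : j'.image, (j'.imageι ≫ p) x = s := by
    intro s hs
    rw [hc, ← hr] at hs
    obtain ⟨x, hx⟩ := ((j'.imageι ≫ p) ∣_ (j' ≫ p).opensRange).surjective ⟨s, hs⟩
    refine ⟨x.1, ?_⟩
    have := congrArg Subtype.val hx
    rwa [morphismRestrict_base_coe] at this
  have hle : b ⁻¹ᵁ j.opensRange ≤ o.opensRange := by
    intro t ht
    exact mem_range_of_mem_compl hpb hJ hs t (by rw [hc]; exact ht)
  let e : (o.opensRange : Scheme.{u}) ≅ 𝒥.subscheme := IsOpenImmersion.isoOfRangeEq o.opensRange.ι o (by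
    rw [Scheme.Opens.range_ι]; rfl)
  have he : e.hom ≫ o = o.opensRange.ι := IsOpenImmersion.isoOfRangeEq_hom_fac _ _ _
  let q : j'.image ⟶ U := j'.imageι ≫ pullback.snd πY g
  have hrk : Set.range ((b ∣_ j.opensRange) ≫ j.opensRange.ι) ⊆ Set.range j := by
    rintro _ ⟨t, rfl⟩
    rw [Scheme.Hom.comp_apply]
    exact ((b ∣_ j.opensRange) t).2
  have h6 : e.hom ≫ 𝒥.subschemeι ≫ pullback.fst (j'.imageι ≫ p) b ≫ (j'.imageι ≫ p) =
      o.opensRange.ι ≫ b := by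
    rw [hpb.w, ← he]; simp only [o, Category.assoc]
  have hgg : (e.hom ≫ 𝒥.subschemeι ≫ pullback.fst (j'.imageι ≫ p) b ≫ q) ≫ g = o.opensRange.ι ≫ b ≫ πY := by
    have h8 := congrArg (· ≫ πY) h6
    simp only [Category.assoc] at h8
    rw [← h8]
    simp only [q, Category.assoc]
    rw [← pullback.condition]
  refine ⟨o.opensRange, hle, e.hom ≫ 𝒥.subschemeι ≫ pullback.fst (j'.imageι ≫ p) b ≫ q, inferInstance, hgg,
    IsOpenImmersion.lift j ((b ∣_ j.opensRange) ≫ j.opensRange.ι) hrk, IsOpenImmersion.lift_fac _ _ _, ?_⟩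
  have hk := IsOpenImmersion.lift_fac j ((b ∣_ j.opensRange) ≫ j.opensRange.ι) hrk
  set k := IsOpenImmersion.lift j ((b ∣_ j.opensRange) ≫ j.opensRange.ι) hrk with hkdef
  have key : Y'.homOfLE hle ≫ e.hom ≫ 𝒥.subschemeι ≫ pullback.fst (j'.imageι ≫ p) b = k ≫ j'.toImage := by
    have h5 : (Y'.homOfLE hle ≫ e.hom ≫ 𝒥.subschemeι ≫ pullback.fst (j'.imageι ≫ p) b) ≫ (j'.imageι ≫ p) =
        (b ∣_ j.opensRange) ≫ j.opensRange.ι := by
      have h6 : e.hom ≫ 𝒥.subschemeι ≫ pullback.fst (j'.imageι ≫ p) b ≫ (j'.imageι ≫ p) =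
          o.opensRange.ι ≫ b := by
        rw [hpb.w, ← he]; simp only [o, Category.assoc]
      have h7 : (Y'.homOfLE hle ≫ e.hom ≫ 𝒥.subschemeι ≫ pullback.fst (j'.imageι ≫ p) b) ≫ (j'.imageι ≫ p) =
          Y'.homOfLE hle ≫ o.opensRange.ι ≫ b := by
        rw [← h6]; simp only [Category.assoc]
      rw [h7, Scheme.homOfLE_ι_assoc, morphismRestrict_ι]
    refine eq_of_mono_restrict (φ := j'.imageι ≫ p) (j' ≫ p).opensRange ?_ ?_
    · rw [h5, Category.assoc, j'.toImage_imageι_assoc, hj'p, hk]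
    · intro t
      rw [← Scheme.Hom.comp_apply, h5, hr, Scheme.Hom.comp_apply]
      exact ((b ∣_ j.opensRange) t).2
  calc _ = (Y'.homOfLE hle ≫ e.hom ≫ 𝒥.subschemeι ≫ pullback.fst (j'.imageι ≫ p) b) ≫ q := by
        simp only [Category.assoc]
    _ = k ≫ j'.toImage ≫ j'.imageι ≫ pullback.snd πY g := by rw [key, Category.assoc]
    _ = k ≫ V.ι := by rw [j'.toImage_imageι_assoc, pullback.lift_snd]

/-- Existence form: the blow-up exists. -/
theorem exists_blowUp_proper_extension {U S Y : Scheme.{u}} [CompactSpace S] [QuasiSeparatedSpace S]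
    (g : U ⟶ S) [IsSeparated g] [LocallyOfFiniteType g] [QuasiCompact g]
    (V : U.Opens) (hV : IsCompact (V : Set U)) (j : (V : Scheme.{u}) ⟶ Y) [IsOpenImmersion j] [QuasiCompact j]
    (πY : Y ⟶ S) [IsProper πY] (hj : j ≫ πY = V.ι ≫ g) :
    ∃ (𝓘 : Y.IdealSheafData) (Y' : Scheme.{u}) (b : Y' ⟶ Y), BlowUp.IsBlowUp b 𝓘 ∧
      BlowUp.IsAdmissibleFor j.opensRange 𝓘 ∧ IsProper b ∧
      ∃ (V' : Y'.Opens) (hle : b ⁻¹ᵁ j.opensRange ≤ V') (h : (V' : Scheme.{u}) ⟶ U),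
        IsProper h ∧ h ≫ g = V'.ι ≫ b ≫ πY ∧
        ∃ k : ((b ⁻¹ᵁ j.opensRange : Y'.Opens) : Scheme.{u}) ⟶ V,
          k ≫ j = (b ∣_ j.opensRange) ≫ j.opensRange.ι ∧ Y'.homOfLE hle ≫ h = k ≫ V.ι := by
  obtain ⟨𝓘, h1, h2⟩ := exists_proper_extension g V hV j πY hj
  obtain ⟨Y', b, hb⟩ := Groth.Agent.Flat2C.BlowExist.exists_isBlowUp 𝓘
  have hp : IsProper b := Groth.Agent.Flat2C.BlowProper.isProper_of_isBlowUp hb h1.1
  exact ⟨𝓘, Y', b, hb, h1, hp, h2 Y' b hb.1 hp⟩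

end Groth.Agent.Flat2C.DomProper2
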