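import Groth.Agent.Flat2C.EtaleFitting
import Groth.Agent.Divis.BlowUpFormal
import Groth.Agent.Divis.IdealFT
import Groth.Agent.Divis.BlowTwist
import Groth.Agent.Divis.CartierBasic
import Mathlib.AlgebraicGeometry.Morphisms.Etale

set_option autoImplicit false
universe u

/-!
# Étale local centres of blow-ups can be made global (Stacks 0813, 0814)
-/

open CategoryTheory AlgebraicGeometry Limits BlowUp

namespace Groth.Agent.Flat2C.EtaleCentre

open Groth.Agent.Divis Groth.Agent.Divis.BlowChart Groth.Agent.Divis.IdealFT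
  Groth.Agent.Divis.IdealComap

section Idl

theorem comap_idl_specMap {A B : Type u} [CommRing A] [CommRing B] (φ : A →+* B) (I : Ideal A) :
    (idl I).comap (Spec.map (CommRingCat.ofHom φ)) = idl (I.map φ) := by
  refine Scheme.IdealSheafData.ext_of_isAffine ?_
  rw [ideal_comap_top]
  simp only [Scheme.IdealSheafData.ofIdealTop_ideal, Ideal.map_map]
  have e2 : ∀ (X : Scheme.{u}), (homOfLE (le_top : (⊤ : X.Opens) ≤ ⊤)).op = 𝟙 _ := fun _ => rfl
  rw [e2, e2, CategoryTheory.Functor.map_id, CategoryTheory.Functor.map_id]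
  have h : (Scheme.Hom.appTop (Spec.map (CommRingCat.ofHom φ))).hom.comp
      (Scheme.ΓSpecIso (CommRingCat.of A)).inv.hom =
      (Scheme.ΓSpecIso (CommRingCat.of B)).inv.hom.comp φ :=
    congrArg CommRingCat.Hom.hom (Scheme.ΓSpecIso_inv_naturality (CommRingCat.ofHom φ)).symm
  exact congrArg (fun ψ => I.map ψ) h

theorem idl_mul {A : Type u} [CommRing A] (I J : Ideal A) : idl (I * J) = idl I * idl J := by
  refine Scheme.IdealSheafData.ext_of_isAffine ?_
  simp only [Scheme.IdealSheafData.ideal_mul, Pi.mul_apply,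
    Scheme.IdealSheafData.ofIdealTop_ideal, Ideal.map_mul]

end Idl

section Support

variable {X : Scheme.{u}}

theorem ideal_eq_top_of_disjoint (I : X.IdealSheafData) (V : X.affineOpens)
    (h : ∀ x ∈ V.1, x ∉ I.support) : I.ideal V = ⊤ := by
  rw [← PrimeSpectrum.zeroLocus_empty_iff_eq_top]
  have h1 := I.coe_support_inter V
  have h2 := V.2.fromSpec_image_zeroLocus (I.ideal V)
  rw [← h1] at h2
  have h3 : ((I.support : Set X) ∩ (V.1 : Set X)) = ∅ := by
    ext x
    simp only [Set.mem_inter_iff, Set.mem_empty_iff_false, iff_false, not_and]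
    exact fun hx hV => h x hV hx
  rw [h3, Set.image_eq_empty] at h2
  exact h2

theorem notMem_support_of_ideal_eq_top (I : X.IdealSheafData) (V : X.affineOpens)
    (h : I.ideal V = ⊤) (x : X) (hx : x ∈ V.1) : x ∉ I.support := by
  rw [CartierBasic.notMem_support_iff_stalkIdeal_eq_top, CartierBasic.stalkIdeal_eq I V hx, h,
    Ideal.map_top]

end Support

section Extend

variable {S : Scheme.{u}}

theorem disjoint_support_iff (U : S.Opens) (K : S.IdealSheafData) :
    Disjoint (K.support : Set S) (U : Set S) ↔ ∀ V : S.affineOpens, V.1 ≤ U → K.ideal V = ⊤ := by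
  constructor
  · intro h V hV
    exact ideal_eq_top_of_disjoint K V fun x hx hx' => Set.disjoint_left.mp h hx' (hV hx)
  · intro h
    rw [Set.disjoint_right]
    intro x hx
    obtain ⟨W, hxW, hW, -⟩ := CartierBasic.exists_affine_le U ⊤ hx trivial
    exact notMem_support_of_ideal_eq_top K W (h W hW) x hxW

variable [CompactSpace S] [QuasiSeparatedSpace S]

/-- A finite type ideal with support the complement of a quasi-compact open. -/
theorem exists_support (U : S.Opens) (hU : IsCompact (U : Set S)) :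
    ∃ D : S.IdealSheafData, IsFiniteTypeIdeal D ∧ (D.support : Set S) = (U : Set S)ᶜ ∧
      ∀ V : S.affineOpens, V.1 ≤ U → D.ideal V = ⊤ := by
  let Z : TopologicalSpace.Closeds S := ⟨(U : Set S)ᶜ, U.2.isClosed_compl⟩
  let L := Scheme.IdealSheafData.vanishingIdeal Z
  have hL : (L.support : Set S) = (U : Set S)ᶜ := by
    have := Scheme.IdealSheafData.coe_support_vanishingIdeal (Z := Z)
    exact this
  have hLV : ∀ V : S.affineOpens, V.1 ≤ U → L.ideal V = ⊤ := by
    rw [← disjoint_support_iff, hL]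
    exact disjoint_compl_left
  obtain ⟨K, hKL, hK, hKV⟩ := exists_ft_eqOn L U hU (fun V hV => by
    rw [hLV V hV]; exact ⟨{1}, by simp⟩)
  have h1 : ∀ V : S.affineOpens, V.1 ≤ U → K.ideal V = ⊤ := fun V hV => by
    rw [hKV V hV, hLV V hV]
  refine ⟨K, hK, ?_, h1⟩
  apply le_antisymm
  · exact Set.subset_compl_iff_disjoint_right.mpr ((disjoint_support_iff U K).mpr h1)
  · rw [← hL]
    exact Scheme.IdealSheafData.support_antitone hKL

/-- Extension of a finitely generated ideal from an affine open to a finite type ideal sheaf, with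
support disjoint from `U`. -/
theorem exists_extend (U : S.Opens) (hU : IsCompact (U : Set S)) (W : S.affineOpens)
    (I : Ideal Γ(S, W.1)) (hI : I.FG)
    (hd : ∀ (V : S.Opens) (_ : IsAffineOpen V) (hVW : V ≤ W.1), V ≤ U →
      I.map (S.presheaf.map (homOfLE hVW).op).hom = ⊤) :
    ∃ K : S.IdealSheafData, IsAdmissibleFor U K ∧ K.ideal W = I := by
  let L := extendFrom W I
  have hLW : L.ideal W = I := extendFrom_ideal_self W I
  have hLU : ∀ V : S.affineOpens, V.1 ≤ U → L.ideal V = ⊤ := by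
    intro V hV
    rw [Ideal.eq_top_iff_one]
    refine mem_extendFrom W I V 1 fun V' hV' hV'V hV'W => ?_
    rw [hd V' hV' hV'W (hV'V.trans hV)]
    trivial
  obtain ⟨K, hKL, hK, hKV⟩ := exists_ft_eqOn L (W.1 ⊔ U) (W.2.isCompact.union hU) (by
    intro V hV
    refine fg_of_cover _ _ fun x hx => ?_
    rcases hV hx with hxW | hxU
    · exact ⟨W, hxW, by rw [hLW]; exact hI⟩
    · obtain ⟨V', hxV', hV', -⟩ := CartierBasic.exists_affine_le U ⊤ hxU trivial
      exact ⟨V', hxV', by rw [hLU V' hV']; exact ⟨{1}, by simp⟩⟩)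
  refine ⟨K, ⟨hK, ?_⟩, by rw [hKV W le_sup_left, hLW]⟩
  rw [disjoint_support_iff]
  intro V hV
  rw [hKV V (hV.trans le_sup_right), hLU V hV]

end Extend

section Main

variable {T S : Scheme.{u}} [CompactSpace S] [QuasiSeparatedSpace S]

/-- Local step: near a point `t` of `T`, étale over `S`, the ideal `𝓘` divides the pull back of an
admissible ideal of `S`. -/
theorem exists_local (U : S.Opens) (hU : IsCompact (U : Set S)) (e : T ⟶ S) [Etale e]
    (𝓘 : T.IdealSheafData) (h𝓘 : IsAdmissibleFor (e ⁻¹ᵁ U) 𝓘) (t : T) :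
    ∃ (K : S.IdealSheafData) (Y : Scheme.{u}) (j : Y ⟶ T) (𝓚 : Y.IdealSheafData),
      IsAdmissibleFor U K ∧ IsOpenImmersion j ∧ t ∈ Set.range j ∧
      K.comap (j ≫ e) = 𝓘.comap j * 𝓚 := by
  obtain ⟨W, V, heW, htV, -, -, hle⟩ := exists_affine_le e t ⊤ trivial ⊤ trivial
  obtain ⟨D, hD, hDs, hDU⟩ := exists_support U hU
  have het : (e.appLE W.1 V.1 hle).hom.Etale :=
    HasRingHomProperty.appLE @Etale e inferInstance W V hle
  let φ := (e.appLE W.1 V.1 hle).hom
  let _ : Algebra Γ(S, W.1) Γ(T, V.1) := φ.toAlgebra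
  have : Algebra.Etale Γ(S, W.1) Γ(T, V.1) := het
  have hDJ : (D.ideal W).map (algebraMap Γ(S, W.1) Γ(T, V.1)) ≤ (𝓘.ideal V).radical := by
    have h1 : D.comap e ≤ 𝓘.radical := by
      rw [← Scheme.IdealSheafData.vanishingIdeal_support,
        ← Scheme.IdealSheafData.le_support_iff_le_vanishingIdeal]
      intro x hx
      rw [Scheme.IdealSheafData.support_comap]
      change e x ∈ (D.support : Set S)
      rw [hDs]
      exact fun hxU => Set.disjoint_left.mp h𝓘.2 hx hxU
    have h2 := h1 V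
    rw [ideal_comap D e W V hle] at h2
    exact h2
  let q : Ideal Γ(T, V.1) := (V.2.primeIdealOf ⟨t, htV⟩).asIdeal
  obtain ⟨I, g, J', hI, hDI, hgq, hJ', hIJ⟩ := EtaleFitting.exists_ideal (D.ideal W) (hD W)
    (𝓘.ideal V) (h𝓘.1 V) hDJ q
  obtain ⟨K, hK, hKW⟩ := exists_extend U hU W I hI (by
    intro V' hV' hV'W hV'U
    have h1 : (D.ideal W).map (S.presheaf.map (homOfLE hV'W).op).hom = ⊤ :=
      (D.map_ideal (U := ⟨V', hV'⟩) (V := W) hV'W).trans (hDU ⟨V', hV'⟩ hV'U)
    have h2 := Ideal.map_mono (f := (S.presheaf.map (homOfLE hV'W).op).hom) hDI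
    rw [h1, top_le_iff] at h2
    have h3 := (Ideal.map_radical_le (S.presheaf.map (homOfLE hV'W).op).hom).trans' h2.ge
    exact Ideal.radical_eq_top.mp (top_le_iff.mp h3))
  let ψ : Γ(T, V.1) →+* Localization.Away g := algebraMap Γ(T, V.1) (Localization.Away g)
  let j₀ : Spec (CommRingCat.of (Localization.Away g)) ⟶ Spec (CommRingCat.of Γ(T, V.1)) :=
    Spec.map (CommRingCat.ofHom ψ)
  refine ⟨K, Spec (CommRingCat.of (Localization.Away g)), j₀ ≫ V.2.fromSpec, idl J', hK, ?_, ?_, ?_⟩
  · have : IsOpenImmersion j₀ := IsOpenImmersion.of_isLocalization g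
    infer_instance
  · have h1 : V.2.primeIdealOf ⟨t, htV⟩ ∈ Set.range (PrimeSpectrum.comap ψ) := by
      rw [PrimeSpectrum.localization_away_comap_range (Localization.Away g) g]
      exact hgq
    obtain ⟨y, hy⟩ := h1
    refine ⟨y, ?_⟩
    rw [Scheme.Hom.comp_apply]
    have h2 : j₀ y = V.2.primeIdealOf ⟨t, htV⟩ := hy
    rw [h2]
    exact V.2.fromSpec_primeIdealOf ⟨t, htV⟩
  · have h1 : (j₀ ≫ V.2.fromSpec) ≫ e = Spec.map (CommRingCat.ofHom (ψ.comp φ)) ≫ W.2.fromSpec := by
      rw [Category.assoc, ← IsAffineOpen.SpecMap_appLE_fromSpec e W.2 V.2 hle]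
      rw [CommRingCat.ofHom_comp, Spec.map_comp, Category.assoc]
      rfl
    rw [h1, Scheme.IdealSheafData.comap_comp, BlowTwist.comap_fromSpec, hKW, comap_idl_specMap,
      Scheme.IdealSheafData.comap_comp, BlowTwist.comap_fromSpec, comap_idl_specMap, ← idl_mul]
    congr 1

theorem isAdmissibleFor_one {X : Scheme.{u}} (U : X.Opens) :
    IsAdmissibleFor U (1 : X.IdealSheafData) := by
  refine ⟨fun V => ⟨{1}, ?_⟩, ?_⟩
  · rw [Scheme.IdealSheafData.one_eq_top, Scheme.IdealSheafData.ideal_top, Finset.coe_singleton]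
    exact Ideal.span_singleton_one
  · rw [Scheme.IdealSheafData.one_eq_top, Scheme.IdealSheafData.support_top]
    exact Set.disjoint_left.mpr fun x hx => hx.elim

theorem isAdmissibleFor_mul {X : Scheme.{u}} {U : X.Opens} {I J : X.IdealSheafData}
    (hI : IsAdmissibleFor U I) (hJ : IsAdmissibleFor U J) : IsAdmissibleFor U (I * J) := by
  refine ⟨BlowTwist.isFiniteTypeIdeal_mul hI.1 hJ.1, ?_⟩
  rw [Scheme.IdealSheafData.support_mul]
  exact Set.disjoint_union_left.mpr ⟨hI.2, hJ.2⟩

/-- Étale local centres are dominated by global ones: for `e : T ⟶ S` étale and quasi-compact and an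
ideal `𝓘` on `T` admissible for `e⁻¹ U` there is an ideal `𝓙` on `S`, admissible for `U`, such that for any
`g : S₁ ⟶ S` making `𝓙` effective Cartier, the base change `T ×_S S₁ ⟶ T` makes `𝓘` effective Cartier. -/
theorem exists_centre (U : S.Opens) (hU : IsCompact (U : Set S)) (e : T ⟶ S) [Etale e]
    [QuasiCompact e] (𝓘 : T.IdealSheafData) (h𝓘 : IsAdmissibleFor (e ⁻¹ᵁ U) 𝓘) :
    ∃ 𝓙 : S.IdealSheafData, IsAdmissibleFor U 𝓙 ∧
      ∀ (S₁ T₁ : Scheme.{u}) (g : S₁ ⟶ S) (p₁ : T₁ ⟶ T) (p₂ : T₁ ⟶ S₁),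
        IsEffCartierIdeal (𝓙.comap g) → IsPullback p₁ p₂ e g → IsEffCartierIdeal (𝓘.comap p₁) := by
  classical
  choose K Y j 𝓚 hK hj ht hmul using exists_local U hU e 𝓘 h𝓘
  have hT : CompactSpace T := QuasiCompact.compactSpace_of_compactSpace e
  obtain ⟨s, hs⟩ := hT.elim_nhds_subcover (fun t => Set.range (j t))
    (fun t => (j t).isOpenEmbedding.isOpen_range.mem_nhds (ht t))
  refine ⟨∏ t ∈ s, K t, ?_, ?_⟩
  · exact Finset.prod_induction K (IsAdmissibleFor U) (fun _ _ => isAdmissibleFor_mul)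
      (isAdmissibleFor_one U) (fun t _ => hK t)
  · intro S₁ T₁ g p₁ p₂ hE hp
    have hflat : Flat p₂ := MorphismProperty.of_isPullback hp inferInstance
    refine EffCartier.isEff_of_forall_comap fun y => ?_
    have hy : p₁ y ∈ ⋃ t ∈ s, Set.range (j t) := by rw [hs]; trivial
    simp only [Set.mem_iUnion] at hy
    obtain ⟨t, hts, z, hz⟩ := hy
    have := hj t
    refine ⟨pullback p₁ (j t), pullback.fst p₁ (j t), inferInstance, ?_, ?_⟩
    · rw [IsOpenImmersion.range_pullbackFst]
      exact ⟨z, hz⟩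
    · have h1 : IsEffCartierIdeal ((K t).comap g) := by
        rw [← Finset.mul_prod_erase s K hts, comap_mul] at hE
        exact BlowUpFormal.isEff_of_mul hE
      have h2 : IsEffCartierIdeal ((K t).comap (pullback.fst p₁ (j t) ≫ p₂ ≫ g)) := by
        rw [← Category.assoc, Scheme.IdealSheafData.comap_comp]
        exact EffCartier.isEff_comap_flat h1 _
      have h3 : pullback.fst p₁ (j t) ≫ p₂ ≫ g = pullback.snd p₁ (j t) ≫ j t ≫ e := by
        rw [← hp.w, ← Category.assoc, pullback.condition, Category.assoc]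
      rw [h3, Scheme.IdealSheafData.comap_comp, hmul, comap_mul] at h2
      have h4 := BlowUpFormal.isEff_of_mul h2
      rwa [← Scheme.IdealSheafData.comap_comp, ← pullback.condition,
        Scheme.IdealSheafData.comap_comp] at h4

end Main

end Groth.Agent.Flat2C.EtaleCentre
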