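import Groth.Agent.S1271

set_option autoImplicit false
universe u

/-!
# Étale locally a finite type ideal divides a finite type ideal from the base

Variant of Stacks Tag 0813 (the proof is that of helper381 for `S1271`).
-/

namespace Groth.Agent.Flat2C.EtaleFitting

open TensorProduct Groth.Agent.S1271

/-- Stacks Tag 0813, without nonzerodivisor: let A → B be an étale ring map, D a finitely generated ideal of A and J a
finitely generated ideal of B with V(J) ⊆ V(DB). Then for every prime q of B there exist a finitely generated ideal I of A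
with V(I) ⊆ V(D), an element g of B outside q, and a finitely generated ideal J' of the localization B_g such that the
extension of I to B_g equals the product of the extension of J with J'. -/
theorem exists_ideal {A B : Type u} [CommRing A] [CommRing B] [Algebra A B] [Algebra.Etale A B]
    (D : Ideal A) (hD : D.FG) (J : Ideal B) (hJ : J.FG)
    (hDJ : D.map (algebraMap A B) ≤ J.radical) (q : Ideal B) [q.IsPrime] :
    ∃ (I : Ideal A) (g : B) (J' : Ideal (Localization.Away g)), I.FG ∧ D ≤ I.radical ∧ g ∉ q ∧ J'.FG ∧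
      I.map (algebraMap A (Localization.Away g)) = J.map (algebraMap B (Localization.Away g)) * J' := by
  classical
  obtain ⟨g, hgq, hst⟩ := Algebra.IsEtaleAt.exists_isStandardEtale (R := A) q
  obtain ⟨P⟩ := hst.nonempty_standardEtalePresentation
  let C := AdjoinRoot P.f
  let e := (AdjoinRoot.powerBasis' P.monic_f).basis
  let ε : C →ₐ[A] (Localization.Away g) := AdjoinRoot.liftAlgHom P.f (Algebra.ofId A _) P.x P.hasMap.1
  have hεroot : ε (AdjoinRoot.root P.f) = P.x := AdjoinRoot.liftAlgHom_root _ (Algebra.ofId A _) P.x P.hasMap.1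
  obtain ⟨e₁, he₁, hε1⟩ := exists_idem P.f P.x P.hasMap.1 P.hasMap.isUnit_derivative_f ε hεroot
  have hεmk : ∀ p, ε (AdjoinRoot.mk P.f p) = Polynomial.aeval P.x p := by
    intro p
    rw [← AdjoinRoot.aeval_eq, ← Polynomial.aeval_algHom_apply, hεroot]
  -- lift generators of `J` to `C`
  set JB := J.map (algebraMap B (Localization.Away g)) with hJB
  have hJBfg : JB.FG := hJ.map _
  obtain ⟨T, hT⟩ := hJBfg
  obtain ⟨v, hv⟩ := P.hasMap.2
  have hlift : ∀ t : Localization.Away g, ∃ c : C, ∃ w : (Localization.Away g)ˣ, ε c = t * w := by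
    intro t
    obtain ⟨p, n, hp⟩ := P.exists_mul_aeval_x_g_pow_eq_aeval_x t
    refine ⟨AdjoinRoot.mk P.f p, v ^ n, ?_⟩
    rw [hεmk, ← hp, Units.val_pow_eq_pow_val, hv]
  choose cl wl hcl using hlift
  obtain ⟨m, hm⟩ := Ideal.exists_pow_le_of_le_radical_of_fg hDJ (hD.map _)
  rw [← Ideal.map_pow] at hm
  obtain ⟨SD, hSD⟩ := hD.pow (n := m)
  let S₀ : Finset C := SD.image (algebraMap A C) ∪ (T.image cl)
  let JC : Ideal C := Ideal.span S₀
  have hJCmap : JC.map ε.toRingHom = JB := by
    rw [Ideal.map_span]
    apply le_antisymm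
    · rw [Ideal.span_le]
      rintro _ ⟨c, hc, rfl⟩
      rw [Finset.mem_coe, Finset.mem_union, Finset.mem_image, Finset.mem_image] at hc
      rcases hc with ⟨a, ha, rfl⟩ | ⟨t, ht, rfl⟩
      · have h1 : ε (algebraMap A C a) = algebraMap B (Localization.Away g) (algebraMap A B a) := by
          rw [ε.commutes, IsScalarTower.algebraMap_apply A B (Localization.Away g)]
        change ε (algebraMap A C a) ∈ JB
        rw [h1]
        refine Ideal.mem_map_of_mem _ (hm (Ideal.mem_map_of_mem _ ?_))
        rw [← hSD]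
        exact Submodule.subset_span ha
      · change ε (cl t) ∈ JB
        rw [hcl, ← hT]
        exact Ideal.mul_mem_right _ _ (Ideal.subset_span ht)
    · rw [← hT, Ideal.span_le]
      intro t ht
      have h1 : t = ε (cl t) * ↑(wl t)⁻¹ := by
        rw [hcl, mul_assoc, Units.mul_inv, mul_one]
      rw [h1]
      exact Ideal.mul_mem_right _ _ (Ideal.subset_span ⟨cl t, by
        rw [Finset.mem_coe, Finset.mem_union, Finset.mem_image, Finset.mem_image]
        exact Or.inr ⟨t, ht, rfl⟩, rfl⟩)
  have hfinC : Module.Finite A C := Module.Finite.of_basis e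
  have hJCfin : Module.Finite A JC := by
    have : Module.Finite C JC := Module.Finite.iff_fg.mpr ⟨S₀, rfl⟩
    exact Module.Finite.trans C JC
  obtain ⟨S, hS⟩ : (JC.restrictScalars A).FG := Module.Finite.iff_fg.mp hJCfin
  have hSmem : ∀ x, x ∈ Submodule.span A (S : Set C) ↔ x ∈ JC := by
    intro x; rw [hS]; rfl
  have hS2 : ∀ c ∈ (S : Set C), ∀ x : C, x * c ∈ Submodule.span A (S : Set C) := by
    intro c hc x
    rw [hSmem]
    exact Ideal.mul_mem_left _ _ ((hSmem c).mp (Submodule.subset_span hc))
  have hS3 : Ideal.span (S : Set C) = JC := by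
    apply le_antisymm
    · rw [Ideal.span_le]; intro c hc; exact (hSmem c).mp (Submodule.subset_span hc)
    · intro x hx
      exact Submodule.span_le_restrictScalars A C (S : Set C) ((hSmem x).mpr hx)
  have hS4 : Ideal.span (ε '' (S : Set C)) = JB := by
    rw [← hJCmap, ← hS3, Ideal.map_span]; rfl
  have hkey := key e ε e₁ he₁ hε1 (S : Set C) hS2
  rw [hS4] at hkey
  refine ⟨_, g, _, ?_, ?_, hgq, ?_, hkey⟩
  · refine ⟨((Set.Finite.pi' (fun _ => S.finite_toSet)).image (fun v => e.det v)).toFinset, ?_⟩
    congr 1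
    ext d
    rw [Set.Finite.coe_toFinset]
    rfl
  · intro a ha
    have ham : algebraMap A C (a ^ m) ∈ JC := by
      have h2 : a ^ m ∈ Ideal.span (SD : Set A) := by
        rw [show Ideal.span (SD : Set A) = D ^ m from hSD]
        exact Ideal.pow_mem_pow ha m
      have h3 := Ideal.mem_map_of_mem (algebraMap A C) h2
      rw [Ideal.map_span] at h3
      refine Ideal.span_mono ?_ h3
      rintro _ ⟨y, hy, rfl⟩
      rw [Finset.mem_coe, Finset.mem_union, Finset.mem_image]
      exact Or.inl ⟨y, hy, rfl⟩
    have h1 := multilinear_mem_of_span (e.det).toMultilinearMap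
      (fun _ => (S : Set C)) (Ideal.span {d | ∃ v, (∀ i, v i ∈ (S : Set C)) ∧ e.det v = d}) (fun v hv => Ideal.subset_span ⟨v, hv, rfl⟩)
      (fun i => (a ^ m) • e i) (fun i => by
        rw [hSmem, Algebra.smul_def]
        exact Ideal.mul_mem_right _ _ ham)
    rw [MultilinearMap.map_smul_univ] at h1
    simp only [AlternatingMap.coe_multilinearMap, Finset.prod_const, e.det_self, smul_eq_mul, mul_one] at h1
    rw [← pow_mul] at h1
    exact ⟨_, h1⟩
  · have hfin : Set.Finite {w : Fin (AdjoinRoot.powerBasis' P.monic_f).dim → (Localization.Away g) ⊗[A] C |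
        ∃ i, w i = e₁ ∧ ∀ j ≠ i, w j ∈ ((fun c => (1 - e₁) * (1 ⊗ₜ c)) '' (S : Set C))} := by
      refine Set.Finite.subset (Set.Finite.pi' (fun _ => Set.Finite.insert e₁
        (S.finite_toSet.image (fun c => (1 - e₁) * (1 ⊗ₜ c))))) ?_
      rintro w ⟨i, hi, hw⟩ j
      by_cases hj : j = i
      · subst hj; exact Or.inl hi
      · exact Or.inr (hw j hj)
    refine ⟨(hfin.image (fun v => (e.baseChange _).det v)).toFinset, ?_⟩
    congr 1
    ext d
    rw [Set.Finite.coe_toFinset]
    rfl

end Groth.Agent.Flat2C.EtaleFitting
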