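import Groth.Agent.Flat2C.StrictMPull
import Groth.Agent.Divis.EffCartier

/-!
# Flattening by strict transforms is étale local (module part of Stacks Tag 0814)

`isFlatOverAt_of_etale_local`: the strict transform `G` of `F` with respect to `b' : S' ⟶ S` (where the pullback
of the centre `𝓙` is effective Cartier) is flat over `S'` at `x'` as soon as there is a flat local model of the
situation on which the strict transform for a centre `𝓘` dividing (the pullback of) the centre `𝓙` is flat.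
-/

set_option autoImplicit false
universe u

open CategoryTheory CategoryTheory.Limits AlgebraicGeometry TopologicalSpace Opposite

namespace Groth.Agent.Flat2C.EtaleFlat

open Groth.Agent.Divis.CartierBasic Groth.Agent.Flat2C.StrictMAlg Groth.Agent.Flat2C.StrictM
open Groth.Agent.Flat2C.StrictMPull Groth.Agent.Fdesc.PullbackStalk Groth.Agent.CycB.StalkExact

/-- If the support of the finite type ideal `E` lies in the support of the finite type `D`, then locally a power
of `D` is contained in `E`. -/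
theorem exists_stalkIdeal_pow_le {X : Scheme.{u}} {D E : X.IdealSheafData} (hD : BlowUp.IsFiniteTypeIdeal D)
    (h : (E.support : Set X) ⊆ D.support) (x : X) :
    ∃ n : ℕ, stalkIdeal D x ^ n ≤ stalkIdeal E x := by
  have h1 : stalkIdeal D x ≤ (stalkIdeal E x).radical := by
    rw [Ideal.radical_eq_sInf]
    refine le_sInf ?_
    rintro q ⟨hq, hqp⟩
    have h2 := (fromSpecStalk_mem_support_iff E x ⟨q, hqp⟩).2 hq
    exact (fromSpecStalk_mem_support_iff D x ⟨q, hqp⟩).1 (h h2)
  exact Ideal.exists_pow_le_of_le_radical_of_fg h1 (stalkIdeal_fg hD x)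

theorem exists_stalkIdeal_comap_pow_le {X Y : Scheme.{u}} (k : Y ⟶ X) {D E : X.IdealSheafData}
    (hD : BlowUp.IsFiniteTypeIdeal D) (h : (E.support : Set X) ⊆ D.support) (y : Y) :
    ∃ n : ℕ, stalkIdeal (D.comap k) y ^ n ≤ stalkIdeal (E.comap k) y := by
  obtain ⟨n, hn⟩ := exists_stalkIdeal_pow_le hD h (k y)
  refine ⟨n, ?_⟩
  rw [Groth.Agent.Divis.CartierStalk.stalkIdeal_comap,
      Groth.Agent.Divis.CartierStalk.stalkIdeal_comap, ← Ideal.map_pow]
  exact Ideal.map_mono hn

/-- Flatness of strict transforms is étale local (module part of Stacks Tag 0814), at a point. -/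
theorem isFlatOverAt_of_etale_local {X S : Scheme.{u}} (f : X ⟶ S) (F : X.Modules)
    (𝓙 : S.IdealSheafData) (h𝓙 : BlowUp.IsFiniteTypeIdeal 𝓙) {S' : Scheme.{u}} (b' : S' ⟶ S)
    (hb' : BlowUp.IsEffCartierIdeal (𝓙.comap b'))
    {X' : Scheme.{u}} {p₁ : X' ⟶ X} {p₂ : X' ⟶ S'} (hpb : IsPullback p₁ p₂ f b')
    {G : X'.Modules} {π : (Scheme.Modules.pullback p₁).obj F ⟶ G}
    (hG : BlowUp.IsStrictTransform p₁ (𝓙.comap f) F G π)
    -- the local model
    {T Y : Scheme.{u}} (e : T ⟶ S) [Flat e] (j : Y ⟶ X) [Flat j] (fi : Y ⟶ T) (hcomm : j ≫ f = fi ≫ e)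
    (𝓘 : T.IdealSheafData) (h𝓘 : BlowUp.IsFiniteTypeIdeal 𝓘)
    (hsupp : (𝓘.support : Set T) ⊆ (𝓙.comap e).support)
    {Tst : Scheme.{u}} (b : Tst ⟶ T) (hb : BlowUp.IsBlowUp b 𝓘)
    (hflat : ∀ (X' : Scheme.{u}) (p₁ : X' ⟶ Y) (p₂ : X' ⟶ Tst), IsPullback p₁ p₂ fi b →
      ∀ (G : X'.Modules) (π : (Scheme.Modules.pullback p₁).obj ((Scheme.Modules.pullback j).obj F) ⟶ G),
        BlowUp.IsStrictTransform p₁ (𝓘.comap fi) ((Scheme.Modules.pullback j).obj F) G π →
          FlatMod.IsFlatOver p₂ G)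
    (hCart : ∀ (T' : Scheme.{u}) (q₁ : T' ⟶ T) (q₂ : T' ⟶ S'), IsPullback q₁ q₂ e b' →
      BlowUp.IsEffCartierIdeal (𝓘.comap q₁))
    (x' : X') (y : Y) (hy : j.base y = p₁.base x') :
    FlatMod.IsFlatOverAt p₂ G x' := by
  -- `T' = T ×_S S'`
  let q₁ : pullback e b' ⟶ T := pullback.fst e b'
  let q₂ : pullback e b' ⟶ S' := pullback.snd e b'
  have hT' : IsPullback q₁ q₂ e b' := IsPullback.of_hasPullback e b'
  have hC := hCart _ q₁ q₂ hT'
  obtain ⟨h, hh, -⟩ := hb.2 _ q₁ hC
  -- `Y' = Y ×_X X'`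
  let a : pullback j p₁ ⟶ Y := pullback.fst j p₁
  let c : pullback j p₁ ⟶ X' := pullback.snd j p₁
  have hY' : IsPullback a c j p₁ := IsPullback.of_hasPullback j p₁
  obtain ⟨y', hya, hyc⟩ := Scheme.Pullback.exists_preimage_pullback (f := j) (g := p₁) y x' hy
  have hflc : Flat c := inferInstance
  have hflq₂ : Flat q₂ := inferInstance
  have hbig : IsPullback a (c ≫ p₂) (j ≫ f) b' := hY'.paste_vert hpb
  have hac : a ≫ j = c ≫ p₁ := hY'.w
  -- `t : Y' ⟶ T'`
  have ht0 : (a ≫ fi) ≫ e = (c ≫ p₂) ≫ b' := by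
    rw [Category.assoc, ← hcomm, ← Category.assoc, hac, Category.assoc, hpb.w, Category.assoc]
  let t : pullback j p₁ ⟶ pullback e b' := hT'.lift (a ≫ fi) (c ≫ p₂) ht0
  have ht1 : t ≫ q₁ = a ≫ fi := hT'.lift_fst _ _ _
  have ht2 : t ≫ q₂ = c ≫ p₂ := hT'.lift_snd _ _ _
  have hat : IsPullback a t fi q₁ := by
    refine IsPullback.of_bot ?_ ht1.symm hT'
    rw [ht2, ← hcomm]
    exact hbig
  -- `X^* = Y ×_T T^*`
  let q : pullback fi b ⟶ Y := pullback.fst fi b
  let s : pullback fi b ⟶ Tst := pullback.snd fi b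
  have hX : IsPullback q s fi b := IsPullback.of_hasPullback fi b
  let w : pullback j p₁ ⟶ pullback fi b := hX.lift a (t ≫ h) (by
    rw [Category.assoc, hh, ht1])
  have hw1 : w ≫ q = a := hX.lift_fst _ _ _
  have hw2 : w ≫ s = t ≫ h := hX.lift_snd _ _ _
  have hwt : IsPullback w t s h := by
    refine IsPullback.of_right ?_ hw2 hX
    rw [hw1, hh]
    exact hat
  -- the strict transform upstairs
  have hIfi := isFiniteTypeIdeal_comap fi h𝓘
  obtain ⟨Gs, πs, hGs⟩ := exists_isStrictTransform q hIfi ((Scheme.Modules.pullback j).obj F)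
  have hGsflat := hflat _ q s hX Gs πs hGs
  rw [isStrictTransform_iff q hIfi] at hGs
  rw [isStrictTransform_iff p₁ (isFiniteTypeIdeal_comap f h𝓙)] at hG
  have hfl1 : FlatMod.IsFlatOverAt t ((Scheme.Modules.pullback w).obj Gs) y' :=
    Groth.Agent.Fdesc.FlatBC.isFlatOverAt_pullback hwt Gs y' (hGsflat _)
  -- the two ideals on `Y'`
  set E' := ((𝓙.comap f).comap p₁).comap c with hE'
  have hE'1 : E' = (((𝓙.comap b').comap q₂)).comap t := by
    rw [hE', ← Scheme.IdealSheafData.comap_comp, ← Scheme.IdealSheafData.comap_comp,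
      ← Scheme.IdealSheafData.comap_comp, ← Scheme.IdealSheafData.comap_comp, ht2, Category.assoc,
      hpb.w, Category.assoc]
  obtain ⟨g, hg, hgspan⟩ := exists_stalkIdeal_eq_span
    (Groth.Agent.Divis.EffCartier.isEff_comap_flat hb' q₂) (t.base y')
  have hfree : PowTors.TorsFree (stalkIdeal E' y')
      (((Scheme.Modules.pullback w).obj Gs).presheaf.stalk y') := by
    let := stalkAlg t y'
    let := FlatMod.moduleStalkOver t ((Scheme.Modules.pullback w).obj Gs) y'
    have := isScalarTower t ((Scheme.Modules.pullback w).obj Gs) y'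
    have hfl1' : Module.Flat ((pullback e b').presheaf.stalk (t.base y'))
      (((Scheme.Modules.pullback w).obj Gs).presheaf.stalk y') := hfl1
    rw [hE'1, Groth.Agent.Divis.CartierStalk.stalkIdeal_comap]
    erw [hgspan]
    rw [Ideal.map_span, Set.image_singleton]
    exact PowTors.torsFree_of_flat (R := (pullback e b').presheaf.stalk (t.base y')) hg
  -- comparison of the ideals
  have hE'2 : E' = (𝓙.comap e).comap (t ≫ q₁) := by
    rw [hE'1, ← Scheme.IdealSheafData.comap_comp, ← Scheme.IdealSheafData.comap_comp,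
      ← Scheme.IdealSheafData.comap_comp]
    congr 1
    rw [Category.assoc, Category.assoc, hT'.w]
  have hE'3 : ∃ n : ℕ, stalkIdeal E' y' ^ n ≤ stalkIdeal (((𝓘.comap fi).comap q).comap w) y' := by
    have h1 : ((𝓘.comap fi).comap q).comap w = 𝓘.comap (t ≫ q₁) := by
      rw [← Scheme.IdealSheafData.comap_comp, ← Scheme.IdealSheafData.comap_comp, hw1, ht1]
    rw [h1, hE'2]
    exact exists_stalkIdeal_comap_pow_le (t ≫ q₁) (isFiniteTypeIdeal_comap e h𝓙) hsupp y'
  obtain ⟨n, hE'3⟩ := hE'3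
  have hQ1 := isTorsQuotAt_pullback_of_torsFree w hGs E' y' n hE'3 hfree
  have hQ2 := isTorsQuot_pullback_flat c (isFiniteTypeIdeal_comap p₁ (isFiniteTypeIdeal_comap f h𝓙)) hG y'
  -- the isomorphism
  let θ : (Scheme.Modules.pullback c).obj ((Scheme.Modules.pullback p₁).obj F) ≅
      (Scheme.Modules.pullback w).obj ((Scheme.Modules.pullback q).obj
        ((Scheme.Modules.pullback j).obj F)) :=
    (Scheme.Modules.pullbackComp c p₁).app F ≪≫
      (Scheme.Modules.pullbackCongr (show c ≫ p₁ = w ≫ (q ≫ j) by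
        rw [← Category.assoc, hw1, hac])).app F ≪≫
      ((Scheme.Modules.pullbackComp w (q ≫ j)).symm.app F) ≪≫
      (Scheme.Modules.pullback w).mapIso ((Scheme.Modules.pullbackComp q j).symm.app F)
  have hQ1' := hQ1.comp_equiv (stalkLinEquiv θ y')
  obtain ⟨ε, -⟩ := PowTors.IsTorsQuot.exists_equiv hQ1' hQ2
  have hfl2 := isFlatOverAt_of_equiv t y' ε hfl1
  have hfl3 := isFlatOverAt_comp t q₂ _ y' hfl2
  rw [ht2] at hfl3
  have hfl4 := isFlatOverAt_of_flat_source c p₂ G y' hfl3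
  rw [← hyc]
  exact hfl4

end Groth.Agent.Flat2C.EtaleFlat
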