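import Groth.Agent.Flat2C.Admissible
import Groth.Agent.Flat2C.BlowExist
import Groth.Agent.Divis.BlowUpFormal

/-!
# Extending blow-ups from quasi-compact opens
-/

set_option autoImplicit false

universe u

open CategoryTheory AlgebraicGeometry Limits TopologicalSpace Opposite

namespace Groth.Agent.Flat2C.ExtendBlow

/-- A blow-up of a quasi-compact open `O` of a qcqs scheme in a finite type ideal extends to a blow-up of the whole
scheme in a finite type ideal, which can be chosen to be admissible for a given quasi-compact open `U` if the given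
centre is admissible for `U ⊓ O`. -/
theorem exists_extend_blowUp_admissible {P : Scheme.{u}} [CompactSpace P] [QuasiSeparatedSpace P]
    (U O : P.Opens) (hU : IsCompact (U : Set P)) (hO : IsCompact (O : Set P))
    {𝓘 : (O : Scheme.{u}).IdealSheafData} (h𝓘 : BlowUp.IsAdmissibleFor (O.ι ⁻¹ᵁ U) 𝓘)
    {X' : Scheme.{u}} (b : X' ⟶ O) (hb : BlowUp.IsBlowUp b 𝓘) :
    ∃ (𝓙 : P.IdealSheafData) (P' : Scheme.{u}) (B : P' ⟶ P), BlowUp.IsAdmissibleFor U 𝓙 ∧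
      𝓙.comap O.ι = 𝓘 ∧ BlowUp.IsBlowUp B 𝓙 ∧
      ∃ e : ((B ⁻¹ᵁ O : P'.Opens) : Scheme.{u}) ≅ X', e.hom ≫ b = B ∣_ O := by
  obtain ⟨𝓙, h1, h2⟩ := Groth.Agent.Flat2C.Admissible.exists_extend U O hU hO 𝓘 h𝓘
  obtain ⟨P', B, hB⟩ := Groth.Agent.Flat2C.BlowExist.exists_isBlowUp 𝓙
  have h3 := Groth.Agent.Divis.BlowUpFormal.isBlowUp_morphismRestrict hB O
  rw [h2] at h3
  exact ⟨𝓙, P', B, h1, h2, hB, Groth.Agent.Divis.BlowUpFormal.exists_iso_of_isBlowUp h3 hb⟩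

theorem exists_extend_blowUp {P : Scheme.{u}} [CompactSpace P] [QuasiSeparatedSpace P]
    (O : P.Opens) (hO : IsCompact (O : Set P)) {𝓘 : (O : Scheme.{u}).IdealSheafData}
    (h𝓘 : BlowUp.IsFiniteTypeIdeal 𝓘) {X' : Scheme.{u}} (b : X' ⟶ O) (hb : BlowUp.IsBlowUp b 𝓘) :
    ∃ (𝓙 : P.IdealSheafData) (P' : Scheme.{u}) (B : P' ⟶ P), BlowUp.IsFiniteTypeIdeal 𝓙 ∧
      𝓙.comap O.ι = 𝓘 ∧ BlowUp.IsBlowUp B 𝓙 ∧
      ∃ e : ((B ⁻¹ᵁ O : P'.Opens) : Scheme.{u}) ≅ X', e.hom ≫ b = B ∣_ O := by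
  obtain ⟨𝓙, P', B, h1, h2, h3, h4⟩ := exists_extend_blowUp_admissible ⊥ O isCompact_empty hO (𝓘 := 𝓘)
    ⟨h𝓘, by
      have : ((O.ι ⁻¹ᵁ (⊥ : P.Opens) : (O : Scheme.{u}).Opens) : Set (O : Scheme.{u})) = ∅ := rfl
      rw [this]
      exact Set.disjoint_empty _⟩ b hb
  exact ⟨𝓙, P', B, h1.1, h2, h3, h4⟩

end Groth.Agent.Flat2C.ExtendBlow
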