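import Mathlib.Algebra.Module.FinitePresentation
import Mathlib.Algebra.Module.LocalizedModule.Basic
import Mathlib.RingTheory.Localization.Module
import Mathlib.RingTheory.Finiteness.ModuleFinitePresentation

/-!
# Finite presentation of the localized module from any model of the localization
-/

set_option autoImplicit false

namespace Groth.Agent.Flat2C.FPLoc

/-- Finite presentation of `T⁻¹ N` over `T⁻¹ B` can be checked on any models. -/
theorem finitePresentation_localizedModule {B B' N N' : Type*} [CommRing B] [CommRing B'] [Algebra B B']
    (T : Submonoid B) [IsLocalization T B'] [AddCommGroup N] [Module B N] [AddCommGroup N'] [Module B N']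
    [Module B' N'] [IsScalarTower B B' N'] (g : N →ₗ[B] N') [IsLocalizedModule T g]
    [Module.FinitePresentation B' N'] :
    Module.FinitePresentation (Localization T) (LocalizedModule T N) := by
  let σ : Localization T ≃ₐ[B] B' := IsLocalization.algEquiv T (Localization T) B'
  let i1 : Algebra (Localization T) B' := σ.toRingEquiv.toRingHom.toAlgebra
  let i2 : Module (Localization T) N' := Module.compHom N' σ.toRingEquiv.toRingHom
  have i3 : IsScalarTower (Localization T) B' N' := IsScalarTower.of_algebraMap_smul fun _ _ => rfl
  have i4 : IsScalarTower B (Localization T) N' := IsScalarTower.of_algebraMap_smul fun r m => by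
    change (σ (algebraMap B (Localization T) r)) • m = r • m
    rw [σ.commutes, algebraMap_smul]
  let E1 : Localization T ≃ₗ[Localization T] B' :=
    { σ.toRingEquiv.toAddEquiv with
      map_smul' := fun r m => by
        change σ (r • m) = r • σ m
        rw [smul_eq_mul, map_mul]
        rfl }
  have i5 : Module.FinitePresentation (Localization T) B' := Module.FinitePresentation.of_equiv E1
  have i6 : Module.FinitePresentation (Localization T) N' := Module.FinitePresentation.trans _ _ B'
  let E2 : LocalizedModule T N ≃ₗ[B] N' := IsLocalizedModule.iso T g
  let E3 : LocalizedModule T N ≃ₗ[Localization T] N' :=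
    LinearEquiv.extendScalarsOfIsLocalization T (Localization T) E2
  exact Module.FinitePresentation.of_equiv E3.symm

end Groth.Agent.Flat2C.FPLoc
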