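import Groth.Agent.Desc.FPSections

/-!
# Finite presentation of sections over affine opens inside an open where the module is finitely presented
-/

set_option autoImplicit false
universe u

open CategoryTheory CategoryTheory.Limits AlgebraicGeometry Opposite TopologicalSpace
open AlgebraicGeometry.Scheme.Modules

namespace Groth.Agent.Flat2C.FPOpen

open Groth.Agent.Fdesc.QCohStalk Groth.Agent.CohqA.FinLocal Groth.Agent.CohqA.FinAffine
open Groth.Agent.CohqA.AffSec Groth.Agent.CohqA.FinSec

variable {X : Scheme.{u}} {M : X.Modules} {U : X.Opens}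

theorem exists_gfp_of_isFP_pullback (O : X.Opens) (M : X.Modules)
    (h : CohB1.IsFP ((Scheme.Modules.pullback O.ι).obj M)) (x : X) (hx : x ∈ O) :
    ∃ W : X.Opens, x ∈ W ∧ GFP (M.restrict W.ι) := by
  obtain ⟨W, hxW, hW⟩ := (isFP_iff _).mp h ⟨x, hx⟩
  refine ⟨O.ι ''ᵁ W, ⟨⟨x, hx⟩, hxW, rfl⟩, ?_⟩
  let i : (M.restrict O.ι).restrict W.ι ≅ ((Scheme.Modules.pullback O.ι).obj M).restrict W.ι :=
    (restrictFunctor W.ι).mapIso ((restrictFunctorIsoPullback O.ι).app M)
  have h1 : GFP ((M.restrict O.ι).restrict W.ι) := hW.of_iso i.symm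
  have h2 : GFP (M.restrict (W.ι ≫ O.ι)) := h1.of_iso ((restrictFunctorComp W.ι O.ι).symm.app M)
  have h3 := h2.restrict (O.ι.isoImage W).inv
  refine h3.of_iso (((restrictFunctorComp (O.ι.isoImage W).inv (W.ι ≫ O.ι)).symm ≪≫
    restrictFunctorCongr (by simp)).app M)

/-- If `M` is quasi-coherent and, locally on the affine open `U`, has a finite presentation, then
`Γ(M, U)` is finitely presented. -/
theorem finitePresentation_sections_of_local (hU : IsAffineOpen U) (hM : Coh.IsQCoh M)
    (h : ∀ x ∈ U, ∃ W : X.Opens, x ∈ W ∧ GFP (M.restrict W.ι)) :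
    Module.FinitePresentation Γ(X, U) Γ(M, U) := by
  let t : Set Γ(X, U) := {f | GFP (M.restrict (X.basicOpen f).ι)}
  have ht : Ideal.span t = ⊤ := by
    rw [← hU.self_le_iSup_basicOpen_iff]
    intro x hx
    obtain ⟨W, hxW, hW⟩ := h x hx
    obtain ⟨g, hgW, hxg⟩ := hU.exists_basicOpen_le ⟨x, hxW⟩ hx
    rw [Opens.mem_iSup]
    exact ⟨⟨g, gfp_of_le hgW hW⟩, hxg⟩
  let m : ∀ g : t, Module Γ(X, U) Γ(M, X.basicOpen g.1) := fun g => resModule M (X.basicOpen_le g.1)
  have : ∀ g : t, IsScalarTower Γ(X, U) Γ(X, X.basicOpen g.1) Γ(M, X.basicOpen g.1) :=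
    fun g => ⟨fun a b c => by
      exact mul_smul (X.presheaf.map (homOfLE (X.basicOpen_le g.1)).op a) b c⟩
  have hloc : ∀ g : t, IsLocalization.Away g.1 Γ(X, X.basicOpen g.1) :=
    fun g => hU.isLocalization_basicOpen g.1
  have hloc' : ∀ g : t, IsLocalizedModule (.powers g.1) (resₗ M (X.basicOpen_le g.1)) :=
    fun g => isLocalizedModule_res M hU hM g.1
  exact Module.FinitePresentation.of_localizationSpan' t ht (fun g => resₗ M (X.basicOpen_le g.1))
    (fun g => (gfp_iff (hU.basicOpen g.1) hM).mp g.2)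

/-- If `M` is quasi-coherent and finitely presented on the open `O` then `Γ(M, U)` is finitely presented for every
affine open `U ≤ O`. -/
theorem finitePresentation_sections_of_le (hM : Coh.IsQCoh M) (O : X.Opens)
    (h : CohB1.IsFP ((Scheme.Modules.pullback O.ι).obj M)) (hU : IsAffineOpen U) (hUO : U ≤ O) :
    Module.FinitePresentation Γ(X, U) Γ(M, U) :=
  finitePresentation_sections_of_local hU hM fun x hx => exists_gfp_of_isFP_pullback O M h x (hUO hx)

end Groth.Agent.Flat2C.FPOpen
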