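import Mathlib.AlgebraicGeometry.Fiber
import Mathlib.AlgebraicGeometry.ResidueField
import Mathlib.AlgebraicGeometry.Morphisms.Flat
import Mathlib.AlgebraicGeometry.Noetherian

set_option autoImplicit false
universe u

/-!
# Sections of the structure sheaf of a fibre over affine opens
-/

namespace Groth.Agent.Flat2C.FibreSections

open AlgebraicGeometry CategoryTheory Limits TopologicalSpace TensorProduct

variable {X Y : Scheme.{u}} (f : X ⟶ Y)

theorem top_le_fromSpecResidueField (y : Y) {W : Y.Opens} (hy : y ∈ W) :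
    (⊤ : (Spec (Y.residueField y)).Opens) ≤ (Y.fromSpecResidueField y) ⁻¹ᵁ W := by
  intro s _
  change (Y.fromSpecResidueField y) s ∈ W
  rw [Scheme.fromSpecResidueField_apply]
  exact hy

/-- The value of functions at a point, as an element of the global sections of `Spec κ(y)`. -/
theorem appLE_fromSpecResidueField (y : Y) {W : Y.Opens} (hy : y ∈ W) :
    (Y.fromSpecResidueField y).appLE W ⊤ (top_le_fromSpecResidueField y hy) ≫ (Scheme.ΓSpecIso _).hom =
      Y.evaluation W y hy := by
  have h1 : (⊤ : (Spec (Y.presheaf.stalk y)).Opens) ≤ (Y.fromSpecStalk y) ⁻¹ᵁ W := by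
    intro s _
    change (Y.fromSpecStalk y) s ∈ W
    have h2 : (Y.fromSpecStalk y) s ⤳ y := by
      have : (Y.fromSpecStalk y) s ∈ Set.range (Y.fromSpecStalk y) := ⟨s, rfl⟩
      rw [Scheme.range_fromSpecStalk] at this
      exact this
    exact h2.mem_open W.2 hy
  have h3 : (Y.fromSpecResidueField y).appLE W ⊤ (top_le_fromSpecResidueField y hy) =
      (Y.fromSpecStalk y).appLE W ⊤ h1 ≫ (Spec.map (Y.residue y)).appLE ⊤ ⊤ le_top := by
    rw [Scheme.Hom.appLE_comp_appLE]
    rfl
  rw [h3, Scheme.Hom.appLE, Scheme.fromSpecStalk_app hy]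
  have h4 : (Spec.map (Y.residue y)).appLE ⊤ ⊤ le_top = (Spec.map (Y.residue y)).appTop := by
    simp [Scheme.Hom.appLE]
  rw [h4]
  simp only [Category.assoc]
  rw [Scheme.ΓSpecIso_naturality]
  have h5 : (Spec (Y.presheaf.stalk y)).presheaf.map (homOfLE (le_top : (Y.fromSpecStalk y) ⁻¹ᵁ W ≤ ⊤)).op ≫
      (Spec (Y.presheaf.stalk y)).presheaf.map (homOfLE h1).op = 𝟙 _ := by
    rw [← Functor.map_comp]
    exact CategoryTheory.Functor.map_id _ _
  rw [reassoc_of% h5, Iso.inv_hom_id_assoc]
  rfl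

/-- The value of a function at a point. -/
noncomputable def evalHom (y : Y) (W : Y.Opens) (hy : y ∈ W) :
    Γ(Y, W) ⟶ Γ(Spec (Y.residueField y), ⊤) :=
  (Y.fromSpecResidueField y).appLE W ⊤ (top_le_fromSpecResidueField y hy)

theorem evalHom_comp (y : Y) {W : Y.Opens} (hy : y ∈ W) :
    evalHom y W hy ≫ (Scheme.ΓSpecIso _).hom = Y.evaluation W y hy :=
  appLE_fromSpecResidueField y hy

theorem evalHom_apply (y : Y) {W : Y.Opens} (hy : y ∈ W) (a : Γ(Y, W)) :
    (Scheme.ΓSpecIso _).hom (evalHom y W hy a) = Y.evaluation W y hy a := by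
  rw [← evalHom_comp y hy]; rfl

theorem evalHom_eq_zero_iff (y : Y) {W : Y.Opens} (hy : y ∈ W) (a : Γ(Y, W)) :
    evalHom y W hy a = 0 ↔ y ∉ Y.basicOpen a := by
  rw [← Y.evaluation_eq_zero_iff_notMem_basicOpen y hy, ← evalHom_apply]
  constructor
  · intro h; rw [h, map_zero]
  · intro h
    have hinj : Function.Injective (Scheme.ΓSpecIso (Y.residueField y)).hom :=
      (ConcreteCategory.bijective_of_isIso (Scheme.ΓSpecIso (Y.residueField y)).hom).1
    exact hinj (h.trans (map_zero _).symm)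

theorem isField_Γ (y : Y) : IsField Γ(Spec (Y.residueField y), ⊤) := by
  have e : Γ(Spec (Y.residueField y), ⊤) ≃+* Y.residueField y :=
    (Scheme.ΓSpecIso (Y.residueField y)).commRingCatIsoToRingEquiv
  exact e.toMulEquiv.isField (Field.toIsField _)

theorem isUnit_evalHom_iff (y : Y) {W : Y.Opens} (hy : y ∈ W) (a : Γ(Y, W)) :
    IsUnit (evalHom y W hy a) ↔ y ∈ Y.basicOpen a := by
  constructor
  · intro h
    by_contra hc
    rw [(evalHom_eq_zero_iff y hy a).mpr hc] at h
    have := (isField_Γ y).nontrivial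
    exact not_isUnit_zero h
  · intro h
    have h0 : evalHom y W hy a ≠ 0 := fun h0 => (evalHom_eq_zero_iff y hy a).mp h0 h
    obtain ⟨b, hb⟩ := (isField_Γ y).mul_inv_cancel h0
    exact IsUnit.of_mul_eq_one b hb

/-- Every element of the residue field is a quotient of values of functions on a given affine neighbourhood. -/
theorem exists_frac (y : Y) {W : Y.Opens} (hW : IsAffineOpen W) (hy : y ∈ W)
    (z : Γ(Spec (Y.residueField y), ⊤)) :
    ∃ n d : Γ(Y, W), y ∈ Y.basicOpen d ∧ z * evalHom y W hy d = evalHom y W hy n := by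
  obtain ⟨w, hw⟩ := Y.residue_surjective y ((Scheme.ΓSpecIso _).hom z)
  have := hW.isLocalization_stalk ⟨y, hy⟩
  let _ : Algebra Γ(Y, W) (Y.presheaf.stalk y) := (Y.presheaf.germ W y hy).hom.toAlgebra
  obtain ⟨⟨n, d⟩, hnd⟩ := IsLocalization.surj (hW.primeIdealOf ⟨y, hy⟩).asIdeal.primeCompl w
  refine ⟨n, d.1, ?_, ?_⟩
  · have h1 : IsUnit (Y.presheaf.germ W y hy d.1) :=
      IsLocalization.map_units (Y.presheaf.stalk y) d
    exact (Y.mem_basicOpen d.1 y hy).mpr h1
  · have hinj : Function.Injective (Scheme.ΓSpecIso (Y.residueField y)).hom :=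
      (ConcreteCategory.bijective_of_isIso (Scheme.ΓSpecIso (Y.residueField y)).hom).1
    apply hinj
    rw [map_mul, evalHom_apply, evalHom_apply, ← hw]
    have h2 : w * Y.presheaf.germ W y hy d.1 = Y.presheaf.germ W y hy n := hnd
    change (Y.residue y) w * (Y.residue y) (Y.presheaf.germ W y hy d.1) = (Y.residue y) (Y.presheaf.germ W y hy n)
    rw [← map_mul, h2]

/-- The sections of the structure sheaf of the fibre over (the trace of) an affine open, as a pushout. -/
theorem isPushout_fiber (y : Y) {W : Y.Opens} (hW : IsAffineOpen W) (hy : y ∈ W) {V : X.Opens}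
    (hV : IsAffineOpen V) (hVW : V ≤ f ⁻¹ᵁ W) :
    IsPushout (f.appLE W V hVW) (evalHom y W hy) ((f.fiberι y).app V)
      ((f.fiberToSpecResidueField y).appLE ⊤ (f.fiberι y ⁻¹ᵁ V) le_top) := by
  have H : IsPullback (f.fiberι y) (f.fiberToSpecResidueField y) f (Y.fromSpecResidueField y) :=
    IsPullback.of_hasPullback _ _
  have h1 := isIso_pushoutSection_of_isAffineOpen H (top_le_fromSpecResidueField y hy) hVW
    (UY := f.fiberι y ⁻¹ᵁ V) (by simp) hW (isAffineOpen_top _) hV
  have h2 := (isIso_pushoutSection_iff H (top_le_fromSpecResidueField y hy) hVW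
    (UY := f.fiberι y ⁻¹ᵁ V) (by simp)).mp h1
  rw [Scheme.Hom.app_eq_appLE]
  exact h2

/-- Comparison of the sections on the fibre with a tensor product. -/
theorem exists_ringEquiv_of_isPushout {A B C R : CommRingCat.{u}} {g : A ⟶ B} {h : A ⟶ C} {i : B ⟶ R}
    {j : C ⟶ R} (H : IsPushout g h i j) :
    letI := g.hom.toAlgebra
    letI := h.hom.toAlgebra
    ∃ e : C ⊗[A] B ≃+* R, (∀ b : B, e (1 ⊗ₜ b) = i b) ∧ (∀ c : C, e (c ⊗ₜ 1) = j c) := by
  let _ := g.hom.toAlgebra
  let _ := h.hom.toAlgebra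
  have H' := CommRingCat.isPushout_tensorProduct A C B
  let E := H'.isoIsPushout _ _ H.flip
  refine ⟨E.commRingCatIsoToRingEquiv, fun b => ?_, fun c => ?_⟩
  · have := H'.inr_isoIsPushout_hom _ _ H.flip
    exact congr($(this) b)
  · have := H'.inl_isoIsPushout_hom _ _ H.flip
    exact congr($(this) c)

/-- The trace on a fibre of an affine open lying over an affine open is affine. -/
theorem isAffineOpen_fiber (y : Y) {W : Y.Opens} (hW : IsAffineOpen W) (hy : y ∈ W) {V : X.Opens}
    (hV : IsAffineOpen V) (hVW : V ≤ f ⁻¹ᵁ W) : IsAffineOpen (f.fiberι y ⁻¹ᵁ V) := by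
  have H : IsPullback (f.fiberι y) (f.fiberToSpecResidueField y) f (Y.fromSpecResidueField y) :=
    IsPullback.of_hasPullback _ _
  have : IsAffine _ := hW
  have : IsAffine _ := hV
  have : IsAffine _ := isAffineOpen_top (Spec (Y.residueField y))
  exact .of_isIso (Scheme.Hom.isPullback_resLE H (top_le_fromSpecResidueField y hy) hVW
    (UY := f.fiberι y ⁻¹ᵁ V) (by simp)).isoPullback.hom

instance isLocallyNoetherian_fiber (y : Y) [LocallyOfFiniteType f] : IsLocallyNoetherian (f.fiber y) := by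
  have : LocallyOfFiniteType (f.fiberToSpecResidueField y) :=
    MorphismProperty.pullback_snd _ _ inferInstance
  exact LocallyOfFiniteType.isLocallyNoetherian (f.fiberToSpecResidueField y)

/-- For an open `U` and an open `V`: the ideal of functions on `V` whose basic open is contained in `U`. -/
def outIdeal (V U : X.Opens) : Ideal Γ(X, V) where
  carrier := {b | X.basicOpen b ≤ U}
  add_mem' := by
    intro a b ha hb
    refine (X.basicOpen_add_le a b).trans (sup_le ha hb)
  zero_mem' := by simp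
  smul_mem' := by
    intro c b hb
    simp only [smul_eq_mul, Set.mem_ofPred_eq, Scheme.basicOpen_mul] at hb ⊢
    exact inf_le_right.trans hb

theorem mem_outIdeal {V U : X.Opens} {b : Γ(X, V)} : b ∈ outIdeal V U ↔ X.basicOpen b ≤ U := Iff.rfl

end Groth.Agent.Flat2C.FibreSections
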