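import Groth.Agent.Flat2C.GenericRegular
import Groth.Agent.Flat2C.FibreSections
import Mathlib.AlgebraicGeometry.Morphisms.SchemeTheoreticallyDominant

set_option autoImplicit false
universe u

/-!
# Scheme-theoretic density of the trace of an open on nearby fibres
-/

namespace Groth.Agent.Flat2C.FibreDensity

open AlgebraicGeometry CategoryTheory Limits TopologicalSpace TensorProduct
open Groth.Agent.Flat2C.GenericRegular Groth.Agent.Flat2C.FibreSections

variable {X Y : Scheme.{u}} (f : X ⟶ Y)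

/-- On the affine open `V`, sections on the fibre over `y` with zero germs on `U` are zero. -/
def LocDense (V U : X.Opens) (y : Y) : Prop :=
  ∀ z : Γ(f.fiber y, f.fiberι y ⁻¹ᵁ V),
    (∀ (p : f.fiber y) (hp : p ∈ f.fiberι y ⁻¹ᵁ V), f.fiberι y p ∈ U →
      (f.fiber y).presheaf.germ _ p hp z = 0) → z = 0

theorem germ_app_opens {Z : Scheme.{u}} (V U : Z.Opens) (z : Γ(Z, V)) :
    U.ι.app V z = 0 ↔ ∀ (p : Z) (hp : p ∈ V), p ∈ U → Z.presheaf.germ V p hp z = 0 := by
  constructor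
  · intro h p hp hpU
    have h1 := U.ι.germ_stalkMap_apply V ⟨p, hpU⟩ hp z
    rw [h, map_zero] at h1
    have hinj : Function.Injective (U.ι.stalkMap ⟨p, hpU⟩) :=
      (ConcreteCategory.bijective_of_isIso (U.ι.stalkMap ⟨p, hpU⟩)).1
    exact hinj (h1.trans (map_zero _).symm)
  · intro h
    apply TopCat.Presheaf.section_ext (Scheme.sheaf (U : Scheme.{u}))
    intro q hq
    have h1 := U.ι.germ_stalkMap_apply V q hq z
    rw [h (U.ι q) hq (by simp), map_zero] at h1
    exact h1.symm.trans (map_zero ((U : Scheme.{u}).presheaf.germ (U.ι ⁻¹ᵁ V) q hq).hom).symm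

theorem locDense_of_dominant [LocallyOfFiniteType f] (V U : X.Opens) (y : Y)
    (h : IsSchemeTheoreticallyDominant (f.fiberι y ⁻¹ᵁ U).ι) : LocDense f V U y := by
  intro z hz
  have hinj := Scheme.Hom.app_injective (f.fiberι y ⁻¹ᵁ U).ι (f.fiberι y ⁻¹ᵁ V)
  apply hinj
  rw [map_zero, germ_app_opens]
  exact hz

theorem dominant_of_locDense [LocallyOfFiniteType f] {ι : Type*} (V : ι → X.Opens) (U : X.Opens) (y : Y)
    (hV : ∀ i, IsAffineOpen (f.fiberι y ⁻¹ᵁ V i)) (hcov : ∀ x : X, f x = y → ∃ i, x ∈ V i)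
    (h : ∀ i, LocDense f (V i) U y) : IsSchemeTheoreticallyDominant (f.fiberι y ⁻¹ᵁ U).ι := by
  constructor
  refine Scheme.IdealSheafData.ext_of_iSup_eq_top (fun i => ⟨_, hV i⟩) ?_ ?_
  · rw [eq_top_iff]
    intro p _
    have hp : f (f.fiberι y p) = y := by
      have : f.fiberι y p ∈ Set.range (f.fiberι y) := ⟨p, rfl⟩
      rw [Scheme.Hom.range_fiberι] at this
      exact this
    obtain ⟨i, hi⟩ := hcov _ hp
    exact TopologicalSpace.Opens.mem_iSup.mpr ⟨i, hi⟩
  · intro i
    simp only [Scheme.Hom.ker_apply, Scheme.IdealSheafData.ideal_bot, Pi.bot_apply]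
    rw [eq_bot_iff]
    intro z hz
    rw [RingHom.mem_ker] at hz
    exact h i z ((germ_app_opens _ _ z).mp hz)

theorem exists_nearby [IrreducibleSpace Y] [LocallyOfFiniteType f] {W : Y.Opens} (hW : IsAffineOpen W)
    (hη : genericPoint Y ∈ W) {V : X.Opens} (hV : IsAffineOpen V) (hVW : V ≤ f ⁻¹ᵁ W) (U : X.Opens)
    (h : LocDense f V U (genericPoint Y)) :
    ∃ a : Γ(Y, W), genericPoint Y ∈ Y.basicOpen a ∧ ∀ y ∈ Y.basicOpen a, LocDense f V U y := by
  let φ := f.appLE W V hVW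
  let _ : Algebra Γ(Y, W) Γ(X, V) := φ.hom.toAlgebra
  have hft : Algebra.FiniteType Γ(Y, W) Γ(X, V) := f.finiteType_appLE hW hV hVW
  let η := genericPoint Y
  let K := Γ(Spec (Y.residueField η), ⊤)
  let _ : Algebra Γ(Y, W) K := (evalHom η W hη).hom.toAlgebra
  have : Nontrivial K := (isField_Γ η).nontrivial
  have : IsDomain K := (isField_Γ η).isDomain
  let p₀ : Ideal Γ(Y, W) := RingHom.ker (algebraMap Γ(Y, W) K)
  have hp₀ : ∀ a : Γ(Y, W), a ∈ p₀ ↔ η ∉ Y.basicOpen a := fun a => evalHom_eq_zero_iff η hη a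
  have : p₀.IsPrime := RingHom.ker_isPrime _
  obtain ⟨g, hgI, a, ha, H⟩ := exists_mem_reg (A := Γ(Y, W)) (B := Γ(X, V)) p₀ K (fun x hx => hx)
    (fun d hd => (isUnit_evalHom_iff η hη d).mpr (by by_contra hc; exact hd ((hp₀ d).mpr hc)))
    (fun z => by
      obtain ⟨n, d, hd, h⟩ := exists_frac η hW hη z
      exact ⟨n, d, fun hc => (hp₀ d).mp hc hd, h⟩) (outIdeal V U) (by
      intro x hx
      obtain ⟨e, he, -⟩ := exists_ringEquiv_of_isPushout (isPushout_fiber f η hW hη hV hVW)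
      apply e.injective
      rw [map_zero]
      apply h
      intro p hp hpU
      obtain ⟨b, hbU, hpb⟩ : ∃ b ∈ outIdeal V U, f.fiberι η p ∈ X.basicOpen b := by
        obtain ⟨b, hb, hpb⟩ := hV.exists_basicOpen_le ⟨f.fiberι η p, hpU⟩ hp
        exact ⟨b, hb, hpb⟩
      have h1 := congrArg e (hx b hbU)
      rw [map_mul, he, map_zero] at h1
      have h2 := congrArg ((f.fiber η).presheaf.germ _ p hp) h1
      rw [map_mul, map_zero] at h2
      have h3 : IsUnit ((f.fiber η).presheaf.germ _ p hp ((f.fiberι η).app V b)) := by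
        rw [← Scheme.mem_basicOpen, ← Scheme.Hom.preimage_basicOpen]
        exact hpb
      exact h3.mul_right_eq_zero.mp h2)
  refine ⟨a, ?_, fun y hy z hz => ?_⟩
  · by_contra hc
    exact ha ((hp₀ a).mpr hc)
  have hyW : y ∈ W := Y.basicOpen_le a hy
  let _ : Algebra Γ(Y, W) Γ(Spec (Y.residueField y), ⊤) := (evalHom y W hyW).hom.toAlgebra
  have hreg := H Γ(Spec (Y.residueField y), ⊤) (fun x hx => by
    refine (evalHom_eq_zero_iff y hyW x).mpr fun hyx => (hp₀ x).mp hx ?_
    exact ((genericPoint_spec Y).mem_open_set_iff (Y.basicOpen x).2).mpr ⟨y, trivial, hyx⟩)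
    ((isUnit_evalHom_iff y hyW a).mpr hy)
  obtain ⟨e, he, -⟩ := exists_ringEquiv_of_isPushout (isPushout_fiber f y hW hyW hV hVW)
  have hreg' : ∀ w : Γ(f.fiber y, f.fiberι y ⁻¹ᵁ V), (f.fiberι y).app V g * w = 0 → w = 0 := by
    intro w hw
    obtain ⟨w, rfl⟩ := e.surjective w
    rw [← he g, ← map_mul, EmbeddingLike.map_eq_zero_iff] at hw
    rw [hreg w hw, map_zero]
  have hres : TopCat.Presheaf.restrictOpen z ((f.fiber y).basicOpen ((f.fiberι y).app V g)) = 0 := by
    apply TopCat.Presheaf.section_ext (f.fiber y).sheaf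
    intro q hq
    have hqV : q ∈ f.fiberι y ⁻¹ᵁ V := (f.fiber y).basicOpen_le _ hq
    have hqU : f.fiberι y q ∈ U := by
      rw [← Scheme.Hom.preimage_basicOpen] at hq
      exact hgI hq
    have h1 := hz q hqV hqU
    refine (TopCat.Presheaf.germ_res_apply (f.fiber y).presheaf _ q hq z).trans (h1.trans ?_)
    exact (map_zero ((f.fiber y).presheaf.germ _ q hq).hom).symm
  obtain ⟨n, hn⟩ := exists_pow_mul_eq_zero_of_res_basicOpen_eq_zero_of_isAffineOpen _
    (isAffineOpen_fiber f y hW hyW hV hVW) z ((f.fiberι y).app V g) hres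
  clear hres
  induction n with
  | zero => simpa using hn
  | succ n ih =>
    apply ih
    apply hreg'
    rw [← mul_assoc, ← pow_succ']
    exact hn

end Groth.Agent.Flat2C.FibreDensity
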