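import Groth.Agent.Flat2A.GeomInt
import Groth.Agent.S0448
import Mathlib.RingTheory.Localization.BaseChange
import Mathlib.LinearAlgebra.TensorProduct.Quotient

/-!
# Fibre rings of flat algebras with geometrically integral fibres

* `isPrime_map` : the extension of a prime is a prime.
* `algebraMap_not_mem_map` : it contracts to the given prime.
* `smul_injective_of_local` : over a local base, elements outside `𝔪 S` are nonzerodivisors if `S` is projective.
* `exists_smul_eq_zero` : an element killed by some `t ∉ p S` is killed by some `s ∉ p`.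
* `exists_pow_smul_eq_zero` : an element vanishing at all `p S`, `f ∉ p`, is killed by a power of `f`.
-/

set_option autoImplicit false
universe u

open TensorProduct

namespace Groth.Agent.Flat2C.FibreInj

variable {R S : Type u} [CommRing R] [CommRing S] [Algebra R S]

theorem one_tmul_eq_zero_of_mem_map (p : Ideal R) [p.IsPrime] (y : S)
    (hy : y ∈ p.map (algebraMap R S)) : (1 : p.ResidueField) ⊗ₜ[R] y = 0 := by
  have h : p.map (algebraMap R S) ≤ RingHom.ker
      (Algebra.TensorProduct.includeRight : S →ₐ[R] p.ResidueField ⊗[R] S).toRingHom := by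
    rw [Ideal.map_le_iff_le_comap]
    intro x hx
    change (1 : p.ResidueField) ⊗ₜ[R] (algebraMap R S x) = 0
    rw [Algebra.algebraMap_eq_smul_one, ← TensorProduct.smul_tmul, ← Algebra.algebraMap_eq_smul_one,
      Ideal.algebraMap_residueField_eq_zero.mpr hx, TensorProduct.zero_tmul]
  exact h hy

theorem mem_map_of_one_tmul_eq_zero [Module.Flat R S] (p : Ideal R) [p.IsPrime] (y : S)
    (hy : (1 : p.ResidueField) ⊗ₜ[R] y = 0) : y ∈ p.map (algebraMap R S) := by
  let g : (R ⧸ p) →ₗ[R] p.ResidueField :=
    (IsScalarTower.toAlgHom R (R ⧸ p) p.ResidueField).toLinearMap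
  have hg : Function.Injective g := Ideal.injective_algebraMap_quotient_residueField p
  have h1 : Function.Injective (g.rTensor S) := Module.Flat.rTensor_preserves_injective_linearMap g hg
  have h2 : (1 : R ⧸ p) ⊗ₜ[R] y = 0 := by
    apply h1
    rw [LinearMap.rTensor_tmul, map_zero]
    have : g 1 = 1 := map_one (algebraMap (R ⧸ p) p.ResidueField)
    rw [this, hy]
  have h3 := congrArg (TensorProduct.quotTensorEquivQuotSMul S p) h2
  rw [map_zero] at h3
  have h4 : TensorProduct.quotTensorEquivQuotSMul S p ((1 : R ⧸ p) ⊗ₜ[R] y) =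
      Submodule.Quotient.mk y := by
    simp
  rw [h4, Submodule.Quotient.mk_eq_zero, Ideal.smul_top_eq_map] at h3
  exact h3

theorem mem_map_iff [Module.Flat R S] (p : Ideal R) [p.IsPrime] (y : S) :
    y ∈ p.map (algebraMap R S) ↔ (1 : p.ResidueField) ⊗ₜ[R] y = 0 :=
  ⟨one_tmul_eq_zero_of_mem_map p y, mem_map_of_one_tmul_eq_zero p y⟩

/-- The extension of a prime to a flat algebra with geometrically integral fibres is prime. -/
theorem isPrime_map [Module.Flat R S] (h : FlatCA.GeomIntegralFibres R S) (p : Ideal R)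
    [p.IsPrime] : (p.map (algebraMap R S)).IsPrime := by
  have hD : IsDomain (p.ResidueField ⊗[R] S) := Flat2A.GeomInt.isDomain_tensor' h p.ResidueField
  have e : p.map (algebraMap R S) = RingHom.ker
      (Algebra.TensorProduct.includeRight : S →ₐ[R] p.ResidueField ⊗[R] S).toRingHom := by
    ext y
    exact mem_map_iff p y
  rw [e]
  exact RingHom.ker_isPrime _

theorem algebraMap_mem_map_iff [Module.Flat R S] (h : FlatCA.GeomIntegralFibres R S) (p : Ideal R)
    [p.IsPrime] (f : R) : algebraMap R S f ∈ p.map (algebraMap R S) ↔ f ∈ p := by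
  refine ⟨fun hf => ?_, fun hf => Ideal.mem_map_of_mem _ hf⟩
  have hD : IsDomain (p.ResidueField ⊗[R] S) := Flat2A.GeomInt.isDomain_tensor' h p.ResidueField
  rw [mem_map_iff, Algebra.algebraMap_eq_smul_one, ← TensorProduct.smul_tmul,
    ← Algebra.algebraMap_eq_smul_one] at hf
  have h1 : algebraMap p.ResidueField (p.ResidueField ⊗[R] S) (algebraMap R p.ResidueField f) = 0 := hf
  rw [map_eq_zero_iff _ (algebraMap p.ResidueField (p.ResidueField ⊗[R] S)).injective] at h1
  exact Ideal.algebraMap_residueField_eq_zero.mp h1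

/-- Over a local ring, an element of a projective algebra which is a nonzerodivisor modulo the maximal ideal is
a nonzerodivisor. -/
theorem mul_injective_of_local [IsLocalRing R] [Module.Projective R S]
    [IsDomain (IsLocalRing.ResidueField R ⊗[R] S)] (t : S)
    (ht : (1 : IsLocalRing.ResidueField R) ⊗ₜ[R] t ≠ 0) :
    Function.Injective (LinearMap.mulLeft R t) := by
  have h1 : Function.Injective (LinearMap.lTensor (IsLocalRing.ResidueField R) (LinearMap.mulLeft R t)) := by
    have h2 : LinearMap.lTensor (IsLocalRing.ResidueField R) (LinearMap.mulLeft R t) =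
        LinearMap.mulLeft R ((1 : IsLocalRing.ResidueField R) ⊗ₜ[R] t) := by
      ext x y
      simp
    rw [h2]
    exact mul_right_injective₀ ht
  have h3 := Groth.Agent.S0448.result (LinearMap.mulLeft R t) h1 R
  have h4 : (TensorProduct.rid R S).toLinearMap ∘ₗ (LinearMap.mulLeft R t).rTensor R =
      LinearMap.mulLeft R t ∘ₗ (TensorProduct.rid R S).toLinearMap := by
    ext x
    simp
  have h5 : Function.Injective (LinearMap.mulLeft R t ∘ₗ (TensorProduct.rid R S).toLinearMap) := by
    rw [← h4]
    exact (TensorProduct.rid R S).injective.comp h3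
  intro x y hxy
  have h6 : (TensorProduct.rid R S).symm x = (TensorProduct.rid R S).symm y := by
    apply h5
    simpa using hxy
  exact (TensorProduct.rid R S).symm.injective h6

/-- An element killed by some `t ∉ p S` is killed by some `s ∉ p`. -/
theorem exists_smul_eq_zero [Module.Projective R S] (h : FlatCA.GeomIntegralFibres R S)
    (p : Ideal R) [p.IsPrime] (t D : S) (ht : t ∉ p.map (algebraMap R S)) (htD : t * D = 0) :
    ∃ s : R, s ∉ p ∧ s • D = 0 := by
  let Rp := Localization.AtPrime p
  let Sp := Rp ⊗[R] S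
  let e : (p.ResidueField ⊗[Rp] Sp) ≃ₐ[p.ResidueField] p.ResidueField ⊗[R] S :=
    Algebra.TensorProduct.cancelBaseChange R Rp p.ResidueField p.ResidueField S
  have hD : IsDomain (p.ResidueField ⊗[R] S) := Flat2A.GeomInt.isDomain_tensor' h p.ResidueField
  have hD' : IsDomain (IsLocalRing.ResidueField Rp ⊗[Rp] Sp) := e.toMulEquiv.isDomain
  have ht' : (1 : IsLocalRing.ResidueField Rp) ⊗ₜ[Rp] ((1 : Rp) ⊗ₜ[R] t) ≠ 0 := by
    intro h0
    apply ht
    rw [mem_map_iff]
    have h1 := congrArg e h0
    rw [map_zero] at h1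
    have h2 : e ((1 : p.ResidueField) ⊗ₜ[Rp] ((1 : Rp) ⊗ₜ[R] t)) = (1 : p.ResidueField) ⊗ₜ[R] t := by
      have h3 := Algebra.TensorProduct.cancelBaseChange_tmul (R := R) (S := Rp)
        (T := p.ResidueField) (A := p.ResidueField) (B := S) 1 1 t
      rw [one_smul] at h3
      exact h3
    rw [← h2]
    exact h1
  have hinj := mul_injective_of_local (R := Rp) (S := Sp) ((1 : Rp) ⊗ₜ[R] t) ht'
  have h0 : (1 : Rp) ⊗ₜ[R] D = 0 := by
    apply hinj
    rw [map_zero, LinearMap.mulLeft_apply, Algebra.TensorProduct.tmul_mul_tmul, htD,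
      TensorProduct.tmul_zero]
  have h1 : (TensorProduct.mk R Rp S 1) D = 0 := h0
  rw [IsLocalizedModule.eq_zero_iff p.primeCompl] at h1
  obtain ⟨s, hs⟩ := h1
  exact ⟨s, s.2, hs⟩

/-- An element which vanishes at all `p S`, `f ∉ p`, is killed by a power of `f`. -/
theorem exists_pow_smul_eq_zero [Module.Projective R S] (h : FlatCA.GeomIntegralFibres R S)
    (f : R) (D : S) (hD : ∀ (p : Ideal R) [p.IsPrime], f ∉ p →
      ∃ t : S, t ∉ p.map (algebraMap R S) ∧ t * D = 0) : ∃ n : ℕ, f ^ n • D = 0 := by
  let J : Ideal R := LinearMap.ker (LinearMap.toSpanSingleton R S D)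
  have hJ : ∀ x : R, x ∈ J ↔ x • D = 0 := fun x => by
    simp [J]
  have hf : f ∈ J.radical := by
    rw [Ideal.radical_eq_sInf, Submodule.mem_sInf]
    rintro p ⟨hJp, hp⟩
    by_contra hfp
    obtain ⟨t, ht, htD⟩ := hD p hfp
    obtain ⟨s, hs, hsD⟩ := exists_smul_eq_zero h p t D ht htD
    exact hs (hJp ((hJ s).mpr hsD))
  obtain ⟨n, hn⟩ := hf
  exact ⟨n, (hJ _).mp hn⟩

end Groth.Agent.Flat2C.FibreInj
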