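import Groth.Prelude.Def_FlatCA
import Mathlib.LinearAlgebra.Matrix.Determinant.Basic
import Mathlib.LinearAlgebra.TensorProduct.Vanishing
import Mathlib.RingTheory.Finiteness.Defs
import Mathlib.Algebra.Module.FinitePresentation

set_option autoImplicit false

/-!
# The zeroth Fitting ideal
-/

namespace Groth.Agent.Flat2C.FittingZero

open TensorProduct

universe u v w

section Basic

variable {R : Type*} {M : Type*} [CommRing R] [AddCommGroup M] [Module R M]

/-- The ideal generated by the determinants of square matrices of relations of a family. -/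
def relDet {ι : Type*} [Fintype ι] [DecidableEq ι] (x : ι → M) : Ideal R :=
  Ideal.span {d | ∃ a : Matrix ι ι R, (∀ i, ∑ j, a i j • x j = 0) ∧ a.det = d}

theorem relDet_le_of_equiv {ι κ : Type*} [Fintype ι] [DecidableEq ι] [Fintype κ] [DecidableEq κ]
    (e : κ ≃ ι) (x : ι → M) : relDet (R := R) x ≤ relDet (R := R) (x ∘ e) := by
  refine Ideal.span_le.mpr ?_
  rintro _ ⟨a, ha, rfl⟩
  refine Ideal.subset_span ⟨a.submatrix e e, fun i => ?_, Matrix.det_submatrix_equiv_self e a⟩
  rw [← ha (e i)]
  exact e.sum_comp (fun j => a (e i) j • x j)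

theorem relDet_equiv {ι κ : Type*} [Fintype ι] [DecidableEq ι] [Fintype κ] [DecidableEq κ]
    (e : κ ≃ ι) (x : ι → M) : relDet (R := R) (x ∘ e) = relDet (R := R) x := by
  refine le_antisymm ?_ (relDet_le_of_equiv e x)
  have := relDet_le_of_equiv (R := R) e.symm (x ∘ e)
  rwa [Function.comp_assoc, Equiv.self_comp_symm, Function.comp_id] at this

theorem relDet_cons {n : ℕ} (x : Fin n → M) (y : M) (hy : y ∈ Submodule.span R (Set.range x)) :
    relDet (R := R) (Fin.cons y x : Fin (n + 1) → M) = relDet (R := R) x := by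
  obtain ⟨c, rfl⟩ := (Submodule.mem_span_range_iff_exists_fun R).mp hy
  refine le_antisymm (Ideal.span_le.mpr ?_) (Ideal.span_le.mpr ?_)
  · rintro _ ⟨b, hb, rfl⟩
    let b' : Matrix (Fin (n + 1)) (Fin (n + 1)) R :=
      fun i => Fin.cons (b i 0) (fun j => b i j.succ + c j * b i 0)
    have h1 : b'.det = b.det := by
      rw [← Matrix.det_transpose b', ← Matrix.det_transpose b]
      refine Matrix.det_eq_of_forall_row_eq_smul_add_const (Fin.cons 0 c) 0 (by simp) ?_
      intro i j
      refine Fin.cases ?_ (fun i => ?_) i <;> simp [b']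
    rw [← h1, Matrix.det_succ_column_zero]
    refine Ideal.sum_mem _ fun i _ => Ideal.mul_mem_left _ _ (Ideal.subset_span ⟨_, fun k => ?_, rfl⟩)
    have h2 := hb (i.succAbove k)
    rw [Fin.sum_univ_succ] at h2
    simp only [Fin.cons_zero, Fin.cons_succ, Finset.smul_sum] at h2
    simp only [Matrix.submatrix_apply, Fin.cons_succ, b', add_smul, Finset.sum_add_distrib,
      mul_smul]
    rw [← h2, add_comm]
    congr 1
    exact Finset.sum_congr rfl fun j _ => smul_comm _ _ _
  · rintro _ ⟨a, ha, rfl⟩
    let b : Matrix (Fin (n + 1)) (Fin (n + 1)) R :=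
      Fin.cons (Fin.cons 1 (fun j => - c j)) (fun i => Fin.cons 0 (a i))
    refine Ideal.subset_span ⟨b, fun i => ?_, ?_⟩
    · rw [Fin.sum_univ_succ]
      refine Fin.cases ?_ (fun i => ?_) i
      · simp [b]
      · simp [b, ha i]
    · rw [Matrix.det_succ_column_zero, Fin.sum_univ_succ]
      simp only [b, Fin.cons_zero, Fin.cons_succ, mul_zero, zero_mul, Finset.sum_const_zero,
        add_zero, Fin.val_zero, pow_zero, mul_one, one_mul, Fin.succAbove_zero]
      congr 1

theorem relDet_option {ι : Type*} [Fintype ι] [DecidableEq ι] (x : ι → M) (y : M)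
    (hy : y ∈ Submodule.span R (Set.range x)) :
    relDet (R := R) (fun o : Option ι => o.elim y x) = relDet (R := R) x := by
  have e := (Fintype.equivFin ι).symm
  rw [← relDet_equiv e x, ← relDet_cons (x ∘ e) y (by rwa [e.surjective.range_comp]),
    ← relDet_equiv ((finSuccEquiv _).trans e.optionCongr)]
  congr 1
  funext i
  refine Fin.cases ?_ (fun i => ?_) i <;> simp

theorem relDet_sum {ι κ : Type*} [Fintype ι] [DecidableEq ι] [Fintype κ] [DecidableEq κ]
    (x : ι → M) (hx : Submodule.span R (Set.range x) = ⊤) (y : κ → M) :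
    relDet (R := R) (Sum.elim y x) = relDet (R := R) x := by
  classical
  revert y
  refine Fintype.induction_empty_option (P := fun κ _ => ∀ [DecidableEq κ] (y : κ → M),
    relDet (R := R) (Sum.elim y x) = relDet (R := R) x) ?_ ?_ ?_ κ
  · intro κ κ' _ e h _ y
    let _ : Fintype κ := Fintype.ofEquiv κ' e.symm
    let _ : DecidableEq κ := Classical.decEq _
    rw [← h (y ∘ e), ← relDet_equiv (e.sumCongr (Equiv.refl ι))]
    congr 1
    funext i
    rcases i with i | i <;> rfl
  · intro _ y
    rw [← relDet_equiv (Equiv.emptySum PEmpty ι).symm]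
    rfl
  · intro κ _ h _ y
    rw [← h (y ∘ some), ← relDet_option (Sum.elim (y ∘ some) x) (y none) (by
      rw [show Submodule.span R (Set.range (Sum.elim (y ∘ some) x)) = ⊤ from by
        rw [Set.Sum.elim_range, Submodule.span_union, hx, sup_top_eq]]
      trivial)]
    let e : Option (κ ⊕ ι) ≃ Option κ ⊕ ι :=
      { toFun := fun o => o.elim (Sum.inl none) (Sum.elim (fun k => Sum.inl (some k)) Sum.inr)
        invFun := Sum.elim (fun o => o.elim none (fun k => some (Sum.inl k))) (fun i => some (Sum.inr i))
        left_inv := by rintro (_ | _ | _) <;> rfl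
        right_inv := by rintro ((_ | _) | _) <;> rfl }
    rw [← relDet_equiv e]
    congr 1
    funext i
    rcases i with _ | _ | _ <;> rfl

theorem relDet_eq {ι κ : Type*} [Fintype ι] [DecidableEq ι] [Fintype κ] [DecidableEq κ]
    (x : ι → M) (hx : Submodule.span R (Set.range x) = ⊤) (y : κ → M)
    (hy : Submodule.span R (Set.range y) = ⊤) :
    relDet (R := R) y = relDet (R := R) x := by
  rw [← relDet_sum x hx y, ← relDet_sum y hy x, ← relDet_equiv (Equiv.sumComm κ ι)]
  congr 1
  funext i
  rcases i with i | i <;> rfl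

/-- A multilinear map evaluated at vectors lying in the span of `s` lies in the span of its values at
tuples of elements of `s`. -/
theorem multilinear_mem_span {ι V W : Type*} [Fintype ι] [DecidableEq ι] [AddCommGroup V]
    [Module R V] [AddCommGroup W] [Module R W] (f : MultilinearMap R (fun _ : ι => V) W) (s : Set V)
    (v : ι → V) (hv : ∀ i, v i ∈ Submodule.span R s) :
    f v ∈ Submodule.span R {w | ∃ u : ι → V, (∀ i, u i ∈ s) ∧ f u = w} := by
  have key : ∀ (t : Finset ι) (v : ι → V), (∀ i ∈ t, v i ∈ Submodule.span R s) →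
      (∀ i ∉ t, v i ∈ s) → f v ∈ Submodule.span R {w | ∃ u : ι → V, (∀ i, u i ∈ s) ∧ f u = w} := by
    intro t
    induction t using Finset.induction_on with
    | empty =>
      intro v _ h
      exact Submodule.subset_span ⟨v, fun i => h i (by simp), rfl⟩
    | insert i t hi ih =>
      intro v h1 h2
      have h3 : f v = f.toLinearMap v i (v i) := by simp
      rw [h3]
      have h4 : f.toLinearMap v i (v i) ∈ (Submodule.span R s).map (f.toLinearMap v i) :=
        ⟨_, h1 i (by simp), rfl⟩
      rw [Submodule.map_span] at h4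
      refine Submodule.span_le.mpr ?_ h4
      rintro _ ⟨w, hw, rfl⟩
      refine ih (Function.update v i w) (fun j hj => ?_) (fun j hj => ?_)
      · have : j ≠ i := fun h => hi (h ▸ hj)
        rw [Function.update_of_ne this]
        exact h1 j (Finset.mem_insert_of_mem hj)
      · by_cases hji : j = i
        · subst hji; simpa using hw
        · rw [Function.update_of_ne hji]
          exact h2 j (by simp [hji, hj])
  exact key Finset.univ v (fun i _ => hv i) (fun i hi => absurd (Finset.mem_univ i) hi)

/-- The determinants of matrices with rows in the span of `s` lie in the ideal generated by the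
determinants of matrices with rows in `s`. -/
theorem det_mem_span {ι : Type*} [Fintype ι] [DecidableEq ι] (s : Set (ι → R))
    (a : Matrix ι ι R) (ha : ∀ i, a i ∈ Submodule.span R s) :
    a.det ∈ Ideal.span {w | ∃ u : Matrix ι ι R, (∀ i, u i ∈ s) ∧ u.det = w} :=
  multilinear_mem_span (Matrix.detRowAlternating (n := ι) (R := R)).toMultilinearMap s a ha

/-- The relation submodule of a family. -/
def rel {ι : Type*} [Fintype ι] (x : ι → M) : Submodule R (ι → R) :=
  LinearMap.ker (Fintype.linearCombination R x)

theorem mem_rel {ι : Type*} [Fintype ι] (x : ι → M) (c : ι → R) :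
    c ∈ rel x ↔ ∑ j, c j • x j = 0 := by
  rw [rel, LinearMap.mem_ker, Fintype.linearCombination_apply]

/-- `relDet` can be computed with any generating set of the relations. -/
theorem relDet_eq_span {ι : Type*} [Fintype ι] [DecidableEq ι] (x : ι → M) (s : Set (ι → R))
    (hs : Submodule.span R s = rel x) :
    relDet (R := R) x = Ideal.span {w | ∃ u : Matrix ι ι R, (∀ i, u i ∈ s) ∧ u.det = w} := by
  refine le_antisymm (Ideal.span_le.mpr ?_) (Ideal.span_le.mpr ?_)
  · rintro _ ⟨a, ha, rfl⟩
    refine det_mem_span s a fun i => ?_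
    rw [hs, mem_rel]
    exact ha i
  · rintro _ ⟨u, hu, rfl⟩
    refine Ideal.subset_span ⟨u, fun i => ?_, rfl⟩
    rw [← mem_rel, ← hs]
    exact Submodule.subset_span (hu i)

/-- `relDet` is finitely generated if the relations are. -/
theorem relDet_fg {ι : Type*} [Fintype ι] [DecidableEq ι] (x : ι → M)
    (h : (rel (R := R) x).FG) : (relDet (R := R) x).FG := by
  obtain ⟨s, hs⟩ := h
  rw [relDet_eq_span x _ hs]
  refine Submodule.fg_span ?_
  have h1 : {u : Matrix ι ι R | ∀ i, u i ∈ (s : Set (ι → R))}.Finite :=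
    Set.Finite.pi' (fun _ => s.finite_toSet)
  refine (h1.image Matrix.det).subset ?_
  rintro _ ⟨u, hu, rfl⟩
  exact ⟨u, hu, rfl⟩

/-- Base change of `relDet`. -/
theorem relDet_baseChange (S : Type*) [CommRing S] [Algebra R S] {ι : Type*} [Fintype ι]
    [DecidableEq ι] (x : ι → M) (hx : Submodule.span R (Set.range x) = ⊤) :
    relDet (R := S) (fun i => (1 : S) ⊗ₜ[R] x i) = (relDet (R := R) x).map (algebraMap R S) := by
  have h1 : Submodule.span S ((fun c : ι → R => algebraMap R S ∘ c) '' (rel (R := R) x : Set (ι → R)))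
      = rel (R := S) (fun i => (1 : S) ⊗ₜ[R] x i) := by
    apply le_antisymm
    · refine Submodule.span_le.mpr ?_
      rintro _ ⟨c, hc, rfl⟩
      rw [SetLike.mem_coe, mem_rel] at hc ⊢
      simp only [Function.comp_apply, algebraMap_smul, ← tmul_smul, ← tmul_sum, hc, tmul_zero]
    · intro c hc
      rw [mem_rel] at hc
      simp only [smul_tmul', smul_eq_mul, mul_one] at hc
      have hc' : ∑ i, x i ⊗ₜ[R] c i = 0 := by
        have := congrArg (TensorProduct.comm R S M) hc
        simpa using this
      obtain ⟨k, a, y, h1, h2⟩ := vanishesTrivially_of_sum_tmul_eq_zero R hx hc'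
      have h3 : c = ∑ j, y j • (algebraMap R S ∘ fun i => a i j) := by
        funext i
        rw [h1 i, Finset.sum_apply]
        refine Finset.sum_congr rfl fun j _ => ?_
        simp [Algebra.smul_def, mul_comm]
      rw [h3]
      refine Submodule.sum_mem _ fun j _ => Submodule.smul_mem _ _ (Submodule.subset_span
        ⟨fun i => a i j, ?_, rfl⟩)
      rw [SetLike.mem_coe, mem_rel]
      exact h2 j
  rw [relDet_eq_span _ _ h1, relDet, Ideal.map_span]
  congr 1
  ext w
  constructor
  · rintro ⟨u, hu, rfl⟩
    choose a ha hau using hu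
    refine ⟨Matrix.det (n := ι) a, ⟨a, fun i => ?_, rfl⟩, ?_⟩
    · rw [← mem_rel]; exact ha i
    · rw [RingHom.map_det]
      congr 1
      ext i j
      exact congrFun (hau i) j
  · rintro ⟨_, ⟨a, ha, rfl⟩, rfl⟩
    refine ⟨(algebraMap R S).mapMatrix a, fun i => ⟨a i, ?_, rfl⟩, (RingHom.map_det _ _).symm⟩
    rw [SetLike.mem_coe, mem_rel]; exact ha i

/-- `relDet` of a direct sum with a cyclic module. -/
theorem relDet_quotient_prod (I : Ideal R) {n : ℕ} (y : Fin n → M) :
    relDet (R := R) (Fin.cons ((1, 0) : (R ⧸ I) × M) (fun i => (0, y i)) :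
      Fin (n + 1) → (R ⧸ I) × M) = I * relDet (R := R) y := by
  apply le_antisymm
  · refine Ideal.span_le.mpr ?_
    rintro _ ⟨b, hb, rfl⟩
    have h1 : ∀ i, b i 0 ∈ I ∧ ∑ j : Fin n, b i j.succ • y j = 0 := by
      intro i
      have := hb i
      rw [Fin.sum_univ_succ] at this
      simp only [Fin.cons_zero, Fin.cons_succ, Prod.smul_mk, smul_zero] at this
      have h2 := congrArg Prod.fst this
      have h3 := congrArg Prod.snd this
      simp only [Prod.fst_add, Prod.fst_sum, Finset.sum_const_zero, add_zero, Prod.fst_zero] at h2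
      simp only [Prod.snd_add, Prod.snd_sum, zero_add, Prod.snd_zero] at h3
      refine ⟨?_, h3⟩
      rw [← Ideal.Quotient.eq_zero_iff_mem, ← h2, Algebra.smul_def]
      simp
    rw [Matrix.det_succ_column_zero]
    refine Ideal.sum_mem _ fun i _ => Ideal.mul_mem_mul (Ideal.mul_mem_left _ _ (h1 i).1)
      (Ideal.subset_span ⟨_, fun k => ?_, rfl⟩)
    exact (h1 (i.succAbove k)).2
  · rw [relDet, relDet, Ideal.mul_le]
    intro r hr d hd
    induction hd using Submodule.span_induction with
    | mem d hd =>
      obtain ⟨a, ha, rfl⟩ := hd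
      let b : Matrix (Fin (n + 1)) (Fin (n + 1)) R :=
        Fin.cons (Fin.cons r (fun j => 0)) (fun i => Fin.cons 0 (a i))
      refine Ideal.subset_span ⟨b, fun i => ?_, ?_⟩
      · rw [Fin.sum_univ_succ]
        refine Fin.cases ?_ (fun i => ?_) i
        · have : r • (1 : R ⧸ I) = 0 := by
            rw [Algebra.smul_def, mul_one]
            exact Ideal.Quotient.eq_zero_iff_mem.mpr hr
          simp [b, this]
        · simp only [b, Fin.cons_succ, Fin.cons_zero, zero_smul, zero_add, Prod.smul_mk, smul_zero]
          rw [← Prod.mk_zero_zero, ← ha i]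
          exact Prod.ext (by simp [Prod.fst_sum]) (by simp [Prod.snd_sum])
      · rw [Matrix.det_succ_column_zero, Fin.sum_univ_succ]
        simp only [b, Fin.cons_zero, Fin.cons_succ, mul_zero, zero_mul, Finset.sum_const_zero,
          add_zero, Fin.val_zero, pow_zero, one_mul, Fin.succAbove_zero]
        congr 1
    | zero => simp
    | add x y _ _ hx hy => rw [mul_add]; exact Ideal.add_mem _ hx hy
    | smul c x _ hx =>
      rw [smul_eq_mul, mul_left_comm]
      exact Ideal.mul_mem_left _ _ hx

end Basic

section Fitting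

variable {R : Type u} [CommRing R] {M : Type u} [AddCommGroup M] [Module R M]

theorem fittingZero_eq_relDet {ι : Type*} [Fintype ι] [DecidableEq ι] (x : ι → M)
    (hx : Submodule.span R (Set.range x) = ⊤) : FlatCA.fittingZero R M = relDet (R := R) x := by
  apply le_antisymm
  · refine Ideal.span_le.mpr ?_
    rintro _ ⟨n, y, a, hy, ha, rfl⟩
    rw [← relDet_eq x hx y hy]
    exact Ideal.subset_span ⟨a, ha, rfl⟩
  · refine Ideal.span_le.mpr ?_
    rintro _ ⟨a, ha, rfl⟩
    let e := (Fintype.equivFin ι).symm
    refine Ideal.subset_span ⟨Fintype.card ι, x ∘ e, a.submatrix e e, ?_, fun i => ?_,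
      (Matrix.det_submatrix_equiv_self e a).symm⟩
    · rw [e.surjective.range_comp]; exact hx
    · rw [← ha (e i)]
      exact e.sum_comp (fun j => a (e i) j • x j)

theorem fittingZero_congr {N : Type u} [AddCommGroup N] [Module R N] [Module.Finite R M]
    (e : M ≃ₗ[R] N) : FlatCA.fittingZero R M = FlatCA.fittingZero R N := by
  obtain ⟨n, x, hx⟩ := Module.Finite.exists_fin (R := R) (M := M)
  rw [fittingZero_eq_relDet x hx, fittingZero_eq_relDet (e ∘ x) (by
    rw [Set.range_comp]
    have := Submodule.map_span e.toLinearMap (Set.range x)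
    rw [hx, Submodule.map_top, LinearEquiv.range] at this
    exact this.symm)]
  rw [relDet, relDet]
  congr 1
  ext d
  refine exists_congr fun a => and_congr_left fun _ => forall_congr' fun i => ?_
  rw [← e.map_eq_zero_iff]
  simp

/-- The zeroth Fitting ideal commutes with base change. -/
theorem fittingZero_baseChange (S : Type u) [CommRing S] [Algebra R S] [Module.Finite R M] :
    FlatCA.fittingZero S (S ⊗[R] M) = (FlatCA.fittingZero R M).map (algebraMap R S) := by
  obtain ⟨n, x, hx⟩ := Module.Finite.exists_fin (R := R) (M := M)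
  rw [fittingZero_eq_relDet x hx, ← relDet_baseChange S x hx,
    fittingZero_eq_relDet (fun i => (1 : S) ⊗ₜ[R] x i)]
  have := Submodule.baseChange_span (R := R) (M := M) (A := S) (Set.range x)
  rw [hx, Submodule.baseChange_top, ← Set.range_comp] at this
  exact this.symm

/-- `Fit_0(R/I × M) = I * Fit_0(M)`. -/
theorem fittingZero_quotient_prod (I : Ideal R) [Module.Finite R M] :
    FlatCA.fittingZero R ((R ⧸ I) × M) = I * FlatCA.fittingZero R M := by
  obtain ⟨n, y, hy⟩ := Module.Finite.exists_fin (R := R) (M := M)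
  rw [fittingZero_eq_relDet y hy, ← relDet_quotient_prod I y,
    fittingZero_eq_relDet (Fin.cons ((1, 0) : (R ⧸ I) × M) (fun i => (0, y i)) :
      Fin (n + 1) → (R ⧸ I) × M)]
  rw [eq_top_iff]
  rintro ⟨a, m⟩ -
  obtain ⟨r, rfl⟩ := Ideal.Quotient.mk_surjective a
  have hm : m ∈ Submodule.span R (Set.range y) := by rw [hy]; trivial
  obtain ⟨c, rfl⟩ := (Submodule.mem_span_range_iff_exists_fun R).mp hm
  refine (Submodule.mem_span_range_iff_exists_fun R).mpr ⟨Fin.cons r c, ?_⟩
  rw [Fin.sum_univ_succ]
  simp only [Fin.cons_zero, Fin.cons_succ, Prod.smul_mk, smul_zero]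
  refine Prod.ext ?_ ?_
  · simp [Prod.fst_sum, Algebra.smul_def]
  · simp [Prod.snd_sum]

/-- The zeroth Fitting ideal of a finitely presented module is finitely generated. -/
theorem fittingZero_fg [Module.FinitePresentation R M] : (FlatCA.fittingZero R M).FG := by
  obtain ⟨n, x, hx⟩ := Module.Finite.exists_fin (R := R) (M := M)
  rw [fittingZero_eq_relDet x hx]
  refine relDet_fg x (Module.FinitePresentation.fg_ker _ ?_)
  rw [← LinearMap.range_eq_top, Fintype.range_linearCombination, hx]

end Fitting

end Groth.Agent.Flat2C.FittingZero
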