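import Groth.Agent.Flat2D.LocalGlobalH
import Groth.Agent.Desc.QAffDesc
import Groth.Agent.Fga.UnitRestrict
import Groth.Agent.Fdesc.StructMod
import Groth.Agent.CohqB.LocBaseHH
import Mathlib.RingTheory.Flat.FaithfullyFlat.Descent

/-!
# Descent of vanishing of cohomology and of surjectivity on global sections along flat surjective affine base change
-/

set_option autoImplicit false
universe u

open CategoryTheory Limits Opposite TopologicalSpace AlgebraicGeometry

namespace Groth.Agent.Flat2C.FlatDesc399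

/-- Vanishing of `H^{n+1}(O)` descends along a flat surjective base change `T ⟶ S` of affine schemes. -/
theorem subsingleton_HH_of_flat_surjective {X S T X' : Scheme.{u}} {g' : X' ⟶ X} {p' : X' ⟶ T} {p : X ⟶ S}
    {t : T ⟶ S} (H : IsPullback g' p' p t) [IsAffine S] [IsAffine T] [Flat t] [Surjective t] [QuasiCompact p]
    [IsSeparated p] (n : ℕ) (h : Subsingleton (Coh.HH X' (Coh.structureModule X') (n + 1))) :
    Subsingleton (Coh.HH X (Coh.structureModule X) (n + 1)) :=
  Groth.Agent.Flat2D.LocalGlobalH.HH_of_flat_cover (κ := PUnit.{1}) (fun _ => t) (fun _ => g') p (fun _ => p')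
    (fun _ => H) (fun s => ⟨PUnit.unit, t.surjective s⟩) _ (Groth.Agent.Fdesc.StructMod.isQCoh_structureModule X) n
    (fun _ => Groth.Agent.CohqB.LocBaseHH.subsingleton_of_iso
      (Groth.Agent.Fga.UnitRestrict.pullbackUnitIso g').symm (n + 1) h)

/-- Vanishing of `H^{n+1}(O)` is preserved by flat base change `T ⟶ S` of affine schemes. -/
theorem subsingleton_HH_of_flat {X S T X' : Scheme.{u}} {g' : X' ⟶ X} {p' : X' ⟶ T} {p : X ⟶ S}
    {t : T ⟶ S} (H : IsPullback g' p' p t) [IsAffine S] [IsAffine T] [Flat t] [QuasiCompact p]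
    [IsSeparated p] (n : ℕ) (h : Subsingleton (Coh.HH X (Coh.structureModule X) (n + 1))) :
    Subsingleton (Coh.HH X' (Coh.structureModule X') (n + 1)) :=
  Groth.Agent.CohqB.LocBaseHH.subsingleton_of_iso (Groth.Agent.Fga.UnitRestrict.pullbackUnitIso g') (n + 1)
    (Groth.Agent.Flat2D.LocalGlobalH.HH_of_flat H _ (Groth.Agent.Fdesc.StructMod.isQCoh_structureModule X) n h)

/-- Base change of ring maps along a pushout square in `CommRingCat`. -/
theorem baseChange_of_isPushout {P : ∀ {R S : Type u} [CommRing R] [CommRing S], (R →+* S) → Prop}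
    (hP : RingHom.IsStableUnderBaseChange P) {A B A' B' : CommRingCat.{u}} {φ : A ⟶ B} {i : A ⟶ A'}
    {j : B ⟶ B'} {φ' : A' ⟶ B'} (h : IsPushout φ i j φ') (hs : P i.hom) : P j.hom := by
  let _ := φ.hom.toAlgebra
  let _ := i.hom.toAlgebra
  let _ := j.hom.toAlgebra
  let _ := φ'.hom.toAlgebra
  let _ := (j.hom.comp φ.hom).toAlgebra
  have h1 : IsScalarTower A B B' := IsScalarTower.of_algebraMap_eq' rfl
  have h2 : IsScalarTower A A' B' := IsScalarTower.of_algebraMap_eq' (by
    have := congrArg CommRingCat.Hom.hom h.w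
    exact this)
  have h3 : Algebra.IsPushout A B A' B' := CommRingCat.isPushout_iff_isPushout.mp h
  have h4 : Algebra.IsPushout A A' B B' := h3.symm
  exact hP A A' B B' hs

theorem of_isPushout {P : ∀ {R S : Type u} [CommRing R] [CommRing S], (R →+* S) → Prop}
    (hP : RingHom.CodescendsAlong P RingHom.FaithfullyFlat) {A B A' B' : CommRingCat.{u}} {φ : A ⟶ B} {i : A ⟶ A'}
    {j : B ⟶ B'} {φ' : A' ⟶ B'} (h : IsPushout φ i j φ') (hi : i.hom.FaithfullyFlat) (hs : P φ'.hom) :
    P φ.hom := by
  let _ := φ.hom.toAlgebra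
  let _ := i.hom.toAlgebra
  let _ := j.hom.toAlgebra
  let _ := φ'.hom.toAlgebra
  let _ := (j.hom.comp φ.hom).toAlgebra
  have h1 : IsScalarTower A B B' := IsScalarTower.of_algebraMap_eq' rfl
  have h2 : IsScalarTower A A' B' := IsScalarTower.of_algebraMap_eq' (by
    have := congrArg CommRingCat.Hom.hom h.w
    exact this)
  have h3 : Algebra.IsPushout A B A' B' := CommRingCat.isPushout_iff_isPushout.mp h
  exact hP (R := A) (S := B) (R' := A') (S' := B') hi hs

section Sections

variable {X Y S T X' Y' : Scheme.{u}} {gX : X' ⟶ X} {gY : Y' ⟶ Y} {pX : X ⟶ S} {pY : Y ⟶ S} {pX' : X' ⟶ T}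
  {pY' : Y' ⟶ T} {t : T ⟶ S} {f : X ⟶ Y} {f' : X' ⟶ Y'}

/-- The square of global sections attached to a morphism of qcqs schemes over an affine `S` and a flat base change. -/
theorem isPushout_appTop (HX : IsPullback gX pX' pX t) (HY : IsPullback gY pY' pY t) (hf : f ≫ pY = pX)
    (hf' : f' ≫ pY' = pX') (hw : f' ≫ gY = gX ≫ f) [IsAffine S] [IsAffine T] [Flat t]
    [CompactSpace X] [QuasiSeparatedSpace X] [CompactSpace Y] [QuasiSeparatedSpace Y] :
    IsPushout f.appTop gY.appTop gX.appTop f'.appTop := by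
  have h1 := Groth.Agent.Desc.QAffDesc.isPushout_appTop_of_flat HX
  have h2 := Groth.Agent.Desc.QAffDesc.isPushout_appTop_of_flat HY
  -- `h2 : IsPushout pY.appTop t.appTop gY.appTop pY'.appTop`
  refine IsPushout.of_left (h₁₁ := pY.appTop) (h₂₁ := pY'.appTop) (v₁₁ := t.appTop) ?_ ?_ h2
  · have e1 : pY.appTop ≫ f.appTop = pX.appTop := by
      rw [← hf]
      simp
    have e2 : pY'.appTop ≫ f'.appTop = pX'.appTop := by
      rw [← hf']
      simp
    rw [e1, e2]
    exact h1
  · have h3 := congrArg Scheme.Hom.appTop hw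
    rw [Scheme.Hom.comp_appTop, Scheme.Hom.comp_appTop] at h3
    exact h3.symm

theorem faithfullyFlat_appTop (HY : IsPullback gY pY' pY t) [IsAffine S] [IsAffine T] [Flat t] [Surjective t]
    [CompactSpace Y] [QuasiSeparatedSpace Y] : gY.appTop.hom.FaithfullyFlat := by
  have h2 := Groth.Agent.Desc.QAffDesc.isPushout_appTop_of_flat HY
  have ht : t.appTop.hom.FaithfullyFlat := by
    rw [RingHom.FaithfullyFlat.iff_flat_and_comap_surjective]
    refine ⟨t.flat_appTop, ?_⟩
    intro z
    obtain ⟨t', ht'⟩ := t.surjective (S.isoSpec.inv z)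
    refine ⟨T.isoSpec.hom t', ?_⟩
    have h3 : (Spec.map t.appTop) (T.isoSpec.hom t') = S.isoSpec.hom (t t') := by
      rw [← Scheme.Hom.comp_apply, ← Scheme.Hom.comp_apply, ← Scheme.isoSpec_hom_naturality]
    refine h3.trans ?_
    rw [ht', ← Scheme.Hom.comp_apply, Iso.inv_hom_id]
    rfl
  exact baseChange_of_isPushout RingHom.FaithfullyFlat.isStableUnderBaseChange h2 ht

/-- Surjectivity on global sections descends along a flat surjective base change. -/
theorem surjective_appTop_of_flat_surjective (HX : IsPullback gX pX' pX t) (HY : IsPullback gY pY' pY t)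
    (hf : f ≫ pY = pX) (hf' : f' ≫ pY' = pX') (hw : f' ≫ gY = gX ≫ f) [IsAffine S] [IsAffine T] [Flat t]
    [Surjective t] [CompactSpace X] [QuasiSeparatedSpace X] [CompactSpace Y] [QuasiSeparatedSpace Y]
    (h : Function.Surjective f'.appTop) : Function.Surjective f.appTop :=
  of_isPushout (P := fun f => Function.Surjective f) RingHom.FaithfullyFlat.codescendsAlong_surjective
    (isPushout_appTop HX HY hf hf' hw) (faithfullyFlat_appTop HY) h

theorem injective_appTop_of_flat_surjective (HX : IsPullback gX pX' pX t) (HY : IsPullback gY pY' pY t)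
    (hf : f ≫ pY = pX) (hf' : f' ≫ pY' = pX') (hw : f' ≫ gY = gX ≫ f) [IsAffine S] [IsAffine T] [Flat t]
    [Surjective t] [CompactSpace X] [QuasiSeparatedSpace X] [CompactSpace Y] [QuasiSeparatedSpace Y]
    (h : Function.Injective f'.appTop) : Function.Injective f.appTop :=
  of_isPushout (P := fun f => Function.Injective f) RingHom.FaithfullyFlat.codescendsAlong_injective
    (isPushout_appTop HX HY hf hf' hw) (faithfullyFlat_appTop HY) h

theorem bijective_appTop_of_flat_surjective (HX : IsPullback gX pX' pX t) (HY : IsPullback gY pY' pY t)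
    (hf : f ≫ pY = pX) (hf' : f' ≫ pY' = pX') (hw : f' ≫ gY = gX ≫ f) [IsAffine S] [IsAffine T] [Flat t]
    [Surjective t] [CompactSpace X] [QuasiSeparatedSpace X] [CompactSpace Y] [QuasiSeparatedSpace Y]
    (h : Function.Bijective f'.appTop) : Function.Bijective f.appTop :=
  ⟨injective_appTop_of_flat_surjective HX HY hf hf' hw h.1, surjective_appTop_of_flat_surjective HX HY hf hf' hw h.2⟩

theorem surjective_appTop_of_flat (HX : IsPullback gX pX' pX t) (HY : IsPullback gY pY' pY t)
    (hf : f ≫ pY = pX) (hf' : f' ≫ pY' = pX') (hw : f' ≫ gY = gX ≫ f) [IsAffine S] [IsAffine T] [Flat t]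
    [CompactSpace X] [QuasiSeparatedSpace X] [CompactSpace Y] [QuasiSeparatedSpace Y]
    (h : Function.Surjective f.appTop) : Function.Surjective f'.appTop :=
  baseChange_of_isPushout (P := fun f => Function.Surjective f) RingHom.surjective_isStableUnderBaseChange
    (isPushout_appTop HX HY hf hf' hw).flip h

end Sections

end Groth.Agent.Flat2C.FlatDesc399
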