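import Groth.Agent.Flat2C.ZRFg
import Mathlib.RingTheory.Flat.Localization
import Mathlib.RingTheory.Localization.Away.Basic

/-!
# Saturations of submodules of free modules over polynomial rings, and their local nature
-/

set_option autoImplicit false
universe u

namespace Groth.Agent.Flat2C.ZRSat

open Groth.Agent.Flat2C.ZRFg

section Def

variable {ι σ κ : Type}

/-- The saturation with respect to `d : R` of the submodule of `(R[x])^ι` generated by the images
of the vectors `ρ j` with coefficients in `A`. -/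
noncomputable def sat {A R : Type u} [CommRing A] [CommRing R] [Algebra A R]
    (ρ : κ → ι → MvPolynomial σ A) (d : R) :
    Submodule (MvPolynomial σ R) (ι → MvPolynomial σ R) where
  carrier := {w | ∃ n : ℕ, d ^ n • w ∈ Submodule.span (MvPolynomial σ R)
    (Set.range fun j => frMap ι σ (algebraMap A R) (ρ j))}
  add_mem' := by
    rintro a b ⟨n, hn⟩ ⟨m, hm⟩
    refine ⟨n + m, ?_⟩
    rw [smul_add]
    refine add_mem ?_ ?_
    · rw [pow_add, mul_comm, mul_smul]
      exact Submodule.smul_of_tower_mem _ _ hn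
    · rw [pow_add, mul_smul]
      exact Submodule.smul_of_tower_mem _ _ hm
  zero_mem' := ⟨0, by rw [smul_zero]; exact zero_mem _⟩
  smul_mem' := by
    rintro c a ⟨n, hn⟩
    refine ⟨n, ?_⟩
    rw [smul_comm]
    exact Submodule.smul_mem _ _ hn

theorem mem_sat {A R : Type u} [CommRing A] [CommRing R] [Algebra A R]
    {ρ : κ → ι → MvPolynomial σ A} {d : R} {w : ι → MvPolynomial σ R} :
    w ∈ sat ρ d ↔ ∃ n : ℕ, d ^ n • w ∈ Submodule.span (MvPolynomial σ R)
      (Set.range fun j => frMap ι σ (algebraMap A R) (ρ j)) := Iff.rfl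

/-- The strict transform is flat and of finite presentation. -/
def Good {A : Type u} (R : Type u) [CommRing A] [CommRing R] [Algebra A R]
    (ρ : κ → ι → MvPolynomial σ A) (d : R) : Prop :=
  (sat ρ d).FG ∧ Module.Flat R ((ι → MvPolynomial σ R) ⧸ sat ρ d)

end Def

section Away

variable {ι σ κ : Type} {R S : Type*} [CommRing R] [CommRing S] [Algebra R S]

theorem exists_pow_smul_eq_zero [Finite ι] (s : R) [IsLocalization.Away s S]
    {w : ι → MvPolynomial σ R} (hw : frMap ι σ (algebraMap R S) w = 0) :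
    ∃ n : ℕ, s ^ n • w = 0 := by
  classical
  cases nonempty_fintype ι
  have h1 : ∀ i m, ∃ n : ℕ, s ^ n * (w i).coeff m = 0 := by
    intro i m
    have : algebraMap R S ((w i).coeff m) = 0 := by
      rw [← coeff_frMap, hw]
      simp
    rw [IsLocalization.map_eq_zero_iff (Submonoid.powers s)] at this
    obtain ⟨⟨_, n, rfl⟩, hn⟩ := this
    exact ⟨n, hn⟩
  choose n hn using h1
  refine ⟨∑ i, ∑ m ∈ (w i).support, n i m, ?_⟩
  funext i
  ext m
  rw [Pi.smul_apply, MvPolynomial.coeff_smul, Pi.zero_apply, MvPolynomial.coeff_zero, smul_eq_mul]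
  by_cases hm : m ∈ (w i).support
  · have hle : n i m ≤ ∑ i, ∑ m ∈ (w i).support, n i m :=
      (Finset.single_le_sum (f := fun m => n i m) (fun _ _ => Nat.zero_le _) hm).trans
        (Finset.single_le_sum (f := fun i => ∑ m ∈ (w i).support, n i m)
          (fun _ _ => Nat.zero_le _) (Finset.mem_univ i))
    obtain ⟨k, hk⟩ := Nat.exists_eq_add_of_le hle
    rw [hk, pow_add, mul_comm (s ^ n i m), mul_assoc, hn, mul_zero]
  · rw [MvPolynomial.notMem_support_iff.mp hm, mul_zero]

theorem exists_frMap_eq_pow_smul [Finite ι] (s : R) [IsLocalization.Away s S]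
    (y : ι → MvPolynomial σ S) :
    ∃ (n : ℕ) (w : ι → MvPolynomial σ R),
      frMap ι σ (algebraMap R S) w = algebraMap R S s ^ n • y := by
  classical
  cases nonempty_fintype ι
  have h1 : ∀ i m, ∃ (n : ℕ) (a : R), algebraMap R S a = algebraMap R S s ^ n * (y i).coeff m := by
    intro i m
    obtain ⟨⟨a, ⟨_, n, rfl⟩⟩, h⟩ := IsLocalization.surj (Submonoid.powers s) ((y i).coeff m)
    refine ⟨n, a, ?_⟩
    rw [← h, map_pow, mul_comm]
  choose n a ha using h1
  refine ⟨∑ i, ∑ m ∈ (y i).support, n i m, exists_frMap_eq _ _ fun i m => ?_⟩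
  rw [Pi.smul_apply, MvPolynomial.coeff_smul, smul_eq_mul]
  by_cases hm : m ∈ (y i).support
  · have hle : n i m ≤ ∑ i, ∑ m ∈ (y i).support, n i m :=
      (Finset.single_le_sum (f := fun m => n i m) (fun _ _ => Nat.zero_le _) hm).trans
        (Finset.single_le_sum (f := fun i => ∑ m ∈ (y i).support, n i m)
          (fun _ _ => Nat.zero_le _) (Finset.mem_univ i))
    obtain ⟨k, hk⟩ := Nat.exists_eq_add_of_le hle
    refine ⟨s ^ k * a i m, ?_⟩
    rw [map_mul, ha, hk, map_pow, pow_add]
    ring
  · exact ⟨0, by rw [MvPolynomial.notMem_support_iff.mp hm, mul_zero, map_zero]⟩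

theorem exists_map_eq_pow_mul (s : R) [IsLocalization.Away s S] (p : MvPolynomial σ S) :
    ∃ (n : ℕ) (q : MvPolynomial σ R),
      MvPolynomial.map (algebraMap R S) q = MvPolynomial.C (algebraMap R S s ^ n) * p := by
  obtain ⟨n, w, hw⟩ := exists_frMap_eq_pow_smul (ι := Unit) s (fun _ => p)
  refine ⟨n, w (), ?_⟩
  have := congrFun hw ()
  rw [frMap_apply, Pi.smul_apply, MvPolynomial.smul_eq_C_mul] at this
  exact this

/-- An element whose image is in the span comes, up to a power of `s`, from the span. -/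
theorem exists_pow_smul_mem_span [Finite ι] (s : R) [IsLocalization.Away s S]
    (T : Set (ι → MvPolynomial σ R)) {w : ι → MvPolynomial σ R}
    (hw : frMap ι σ (algebraMap R S) w ∈
      Submodule.span (MvPolynomial σ S) (frMap ι σ (algebraMap R S) '' T)) :
    ∃ n : ℕ, s ^ n • w ∈ Submodule.span (MvPolynomial σ R) T := by
  have key : ∀ y ∈ Submodule.span (MvPolynomial σ S) (frMap ι σ (algebraMap R S) '' T),
      ∃ (n : ℕ) (w' : ι → MvPolynomial σ R), w' ∈ Submodule.span (MvPolynomial σ R) T ∧
        frMap ι σ (algebraMap R S) w' = algebraMap R S s ^ n • y := by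
    intro y hy
    induction hy using Submodule.span_induction with
    | mem y hy =>
      obtain ⟨w', hw', rfl⟩ := hy
      exact ⟨0, w', Submodule.subset_span hw', by rw [pow_zero, one_smul]⟩
    | zero => exact ⟨0, 0, zero_mem _, by simp⟩
    | add y y' _ _ ih ih' =>
      obtain ⟨n, w, hw, h⟩ := ih
      obtain ⟨n', w', hw', h'⟩ := ih'
      refine ⟨n + n', s ^ n' • w + s ^ n • w', add_mem (Submodule.smul_of_tower_mem _ _ hw)
        (Submodule.smul_of_tower_mem _ _ hw'), ?_⟩
      rw [map_add, frMap_C_smul, frMap_C_smul, h, h', map_pow, map_pow, smul_add, smul_smul,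
        smul_smul, ← pow_add, ← pow_add, add_comm n' n]
    | smul c y _ ih =>
      obtain ⟨n, w, hw, h⟩ := ih
      obtain ⟨m, q, hq⟩ := exists_map_eq_pow_mul s c
      refine ⟨n + m, q • w, Submodule.smul_mem _ _ hw, ?_⟩
      rw [LinearMap.map_smulₛₗ, h, hq, mul_smul]
      funext i
      simp only [Pi.smul_apply, MvPolynomial.smul_eq_C_mul, smul_eq_mul, map_pow, pow_add, map_mul]
      ring
  obtain ⟨n, w', hw', h⟩ := key _ hw
  have h0 : frMap ι σ (algebraMap R S) (s ^ n • w - w') = 0 := by
    rw [map_sub, frMap_C_smul, h, map_pow, sub_self]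
  obtain ⟨m, hm⟩ := exists_pow_smul_eq_zero s h0
  refine ⟨m + n, ?_⟩
  rw [smul_sub, sub_eq_zero, smul_smul, ← pow_add] at hm
  rw [hm]
  exact Submodule.smul_of_tower_mem _ _ hw'

end Away

end Groth.Agent.Flat2C.ZRSat
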