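import Mathlib.Algebra.Module.FinitePresentation
import Mathlib.Algebra.Module.LocalizedModule.Submodule
import Mathlib.RingTheory.Localization.Away.Basic
import Mathlib.RingTheory.Localization.Finiteness
import Mathlib.RingTheory.Flat.Localization
import Mathlib.RingTheory.FinitePresentation
import Groth.Agent.Flat2C.ZRSat
import Groth.Agent.Flat2C.PushoutBC
import Groth.Agent.Desc.FPSections

/-!
# From presentations over polynomial rings to arbitrary models

`flattening_ring_of_main`: the ring-level flattening theorem for a finite module over a finitely presented algebra,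
from the same statement for quotients of free modules over polynomial rings.
-/

set_option autoImplicit false
universe u

namespace Groth.Agent.Flat2C.ZRWrap

open Groth.Agent.Flat2C.ZRFg Groth.Agent.Flat2C.ZRSat

/-- Finite presentation after inverting `b`: finitely many relations suffice up to powers of `b`. -/
theorem exists_finset_ker {B N : Type*} [CommRing B] [AddCommGroup N] [Module B N] {r : ℕ}
    (θ : (Fin r → B) →ₗ[B] N) (hθ : Function.Surjective θ) (b : B)
    [Module.FinitePresentation (Localization.Away b) (LocalizedModule (Submonoid.powers b) N)] :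
    ∃ s : Finset (Fin r → B), (∀ w ∈ s, θ w = 0) ∧
      ∀ v, θ v = 0 → ∃ m : ℕ, b ^ m • v ∈ Submodule.span B (s : Set (Fin r → B)) := by
  classical
  let T := Submonoid.powers b
  let f := LocalizedModule.mkLinearMap T (Fin r → B)
  let f' := LocalizedModule.mkLinearMap T N
  let g' := (IsLocalizedModule.map T f f' θ).extendScalarsOfIsLocalization T (Localization T)
  have hg' : Function.Surjective g' := IsLocalizedModule.map_surjective T f f' θ hθ
  have : Module.Finite (Localization T) (LocalizedModule T (Fin r → B)) :=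
    Module.Finite.of_isLocalizedModule T f
  have h1 : (LinearMap.ker g').FG := by
    have : Module.FinitePresentation (Localization T) (LocalizedModule T N) := by
      assumption
    exact Module.FinitePresentation.fg_ker g' hg'
  have h2 : LinearMap.ker g' = Submodule.span (Localization T) (f '' (LinearMap.ker θ : Set (Fin r → B))) := by
    rw [← Submodule.localized'_eq_span (Localization T) T f, LinearMap.localized'_ker_eq_ker_localizedMap
      (Localization T) T f f' θ]
  rw [h2, Submodule.fg_span_iff_fg_span_finset_subset] at h1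
  obtain ⟨s', hs', hspan⟩ := h1
  obtain ⟨s, hs, rfl⟩ := Finset.subset_set_image_iff.mp hs'
  refine ⟨s, fun w hw => hs hw, fun v hv => ?_⟩
  have h3 : f v ∈ (Submodule.span B (s : Set (Fin r → B))).localized' (Localization T) T f := by
    rw [Submodule.localized'_span, ← Finset.coe_image, ← hspan]
    exact Submodule.subset_span ⟨v, hv, rfl⟩
  obtain ⟨m, hm, t, ht⟩ := h3
  rw [IsLocalizedModule.mk'_eq_iff] at ht
  have h4 : f m = f ((t : B) • v) := by
    rw [map_smul]
    exact ht
  obtain ⟨c, hc⟩ := IsLocalizedModule.exists_of_eq (S := T) h4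
  obtain ⟨k, hk⟩ : ∃ k : ℕ, b ^ k = (c * t : T) := (c * t).2
  refine ⟨k, ?_⟩
  have h5 : b ^ k • v = c • m := by
    rw [hc, hk]
    exact mul_smul (c : B) (t : B) v
  rw [h5]
  exact Submodule.smul_mem _ _ hm

section Span

variable {ι σ : Type} [Finite ι] {A R : Type*} [CommRing A] [CommRing R] [Algebra A R]

/-- The free module over the polynomial ring over `R` is spanned over `R` by the vectors with coefficients in `A`. -/
theorem mem_span_frMap (w : ι → MvPolynomial σ R) :
    w ∈ Submodule.span R (Set.range (frMap ι σ (algebraMap A R))) := by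
  classical
  cases nonempty_fintype ι
  have h1 : w = ∑ i, Pi.single i (w i) := (Finset.univ_sum_single w).symm
  rw [h1]
  refine Submodule.sum_mem _ fun i _ => ?_
  have h2 : (Pi.single i (w i) : ι → MvPolynomial σ R) =
      ∑ m ∈ (w i).support, (w i).coeff m • frMap ι σ (algebraMap A R) (Pi.single i (MvPolynomial.monomial m 1)) := by
    funext j
    rw [Finset.sum_apply]
    by_cases hj : j = i
    · subst hj
      rw [Pi.single_eq_same]
      conv_lhs => rw [MvPolynomial.as_sum (w j)]
      refine Finset.sum_congr rfl fun m _ => ?_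
      rw [Pi.smul_apply, frMap_apply, Pi.single_eq_same, MvPolynomial.map_monomial, map_one,
        MvPolynomial.smul_monomial, smul_eq_mul, mul_one]
    · rw [Pi.single_eq_of_ne hj]
      refine (Finset.sum_eq_zero fun m _ => ?_).symm
      rw [Pi.smul_apply, frMap_apply, Pi.single_eq_of_ne hj, map_zero, smul_zero]
  rw [h2]
  exact Submodule.sum_mem _ fun m _ => Submodule.smul_mem _ _ (Submodule.subset_span ⟨_, rfl⟩)

end Span

section Ker

variable {ι σ : Type} [Finite ι] {A R : Type u} [CommRing A] [CommRing R] [Algebra A R]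
  {N N' : Type*} [AddCommGroup N] [Module A N] [Module (MvPolynomial σ A) N] [IsScalarTower A (MvPolynomial σ A) N]
  [AddCommGroup N'] [Module A N'] [Module R N'] [IsScalarTower A R N'] [Module (MvPolynomial σ R) N']
  [IsScalarTower R (MvPolynomial σ R) N']
  (θ : (ι → MvPolynomial σ A) →ₗ[MvPolynomial σ A] N) (hθ : Function.Surjective θ)
  (f : N →ₗ[A] N') (hf : IsBaseChange R f)
  (Θ : (ι → MvPolynomial σ R) →ₗ[MvPolynomial σ R] N')
  (hΘ : ∀ v, Θ (frMap ι σ (algebraMap A R) v) = f (θ v))

include hθ hf hΘ in
theorem ker_le_span {w : ι → MvPolynomial σ R} (hw : Θ w = 0) :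
    w ∈ Submodule.span (MvPolynomial σ R)
      (frMap ι σ (algebraMap A R) '' {v | θ v = 0}) := by
  let K : Submodule (MvPolynomial σ R) (ι → MvPolynomial σ R) :=
    Submodule.span (MvPolynomial σ R) (frMap ι σ (algebraMap A R) '' {v | θ v = 0})
  let Q := (ι → MvPolynomial σ R) ⧸ K
  let q : (ι → MvPolynomial σ A) →ₗ[A] Q :=
    { toFun := fun v => Submodule.Quotient.mk (frMap ι σ (algebraMap A R) v)
      map_add' := fun a b => by rw [map_add]; rfl
      map_smul' := fun a b => by
        rw [frMap_C_smul, algebraMap_smul]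
        rfl }
  let θA : (ι → MvPolynomial σ A) →ₗ[A] N := θ.restrictScalars A
  have hker : LinearMap.ker θA ≤ LinearMap.ker q := by
    intro v hv
    exact (Submodule.Quotient.mk_eq_zero _).mpr (Submodule.subset_span ⟨v, hv, rfl⟩)
  let e := θA.quotKerEquivOfSurjective hθ
  let ℓ : N →ₗ[A] Q := (LinearMap.ker θA).liftQ q hker ∘ₗ e.symm.toLinearMap
  have hℓ : ∀ v, ℓ (θ v) = q v := by
    intro v
    have h1 : e.symm (θ v) = Submodule.Quotient.mk v := by
      rw [LinearEquiv.symm_apply_eq]
      rfl
    change (LinearMap.ker θA).liftQ q hker (e.symm (θ v)) = _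
    rw [h1]
    rfl
  let Ψ : N' →ₗ[R] Q := hf.lift ℓ
  have hΨ : ∀ x, Ψ (f x) = ℓ x := fun x => hf.lift_eq ℓ x
  have key : ∀ w : ι → MvPolynomial σ R, Ψ (Θ w) = Submodule.Quotient.mk w := by
    intro w
    have hw := mem_span_frMap (A := A) w
    induction hw using Submodule.span_induction with
    | mem x hx =>
      obtain ⟨v, rfl⟩ := hx
      rw [hΘ, hΨ, hℓ]
      rfl
    | zero => rw [map_zero, map_zero]; rfl
    | add x y _ _ hx hy => rw [map_add, map_add, hx, hy]; rfl
    | smul c x _ hx =>
      have h1 : Θ (c • x) = c • Θ x := (Θ.restrictScalars R).map_smul c x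
      rw [h1, map_smul, hx]
      rfl
  have := key w
  rw [hw, map_zero] at this
  exact (Submodule.Quotient.mk_eq_zero _).mp this.symm

omit [Finite ι] [IsScalarTower A (MvPolynomial σ A) N] in
include hθ hf hΘ in
theorem surjective_Theta : Function.Surjective Θ := by
  intro y
  induction y using hf.inductionOn with
  | zero => exact ⟨0, map_zero _⟩
  | tmul x =>
    obtain ⟨v, rfl⟩ := hθ x
    exact ⟨_, hΘ v⟩
  | smul c y ih =>
    obtain ⟨w, rfl⟩ := ih
    exact ⟨c • w, (Θ.restrictScalars R).map_smul c w⟩
  | add y z hy hz =>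
    obtain ⟨w, rfl⟩ := hy
    obtain ⟨w', rfl⟩ := hz
    exact ⟨w + w', map_add _ _ _⟩

end Ker

section Relations

variable {σ κ : Type} {r : ℕ} {A R : Type u} [CommRing A] [CommRing R] [Algebra A R]

/-- Every element of the span of the images of relations is a linear combination of the `ρ j` up to powers. -/
theorem exists_pow_smul_mem (I₀ : Ideal A) (K : Set (Fin r → MvPolynomial σ A))
    (ρ : κ → Fin r → MvPolynomial σ A)
    (hK : ∀ v ∈ K, ∀ a ∈ I₀, ∃ m : ℕ, a ^ m • v ∈ Submodule.span (MvPolynomial σ A) (Set.range ρ))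
    {w : Fin r → MvPolynomial σ R}
    (hw : w ∈ Submodule.span (MvPolynomial σ R) (frMap (Fin r) σ (algebraMap A R) '' K))
    {c : R} (hc : c ∈ (I₀.map (algebraMap A R)).radical) :
    ∃ m : ℕ, c ^ m • w ∈ Submodule.span (MvPolynomial σ R)
      (Set.range fun j => frMap (Fin r) σ (algebraMap A R) (ρ j)) := by
  let T := Submodule.span (MvPolynomial σ R) (Set.range fun j => frMap (Fin r) σ (algebraMap A R) (ρ j))
  -- the colon ideal
  let L : Ideal R :=
    { carrier := {c | c • w ∈ T}
      add_mem' := fun {a b} ha hb => by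
        change (a + b) • w ∈ T
        rw [add_smul]
        exact add_mem ha hb
      zero_mem' := by
        change (0 : R) • w ∈ T
        rw [zero_smul]
        exact zero_mem _
      smul_mem' := fun a b hb => by
        change (a * b) • w ∈ T
        rw [mul_smul]
        exact Submodule.smul_of_tower_mem _ _ hb }
  have h1 : ∀ a ∈ I₀, ∃ m : ℕ, (algebraMap A R a) ^ m • w ∈ T := by
    intro a ha
    induction hw using Submodule.span_induction with
    | mem x hx =>
      obtain ⟨v, hv, rfl⟩ := hx
      obtain ⟨m, hm⟩ := hK v hv a ha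
      refine ⟨m, ?_⟩
      rw [← map_pow, ← frMap_C_smul]
      have h2 : Submodule.span (MvPolynomial σ A) (Set.range ρ) ≤ T.comap (frMap (Fin r) σ (algebraMap A R)) :=
        Submodule.span_le.mpr (by
          rintro _ ⟨j, rfl⟩
          exact Submodule.subset_span ⟨j, rfl⟩)
      exact h2 hm
    | zero => exact ⟨0, by rw [smul_zero]; exact zero_mem _⟩
    | add x y _ _ hx hy =>
      obtain ⟨m, hm⟩ := hx
      obtain ⟨m', hm'⟩ := hy
      refine ⟨m + m', ?_⟩
      rw [smul_add]
      refine add_mem ?_ ?_
      · rw [pow_add, mul_comm, mul_smul]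
        exact Submodule.smul_of_tower_mem _ _ hm
      · rw [pow_add, mul_smul]
        exact Submodule.smul_of_tower_mem _ _ hm'
    | smul p x _ hx =>
      obtain ⟨m, hm⟩ := hx
      exact ⟨m, by rw [smul_comm]; exact Submodule.smul_mem _ _ hm⟩
  have h2 : I₀.map (algebraMap A R) ≤ L.radical := by
    rw [Ideal.map_le_iff_le_comap]
    intro a ha
    obtain ⟨m, hm⟩ := h1 a ha
    exact ⟨m, hm⟩
  have h3 : c ∈ L.radical := by
    have := Ideal.radical_mono h2 hc
    rwa [Ideal.radical_idem] at this
  exact h3

end Relations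

section BaseChange

open TensorProduct

theorem isLocalizedModule_baseChange {A : Type*} (R : Type*) [CommRing A] [CommRing R] [Algebra A R] (a : A)
    {M M' : Type*} [AddCommGroup M] [AddCommGroup M'] [Module A M] [Module A M'] (g : M →ₗ[A] M')
    [IsLocalizedModule (Submonoid.powers a) g] :
    IsLocalizedModule (Submonoid.powers (algebraMap A R a)) (g.baseChange R) := by
  have h1 : IsLocalizedModule (Submonoid.powers a) (AlgebraTensorModule.rTensor A R g) := inferInstance
  have h2 : (g.baseChange R).restrictScalars A =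
      (TensorProduct.comm A M' R).toLinearMap ∘ₗ (AlgebraTensorModule.rTensor A R g) ∘ₗ
        (TensorProduct.comm A R M).toLinearMap := by
    ext x m
    simp
  have h3 : IsLocalizedModule (Submonoid.powers a) ((g.baseChange R).restrictScalars A) := by
    rw [h2]
    have := IsLocalizedModule.of_linearEquiv_right (Submonoid.powers a) (AlgebraTensorModule.rTensor A R g)
      (TensorProduct.comm A R M)
    exact IsLocalizedModule.of_linearEquiv (Submonoid.powers a) _ (TensorProduct.comm A M' R)
  have h4 := IsLocalizedModule.of_restrictScalars (Submonoid.powers a) (g.baseChange R)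
  rwa [Algebra.algebraMapSubmonoid_powers] at h4

/-- If `N_a` is flat over `A` for all `a` in an ideal which becomes the unit ideal in `R` then `R ⊗ N` is flat. -/
theorem flat_baseChange_of_away {A B : Type*} (R : Type*) [CommRing A] [CommRing B] [CommRing R] [Algebra A R]
    [Algebra A B] {N : Type*} [AddCommGroup N] [Module A N] [Module B N] [IsScalarTower A B N] (I₀ : Ideal A)
    (hflat : ∀ a ∈ I₀, Module.Flat A (LocalizedModule (Submonoid.powers (algebraMap A B a)) N))
    (hI : I₀.map (algebraMap A R) = ⊤) : Module.Flat R (R ⊗[A] N) := by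
  have hs : Ideal.span (algebraMap A R '' (I₀ : Set A)) = ⊤ := hI
  have hex : ∀ x : (algebraMap A R '' (I₀ : Set A)), ∃ a ∈ I₀, algebraMap A R a = x.1 := fun x => x.2
  choose a ha hax using hex
  let Mₛ := fun x : (algebraMap A R '' (I₀ : Set A)) =>
    R ⊗[A] (LocalizedModule (Submonoid.powers (algebraMap A B (a x))) N)
  let g : ∀ x, N →ₗ[A] LocalizedModule (Submonoid.powers (algebraMap A B (a x))) N := fun x =>
    (LocalizedModule.mkLinearMap (Submonoid.powers (algebraMap A B (a x))) N).restrictScalars A
  have hg : ∀ x, IsLocalizedModule (Submonoid.powers (a x)) (g x) := fun x =>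
    IsLocalizedModule.restrictScalars_powers (R := A) (A := B) (a x) _
  have hg' : ∀ x : (algebraMap A R '' (I₀ : Set A)), IsLocalizedModule.Away x.1 ((g x).baseChange R) := fun x => by
    have := isLocalizedModule_baseChange R (a x) (g x)
    rw [hax x] at this
    exact this
  refine Module.flat_of_isLocalized_span (R := R) (S := R) (M := R ⊗[A] N) (algebraMap A R '' (I₀ : Set A)) hs
    Mₛ (fun x => (g x).baseChange R) fun x => ?_
  have := hflat (a x) (ha x)
  exact inferInstanceAs (Module.Flat R (R ⊗[A] (LocalizedModule (Submonoid.powers (algebraMap A B (a x))) N)))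

end BaseChange

section Model

open MvPolynomial

variable {n r : ℕ} {A B R S' N N' : Type u} [CommRing A] [CommRing B] [CommRing R] [CommRing S']
  [Algebra A B] [Algebra A R] [Algebra R S'] [Algebra B S'] [Algebra A S'] [IsScalarTower A R S']
  [IsScalarTower A B S'] (g : MvPolynomial (Fin n) A →ₐ[A] B)
  [AddCommGroup N] [Module A N] [Module B N] [IsScalarTower A B N]
  [AddCommGroup N'] [Module S' N'] [Module B N'] [Module R N'] [IsScalarTower B S' N'] [IsScalarTower R S' N']

/-- `R[x] → S'`. -/
noncomputable def gam (R S' : Type u) [CommRing R] [CommRing S'] [Algebra A R] [Algebra R S'] [Algebra B S'] :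
    MvPolynomial (Fin n) R →ₐ[R] S' :=
  MvPolynomial.aeval fun i => algebraMap B S' (g (X i))

theorem gam_map (p : MvPolynomial (Fin n) A) :
    gam g R S' (MvPolynomial.map (algebraMap A R) p) = algebraMap B S' (g p) := by
  induction p using MvPolynomial.induction_on with
  | C a =>
    rw [map_C, gam, aeval_C, ← IsScalarTower.algebraMap_apply]
    have : (C a : MvPolynomial (Fin n) A) = algebraMap A _ a := rfl
    rw [this, g.commutes, ← IsScalarTower.algebraMap_apply]
  | add p q hp hq => rw [map_add, map_add, map_add, map_add, hp, hq]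
  | mul_X p i hp =>
    rw [map_mul, map_mul, map_mul, map_mul, hp, map_X, gam, aeval_X]

theorem gam_surjective (hg : Function.Surjective g) [hpo : Algebra.IsPushout A R B S'] :
    Function.Surjective (gam g R S') := by
  intro y
  have h := hpo.out
  induction y using h.inductionOn with
  | zero => exact ⟨0, map_zero _⟩
  | tmul b =>
    obtain ⟨p, rfl⟩ := hg b
    exact ⟨_, gam_map g p⟩
  | smul c y ih =>
    obtain ⟨w, rfl⟩ := ih
    exact ⟨c • w, map_smul _ _ _⟩
  | add y z hy hz =>
    obtain ⟨w, rfl⟩ := hy
    obtain ⟨w', rfl⟩ := hz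
    exact ⟨w + w', map_add _ _ _⟩

theorem exists_Theta [Algebra.IsPushout A B R S'] (hg : Function.Surjective g)
    (θB : (Fin r → B) →ₗ[B] N) (hθB : Function.Surjective θB) (φ : N →ₗ[B] N') (hφ : IsBaseChange S' φ) :
    ∃ Θ : (Fin r → MvPolynomial (Fin n) R) →+ N', Function.Surjective Θ ∧
      (∀ (p : MvPolynomial (Fin n) R) w, Θ (p • w) = gam g R S' p • Θ w) ∧
      (∀ (c : R) w, Θ (c • w) = c • Θ w) ∧
      (∀ v, Θ (frMap (Fin r) (Fin n) (algebraMap A R) v) = φ (θB fun i => g (v i))) ∧
      (∀ w, Θ w = 0 → w ∈ Submodule.span (MvPolynomial (Fin n) R)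
        (frMap (Fin r) (Fin n) (algebraMap A R) '' {v | θB (fun i => g (v i)) = 0})) ∧
      Nonempty (TensorProduct A R N ≃ₗ[R] N') := by
  classical
  let i1 : Module A N' := Module.compHom N' (algebraMap A R)
  have i2 : IsScalarTower A R N' := IsScalarTower.of_algebraMap_smul fun _ _ => rfl
  have i3 : IsScalarTower A B N' := IsScalarTower.of_algebraMap_smul fun a x => by
    change (algebraMap A B a) • x = (algebraMap A R a) • x
    rw [← algebraMap_smul S' (algebraMap A B a), ← algebraMap_smul S' (algebraMap A R a),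
      ← IsScalarTower.algebraMap_apply, ← IsScalarTower.algebraMap_apply]
  have hpo : Algebra.IsPushout A R B S' := Algebra.IsPushout.symm inferInstance
  have hbc : IsBaseChange R (φ.restrictScalars A) := (PushoutBC.isBaseChange_iff φ).mp hφ
  let j1 : Module (MvPolynomial (Fin n) A) N := Module.compHom N g.toRingHom
  have j2 : IsScalarTower A (MvPolynomial (Fin n) A) N := IsScalarTower.of_algebraMap_smul fun a x => by
    change (g (algebraMap A _ a)) • x = a • x
    rw [g.commutes, algebraMap_smul]
  let j3 : Module (MvPolynomial (Fin n) R) N' := Module.compHom N' (gam g R S').toRingHom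
  have j4 : IsScalarTower R (MvPolynomial (Fin n) R) N' := IsScalarTower.of_algebraMap_smul fun a x => by
    change (gam g R S' (algebraMap R _ a)) • x = a • x
    rw [(gam g R S').commutes, algebraMap_smul]
  let θ : (Fin r → MvPolynomial (Fin n) A) →ₗ[MvPolynomial (Fin n) A] N :=
    { toFun := fun v => θB fun i => g (v i)
      map_add' := fun v w => by
        rw [← map_add]
        congr 1
        funext i
        simp
      map_smul' := fun p v => by
        change _ = g p • θB _
        rw [← map_smul]
        congr 1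
        funext i
        simp }
  have hθ : Function.Surjective θ := by
    intro x
    obtain ⟨w, rfl⟩ := hθB x
    choose v hv using fun i => hg (w i)
    refine ⟨v, ?_⟩
    change θB (fun i => g (v i)) = _
    congr 1
    funext i
    exact hv i
  let Θ : (Fin r → MvPolynomial (Fin n) R) →ₗ[MvPolynomial (Fin n) R] N' :=
    { toFun := fun w => ∑ i, gam g R S' (w i) • φ (θB (Pi.single i 1))
      map_add' := fun v w => by
        simp only [Pi.add_apply, map_add, add_smul, Finset.sum_add_distrib]
      map_smul' := fun p v => by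
        change (∑ i, gam g R S' ((p • v) i) • φ (θB (Pi.single i 1)) : N') =
          gam g R S' p • ∑ i, gam g R S' (v i) • φ (θB (Pi.single i 1))
        simp only [Pi.smul_apply, smul_eq_mul, map_mul, mul_smul, Finset.smul_sum] }
  have hΘ : ∀ v, Θ (frMap (Fin r) (Fin n) (algebraMap A R) v) = (φ.restrictScalars A) (θ v) := by
    intro v
    change ∑ i, gam g R S' (MvPolynomial.map (algebraMap A R) (v i)) • φ (θB (Pi.single i 1)) =
      φ (θB fun i => g (v i))
    have h1 : (fun i => g (v i)) = ∑ i, g (v i) • (Pi.single i (1 : B) : Fin r → B) := by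
      funext j
      simp [Finset.sum_apply, Pi.single_apply]
    rw [h1, map_sum, map_sum]
    refine Finset.sum_congr rfl fun i _ => ?_
    rw [gam_map, map_smul, map_smul, algebraMap_smul]
  exact ⟨Θ.toAddMonoidHom, surjective_Theta θ hθ _ hbc Θ hΘ, fun p w => Θ.map_smul p w,
    fun c w => (Θ.restrictScalars R).map_smul c w, hΘ, fun w hw => ker_le_span θ hθ _ hbc Θ hΘ hw, ⟨hbc.equiv⟩⟩

end Model

/-- The relations: finitely many elements of the kernel of `A[x]^r → N` generating it up to powers of the elements
of `I₀`. -/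
theorem exists_relations {n r : ℕ} {A B N : Type u} [CommRing A] [CommRing B] [Algebra A B]
    (g : MvPolynomial (Fin n) A →ₐ[A] B) (hg : Function.Surjective g) (hgker : (RingHom.ker g.toRingHom).FG)
    [AddCommGroup N] [Module A N] [Module B N] [IsScalarTower A B N]
    (θB : (Fin r → B) →ₗ[B] N) (hθB : Function.Surjective θB) (I₀ : Ideal A) (hI₀ : I₀.FG)
    (hfp : ∀ a ∈ I₀, Module.FinitePresentation (Localization.Away (algebraMap A B a))
      (LocalizedModule (Submonoid.powers (algebraMap A B a)) N)) :
    ∃ (k : ℕ) (ρ : Fin k → Fin r → MvPolynomial (Fin n) A), (∀ j, θB (fun i => g (ρ j i)) = 0) ∧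
      ∀ v, θB (fun i => g (v i)) = 0 → ∀ a ∈ I₀, ∃ m : ℕ,
        a ^ m • v ∈ Submodule.span (MvPolynomial (Fin n) A) (Set.range ρ) := by
  classical
  obtain ⟨t, ht⟩ := hI₀
  obtain ⟨kg, hkg⟩ := hgker
  -- relations over `B`
  have h1 : ∀ a : t, ∃ s : Finset (Fin r → B), (∀ w ∈ s, θB w = 0) ∧
      ∀ v, θB v = 0 → ∃ m : ℕ, (algebraMap A B a) ^ m • v ∈ Submodule.span B (s : Set (Fin r → B)) := fun a => by
    have := hfp a.1 (ht ▸ Submodule.subset_span a.2)
    exact exists_finset_ker θB hθB (algebraMap A B a.1)
  choose s hs0 hs using h1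
  -- lift to `A[x]`
  have h2 : ∀ w : Fin r → B, ∃ v : Fin r → MvPolynomial (Fin n) A, (fun i => g (v i)) = w := fun w => by
    choose v hv using fun i => hg (w i)
    exact ⟨v, funext hv⟩
  choose L hL using h2
  let Z : Finset (Fin r → MvPolynomial (Fin n) A) :=
    (Finset.univ.biUnion fun a : t => (s a).image L) ∪
      ((Finset.univ ×ˢ kg).image fun x : Fin r × MvPolynomial (Fin n) A => Pi.single x.1 x.2)
  let T := Submodule.span (MvPolynomial (Fin n) A) (Z : Set (Fin r → MvPolynomial (Fin n) A))
  have hkgmem : ∀ x ∈ kg, g x = 0 := fun x hx => by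
    have : x ∈ RingHom.ker g.toRingHom := hkg ▸ Submodule.subset_span hx
    exact this
  have hZ0 : ∀ v ∈ Z, θB (fun i => g (v i)) = 0 := by
    intro v hv
    rcases Finset.mem_union.mp hv with hv | hv
    · obtain ⟨a, -, ha⟩ := Finset.mem_biUnion.mp hv
      obtain ⟨w, hw, rfl⟩ := Finset.mem_image.mp ha
      rw [hL]
      exact hs0 a w hw
    · obtain ⟨⟨i, x⟩, hx, rfl⟩ := Finset.mem_image.mp hv
      rw [Finset.mem_product] at hx
      have : (fun j => g ((Pi.single i x : Fin r → MvPolynomial (Fin n) A) j)) = 0 := by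
        funext j
        by_cases hj : j = i
        · subst hj
          rw [Pi.single_eq_same]
          exact hkgmem x hx.2
        · rw [Pi.single_eq_of_ne hj, map_zero]
          rfl
      rw [this, map_zero]
  -- elements with image zero in `B^r`
  have hker : ∀ v : Fin r → MvPolynomial (Fin n) A, (∀ i, g (v i) = 0) → v ∈ T := by
    intro v hv
    have h3 : v = ∑ i, Pi.single i (v i) := (Finset.univ_sum_single v).symm
    rw [h3]
    refine Submodule.sum_mem _ fun i _ => ?_
    have h4 : v i ∈ Submodule.span (MvPolynomial (Fin n) A) (kg : Set (MvPolynomial (Fin n) A)) := by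
      have : v i ∈ RingHom.ker g.toRingHom := hv i
      rw [← hkg] at this
      exact this
    have h5 : Submodule.span (MvPolynomial (Fin n) A) (kg : Set (MvPolynomial (Fin n) A)) ≤
        T.comap (LinearMap.single (MvPolynomial (Fin n) A) (fun _ : Fin r => MvPolynomial (Fin n) A) i) := by
      rw [Submodule.span_le]
      intro x hx
      refine Submodule.subset_span ?_
      exact Finset.mem_coe.mpr (Finset.mem_union_right _ (Finset.mem_image.mpr ⟨(i, x), by simpa using hx, rfl⟩))
    exact h5 h4
  -- lifting membership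
  have hlift : ∀ (a : t) (w : Fin r → B), w ∈ Submodule.span B (s a : Set (Fin r → B)) →
      ∃ v ∈ T, (fun i => g (v i)) = w := by
    intro a w hw
    induction hw using Submodule.span_induction with
    | mem x hx =>
      refine ⟨L x, Submodule.subset_span ?_, hL x⟩
      exact Finset.mem_coe.mpr (Finset.mem_union_left _ (Finset.mem_biUnion.mpr
        ⟨a, Finset.mem_univ _, Finset.mem_image.mpr ⟨x, hx, rfl⟩⟩))
    | zero => exact ⟨0, zero_mem _, by funext i; simp⟩
    | add x y _ _ hx hy =>
      obtain ⟨v, hv, rfl⟩ := hx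
      obtain ⟨v', hv', rfl⟩ := hy
      exact ⟨v + v', add_mem hv hv', by funext i; simp⟩
    | smul b x _ hx =>
      obtain ⟨v, hv, rfl⟩ := hx
      obtain ⟨p, rfl⟩ := hg b
      exact ⟨p • v, Submodule.smul_mem _ _ hv, by funext i; simp⟩
  have hfin : ∀ v : Fin r → MvPolynomial (Fin n) A, θB (fun i => g (v i)) = 0 → ∀ a : t, ∃ m : ℕ,
      a.1 ^ m • v ∈ T := by
    intro v hv a
    obtain ⟨m, hm⟩ := hs a _ hv
    obtain ⟨v', hv', h6⟩ := hlift a _ hm
    refine ⟨m, ?_⟩
    have h7 : a.1 ^ m • v - v' ∈ T := by
      refine hker _ fun i => ?_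
      have h8 := congrFun h6 i
      rw [Pi.sub_apply, map_sub, sub_eq_zero, h8, Pi.smul_apply, Pi.smul_apply, map_smul, ← map_pow,
        algebraMap_smul]
    have := add_mem h7 hv'
    rwa [sub_add_cancel] at this
  -- all elements of `I₀`
  have hfin' : ∀ v : Fin r → MvPolynomial (Fin n) A, θB (fun i => g (v i)) = 0 → ∀ a ∈ I₀, ∃ m : ℕ,
      a ^ m • v ∈ T := by
    intro v hv
    let Lw : Ideal A :=
      { carrier := {c | c • v ∈ T}
        add_mem' := fun {a b} ha hb => by
          change (a + b) • v ∈ T
          rw [add_smul]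
          exact add_mem ha hb
        zero_mem' := by
          change (0 : A) • v ∈ T
          rw [zero_smul]
          exact zero_mem _
        smul_mem' := fun a b hb => by
          change (a * b) • v ∈ T
          rw [mul_smul]
          exact Submodule.smul_of_tower_mem _ _ hb }
    have h9 : I₀ ≤ Lw.radical := by
      rw [← ht]
      refine Submodule.span_le.mpr fun a ha => ?_
      obtain ⟨m, hm⟩ := hfin v hv ⟨a, ha⟩
      exact ⟨m, hm⟩
    intro a ha
    obtain ⟨m, hm⟩ := h9 ha
    exact ⟨m, hm⟩
  refine ⟨Z.card, fun j => (Z.equivFin.symm j).1, fun j => hZ0 _ (Z.equivFin.symm j).2, fun v hv a ha => ?_⟩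
  have hrange : Set.range (fun j => (Z.equivFin.symm j).1) = (Z : Set (Fin r → MvPolynomial (Fin n) A)) := by
    ext x
    constructor
    · rintro ⟨j, rfl⟩
      exact (Z.equivFin.symm j).2
    · intro hx
      exact ⟨Z.equivFin ⟨x, hx⟩, by simp⟩
  rw [hrange]
  exact hfin' v hv a ha

attribute [local instance] Algebra.TensorProduct.rightAlgebra in
open TensorProduct in
/-- The flattening theorem for finite modules over finitely presented algebras, from the one for quotients of
free modules over polynomial rings. -/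
theorem flattening_ring_of_main {A B : Type u} [CommRing A] [CommRing B] [Algebra A B]
    [Algebra.FinitePresentation A B]
    (N : Type u) [AddCommGroup N] [Module A N] [Module B N] [IsScalarTower A B N]
    [Module.Finite B N] (I₀ : Ideal A) (hI₀ : I₀.FG)
    (main : ∀ {n r k : ℕ} (ρ : Fin k → Fin r → MvPolynomial (Fin n) A),
      (∀ (R : Type u) [CommRing R] [Algebra A R], I₀.map (algebraMap A R) = ⊤ →
        Module.Flat R ((Fin r → MvPolynomial (Fin n) R) ⧸ Submodule.span (MvPolynomial (Fin n) R)
          (Set.range fun j => frMap (Fin r) (Fin n) (algebraMap A R) (ρ j)))) →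
      ∃ J : Ideal A, J.FG ∧ J.radical = I₀.radical ∧ ∀ (R : Type u) [CommRing R] [Algebra A R] (d : R),
        d ∈ nonZeroDivisors R → J.map (algebraMap A R) = Ideal.span {d} → Good R ρ d)
    (hflat : ∀ a ∈ I₀, Module.Flat A (LocalizedModule (Submonoid.powers (algebraMap A B a)) N))
    (hfp : ∀ a ∈ I₀, Module.FinitePresentation (Localization.Away (algebraMap A B a))
      (LocalizedModule (Submonoid.powers (algebraMap A B a)) N)) :
    ∃ J : Ideal A, J.FG ∧ J.radical = I₀.radical ∧
      ∀ (R S' N' G : Type u) [CommRing R] [CommRing S'] [Algebra A R] [Algebra R S']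
        [Algebra B S'] [Algebra A S'] [IsScalarTower A R S'] [IsScalarTower A B S']
        [Algebra.IsPushout A B R S']
        [AddCommGroup N'] [Module S' N'] [Module B N'] [Module R N'] [IsScalarTower B S' N']
        [IsScalarTower R S' N'] (φ : N →ₗ[B] N'), IsBaseChange S' φ →
        ∀ [AddCommGroup G] [Module S' G] [Module R G] [IsScalarTower R S' G]
          (π : N' →ₗ[S'] G) (d : R), d ∈ nonZeroDivisors R →
          J.map (algebraMap A R) = Ideal.span {d} → Function.Surjective π →
          (∀ m : N', π m = 0 ↔ ∃ n : ℕ, d ^ n • m = 0) →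
          Module.Flat R G ∧ Module.FinitePresentation S' G := by
  obtain ⟨n, g, hg, hgker⟩ := Algebra.FinitePresentation.out (R := A) (A := B)
  obtain ⟨r, θB, hθB⟩ := Module.Finite.exists_fin' B N
  obtain ⟨k, ρ, hρ0, hρ⟩ := exists_relations g hg hgker θB hθB I₀ hI₀ hfp
  have hspan0 : ∀ {R S' N' : Type u} [CommRing R] [CommRing S'] [Algebra A R] [Algebra R S'] [Algebra B S']
      [AddCommGroup N'] [Module S' N'] [Module B N'] (φ : N →ₗ[B] N')
      (Θ : (Fin r → MvPolynomial (Fin n) R) →+ N')
      (_ : ∀ (p : MvPolynomial (Fin n) R) w, Θ (p • w) = gam g R S' p • Θ w)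
      (_ : ∀ v, Θ (frMap (Fin r) (Fin n) (algebraMap A R) v) = φ (θB fun i => g (v i)))
      (w : Fin r → MvPolynomial (Fin n) R) (_ : w ∈ Submodule.span (MvPolynomial (Fin n) R)
        (Set.range fun j => frMap (Fin r) (Fin n) (algebraMap A R) (ρ j))), Θ w = 0 := by
    intro R S' N' _ _ _ _ _ _ _ _ φ Θ h1 h2 w hw
    induction hw using Submodule.span_induction with
    | mem x hx =>
      obtain ⟨j, rfl⟩ := hx
      change Θ (frMap (Fin r) (Fin n) (algebraMap A R) (ρ j)) = 0
      rw [h2, hρ0, map_zero]
    | zero => exact map_zero _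
    | add x y _ _ hx hy => rw [map_add, hx, hy, add_zero]
    | smul p x _ hx => rw [h1, hx, smul_zero]
  obtain ⟨J, hJ, hJr, hgood⟩ := main ρ (by
    intro R _ _ hI
    let S' := R ⊗[A] B
    let N' := S' ⊗[B] N
    let φ : N →ₗ[B] N' := TensorProduct.mk B S' N 1
    have hφ : IsBaseChange S' φ := TensorProduct.isBaseChange B N S'
    have hpo : Algebra.IsPushout A B R S' := inferInstance
    obtain ⟨Θ, hΘs, hΘp, hΘR, hΘf, hΘk, ⟨E⟩⟩ := exists_Theta (R := R) (S' := S') (N' := N') g hg θB hθB φ hφ
    have : Module.Flat R (R ⊗[A] N) := flat_baseChange_of_away R I₀ hflat hI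
    have hflN : Module.Flat R N' := Module.Flat.of_linearEquiv E.symm
    let j3 : Module (MvPolynomial (Fin n) R) N' := Module.compHom N' (gam g R S').toRingHom
    have j4 : IsScalarTower R (MvPolynomial (Fin n) R) N' := IsScalarTower.of_algebraMap_smul fun a x => by
      change (gam g R S' (algebraMap R _ a)) • x = a • x
      rw [(gam g R S').commutes, algebraMap_smul]
    let Ξ : (Fin r → MvPolynomial (Fin n) R) →ₗ[MvPolynomial (Fin n) R] N' :=
      { toFun := Θ
        map_add' := map_add Θ
        map_smul' := hΘp }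
    have hk : Submodule.span (MvPolynomial (Fin n) R)
        (Set.range fun j => frMap (Fin r) (Fin n) (algebraMap A R) (ρ j)) = LinearMap.ker Ξ := by
      refine le_antisymm (fun w hw => hspan0 φ Θ hΘp hΘf w hw) fun w hw => ?_
      obtain ⟨m, hm⟩ := exists_pow_smul_mem I₀ _ ρ (fun v hv a ha => hρ v hv a ha) (hΘk w hw) (c := 1)
        (by rw [hI]; exact Ideal.le_radical trivial)
      rwa [one_pow, one_smul] at hm
    rw [hk]
    exact Module.Flat.of_linearEquiv ((Ξ.quotKerEquivOfSurjective hΘs).restrictScalars R))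
  refine ⟨J, hJ, hJr, ?_⟩
  intro R S' N' G _ _ _ _ _ _ _ _ _ _ _ _ _ _ _ φ hφ _ _ _ _ π d hd hJd hπs hπk
  obtain ⟨hfg, hfl⟩ := hgood R d hd hJd
  obtain ⟨Θ, hΘs, hΘp, hΘR, hΘf, hΘk, -⟩ := exists_Theta (R := R) (S' := S') (N' := N') g hg θB hθB φ hφ
  let j3 : Module (MvPolynomial (Fin n) R) G := Module.compHom G (gam g R S').toRingHom
  have j4 : IsScalarTower R (MvPolynomial (Fin n) R) G := IsScalarTower.of_algebraMap_smul fun a x => by
    change (gam g R S' (algebraMap R _ a)) • x = a • x
    rw [(gam g R S').commutes, algebraMap_smul]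
  let Ξ : (Fin r → MvPolynomial (Fin n) R) →ₗ[MvPolynomial (Fin n) R] G :=
    { toFun := fun w => π (Θ w)
      map_add' := fun a b => by rw [map_add, map_add]
      map_smul' := fun p w => by
        rw [hΘp, map_smul]
        rfl }
  have hΞ : Function.Surjective Ξ := hπs.comp hΘs
  have hdr : d ∈ (I₀.map (algebraMap A R)).radical := by
    have h1 : d ∈ J.map (algebraMap A R) := by rw [hJd]; exact Ideal.mem_span_singleton_self d
    have h2 : J ≤ I₀.radical := by rw [← hJr]; exact Ideal.le_radical
    exact Ideal.map_radical_le _ (Ideal.map_mono h2 h1)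
  have hk : sat ρ d = LinearMap.ker Ξ := by
    ext w
    have e1 : w ∈ LinearMap.ker Ξ ↔ ∃ m : ℕ, Θ (d ^ m • w) = 0 := by
      rw [LinearMap.mem_ker]
      refine (hπk (Θ w)).trans (exists_congr fun m => ?_)
      rw [hΘR]
    rw [e1, mem_sat]
    constructor
    · rintro ⟨m, hm⟩
      exact ⟨m, hspan0 φ Θ hΘp hΘf _ hm⟩
    · rintro ⟨m, hm⟩
      obtain ⟨m', hm'⟩ := exists_pow_smul_mem I₀ _ ρ (fun v hv a ha => hρ v hv a ha) (hΘk _ hm) hdr
      exact ⟨m' + m, by rw [pow_add, mul_smul]; exact hm'⟩
  constructor
  · have e2 := (Ξ.quotKerEquivOfSurjective hΞ).restrictScalars R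
    rw [hk] at hfl
    exact Module.Flat.of_linearEquiv e2.symm
  · have h3 : Module.FinitePresentation (MvPolynomial (Fin n) R) G :=
      Module.finitePresentation_of_surjective Ξ hΞ (hk ▸ hfg)
    let j5 : Algebra (MvPolynomial (Fin n) R) S' := (gam g R S').toRingHom.toAlgebra
    have j6 : IsScalarTower (MvPolynomial (Fin n) R) S' G := IsScalarTower.of_algebraMap_smul fun _ _ => rfl
    have j7 : Module.Finite (MvPolynomial (Fin n) R) S' :=
      Module.Finite.of_surjective (Algebra.linearMap (MvPolynomial (Fin n) R) S')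
        (gam_surjective g hg (hpo := Algebra.IsPushout.symm inferInstance))
    exact Desc.FPSections.finitePresentation_of_restrictScalars (MvPolynomial (Fin n) R) S' G

end Groth.Agent.Flat2C.ZRWrap
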