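import Groth.Agent.Flat2C.ZRMain
import Groth.Agent.Flat2C.ZRWrap
import Mathlib.RingTheory.Flat.Basic
import Mathlib.RingTheory.FinitePresentation
import Mathlib.Algebra.Module.FinitePresentation
import Mathlib.Algebra.Module.LocalizedModule.Basic
import Mathlib.RingTheory.Localization.Away.Basic
import Mathlib.RingTheory.IsTensorProduct

/-!
# Theorem A: flattening by blowing up, ring level, Cartier-test form

The proof is a compactness argument in the style of Zariski--Riemann spaces: if no ideal `J` works,
an ultrafilter on the set of admissible ideals of "bad" valuations produces a valuation on a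
localization of `A` for which the strict transform is flat and of finite presentation; spreading out
gives a contradiction.
-/

set_option autoImplicit false
universe u

namespace Groth.Agent.Flat2C.FlatteningRing

/-- **Flattening, ring level.**  Let `B` be a finitely presented `A`-algebra, `N` a finite
`B`-module and `I₀` a finitely generated ideal of `A` such that, for every `a ∈ I₀`, the module
`N_a` is flat over `A` and finitely presented over `B_a`.  Then there is a finitely generated ideal
`J` with the same radical as `I₀` such that for every `A`-algebra `R` in which `J` becomes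
principal generated by a nonzerodivisor `d`, the quotient `G` of `N' = S' ⊗_B N` (`S' = R ⊗_A B`,
any models) by its `d`-power torsion is flat over `R` and finitely presented over `S'`. -/
theorem flattening_ring {A B : Type u} [CommRing A] [CommRing B] [Algebra A B]
    [Algebra.FinitePresentation A B]
    (N : Type u) [AddCommGroup N] [Module A N] [Module B N] [IsScalarTower A B N]
    [Module.Finite B N] (I₀ : Ideal A) (hI₀ : I₀.FG)
    (hflat : ∀ a ∈ I₀, Module.Flat A (LocalizedModule (Submonoid.powers (algebraMap A B a)) N))
    (hfp : ∀ a ∈ I₀, Module.FinitePresentation (Localization.Away (algebraMap A B a))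
      (LocalizedModule (Submonoid.powers (algebraMap A B a)) N)) :
    ∃ J : Ideal A, J.FG ∧ J.radical = I₀.radical ∧
      ∀ (R S' N' G : Type u) [CommRing R] [CommRing S'] [Algebra A R] [Algebra R S']
        [Algebra B S'] [Algebra A S'] [IsScalarTower A R S'] [IsScalarTower A B S']
        [Algebra.IsPushout A B R S']
        [AddCommGroup N'] [Module S' N'] [Module B N'] [Module R N'] [IsScalarTower B S' N']
        [IsScalarTower R S' N'] (φ : N →ₗ[B] N'), IsBaseChange S' φ →
        ∀ [AddCommGroup G] [Module S' G] [Module R G] [IsScalarTower R S' G]
          (π : N' →ₗ[S'] G) (d : R), d ∈ nonZeroDivisors R →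
          J.map (algebraMap A R) = Ideal.span {d} → Function.Surjective π →
          (∀ m : N', π m = 0 ↔ ∃ n : ℕ, d ^ n • m = 0) →
          Module.Flat R G ∧ Module.FinitePresentation S' G :=
  ZRWrap.flattening_ring_of_main N I₀ hI₀ (fun ρ h => ZRMain.main I₀ hI₀ ρ h) hflat hfp

end Groth.Agent.Flat2C.FlatteningRing
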