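import Mathlib.RingTheory.IsTensorProduct
import Mathlib.RingTheory.Finiteness.Ideal
import Mathlib.RingTheory.Flat.FaithfullyFlat.Basic
import Mathlib.RingTheory.Flat.Stability
import Mathlib.LinearAlgebra.TensorProduct.RightExactness
import Mathlib.LinearAlgebra.TensorProduct.Pi

/-!
# Torsion with respect to an ideal, and flat base change

* `powTors I M` : the submodule of `M` of elements killed by some power of the ideal `I`.
* `powTors_baseChange` : for `A → B` flat, `I` finitely generated, `N = B ⊗_A M`: the `IB`-power torsion of `N` is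
  generated by the image of the `I`-power torsion of `M`.
-/

set_option autoImplicit false
universe u v w

namespace Groth.Agent.Flat2C.StrictMAlg

open Pointwise TensorProduct

variable {A : Type*} [CommRing A] (I : Ideal A) (M : Type*) [AddCommGroup M] [Module A M]

/-- The elements of `M` killed by some power of `I`. -/
def powTors : Submodule A M where
  carrier := {m | ∃ n : ℕ, ∀ a ∈ I ^ n, a • m = 0}
  add_mem' := by
    rintro x y ⟨n, hn⟩ ⟨m, hm⟩
    refine ⟨max n m, fun a ha => ?_⟩
    rw [smul_add, hn a (Ideal.pow_le_pow_right (le_max_left _ _) ha),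
      hm a (Ideal.pow_le_pow_right (le_max_right _ _) ha), add_zero]
  zero_mem' := ⟨0, fun a _ => smul_zero a⟩
  smul_mem' := by
    rintro c x ⟨n, hn⟩
    exact ⟨n, fun a ha => by rw [smul_comm, hn a ha, smul_zero]⟩

variable {M}

theorem mem_powTors {m : M} : m ∈ powTors I M ↔ ∃ n : ℕ, ∀ a ∈ I ^ n, a • m = 0 := Iff.rfl

theorem mem_powTors_of_span {m : M} {n : ℕ} {s : Set A} (hs : Ideal.span s = I ^ n)
    (h : ∀ a ∈ s, a • m = 0) : m ∈ powTors I M := by
  refine ⟨n, fun a ha => ?_⟩
  rw [← hs] at ha
  induction ha using Submodule.span_induction with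
  | mem x hx => exact h x hx
  | zero => exact zero_smul _ _
  | add x y _ _ hx hy => rw [add_smul, hx, hy, add_zero]
  | smul a x _ hx => rw [smul_eq_mul, mul_smul, hx, smul_zero]

variable {I}

theorem powTors_mono {J : Ideal A} (h : I ≤ J) : powTors J M ≤ powTors I M :=
  fun _ ⟨n, hn⟩ => ⟨n, fun a ha => hn a (Ideal.pow_right_mono h n ha)⟩

theorem powTors_pow {k : ℕ} (hk : 0 < k) : powTors (I ^ k) M = powTors I M := by
  apply le_antisymm
  · rintro m ⟨n, hn⟩
    exact ⟨k * n, fun a ha => hn a (by rwa [← pow_mul])⟩
  · rintro m ⟨n, hn⟩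
    refine ⟨n, fun a ha => hn a ?_⟩
    rw [← pow_mul] at ha
    exact Ideal.pow_le_pow_right (Nat.le_mul_of_pos_left n hk) ha

theorem powTors_of_eq_top (h : I = ⊤) : powTors I M = ⊥ := by
  rw [eq_bot_iff]
  rintro m ⟨n, hn⟩
  rw [h, Ideal.top_pow] at hn
  simpa using hn 1 trivial

/-- Torsion with respect to a principal ideal. -/
theorem mem_powTors_span_singleton {f : A} {m : M} :
    m ∈ powTors (Ideal.span {f}) M ↔ ∃ n : ℕ, f ^ n • m = 0 := by
  constructor
  · rintro ⟨n, hn⟩
    exact ⟨n, hn _ (Ideal.pow_mem_pow (Ideal.mem_span_singleton_self f) n)⟩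
  · rintro ⟨n, hn⟩
    refine mem_powTors_of_span (n := n) (s := {f ^ n}) _ (Ideal.span_singleton_pow f n).symm ?_
    rintro a rfl
    exact hn

/-- The quotient by the torsion is torsion free, for a finitely generated ideal. -/
theorem powTors_quotient (hI : I.FG) : powTors I (M ⧸ powTors I M) = ⊥ := by
  rw [eq_bot_iff]
  rintro x ⟨n, hn⟩
  obtain ⟨m, rfl⟩ := Submodule.Quotient.mk_surjective _ x
  rw [Submodule.mem_bot, Submodule.Quotient.mk_eq_zero]
  obtain ⟨s, hs⟩ : (I ^ n).FG := hI.pow
  have h1 : ∀ a ∈ s, ∃ k : ℕ, ∀ b ∈ I ^ k, b • a • m = 0 := by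
    intro a ha
    have := hn a (hs ▸ Submodule.subset_span ha)
    rw [← Submodule.Quotient.mk_smul, Submodule.Quotient.mk_eq_zero] at this
    exact this
  choose! k hk using h1
  let K := s.sup k
  refine mem_powTors_of_span (n := n + K) (s := (s : Set A) * ((I ^ K : Ideal A) : Set A)) _ ?_ ?_
  · rw [pow_add, ← Ideal.span_mul_span', Ideal.span_eq, ← hs]
  · rintro _ ⟨a, ha, b, hb, rfl⟩
    dsimp only
    rw [mul_comm, mul_smul]
    exact hk a ha b (Ideal.pow_le_pow_right (Finset.le_sup ha) hb)

/-- If `f` is injective modulo torsion: a linear map whose target has no torsion kills the torsion. -/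
theorem map_powTors_le {N : Type*} [AddCommGroup N] [Module A N] (f : M →ₗ[A] N) :
    (powTors I M).map f ≤ powTors I N := by
  rintro _ ⟨m, ⟨n, hn⟩, rfl⟩
  exact ⟨n, fun a ha => by rw [← map_smul, hn a ha, map_zero]⟩

section BaseChange

variable {B : Type*} [CommRing B] [Algebra A B] {N : Type*} [AddCommGroup N] [Module B N] [Module A N]
  [IsScalarTower A B N] {f : M →ₗ[A] N}

theorem map_mem_powTors_map {m : M} (hm : m ∈ powTors I M) (f : M →ₗ[A] N) :
    f m ∈ powTors (I.map (algebraMap A B)) N := by
  obtain ⟨n, hn⟩ := hm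
  refine mem_powTors_of_span (n := n) (s := algebraMap A B '' (I ^ n : Ideal A)) _ ?_ ?_
  · rw [← Ideal.map_pow]; rfl
  · rintro _ ⟨a, ha, rfl⟩
    rw [algebraMap_smul, ← map_smul, hn a ha, map_zero]

/-- Flat base change of the torsion submodule. -/
theorem powTors_baseChange [Module.Flat A B] (hf : IsBaseChange B f) (hI : I.FG) :
    powTors (I.map (algebraMap A B)) N = Submodule.span B (f '' (powTors I M : Set M)) := by
  classical
  apply le_antisymm
  · rintro x ⟨n, hn⟩
    obtain ⟨s, hs⟩ : (I ^ n).FG := hI.pow
    -- multiplication by the generators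
    let φ : M →ₗ[A] (s → M) := LinearMap.pi fun a => LinearMap.lsmul A M a.1
    let K := LinearMap.ker φ
    have hex : Function.Exact K.subtype φ := LinearMap.exact_subtype_ker_map φ
    have hex2 := Module.Flat.lTensor_exact B hex
    let y := hf.equiv.symm x
    have hy : LinearMap.lTensor B φ y = 0 := by
      have hφ : ∀ a : s, LinearMap.lTensor B (LinearMap.proj a) (LinearMap.lTensor B φ y) = 0 := by
        intro a
        rw [← LinearMap.comp_apply, ← LinearMap.lTensor_comp]
        have h1 : (LinearMap.proj a ∘ₗ φ) = LinearMap.lsmul A M a.1 := by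
          ext m; rfl
        rw [h1]
        have h2 : LinearMap.lTensor B (LinearMap.lsmul A M a.1) y = a.1 • y := by
          generalize y = y
          induction y using TensorProduct.induction_on with
          | zero => simp
          | tmul b m => simp
          | add x y hx hy => rw [map_add, hx, hy, smul_add]
        rw [h2]
        have h3 : a.1 • x = 0 := by
          rw [← algebraMap_smul B]
          apply hn
          rw [← Ideal.map_pow]
          exact Ideal.mem_map_of_mem _ (hs ▸ Submodule.subset_span a.2)
        apply hf.equiv.injective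
        rw [map_zero, ← algebraMap_smul B a.1 y, map_smul, algebraMap_smul]
        change a.1 • hf.equiv (hf.equiv.symm x) = 0
        rw [LinearEquiv.apply_symm_apply, h3]
      -- `B ⊗ (s → M) ≅ s → B ⊗ M`
      have hinj : Function.Injective (TensorProduct.piRight A A B (fun _ : s => M)) :=
        (TensorProduct.piRight A A B (fun _ : s => M)).injective
      apply hinj
      rw [map_zero]
      funext a
      rw [Pi.zero_apply, ← hφ a]
      generalize LinearMap.lTensor B φ y = z
      induction z using TensorProduct.induction_on with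
      | zero => simp
      | tmul b m => simp
      | add x y hx hy => rw [map_add, map_add, Pi.add_apply, hx, hy]
    obtain ⟨z, hz⟩ := (hex2 y).1 hy
    have hx : x = hf.equiv (LinearMap.lTensor B K.subtype z) := by
      rw [hz]; exact (LinearEquiv.apply_symm_apply _ _).symm
    rw [hx]
    clear hx hz
    induction z using TensorProduct.induction_on with
    | zero => simp
    | tmul b m =>
      rw [LinearMap.lTensor_tmul, IsBaseChange.equiv_tmul]
      refine Submodule.smul_mem _ _ (Submodule.subset_span ⟨_, ?_, rfl⟩)
      refine mem_powTors_of_span (n := n) (s := (s : Set A)) _ hs fun a ha => ?_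
      have := m.2
      rw [LinearMap.mem_ker] at this
      exact congrFun this ⟨a, ha⟩
    | add x y hx hy => rw [map_add, map_add]; exact Submodule.add_mem _ hx hy
  · rw [Submodule.span_le]
    rintro _ ⟨m, hm, rfl⟩
    exact map_mem_powTors_map hm f

end BaseChange

end Groth.Agent.Flat2C.StrictMAlg
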