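import Groth.Prelude.Def_BlowUp2
import Groth.Prelude.Def_FlatMod2
import Groth.Agent.Divis.CartierStalk
import Groth.Agent.Divis.IdealFT
import Groth.Agent.CycB.StalkExact
import Groth.Agent.Ega1.SubSheaf
import Groth.Agent.Ega1.ModGerm
import Groth.Agent.Flat2C.StrictMAlg

/-!
# Strict transforms of modules, stalkwise

`E` is an ideal sheaf of finite type on a scheme `X`, `H` an `O_X`-module (not necessarily quasi-coherent).

* `germ_mem_powTors`, `killed_of_germs`: a section `m` of `H` over an affine open `V` is killed by a power of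
  `E` (`BlowUp.KilledByPowerNear`) iff all its germs are `E_x`-power torsion.
* `IsTorsQuot E π`: the stalk maps of `π : H ⟶ G` are surjective with kernel the `E_x`-power torsion.
* `isTorsQuot_iff`: equivalence with the formulation through affine opens used in `BlowUp.IsStrictTransform`.
* `exists_torsQuot`: existence, for every `H`.
* `isStrictTransform_iff`, `exists_isStrictTransform`.
-/

set_option autoImplicit false
universe u

open CategoryTheory CategoryTheory.Limits AlgebraicGeometry TopologicalSpace Opposite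

namespace Groth.Agent.Flat2C.StrictM

open Groth.Agent.Divis.CartierBasic Groth.Agent.Flat2C.StrictMAlg Groth.Agent.Ega1

variable {X : Scheme.{u}}

section Killed

variable (E : X.IdealSheafData) (H : X.Modules)

theorem span_germ_pow (V : X.affineOpens) {x : X} (hx : x ∈ V.1) (n : ℕ) :
    Ideal.span ((X.presheaf.germ V.1 x hx) '' ((E ^ n).ideal V : Set Γ(X, V.1))) =
      stalkIdeal E x ^ n := by
  rw [← stalkIdeal_pow, stalkIdeal_eq (E ^ n) V hx]
  rfl

/-- Germs of a section killed by a power of `E` are torsion. -/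
theorem germ_mem_powTors (V : X.affineOpens) (m : Γ(H, V.1)) (h : BlowUp.KilledByPowerNear E H V m)
    (x : X) (hx : x ∈ V.1) :
    ModGerm.germ H V.1 x hx m ∈ powTors (stalkIdeal E x) (H.presheaf.stalk x) := by
  obtain ⟨n, hn⟩ := h
  refine mem_powTors_of_span (n := n) _ (span_germ_pow E V hx n) ?_
  rintro _ ⟨a, ha, rfl⟩
  rw [← ModGerm.germ_smul, hn a ha, map_zero]

variable {E}

theorem ideal_pow_eq_span_res {U W : X.affineOpens} (hWU : W.1 ≤ U.1) (n : ℕ) (s : Set Γ(X, U.1))
    (hs : Ideal.span s = (E ^ n).ideal U) :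
    Ideal.span ((X.presheaf.map (homOfLE hWU).op) '' s) = (E ^ n).ideal W := by
  rw [← (E ^ n).map_ideal (U := W) (V := U) hWU, ← hs, Ideal.map_span]
  rfl

theorem killed_of_span (V : X.affineOpens) (m : Γ(H, V.1)) (n : ℕ) (s : Set Γ(X, V.1))
    (hs : Ideal.span s = (E ^ n).ideal V) (h : ∀ a ∈ s, a • m = 0) :
    BlowUp.KilledByPowerNear E H V m := by
  refine ⟨n, fun a ha => ?_⟩
  rw [← hs] at ha
  induction ha using Submodule.span_induction with
  | mem x hx => exact h x hx
  | zero => exact zero_smul _ _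
  | add x y _ _ hx hy => rw [add_smul, hx, hy, add_zero]
  | smul a x _ hx => rw [smul_eq_mul, mul_smul, hx, smul_zero]

/-- A section whose germ at `x` is torsion is killed by a power of `E` near `x`. -/
theorem exists_killed_of_germ (hE : BlowUp.IsFiniteTypeIdeal E) (V : X.Opens) (x : X) (hx : x ∈ V)
    (m : Γ(H, V)) (h : ModGerm.germ H V x hx m ∈ powTors (stalkIdeal E x) (H.presheaf.stalk x)) :
    ∃ (W : X.affineOpens) (hWV : W.1 ≤ V), x ∈ W.1 ∧
      BlowUp.KilledByPowerNear E H W (H.presheaf.map (homOfLE hWV).op m) := by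
  classical
  obtain ⟨U, hxU, hUV, -⟩ := exists_affine_le V V hx hx
  obtain ⟨n, hn⟩ := h
  obtain ⟨s, hs⟩ : ((E ^ n).ideal U).FG := by
    rw [Scheme.IdealSheafData.ideal_pow]
    exact (hE U).pow
  let m' : Γ(H, U.1) := H.presheaf.map (homOfLE hUV).op m
  have h1 : ∀ a ∈ s, ∃ (W : X.Opens) (_ : x ∈ W) (i : W ≤ U.1),
      H.presheaf.map (homOfLE i).op (a • m') = 0 := by
    intro a ha
    apply ModGerm.germ_eq_zero H hxU
    rw [ModGerm.germ_smul, ModGerm.germ_res]
    apply hn
    rw [← stalkIdeal_pow, stalkIdeal_eq (E ^ n) U hxU, ← hs]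
    exact Ideal.mem_map_of_mem _ (Submodule.subset_span ha)
  choose! W hxW iW hW using h1
  -- intersect
  let W' : X.Opens := U.1 ⊓ ⨅ a : s, W a.1
  have hxW' : x ∈ W' := by
    refine ⟨hxU, ?_⟩
    have : x ∈ ((⨅ a : s, W a.1 : X.Opens) : Set X) := by
      rw [Opens.coe_iInf]
      exact Set.mem_iInter.2 fun a => hxW a.1 a.2
    exact this
  obtain ⟨Z, hxZ, hZW, -⟩ := exists_affine_le W' W' hxW' hxW'
  have hZU : Z.1 ≤ U.1 := hZW.trans inf_le_left
  refine ⟨Z, hZU.trans hUV, hxZ, ?_⟩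
  refine killed_of_span H Z _ n _ (ideal_pow_eq_span_res hZU n s hs) ?_
  rintro _ ⟨a, ha, rfl⟩
  have hZa : Z.1 ≤ W a := hZW.trans (inf_le_right.trans (iInf_le (fun a : s => W a.1) ⟨a, ha⟩))
  have h2 : H.presheaf.map (homOfLE hZU).op (a • m') = 0 := by
    have := hW a ha
    rw [← ModGerm.res_res H (iW a ha) hZa, this, map_zero]
  rw [ModGerm.map_smul', ModGerm.res_res] at h2
  exact h2

theorem KilledByPowerNear.mono {V : X.affineOpens} {m : Γ(H, V.1)}
    (h : BlowUp.KilledByPowerNear E H V m) : ∃ n : ℕ, ∀ k, n ≤ k → ∀ a ∈ (E ^ k).ideal V, a • m = 0 := by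
  obtain ⟨n, hn⟩ := h
  refine ⟨n, fun k hk a ha => hn a ?_⟩
  rw [Scheme.IdealSheafData.ideal_pow] at ha ⊢
  exact Ideal.pow_le_pow_right hk ha

/-- A section over an affine open all of whose germs are torsion is killed by a power of `E`. -/
theorem killed_of_germs (hE : BlowUp.IsFiniteTypeIdeal E) (V : X.affineOpens) (m : Γ(H, V.1))
    (h : ∀ (x : X) (hx : x ∈ V.1), ModGerm.germ H V.1 x hx m ∈
      powTors (stalkIdeal E x) (H.presheaf.stalk x)) :
    BlowUp.KilledByPowerNear E H V m := by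
  classical
  have h1 : ∀ x : V.1, ∃ (W : X.affineOpens) (hWV : W.1 ≤ V.1), x.1 ∈ W.1 ∧
      BlowUp.KilledByPowerNear E H W (H.presheaf.map (homOfLE hWV).op m) :=
    fun x => exists_killed_of_germ H hE V.1 x.1 x.2 m (h x.1 x.2)
  choose W hWV hxW hW using h1
  choose n hn using fun x => KilledByPowerNear.mono H (hW x)
  obtain ⟨t, ht⟩ := V.2.isCompact.elim_finite_subcover (fun x : V.1 => ((W x).1 : Set X))
    (fun x => (W x).1.2) (fun x hx => Set.mem_iUnion.2 ⟨⟨x, hx⟩, hxW ⟨x, hx⟩⟩)
  refine ⟨t.sup n, fun a ha => ?_⟩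
  refine SubSheaf.section_ext H _ _ fun x hx => ?_
  obtain ⟨y, hy, hxy⟩ := Set.mem_iUnion₂.1 (ht hx)
  refine ⟨(W y).1, hWV y, hxy, ?_⟩
  rw [SubSheaf.res_smul, map_zero]
  apply hn y (t.sup n) (Finset.le_sup hy)
  rw [← (E ^ (t.sup n)).map_ideal (U := W y) (V := V) (hWV y)]
  exact Ideal.mem_map_of_mem _ ha

/-- A section over an affine open is killed by a power of `E` iff all its germs are torsion. -/
theorem killed_iff (hE : BlowUp.IsFiniteTypeIdeal E) (V : X.affineOpens) (m : Γ(H, V.1)) :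
    BlowUp.KilledByPowerNear E H V m ↔ ∀ (x : X) (hx : x ∈ V.1), ModGerm.germ H V.1 x hx m ∈
      powTors (stalkIdeal E x) (H.presheaf.stalk x) :=
  ⟨fun h x hx => germ_mem_powTors E H V m h x hx, killed_of_germs H hE V m⟩

end Killed

section Stalks

open Groth.Agent.CycB.StalkExact

theorem isZero_of_stalk {C : X.Modules} (h : ∀ x, ∀ t : C.presheaf.stalk x, t = 0) : IsZero C := by
  rw [IsZero.iff_id_eq_zero]
  apply Scheme.Modules.hom_ext
  intro U
  ext s
  exact ModGerm.section_eq_zero C _ fun x hx => h x _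

theorem epi_of_stalk {H G : X.Modules} (π : H ⟶ G) (h : ∀ x, Function.Surjective (stalkLin π x)) :
    Epi π := by
  have hC : IsZero (cokernel π) := by
    apply isZero_of_stalk
    intro x t
    obtain ⟨g, rfl⟩ := stalkLin_surjective (cokernel.π π) x t
    obtain ⟨m, rfl⟩ := h x g
    rw [← LinearMap.comp_apply, ← stalkLin_comp, cokernel.condition]
    obtain ⟨V, hV, s, rfl⟩ := TopCat.Presheaf.exists_germ_eq H.presheaf m
    rw [stalkLin_germ]
    change (cokernel π).presheaf.germ V x hV 0 = 0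
    rw [map_zero]
  exact Preadditive.epi_of_isZero_cokernel π hC

theorem stalkLin_eq_zero_iff_of_germ {H G : X.Modules} (π : H ⟶ G) {U : X.Opens} {x : X} (hx : x ∈ U)
    (m : Γ(H, U)) : stalkLin π x (ModGerm.germ H U x hx m) = ModGerm.germ G U x hx (π.app U m) :=
  stalkLin_germ π x hx m

/-- `π : H ⟶ G` is stalkwise the quotient by the `E_x`-power torsion. -/
def IsTorsQuot (E : X.IdealSheafData) {H G : X.Modules} (π : H ⟶ G) : Prop :=
  ∀ x : X, Function.Surjective (stalkLin π x) ∧
    ∀ t : H.presheaf.stalk x, stalkLin π x t = 0 ↔ t ∈ powTors (stalkIdeal E x) (H.presheaf.stalk x)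

theorem isTorsQuot_of_affine {E : X.IdealSheafData} (hE : BlowUp.IsFiniteTypeIdeal E) {H G : X.Modules}
    (π : H ⟶ G) [Epi π]
    (h : ∀ (V : X.affineOpens) (m : Γ(H, V.1)), π.app V.1 m = 0 ↔ BlowUp.KilledByPowerNear E H V m) :
    IsTorsQuot E π := by
  intro x
  refine ⟨stalkLin_surjective π x, fun t => ⟨fun ht => ?_, fun ht => ?_⟩⟩
  · obtain ⟨V, hV, m, rfl⟩ := TopCat.Presheaf.exists_germ_eq H.presheaf t
    have h1 : ModGerm.germ G V x hV (π.app V m) = 0 := by
      rw [← stalkLin_eq_zero_iff_of_germ]; exact ht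
    obtain ⟨W, hW, i, h2⟩ := ModGerm.germ_eq_zero G hV _ h1
    obtain ⟨Z, hxZ, hZW, -⟩ := exists_affine_le W W hW hW
    have h3 : π.app Z.1 (H.presheaf.map (homOfLE (hZW.trans i)).op m) = 0 := by
      have := SubSheaf.app_res π (hZW.trans i) m
      refine this.trans ?_
      rw [← SubSheaf.res_res G i hZW]
      exact (congrArg _ h2).trans (map_zero _)
    have h4 := germ_mem_powTors E H Z _ ((h Z _).1 h3) x hxZ
    rw [ModGerm.germ_res] at h4
    exact h4
  · obtain ⟨V, hV, m, rfl⟩ := TopCat.Presheaf.exists_germ_eq H.presheaf t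
    obtain ⟨W, hWV, hxW, hW⟩ := exists_killed_of_germ H hE V x hV m ht
    have h1 := (h W _).2 hW
    have h2 : stalkLin π x (ModGerm.germ H W.1 x hxW (H.presheaf.map (homOfLE hWV).op m)) = 0 := by
      rw [stalkLin_eq_zero_iff_of_germ, h1, map_zero]
    rw [ModGerm.germ_res] at h2
    exact h2

theorem IsTorsQuot.epi {E : X.IdealSheafData} {H G : X.Modules} {π : H ⟶ G} (h : IsTorsQuot E π) :
    Epi π := epi_of_stalk π fun x => (h x).1

theorem IsTorsQuot.app_eq_zero_iff {E : X.IdealSheafData} (hE : BlowUp.IsFiniteTypeIdeal E)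
    {H G : X.Modules} {π : H ⟶ G} (h : IsTorsQuot E π) (V : X.affineOpens) (m : Γ(H, V.1)) :
    π.app V.1 m = 0 ↔ BlowUp.KilledByPowerNear E H V m := by
  rw [killed_iff H hE]
  constructor
  · intro h1 x hx
    rw [← (h x).2, stalkLin_eq_zero_iff_of_germ, h1, map_zero]
  · intro h1
    refine ModGerm.section_eq_zero G _ fun x hx => ?_
    rw [← stalkLin_eq_zero_iff_of_germ, (h x).2]
    exact h1 x hx

theorem isTorsQuot_iff {E : X.IdealSheafData} (hE : BlowUp.IsFiniteTypeIdeal E) {H G : X.Modules}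
    (π : H ⟶ G) : IsTorsQuot E π ↔ Epi π ∧
      ∀ (V : X.affineOpens) (m : Γ(H, V.1)), π.app V.1 m = 0 ↔ BlowUp.KilledByPowerNear E H V m :=
  ⟨fun h => ⟨h.epi, h.app_eq_zero_iff hE⟩, fun ⟨_, h⟩ => isTorsQuot_of_affine hE π h⟩

/-- The torsion subsheaf. -/
noncomputable def torsSub (E : X.IdealSheafData) (H : X.Modules) : SubSheaf.Sub H where
  obj U :=
    { carrier := {m | ∀ (x : X) (hx : x ∈ U), ModGerm.germ H U x hx m ∈
        powTors (stalkIdeal E x) (H.presheaf.stalk x)}
      add_mem' := fun {a b} ha hb x hx => by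
        rw [map_add]; exact Submodule.add_mem _ (ha x hx) (hb x hx)
      zero_mem' := fun x hx => by rw [map_zero]; exact Submodule.zero_mem _
      smul_mem' := fun r m hm x hx => by
        rw [ModGerm.germ_smul]; exact Submodule.smul_mem _ _ (hm x hx) }
  map_mem {U V} h s hs := fun x hx => by
    change ModGerm.germ H V x hx (H.presheaf.map (homOfLE h).op s) ∈ _
    rw [ModGerm.germ_res]; exact hs x (h hx)
  local_mem {U} s h := fun x hx => by
    obtain ⟨V, hV, hxV, h1⟩ := h x hx
    have := h1 x hxV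
    rwa [SubSheaf.res, ModGerm.germ_res] at this

/-- Existence of the quotient by the torsion. -/
theorem exists_torsQuot {E : X.IdealSheafData} (hE : BlowUp.IsFiniteTypeIdeal E) (H : X.Modules) :
    ∃ (G : X.Modules) (π : H ⟶ G), IsTorsQuot E π := by
  let T := torsSub E H
  refine ⟨cokernel T.ι, cokernel.π T.ι, fun x => ⟨stalkLin_surjective _ x, fun t => ?_⟩⟩
  have hex := stalkLin_exact (ShortComplex.mk T.ι (cokernel.π T.ι) (cokernel.condition T.ι))
    (ShortComplex.exact_cokernel T.ι) x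
  rw [show stalkLin (cokernel.π T.ι) x t = 0 ↔ t ∈ Set.range (stalkLin T.ι x) from hex t]
  constructor
  · rintro ⟨s, rfl⟩
    obtain ⟨V, hV, m, rfl⟩ := TopCat.Presheaf.exists_germ_eq T.toModules.presheaf s
    rw [stalkLin_germ]
    exact T.ι_app_mem m x hV
  · intro ht
    obtain ⟨V, hV, m, rfl⟩ := TopCat.Presheaf.exists_germ_eq H.presheaf t
    obtain ⟨W, hWV, hxW, hW⟩ := exists_killed_of_germ H hE V x hV m ht
    have hmem : H.presheaf.map (homOfLE hWV).op m ∈ T.obj W.1 := fun y hy =>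
      germ_mem_powTors E H W _ hW y hy
    refine ⟨ModGerm.germ T.toModules W.1 x hxW (T.sec _ hmem), ?_⟩
    rw [stalkLin_eq_zero_iff_of_germ, SubSheaf.Sub.ι_app_sec, ModGerm.germ_res]

end Stalks

section Strict

variable {X' : Scheme.{u}}

/-- The inverse image of a finite type ideal sheaf is of finite type. -/
theorem isFiniteTypeIdeal_comap (b : X' ⟶ X) {I : X.IdealSheafData} (hI : BlowUp.IsFiniteTypeIdeal I) :
    BlowUp.IsFiniteTypeIdeal (I.comap b) := by
  intro V
  refine Groth.Agent.Divis.IdealFT.fg_of_cover _ V fun x _ => ?_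
  obtain ⟨U, W, hU, hW, -, -, e⟩ := Groth.Agent.Divis.IdealComap.exists_affine_le b x ⊤ trivial ⊤ trivial
  refine ⟨W, hW, ?_⟩
  rw [Groth.Agent.Divis.IdealComap.ideal_comap I b U W e]
  exact (hI U).map _

/-- Stalkwise description of strict transforms. -/
theorem isStrictTransform_iff (b : X' ⟶ X) {I : X.IdealSheafData} (hI : BlowUp.IsFiniteTypeIdeal I)
    (F : X.Modules) (G : X'.Modules) (π : (Scheme.Modules.pullback b).obj F ⟶ G) :
    BlowUp.IsStrictTransform b I F G π ↔ IsTorsQuot (I.comap b) π :=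
  (isTorsQuot_iff (isFiniteTypeIdeal_comap b hI) π).symm

/-- Existence of strict transforms. -/
theorem exists_isStrictTransform (b : X' ⟶ X) {I : X.IdealSheafData} (hI : BlowUp.IsFiniteTypeIdeal I)
    (F : X.Modules) : ∃ (G : X'.Modules) (π : (Scheme.Modules.pullback b).obj F ⟶ G),
      BlowUp.IsStrictTransform b I F G π := by
  obtain ⟨G, π, h⟩ := exists_torsQuot (isFiniteTypeIdeal_comap b hI) ((Scheme.Modules.pullback b).obj F)
  exact ⟨G, π, (isStrictTransform_iff b hI F G π).2 h⟩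

end Strict

end Groth.Agent.Flat2C.StrictM
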