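import Groth.Prelude.Def_BlowUp2
import Groth.Agent.CohqB.QC6

/-!
# The power-torsion quotient of a quasi-coherent module

`E` an ideal sheaf of finite type on `X`, `H` quasi-coherent, `π : H ⟶ G` an epimorphism whose kernel on every
affine open consists of the sections killed by a power of `E`. Then `G` is quasi-coherent and `π` is surjective
on sections over affine opens.
-/

set_option autoImplicit false
universe u

open CategoryTheory CategoryTheory.Limits AlgebraicGeometry TopologicalSpace Opposite

namespace Groth.Agent.Flat2C.StrictQC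

open Groth.Agent.CohqB.QC2 Groth.Agent.CohqB.QC4 Groth.Agent.CohqB.QC5 Groth.Agent.CohqB.QC6

variable {X : Scheme.{u}} {E : X.IdealSheafData} (hE : BlowUp.IsFiniteTypeIdeal E) {H G : X.Modules}
  (hH : Coh.IsQCoh H) (π : H ⟶ G)
  (hπ : ∀ (V : X.affineOpens) (m : Γ(H, V.1)), π.app V.1 m = 0 ↔ BlowUp.KilledByPowerNear E H V m)

include hE hH hπ

/-- The kernel is quasi-coherent. -/
theorem isQCoh_kernel : Coh.IsQCoh (kernel π) := by
  let S : ShortComplex X.Modules := ShortComplex.mk (kernel.ι π) π (kernel.condition π)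
  have hS : S.Exact := ShortComplex.exact_kernel π
  have hH' : ∀ U : X.Opens, IsAffineOpen U → Loc H U := (isQuasicoherent_iff_loc H).1 hH
  refine (isQuasicoherent_iff_loc (kernel π)).2 fun U hU => ?_
  refine ⟨fun f s => ?_, fun f t ht => ?_⟩
  · obtain ⟨n, t, ht⟩ := (hH' U hU).exists_lift f ((kernel.ι π).app _ s)
    -- the restriction of `t` is killed by a power of `E`
    have h1 : π.app (X.basicOpen f) (res H (X.basicOpen_le f) t) = 0 := by
      rw [ht, Scheme.Modules.Hom.app_smul]
      have : π.app (X.basicOpen f) ((kernel.ι π).app _ s) = 0 := app_comp_eq_zero (S := S) _ s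
      rw [this, smul_zero]
    let D : X.affineOpens := ⟨X.basicOpen f, hU.basicOpen f⟩
    obtain ⟨N, hN⟩ := (hπ D (res H (X.basicOpen_le f) t)).1 h1
    obtain ⟨s', hs'⟩ : ((E ^ N).ideal ⟨U, hU⟩).FG := by
      rw [Scheme.IdealSheafData.ideal_pow]
      exact (hE _).pow
    have h2 : ∀ a : s', ∃ k, ∀ m, k ≤ m → f ^ m • ((a : Γ(X, U)) • t) = 0 := by
      rintro ⟨a, ha⟩
      have ha' : a ∈ (E ^ N).ideal ⟨U, hU⟩ := hs' ▸ Ideal.subset_span ha
      have h3 : res H (X.basicOpen_le f) (a • t) = 0 := by
        rw [res_smul]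
        apply hN
        have := Ideal.mem_map_of_mem (X.presheaf.map (homOfLE (X.basicOpen_le f)).op).hom ha'
        have h4 := (E ^ N).map_ideal (U := D) (V := ⟨U, hU⟩) (X.basicOpen_le f)
        rw [← h4]
        exact this
      obtain ⟨k, hk⟩ := (hH' U hU).eq_zero f _ h3
      exact ⟨k, fun m hm => by rw [← Nat.sub_add_cancel hm, pow_add, mul_smul, hk, smul_zero]⟩
    obtain ⟨k, hk⟩ := exists_uniform (fun (a : s') (k : ℕ) => f ^ k • ((a : Γ(X, U)) • t) = 0) h2
    have h5 : π.app U (f ^ k • t) = 0 := by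
      rw [hπ ⟨U, hU⟩]
      refine ⟨N, fun a ha => ?_⟩
      rw [← hs'] at ha
      induction ha using Submodule.span_induction with
      | mem x hx => rw [smul_comm]; exact hk ⟨x, hx⟩
      | zero => exact zero_smul _ _
      | add x y _ _ hx hy => rw [add_smul, hx, hy, add_zero]
      | smul a x _ hx => rw [smul_eq_mul, mul_smul, hx, smul_zero]
    obtain ⟨c, hc⟩ := exists_of_exact hS U (f ^ k • t) h5
    refine ⟨k + n, c, ?_⟩
    apply app_injective_of_mono (kernel.ι π)
    rw [app_res, Scheme.Modules.Hom.app_smul]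
    change res H _ (S.f.app U c) = _
    rw [hc, res_smul, ht, smul_smul, map_pow, ← pow_add]
  · have h1 : res H (X.basicOpen_le f) ((kernel.ι π).app U t) = 0 := by
      rw [← app_res, ht, map_zero]
    obtain ⟨n, hn⟩ := (hH' U hU).eq_zero f _ h1
    refine ⟨n, ?_⟩
    apply app_injective_of_mono (kernel.ι π)
    rw [Scheme.Modules.Hom.app_smul, hn, map_zero]

variable [Epi π]

/-- The quotient is quasi-coherent. -/
theorem isQCoh : Coh.IsQCoh G :=
  isQCoh_of_rightExact_mono (S := ShortComplex.mk (kernel.ι π) π (kernel.condition π))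
    (ShortComplex.exact_kernel π) (isQCoh_kernel hE hH π hπ) hH

/-- The quotient map is surjective on affine opens. -/
theorem app_surjective {U : X.Opens} (hU : IsAffineOpen U) : Function.Surjective (π.app U) :=
  CohqB.QC5.app_surjective (S := ShortComplex.mk (kernel.ι π) π (kernel.condition π))
    (ShortComplex.exact_kernel π) (isQCoh_kernel hE hH π hπ) hU

end Groth.Agent.Flat2C.StrictQC
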