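import Groth.Prelude.Def_BlowUp2
import Groth.Agent.Flat2C.FlatteningRing
import Groth.Agent.Flat2C.FlatSec
import Groth.Agent.Flat2C.FPOpen
import Groth.Agent.Flat2C.FPLoc
import Groth.Agent.Flat2C.Glob
import Groth.Agent.Flat2C.StrictQC
import Groth.Agent.Flat2C.StrictM
import Groth.Agent.Flat2C.BlowExist
import Groth.Agent.VarietyB.PullSec
import Groth.Agent.Flat2H.AlgProp

/-!
# Flattening by blowing up: from rings to schemes
-/

set_option autoImplicit false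
universe u

open CategoryTheory CategoryTheory.Limits AlgebraicGeometry TopologicalSpace

namespace Groth.Agent.Flat2C.FlatGlobal

open Groth.Agent.Flat2C.FlatSec Groth.Agent.Fdesc.QCohStalk Groth.Agent.VarietyB.PullSec

section Chart

variable {X S : Scheme.{u}} (f : X ⟶ S) (F : X.Modules) {W : S.Opens} {V : X.Opens} (e : V ≤ f ⁻¹ᵁ W)

theorem basicOpen_appLE_le (a : Γ(S, W)) : X.basicOpen (f.appLE W V e a) ≤ f ⁻¹ᵁ S.basicOpen a := by
  rw [Scheme.preimage_basicOpen, Scheme.Hom.appLE, CommRingCat.comp_apply, Scheme.basicOpen_res]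
  exact inf_le_right

/-- The conclusion of the ring-level flattening theorem on the chart `p₁⁻¹ V ⊓ p₂⁻¹ W'`. -/
def Good (J : Ideal Γ(S, W)) : Prop :=
  ∀ {S' X' : Scheme.{u}} (b : S' ⟶ S) (p₁ : X' ⟶ X) (p₂ : X' ⟶ S'), IsPullback p₁ p₂ f b →
    ∀ (W' : S'.Opens), IsAffineOpen W' → ∀ (hW' : W' ≤ b ⁻¹ᵁ W) (d : Γ(S', W')), d ∈ nonZeroDivisors Γ(S', W') →
      J.map (b.appLE W W' hW').hom = Ideal.span {d} →
      ∀ (G : X'.Modules) (π : (Scheme.Modules.pullback p₁).obj F ⟶ G),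
        Function.Surjective (π.app (p₁ ⁻¹ᵁ V ⊓ p₂ ⁻¹ᵁ W')) →
        (∀ m, π.app (p₁ ⁻¹ᵁ V ⊓ p₂ ⁻¹ᵁ W') m = 0 ↔
          ∃ n : ℕ, (p₂.appLE W' (p₁ ⁻¹ᵁ V ⊓ p₂ ⁻¹ᵁ W') inf_le_right d) ^ n • m = 0) →
        FlatSections p₂ G (U := p₁ ⁻¹ᵁ V ⊓ p₂ ⁻¹ᵁ W') (V := W') inf_le_right ∧
          Module.FinitePresentation Γ(X', p₁ ⁻¹ᵁ V ⊓ p₂ ⁻¹ᵁ W') Γ(G, p₁ ⁻¹ᵁ V ⊓ p₂ ⁻¹ᵁ W')

include e in
theorem exists_good [LocallyOfFinitePresentation f] (hW : IsAffineOpen W) (hV : IsAffineOpen V)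
    (U : S.Opens) (hqc : Coh.IsQCoh F) (hft : CohB1.IsFT F)
    (hfpU : CohB1.IsFP ((Scheme.Modules.pullback (f ⁻¹ᵁ U).ι).obj F))
    (hflU : ∀ x : X, f.base x ∈ U → FlatMod.IsFlatOverAt f F x)
    (I₀ : Ideal Γ(S, W)) (hI₀ : I₀.FG) (hI₀U : ∀ a ∈ I₀, S.basicOpen a ≤ U) :
    ∃ J : Ideal Γ(S, W), J.FG ∧ J.radical = I₀.radical ∧ Good f F (V := V) J := by
  let a1 : Algebra Γ(S, W) Γ(X, V) := algebraOver f e
  let a2 : Module Γ(S, W) Γ(F, V) := moduleOver f F e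
  have a3 : IsScalarTower Γ(S, W) Γ(X, V) Γ(F, V) := isScalarTower_over f F e
  have a4 : Algebra.FinitePresentation Γ(S, W) Γ(X, V) := f.finitePresentation_appLE hW hV e
  have a5 : Module.Finite Γ(X, V) Γ(F, V) := CohqA.FinSec.finite_sections hV hqc hft
  -- sections over the basic opens
  have key : ∀ a ∈ I₀,
      Module.Flat Γ(S, W) (LocalizedModule (Submonoid.powers (algebraMap Γ(S, W) Γ(X, V) a)) Γ(F, V)) ∧
      Module.FinitePresentation (Localization.Away (algebraMap Γ(S, W) Γ(X, V) a))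
        (LocalizedModule (Submonoid.powers (algebraMap Γ(S, W) Γ(X, V) a)) Γ(F, V)) := by
    intro a ha
    let a' : Γ(X, V) := f.appLE W V e a
    let D : X.Opens := X.basicOpen a'
    have hD : IsAffineOpen D := hV.basicOpen a'
    have hDV : D ≤ V := X.basicOpen_le a'
    have hDU : D ≤ f ⁻¹ᵁ U := (basicOpen_appLE_le f e a).trans fun x hx => hI₀U a ha hx
    let c1 : Module Γ(X, V) Γ(F, D) := resModule F hDV
    have c2 : IsLocalizedModule (.powers a') (resₗ F hDV) := isLocalizedModule_res F hV hqc a'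
    let c3 : Algebra Γ(X, V) Γ(X, D) := (X.presheaf.map (homOfLE hDV).op).hom.toAlgebra
    have c4 : IsLocalization.Away a' Γ(X, D) := hV.isLocalization_basicOpen a'
    have c5 : IsScalarTower Γ(X, V) Γ(X, D) Γ(F, D) := IsScalarTower.of_algebraMap_smul fun _ _ => rfl
    let c6 : Module Γ(S, W) Γ(F, D) := Module.compHom _ (algebraMap Γ(S, W) Γ(X, V))
    have c7 : IsScalarTower Γ(S, W) Γ(X, V) Γ(F, D) := IsScalarTower.of_algebraMap_smul fun _ _ => rfl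
    let E : LocalizedModule (Submonoid.powers a') Γ(F, V) ≃ₗ[Γ(X, V)] Γ(F, D) :=
      IsLocalizedModule.iso (Submonoid.powers a') (resₗ F hDV)
    constructor
    · have h1 : FlatSections f F (hDV.trans e) :=
        (flat_sections_iff f F hD hW (hDV.trans e) hqc).mpr fun x hx => hflU x (hDU hx)
      have h2 : Module.Flat Γ(S, W) Γ(F, D) := by
        have h3 : moduleOver f F (hDV.trans e) = c6 := by
          apply Module.ext'
          intro r m
          change (f.appLE W D (hDV.trans e) r) • m =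
            (X.presheaf.map (homOfLE hDV).op (f.appLE W V e r)) • m
          rw [← CommRingCat.comp_apply, Scheme.Hom.appLE_map]
        unfold FlatSections at h1
        rw [h3] at h1
        exact h1
      exact Module.Flat.of_linearEquiv (E.restrictScalars Γ(S, W))
    · have h1 : Module.FinitePresentation Γ(X, D) Γ(F, D) :=
        FPOpen.finitePresentation_sections_of_le hqc (f ⁻¹ᵁ U) hfpU hD hDU
      exact FPLoc.finitePresentation_localizedModule (B' := Γ(X, D)) (Submonoid.powers a') (resₗ F hDV)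
  obtain ⟨J, hJ, hJr, hJ'⟩ := FlatteningRing.flattening_ring (A := Γ(S, W)) (B := Γ(X, V)) Γ(F, V) I₀ hI₀
    (fun a ha => (key a ha).1) (fun a ha => (key a ha).2)
  refine ⟨J, hJ, hJr, ?_⟩
  intro S' X' b p₁ p₂ hp W' hW' e' d hd hJd G π hsurj hker
  obtain ⟨hV', hpo⟩ := Flat2H.AlgProp.isPushout_algebra hp hW hV hW' e e'
  let V' : X'.Opens := p₁ ⁻¹ᵁ V ⊓ p₂ ⁻¹ᵁ W'
  have e₁ : V' ≤ p₁ ⁻¹ᵁ V := inf_le_left
  have e₂ : V' ≤ p₂ ⁻¹ᵁ W' := inf_le_right
  let b1 : Algebra Γ(S, W) Γ(S', W') := algebraOver b e'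
  let b2 : Algebra Γ(X, V) Γ(X', V') := algebraOver p₁ e₁
  let b3 : Algebra Γ(S', W') Γ(X', V') := algebraOver p₂ e₂
  let b4 : Algebra Γ(S, W) Γ(X', V') := (f.appLE W V e ≫ p₁.appLE V V' e₁).hom.toAlgebra
  have b5 : IsScalarTower Γ(S, W) Γ(X, V) Γ(X', V') := IsScalarTower.of_algebraMap_eq' rfl
  have b6 : IsScalarTower Γ(S, W) Γ(S', W') Γ(X', V') := IsScalarTower.of_algebraMap_eq' (by
    change (f.appLE W V e ≫ p₁.appLE V V' e₁).hom = (b.appLE W W' e' ≫ p₂.appLE W' V' e₂).hom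
    rw [hpo.w])
  have b7 : Algebra.IsPushout Γ(S, W) Γ(X, V) Γ(S', W') Γ(X', V') := by
    rw [← CommRingCat.isPushout_iff_isPushout]
    exact hpo
  let H := (Scheme.Modules.pullback p₁).obj F
  let d1 : Module Γ(X, V) Γ(H, V') := secModule p₁ F e₁
  let d2 : Module Γ(S', W') Γ(H, V') := moduleOver p₂ H e₂
  have d3 : IsScalarTower Γ(X, V) Γ(X', V') Γ(H, V') :=
    ⟨fun a b c => by rw [Algebra.smul_def, mul_smul]; rfl⟩
  have d4 : IsScalarTower Γ(S', W') Γ(X', V') Γ(H, V') := isScalarTower_over p₂ H e₂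
  have d5 : IsBaseChange Γ(X', V') (secₗ p₁ F e₁) := isBaseChange_secₗ p₁ F e₁ hqc hV hV'
  let d6 : Module Γ(S', W') Γ(G, V') := moduleOver p₂ G e₂
  have d7 : IsScalarTower Γ(S', W') Γ(X', V') Γ(G, V') := isScalarTower_over p₂ G e₂
  let πₗ : Γ(H, V') →ₗ[Γ(X', V')] Γ(G, V') :=
    { toFun := π.app V'
      map_add' := map_add _
      map_smul' := fun r m => by
        rw [Scheme.Modules.Hom.app_smul]
        rfl }
  have hfin := hJ' Γ(S', W') Γ(X', V') Γ(H, V') Γ(G, V') (secₗ p₁ F e₁) d5 πₗ d hd hJd hsurj (by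
    intro m
    refine (hker m).trans (exists_congr fun n => ?_)
    change _ ↔ (p₂.appLE W' V' e₂ (d ^ n)) • m = 0
    rw [map_pow])
  exact hfin

end Chart

section Global

open Groth.Agent.Divis.IdealComap

theorem killed_iff_of_span {X' : Scheme.{u}} (E : X'.IdealSheafData) (H : X'.Modules) (V : X'.affineOpens)
    (d e : Γ(X', V.1)) (N : ℕ) (hE : E.ideal V = Ideal.span {e}) (hde : d ∣ e) (hed : e ∣ d ^ N) (m : Γ(H, V.1)) :
    BlowUp.KilledByPowerNear E H V m ↔ ∃ n : ℕ, d ^ n • m = 0 := by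
  unfold BlowUp.KilledByPowerNear
  have h : ∀ n, (E ^ n).ideal V = Ideal.span {e ^ n} := fun n => by
    rw [Scheme.IdealSheafData.ideal_pow, Pi.pow_apply, hE, Ideal.span_singleton_pow]
  constructor
  · rintro ⟨n, hn⟩
    obtain ⟨c, hc⟩ := hed
    refine ⟨N * n, ?_⟩
    rw [pow_mul, hc, mul_pow, mul_comm, mul_smul, hn (e ^ n) (by rw [h]; exact Ideal.mem_span_singleton_self _),
      smul_zero]
  · rintro ⟨n, hn⟩
    refine ⟨n, fun a ha => ?_⟩
    rw [h, Ideal.mem_span_singleton] at ha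
    obtain ⟨c, rfl⟩ := ha
    obtain ⟨c', rfl⟩ := hde
    rw [mul_pow, mul_comm, mul_comm (d ^ n), ← mul_assoc, mul_smul, hn, smul_zero]

theorem basicOpen_le_of_mem {S : Scheme.{u}} (I : S.IdealSheafData) (U : S.Opens)
    (hI : (I.support : Set S) = (U : Set S)ᶜ) (W : S.affineOpens) (a : Γ(S, W.1)) (ha : a ∈ I.ideal W) :
    S.basicOpen a ≤ U := by
  intro x hx
  by_contra hxU
  have h1 : x ∈ I.support := by
    have : x ∈ (I.support : Set S) := by rw [hI]; exact hxU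
    exact this
  have hxW : x ∈ W.1 := S.basicOpen_le a hx
  rw [Scheme.IdealSheafData.mem_support_iff_of_mem hxW, Scheme.mem_zeroLocus_iff] at h1
  exact h1 a ha hx

/-- **Flattening by blowing up, Cartier-test form.**  There is a finite type ideal `𝓘` on `S` with support the
complement of `U` such that after every base change `b : S' ⟶ S` with `𝓘.comap b` effective Cartier, the strict
transform of `F` is of finite presentation and flat over `S'`. -/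
theorem exists_ideal {X S : Scheme.{u}} [CompactSpace S] [QuasiSeparatedSpace S] [CompactSpace X]
    (f : X ⟶ S) [LocallyOfFinitePresentation f] (U : S.Opens) (hU : IsCompact (U : Set S))
    (F : X.Modules) (hqc : Coh.IsQCoh F) (hft : CohB1.IsFT F)
    (hfpU : CohB1.IsFP ((Scheme.Modules.pullback (f ⁻¹ᵁ U).ι).obj F))
    (hflU : ∀ x : X, f.base x ∈ U → FlatMod.IsFlatOverAt f F x) :
    ∃ 𝓘 : S.IdealSheafData, BlowUp.IsFiniteTypeIdeal 𝓘 ∧ (𝓘.support : Set S) = (U : Set S)ᶜ ∧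
      ∀ {S' X' : Scheme.{u}} (b : S' ⟶ S), BlowUp.IsEffCartierIdeal (𝓘.comap b) →
      ∀ (p₁ : X' ⟶ X) (p₂ : X' ⟶ S'), IsPullback p₁ p₂ f b →
      ∀ (G : X'.Modules) (π : (Scheme.Modules.pullback p₁).obj F ⟶ G),
        BlowUp.IsStrictTransform p₁ (𝓘.comap f) F G π →
        Coh.IsQCoh G ∧ CohB1.IsFP G ∧ FlatMod.IsFlatOver p₂ G := by
  obtain ⟨I₀, hI₀ft, hI₀⟩ := Glob.exists_ft_support_eq_compl U hU
  -- a finite affine cover
  have hch : ∀ x : X, ∃ (W : S.affineOpens) (V : X.affineOpens), x ∈ V.1 ∧ V.1 ≤ f ⁻¹ᵁ W.1 := by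
    intro x
    obtain ⟨W, hW, hxW, -⟩ := exists_isAffineOpen_mem_and_subset (x := f x) (U := ⊤) trivial
    obtain ⟨V, hV, hxV, hVW⟩ := exists_isAffineOpen_mem_and_subset (x := x) (U := f ⁻¹ᵁ W) hxW
    exact ⟨⟨W, hW⟩, ⟨V, hV⟩, hxV, hVW⟩
  choose W V hxV hVW using hch
  obtain ⟨t, ht⟩ := CompactSpace.elim_nhds_subcover (fun x => ((V x).1 : Set X))
    (fun x => (V x).1.2.mem_nhds (hxV x))
  have hgood := fun i : t => exists_good f F (hVW i.1) (W i.1).2 (V i.1).2 U hqc hft hfpU hflU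
    (I₀.ideal (W i.1)) (hI₀ft (W i.1)) (fun a ha => basicOpen_le_of_mem I₀ U hI₀ (W i.1) a ha)
  choose J hJ hJr hJg using hgood
  obtain ⟨𝓘, hft', hsupp, hglob⟩ := Glob.exists_glob U hU I₀ hI₀ft hI₀ (fun i : t => W i.1) J hJ hJr
  refine ⟨𝓘, hft', hsupp, ?_⟩
  intro S' X' b hb p₁ p₂ hp G π hπ
  have : Epi π := hπ.1
  have hEft : BlowUp.IsFiniteTypeIdeal (BlowUp.exceptional p₁ (𝓘.comap f)) :=
    StrictM.isFiniteTypeIdeal_comap p₁ (StrictM.isFiniteTypeIdeal_comap f hft')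
  have hEeq : BlowUp.exceptional p₁ (𝓘.comap f) = (𝓘.comap b).comap p₂ := by
    change (𝓘.comap f).comap p₁ = _
    rw [← Scheme.IdealSheafData.comap_comp, ← Scheme.IdealSheafData.comap_comp, hp.w]
  have hHqc : Coh.IsQCoh ((Scheme.Modules.pullback p₁).obj F) := isQCoh_pullback p₁ F hqc
  have hGqc : Coh.IsQCoh G := StrictQC.isQCoh hEft hHqc π hπ.2
  -- charts
  have chart : ∀ x' : X', ∃ (V' : X'.Opens) (W' : S'.Opens) (_ : IsAffineOpen V') (_ : IsAffineOpen W')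
      (e : V' ≤ p₂ ⁻¹ᵁ W'), x' ∈ V' ∧ FlatSections p₂ G e ∧ Module.FinitePresentation Γ(X', V') Γ(G, V') := by
    intro x'
    obtain ⟨i, hi, hxi⟩ : ∃ i ∈ t, p₁ x' ∈ (V i).1 := by
      have : p₁ x' ∈ ⋃ x ∈ t, ((V x).1 : Set X) := by rw [ht]; trivial
      simpa using this
    have hbW : b (p₂ x') ∈ (W i).1 := by
      have h1 : f (p₁ x') ∈ (W i).1 := hVW i hxi
      rw [← Scheme.Hom.comp_apply, ← hp.w, Scheme.Hom.comp_apply]
      exact h1
    obtain ⟨W', hle, hxW', -, d, e, N, hd, he, hJd, hIe, hde, hed⟩ :=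
      hglob b hb ⟨i, hi⟩ (p₂ x') ⊤ trivial hbW
    have hV' : IsAffineOpen (p₁ ⁻¹ᵁ (V i).1 ⊓ p₂ ⁻¹ᵁ W'.1) :=
      (Flat2H.AlgProp.isPushout_algebra hp (W i).2 (V i).2 W'.2 (hVW i) hle).1
    let φ := p₂.appLE W'.1 (p₁ ⁻¹ᵁ (V i).1 ⊓ p₂ ⁻¹ᵁ W'.1) inf_le_right
    have hideal : (BlowUp.exceptional p₁ (𝓘.comap f)).ideal ⟨_, hV'⟩ = Ideal.span {φ e} := by
      rw [hEeq, ideal_comap _ p₂ W' ⟨_, hV'⟩ inf_le_right, hIe, Ideal.map_span, Set.image_singleton]
    have h := hJg ⟨i, hi⟩ b p₁ p₂ hp W'.1 W'.2 hle d hd hJd G π (StrictQC.app_surjective hEft hHqc π hπ.2 hV')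
      (fun m => (hπ.2 ⟨_, hV'⟩ m).trans (killed_iff_of_span _ _ ⟨_, hV'⟩ (φ d) (φ e) N hideal
        (map_dvd φ.hom hde) (by rw [← map_pow]; exact map_dvd φ.hom hed) m))
    exact ⟨_, _, hV', W'.2, inf_le_right, ⟨hxi, hxW'⟩, h.1, h.2⟩
  refine ⟨hGqc, CohqA.FinSec.isFP_of_finitePresentation hGqc fun x' => ?_, isFlatOver_of_cover p₂ G hGqc fun x' => ?_⟩
  · obtain ⟨V', W', hV', hW', e, hx, h1, h2⟩ := chart x'
    exact ⟨V', hV', hx, h2⟩
  · obtain ⟨V', W', hV', hW', e, hx, h1, h2⟩ := chart x'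
    exact ⟨V', W', hV', hW', e, hx, h1⟩

end Global

end Groth.Agent.Flat2C.FlatGlobal
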