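import Groth.Agent.Flat2C.Glob
import Groth.Agent.Flat2C.StrictTr
import Mathlib.AlgebraicGeometry.Morphisms.Flat
import Mathlib.AlgebraicGeometry.Morphisms.FinitePresentation

/-!
# Flattening: from rings to schemes

`FlatCenter φ J`: the ideal `J` of `A` is a centre flattening the `A`-algebra `B` (in Cartier-test form).
`exists_flat_center`: if (for the given scheme morphism) flattening centres exist on affine charts, they exist
globally.
-/

set_option autoImplicit false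
universe u

open CategoryTheory AlgebraicGeometry Limits TopologicalSpace

namespace Groth.Agent.Flat2C.GlobFlat

open Groth.Agent.Divis.IdealComap Groth.Agent.Divis.EffCartier Groth.Agent.Divis.BlowUpFormal
  Groth.Agent.Flat2C.Glob Groth.Agent.Flat2C.StrictTr Groth.Agent.Flat2C.StrictTrAlg

/-- `J` is a centre flattening `φ : A ⟶ B`. -/
def FlatCenter {A B : CommRingCat.{u}} (φ : A ⟶ B) (J : Ideal A) : Prop :=
  ∀ (R C : CommRingCat.{u}) (ψ : A ⟶ R) (q : B ⟶ C) (r : R ⟶ C), IsPushout φ ψ q r →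
    ∀ d : R, d ∈ nonZeroDivisors R → J.map ψ.hom = Ideal.span {d} →
      ∀ T : Ideal C, (∀ c, c ∈ T ↔ ∃ n : ℕ, r d ^ n * c = 0) →
        ((Ideal.Quotient.mk T).comp r.hom).Flat ∧ ((Ideal.Quotient.mk T).comp r.hom).FinitePresentation

/-- Charts of a fibre product. -/
theorem chart {X S T X' : Scheme.{u}} {f : X ⟶ S} {g : T ⟶ S} {p₁ : X' ⟶ X} {p₂ : X' ⟶ T}
    (hc : IsPullback p₁ p₂ f g) {W : S.Opens} {V : X.Opens} {W' : T.Opens} (hW : IsAffineOpen W)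
    (hV : IsAffineOpen V) (hW' : IsAffineOpen W') (hVW : V ≤ f ⁻¹ᵁ W) (hW'W : W' ≤ g ⁻¹ᵁ W) :
    IsAffineOpen (p₁ ⁻¹ᵁ V ⊓ p₂ ⁻¹ᵁ W') ∧
      IsPushout (f.appLE W V hVW) (g.appLE W W' hW'W) (p₁.appLE V (p₁ ⁻¹ᵁ V ⊓ p₂ ⁻¹ᵁ W') inf_le_left)
        (p₂.appLE W' (p₁ ⁻¹ᵁ V ⊓ p₂ ⁻¹ᵁ W') inf_le_right) := by
  constructor
  · have : IsAffine _ := hW
    have : IsAffine _ := hV
    have : IsAffine _ := hW'
    exact .of_isIso (Scheme.Hom.isPullback_resLE hc hW'W hVW rfl).isoPullback.hom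
  · exact (isIso_pushoutSection_iff hc hW'W hVW rfl).mp
      (isIso_pushoutSection_of_isAffineOpen hc hW'W hVW rfl hW hW' hV)

lemma mem_powTors_span_singleton {A : Type*} [CommRing A] (d c : A) :
    c ∈ powTors (Ideal.span {d}) A ↔ ∃ n : ℕ, d ^ n * c = 0 := by
  rw [mem_powTors_span_iff (Set.finite_singleton d)]
  simp

/-- Torsion with respect to `d` and `e` agree if they divide powers of each other. -/
lemma exists_pow_mul_eq_zero_iff {A : Type*} [CommRing A] {d e : A} {N : ℕ} (h : d ∣ e) (h' : e ∣ d ^ N)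
    (c : A) : (∃ n : ℕ, e ^ n * c = 0) ↔ ∃ n : ℕ, d ^ n * c = 0 := by
  constructor
  · rintro ⟨n, hn⟩
    obtain ⟨b, hb⟩ := h'
    refine ⟨N * n, ?_⟩
    rw [pow_mul, hb, mul_pow, mul_comm (e ^ n), mul_assoc, hn, mul_zero]
  · rintro ⟨n, hn⟩
    obtain ⟨b, hb⟩ := h
    exact ⟨n, by rw [hb, mul_pow, mul_comm (d ^ n), mul_assoc, hn, mul_zero]⟩

/-- Affine charts of the strict transform. -/
theorem strict_chart {X S T X' : Scheme.{u}} {f : X ⟶ S} {g : T ⟶ S} {p₁ : X' ⟶ X} {p₂ : X' ⟶ T}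
    (hc : IsPullback p₁ p₂ f g) {𝓘 : S.IdealSheafData} {𝒥 : X'.IdealSheafData}
    (h𝒥 : IsKilledIdeal ((𝓘.comap f).comap p₁) 𝒥) (W' : T.affineOpens) (V' : X'.affineOpens)
    (hV' : V'.1 ≤ p₂ ⁻¹ᵁ W'.1) {d e : Γ(T, W'.1)} {N : ℕ} (he : (𝓘.comap g).ideal W' = Ideal.span {e})
    (hde : d ∣ e) (hed : e ∣ d ^ N) (c : Γ(X', V'.1)) :
    c ∈ 𝒥.ideal V' ↔ ∃ n : ℕ, (p₂.appLE W'.1 V'.1 hV') d ^ n * c = 0 := by
  have hE : (𝓘.comap f).comap p₁ = (𝓘.comap g).comap p₂ := by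
    rw [← Scheme.IdealSheafData.comap_comp, ← Scheme.IdealSheafData.comap_comp, hc.w]
  have h1 : ((𝓘.comap f).comap p₁).ideal V' = Ideal.span {(p₂.appLE W'.1 V'.1 hV') e} := by
    rw [hE, ideal_comap _ _ W' V' hV', he, Ideal.map_span, Set.image_singleton]
  rw [isKilledIdeal_iff.mp h𝒥 V', h1, mem_powTors_span_singleton]
  exact exists_pow_mul_eq_zero_iff (map_dvd _ hde) (by rw [← map_pow]; exact map_dvd _ hed) c

/-- Reduction to charts, for a property of ring homomorphisms. -/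
theorem flat_and_lfp_of_chart {X S T X' : Scheme.{u}} {f : X ⟶ S} {g : T ⟶ S} {p₁ : X' ⟶ X} {p₂ : X' ⟶ T}
    (hc : IsPullback p₁ p₂ f g) {𝓘 : S.IdealSheafData} {𝒥 : X'.IdealSheafData}
    (h𝒥 : IsKilledIdeal ((𝓘.comap f).comap p₁) 𝒥)
    (H : ∀ x' : X', ∃ (W : S.affineOpens) (V : X.affineOpens) (W' : T.affineOpens) (hVW : V.1 ≤ f ⁻¹ᵁ W.1)
      (hW'W : W'.1 ≤ g ⁻¹ᵁ W.1), p₁ x' ∈ V.1 ∧ p₂ x' ∈ W'.1 ∧ ∃ (J : Ideal Γ(S, W.1)),
        FlatCenter (f.appLE W.1 V.1 hVW) J ∧ ∃ (d e : Γ(T, W'.1)) (N : ℕ),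
          d ∈ nonZeroDivisors _ ∧ J.map (g.appLE W.1 W'.1 hW'W).hom = Ideal.span {d} ∧
              (𝓘.comap g).ideal W' = Ideal.span {e} ∧ d ∣ e ∧ e ∣ d ^ N) :
    Flat (𝒥.subschemeι ≫ p₂) ∧ LocallyOfFinitePresentation (𝒥.subschemeι ≫ p₂) := by
  have key : ∀ z : 𝒥.subscheme, ∃ (W' : T.affineOpens) (Z' : 𝒥.subscheme.affineOpens) (_ : z ∈ Z'.1)
      (hle : Z'.1 ≤ (𝒥.subschemeι ≫ p₂) ⁻¹ᵁ W'.1),
      ((𝒥.subschemeι ≫ p₂).appLE W'.1 Z'.1 hle).hom.Flat ∧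
        ((𝒥.subschemeι ≫ p₂).appLE W'.1 Z'.1 hle).hom.FinitePresentation := by
    intro z
    obtain ⟨W, V, W', hVW, hW'W, hxV, hxW', J, hJ, d, e, N, hd, hJd, he, hde, hed⟩ := H (𝒥.subschemeι z)
    obtain ⟨hV'aff, hpush⟩ := chart hc W.2 V.2 W'.2 hVW hW'W
    let V' : X'.affineOpens := ⟨p₁ ⁻¹ᵁ V.1 ⊓ p₂ ⁻¹ᵁ W'.1, hV'aff⟩
    have hV' : V'.1 ≤ p₂ ⁻¹ᵁ W'.1 := inf_le_right
    obtain ⟨h1, h2⟩ := hJ _ _ _ _ _ hpush d hd hJd (𝒥.ideal V')
      (strict_chart hc h𝒥 W' V' hV' he hde hed)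
    let Z' : 𝒥.subscheme.affineOpens := ⟨𝒥.subschemeι ⁻¹ᵁ V'.1, V'.2.preimage _⟩
    have hle : Z'.1 ≤ (𝒥.subschemeι ≫ p₂) ⁻¹ᵁ W'.1 := fun z hz ↦ hV' hz
    have hsurj := 𝒥.subschemeι_app_surjective V'
    have hker := 𝒥.ker_subschemeι_app V'
    let ε : (Γ(X', V'.1) ⧸ 𝒥.ideal V') ≃+* Γ(𝒥.subscheme, Z'.1) :=
      (Ideal.quotEquivOfEq hker.symm).trans (RingHom.quotientKerEquivOfSurjective hsurj)
    have hfac : ((𝒥.subschemeι ≫ p₂).appLE W'.1 Z'.1 hle).hom =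
        (ε : _ →+* _).comp ((Ideal.Quotient.mk (𝒥.ideal V')).comp (p₂.appLE W'.1 V'.1 hV').hom) := by
      rw [← RingHom.comp_assoc]
      have h3 : (ε : _ →+* _).comp (Ideal.Quotient.mk (𝒥.ideal V')) = (𝒥.subschemeι.app V'.1).hom := by
        ext c; rfl
      rw [h3, ← CommRingCat.hom_comp, Scheme.Hom.app_eq_appLE, Scheme.Hom.appLE_comp_appLE]
    refine ⟨W', Z', ⟨hxV, hxW'⟩, hle, ?_, ?_⟩
    · rw [hfac]
      exact RingHom.Flat.comp h1 (.of_bijective ε.bijective)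
    · rw [hfac]
      exact RingHom.FinitePresentation.comp (.of_bijective ε.bijective) h2
  constructor
  · rw [HasRingHomProperty.iff_exists_appLE (P := @Flat)
      (RingHom.Flat.stableUnderComposition.stableUnderCompositionWithLocalizationAway
        RingHom.Flat.holdsForLocalizationAway).1]
    intro z
    obtain ⟨W', Z', hz, hle, h, -⟩ := key z
    exact ⟨W', Z', hz, hle, h⟩
  · rw [HasRingHomProperty.iff_exists_appLE (P := @LocallyOfFinitePresentation)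
      (RingHom.finitePresentation_stableUnderComposition.stableUnderCompositionWithLocalizationAway
        RingHom.finitePresentation_holdsForLocalizationAway).1]
    intro z
    obtain ⟨W', Z', hz, hle, -, h⟩ := key z
    exact ⟨W', Z', hz, hle, h⟩

lemma isIso_ι_appLE_self {X : Scheme.{u}} (V : X.Opens) : IsIso (V.ι.appLE V (V.ι ⁻¹ᵁ V) le_rfl) := by
  rw [Scheme.Opens.ι_appLE]
  have h : V.ι ''ᵁ V.ι ⁻¹ᵁ V = V := by
    rw [Scheme.Hom.image_preimage_eq_opensRange_inf, Scheme.Opens.opensRange_ι, inf_idem]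
  exact (X.presheaf.mapIso (eqToIso h).op).isIso_hom

lemma appLE_eq_ι {X S : Scheme.{u}} (f : X ⟶ S) {W : S.Opens} {V : X.Opens} (hVW : V ≤ f ⁻¹ᵁ W) :
    f.appLE W V hVW = (V.ι ≫ f).appLE W (V.ι ⁻¹ᵁ V) (fun _ hx ↦ hVW hx) ≫
      (have := isIso_ι_appLE_self V; inv (V.ι.appLE V (V.ι ⁻¹ᵁ V) le_rfl)) := by
  have := isIso_ι_appLE_self V
  rw [IsIso.eq_comp_inv, Scheme.Hom.appLE_comp_appLE]

lemma flat_appLE_of_ι {X S : Scheme.{u}} (f : X ⟶ S) {W : S.Opens} {V : X.Opens} (hVW : V ≤ f ⁻¹ᵁ W)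
    (hW : IsAffineOpen W) (hV : IsAffineOpen V) [Flat (V.ι ≫ f)] : (f.appLE W V hVW).hom.Flat := by
  have := isIso_ι_appLE_self V
  rw [appLE_eq_ι, CommRingCat.hom_comp]
  exact RingHom.Flat.comp (Scheme.Hom.flat_appLE (V.ι ≫ f) hW (hV.preimage_of_isOpenImmersion _ (by simp)) _)
    (.of_bijective (ConcreteCategory.bijective_of_isIso _))

lemma finitePresentation_appLE_of_ι {X S : Scheme.{u}} (f : X ⟶ S) {W : S.Opens} {V : X.Opens}
    (hVW : V ≤ f ⁻¹ᵁ W) (hW : IsAffineOpen W) (hV : IsAffineOpen V) [LocallyOfFinitePresentation (V.ι ≫ f)] :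
    (f.appLE W V hVW).hom.FinitePresentation := by
  have := isIso_ι_appLE_self V
  rw [appLE_eq_ι, CommRingCat.hom_comp]
  exact RingHom.FinitePresentation.comp (.of_bijective (ConcreteCategory.bijective_of_isIso _))
    (Scheme.Hom.finitePresentation_appLE (V.ι ≫ f) hW (hV.preimage_of_isOpenImmersion _ (by simp)) _)

/-- The hypotheses on affine charts: over the locus where some element of the centre is invertible, the morphism
is flat and of finite presentation. -/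
theorem flat_fp_away {X S : Scheme.{u}} (f : X ⟶ S) (U : S.Opens) [Flat (f ∣_ U)]
    [LocallyOfFinitePresentation (f ∣_ U)] {W : S.Opens} {V : X.Opens} (hW : IsAffineOpen W)
    (hV : IsAffineOpen V) (hVW : V ≤ f ⁻¹ᵁ W) (a : Γ(S, W)) (ha : S.basicOpen a ≤ U) :
    ((algebraMap Γ(X, V) (Localization.Away (f.appLE W V hVW a))).comp (f.appLE W V hVW).hom).Flat ∧
    ((algebraMap Γ(X, V) (Localization.Away (f.appLE W V hVW a))).comp
      (f.appLE W V hVW).hom).FinitePresentation := by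
  let b : Γ(X, V) := f.appLE W V hVW a
  have hbU : X.basicOpen b ≤ f ⁻¹ᵁ U := by
    intro x hx
    apply ha
    change x ∈ f ⁻¹ᵁ S.basicOpen a
    rw [Scheme.Hom.preimage_basicOpen]
    have : X.basicOpen b = V ⊓ X.basicOpen (f.app W a) := by
      change X.basicOpen ((f.app W ≫ X.presheaf.map (homOfLE hVW).op) a) = _
      rw [CommRingCat.comp_apply, Scheme.basicOpen_res]
    rw [this] at hx
    exact hx.2
  have hfl : Flat ((f ⁻¹ᵁ U).ι ≫ f) := by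
    rw [← morphismRestrict_ι]; infer_instance
  have hfp : LocallyOfFinitePresentation ((f ⁻¹ᵁ U).ι ≫ f) := by
    rw [← morphismRestrict_ι]; infer_instance
  have hfl' : Flat ((X.basicOpen b).ι ≫ f) := by
    rw [← Scheme.homOfLE_ι _ hbU, Category.assoc]; infer_instance
  have hfp' : LocallyOfFinitePresentation ((X.basicOpen b).ι ≫ f) := by
    rw [← Scheme.homOfLE_ι _ hbU, Category.assoc]; infer_instance
  have hbaff : IsAffineOpen (X.basicOpen b) := hV.basicOpen b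
  have hle : X.basicOpen b ≤ f ⁻¹ᵁ W := (X.basicOpen_le b).trans hVW
  have h1 := flat_appLE_of_ι f hle hW hbaff
  have h2 := finitePresentation_appLE_of_ι f hle hW hbaff
  have hloc := hV.isLocalization_basicOpen b
  let ε : Γ(X, X.basicOpen b) ≃ₐ[Γ(X, V)] Localization.Away b :=
    IsLocalization.algEquiv (Submonoid.powers b) _ _
  have hfac : (algebraMap Γ(X, V) (Localization.Away b)).comp (f.appLE W V hVW).hom =
      (ε.toRingEquiv : _ →+* _).comp (f.appLE W (X.basicOpen b) hle).hom := by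
    have h3 : algebraMap Γ(X, V) (Localization.Away b) =
        (ε.toRingEquiv : _ →+* _).comp (algebraMap Γ(X, V) Γ(X, X.basicOpen b)) := by
      ext c
      exact (ε.commutes c).symm
    have h4 : (f.appLE W (X.basicOpen b) hle).hom =
        (algebraMap Γ(X, V) Γ(X, X.basicOpen b)).comp (f.appLE W V hVW).hom := by
      have := f.appLE_map hVW (homOfLE (X.basicOpen_le b)).op
      rw [← this]
      rfl
    rw [h3, h4, RingHom.comp_assoc]
  constructor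
  · rw [hfac]
    exact RingHom.Flat.comp h1 (.of_bijective ε.bijective)
  · rw [hfac]
    exact RingHom.FinitePresentation.comp (.of_bijective ε.bijective) h2

/-- The ring-level flattening theorem, as a hypothesis. -/
def RingFlattening : Prop :=
  ∀ {A B : CommRingCat.{u}} (φ : A ⟶ B), φ.hom.FiniteType → ∀ (I₀ : Ideal A), I₀.FG →
    (∀ a ∈ I₀, ((algebraMap B (Localization.Away (φ a))).comp φ.hom).Flat) →
    (∀ a ∈ I₀, ((algebraMap B (Localization.Away (φ a))).comp φ.hom).FinitePresentation) →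
    ∃ J : Ideal A, J.FG ∧ J.radical = I₀.radical ∧ FlatCenter φ J

/-- **Global flattening centre** (from the ring-level statement). -/
theorem exists_flat_center (HR : RingFlattening.{u}) {X S : Scheme.{u}} [CompactSpace S] [QuasiSeparatedSpace S]
    (f : X ⟶ S) [LocallyOfFiniteType f] [QuasiCompact f] (U : S.Opens) (hU : IsCompact (U : Set S))
    [Flat (f ∣_ U)] [LocallyOfFinitePresentation (f ∣_ U)] :
    ∃ 𝓘 : S.IdealSheafData, BlowUp.IsFiniteTypeIdeal 𝓘 ∧ (𝓘.support : Set S) = (U : Set S)ᶜ ∧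
      ∀ {T X' : Scheme.{u}} (g : T ⟶ S), BlowUp.IsEffCartierIdeal (𝓘.comap g) →
        ∀ (p₁ : X' ⟶ X) (p₂ : X' ⟶ T), IsPullback p₁ p₂ f g → ∀ (𝒥 : X'.IdealSheafData),
          IsKilledIdeal ((𝓘.comap f).comap p₁) 𝒥 →
            Flat (𝒥.subschemeι ≫ p₂) ∧ LocallyOfFinitePresentation (𝒥.subschemeι ≫ p₂) := by
  obtain ⟨I₀, hI₀ft, hI₀⟩ := exists_ft_support_eq_compl U hU
  have hX : CompactSpace X := QuasiCompact.compactSpace_of_compactSpace f
  choose W V hfW hxV h1 h2 hVW using fun x ↦ exists_affine_le f x ⊤ trivial ⊤ trivial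
  clear h1 h2 hfW
  obtain ⟨s, hs⟩ := isCompact_univ.elim_finite_subcover (fun x ↦ ((V x).1 : Set X))
    (fun x ↦ (V x).1.2) (fun x _ ↦ Set.mem_iUnion.mpr ⟨x, hxV x⟩)
  have hbU : ∀ (W : S.affineOpens) (a : Γ(S, W.1)), a ∈ I₀.ideal W → S.basicOpen a ≤ U := by
    intro W a ha x hx
    by_contra hxU
    have hxs : x ∈ I₀.support := by
      change x ∈ (I₀.support : Set S)
      rw [hI₀]
      exact hxU
    rw [Scheme.IdealSheafData.mem_support_iff_of_mem (U := W) (S.basicOpen_le a hx)] at hxs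
    rw [Scheme.mem_zeroLocus_iff] at hxs
    exact hxs a ha hx
  have hloc : ∀ i : s, ∃ J : Ideal Γ(S, (W i).1), J.FG ∧ J.radical = (I₀.ideal (W i)).radical ∧
      FlatCenter (f.appLE (W i).1 (V i).1 (hVW i)) J := fun i ↦
    HR _ (f.finiteType_appLE (W i).2 (V i).2 (hVW i)) (I₀.ideal (W i)) (hI₀ft (W i))
      (fun a ha ↦ (flat_fp_away f U (W i).2 (V i).2 (hVW i) a (hbU _ a ha)).1)
      (fun a ha ↦ (flat_fp_away f U (W i).2 (V i).2 (hVW i) a (hbU _ a ha)).2)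
  choose J hJ hJr hJF using hloc
  obtain ⟨𝓘, h𝓘, h𝓘s, H⟩ := exists_glob U hU I₀ hI₀ft hI₀ (fun i : s ↦ W i) J hJ hJr
  refine ⟨𝓘, h𝓘, h𝓘s, ?_⟩
  intro T X' g hg p₁ p₂ hc 𝒥 h𝒥
  apply flat_and_lfp_of_chart hc h𝒥
  intro x'
  obtain ⟨i, hi, hxi⟩ := Set.mem_iUnion₂.mp (hs (Set.mem_univ (p₁ x')))
  have hgW : g (p₂ x') ∈ (W i).1 := by
    have h1 : f (p₁ x') ∈ (W i).1 := hVW i hxi
    rwa [← Scheme.Hom.comp_apply, hc.w, Scheme.Hom.comp_apply] at h1
  obtain ⟨W', hW'W, hxW', -, d, e, N, hd, -, hJd, he, hde, hed⟩ :=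
    H g hg ⟨i, hi⟩ (p₂ x') ⊤ trivial hgW
  exact ⟨W i, V i, W', hVW i, hW'W, hxi, hxW', J ⟨i, hi⟩, hJF ⟨i, hi⟩, d, e, N, hd, hJd, he, hde, hed⟩

end Groth.Agent.Flat2C.GlobFlat
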