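import Groth.Agent.Flat2C.FlatteningRing
import Groth.Agent.Flat2C.GlobFlat
import Mathlib.RingTheory.RingHom.Flat
import Mathlib.RingTheory.RingHom.FinitePresentation
import Mathlib.RingTheory.TensorProduct.MvPolynomial
import Mathlib.Algebra.Module.LocalizedModule.IsLocalization
import Mathlib.Algebra.Category.Ring.Constructions

/-!
# Ring-level flattening for algebras of finite type

Derived from `FlatteningRing.flattening_ring` (Theorem A) for `N = B` over a polynomial ring.
-/

set_option autoImplicit false
universe u

namespace Groth.Agent.Flat2C.FlatteningAlg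

open Function

section hyp

variable {A P B : Type u} [CommRing A] [CommRing P] [CommRing B] [Algebra A P] [Algebra A B] [Algebra P B]
  [IsScalarTower A P B]

instance isLocalizedModule_away (a : A) :
    IsLocalizedModule (Submonoid.powers (algebraMap A P a))
      (IsScalarTower.toAlgHom P B (Localization.Away (algebraMap A B a))).toLinearMap := by
  rw [isLocalizedModule_iff_isLocalization]
  have h : Algebra.algebraMapSubmonoid B (Submonoid.powers (algebraMap A P a)) =
      Submonoid.powers (algebraMap A B a) := by
    rw [Algebra.algebraMapSubmonoid, Submonoid.map_powers, ← IsScalarTower.algebraMap_apply]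
  rw [h]
  infer_instance

/-- The localised module. -/
noncomputable def locEquiv (a : A) : LocalizedModule (Submonoid.powers (algebraMap A P a)) B ≃ₗ[P]
    Localization.Away (algebraMap A B a) :=
  IsLocalizedModule.iso (Submonoid.powers (algebraMap A P a))
    (IsScalarTower.toAlgHom P B (Localization.Away (algebraMap A B a))).toLinearMap

theorem flat_localized (a : A) [Module.Flat A (Localization.Away (algebraMap A B a))] :
    Module.Flat A (LocalizedModule (Submonoid.powers (algebraMap A P a)) B) :=
  Module.Flat.of_linearEquiv ((locEquiv (P := P) (B := B) a).restrictScalars A)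

theorem fp_localized (a : A) [Algebra.FinitePresentation A P] (hs : Surjective (algebraMap P B))
    [Algebra.FinitePresentation A (Localization.Away (algebraMap A B a))] :
    Module.FinitePresentation (Localization.Away (algebraMap A P a))
      (LocalizedModule (Submonoid.powers (algebraMap A P a)) B) := by
  let Pa := Localization.Away (algebraMap A P a)
  let Ba := Localization.Away (algebraMap A B a)
  have hunit : ∀ y : Submonoid.powers (algebraMap A P a), IsUnit (algebraMap P Ba y) := by
    rintro ⟨_, n, rfl⟩
    simp only [map_pow]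
    apply IsUnit.pow
    rw [IsScalarTower.algebraMap_apply P B Ba, ← IsScalarTower.algebraMap_apply A P B]
    exact IsLocalization.Away.algebraMap_isUnit _
  let g : Pa →+* Ba := IsLocalization.lift (M := Submonoid.powers (algebraMap A P a)) hunit
  let _ : Algebra Pa Ba := g.toAlgebra
  have hP : IsScalarTower P Pa Ba := .of_algebraMap_eq fun x ↦ by
    exact (IsLocalization.lift_eq (M := Submonoid.powers (algebraMap A P a)) hunit x).symm
  have hA : IsScalarTower A Pa Ba := .of_algebraMap_eq fun x ↦ by
    rw [IsScalarTower.algebraMap_apply A P Pa, ← IsScalarTower.algebraMap_apply P Pa Ba,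
      ← IsScalarTower.algebraMap_apply A P Ba]
  have hPa : Algebra.FinitePresentation A Pa := by
    have : Algebra.FinitePresentation P Pa := IsLocalization.Away.finitePresentation (algebraMap A P a)
    exact Algebra.FinitePresentation.trans A P Pa
  have hgs : Surjective (algebraMap Pa Ba) := by
    intro y
    obtain ⟨b, ⟨_, n, rfl⟩, rfl⟩ := IsLocalization.exists_mk'_eq (Submonoid.powers (algebraMap A B a)) y
    obtain ⟨p, rfl⟩ := hs b
    let s : Submonoid.powers (algebraMap A P a) := ⟨(algebraMap A P a) ^ n, n, rfl⟩
    refine ⟨IsLocalization.mk' Pa p s, ?_⟩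
    rw [IsLocalization.eq_mk'_iff_mul_eq]
    have h1 : algebraMap B Ba (algebraMap A B a ^ n) = algebraMap Pa Ba (algebraMap P Pa s) := by
      rw [← IsScalarTower.algebraMap_apply P Pa Ba, IsScalarTower.algebraMap_apply P B Ba]
      change _ = algebraMap B Ba (algebraMap P B (algebraMap A P a ^ n))
      rw [map_pow (algebraMap P B), ← IsScalarTower.algebraMap_apply A P B]
    change algebraMap Pa Ba (IsLocalization.mk' Pa p s) * algebraMap B Ba (algebraMap A B a ^ n) = _
    rw [h1, ← map_mul, IsLocalization.mk'_spec, ← IsScalarTower.algebraMap_apply P Pa Ba,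
      IsScalarTower.algebraMap_apply P B Ba]
  let gA : Pa →ₐ[A] Ba := IsScalarTower.toAlgHom A Pa Ba
  have hker : (RingHom.ker gA.toRingHom).FG := Algebra.FinitePresentation.ker_fG_of_surjective gA hgs
  have hfp : Module.FinitePresentation Pa Ba := by
    refine Module.finitePresentation_of_surjective (Algebra.linearMap Pa Ba) hgs ?_
    exact hker
  let e := (locEquiv (P := P) (B := B) a).symm.extendScalarsOfIsLocalization
    (Submonoid.powers (algebraMap A P a)) Pa
  exact Module.FinitePresentation.of_equiv e

end hyp

section concl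

variable {A B R C : Type u} [CommRing A] [CommRing B] [CommRing R] [CommRing C] [Algebra A B] [Algebra A R]
  [Algebra B C] [Algebra R C] [Algebra A C] [IsScalarTower A B C] [IsScalarTower A R C]

/-- A model of the base change of a polynomial presentation. -/
theorem exists_model [Algebra.IsPushout A B R C] {n : ℕ} [Algebra (MvPolynomial (Fin n) A) B]
    [IsScalarTower A (MvPolynomial (Fin n) A) B] (hs : Surjective (algebraMap (MvPolynomial (Fin n) A) B)) :
    ∃ (_ : Algebra (MvPolynomial (Fin n) A) (MvPolynomial (Fin n) R))
      (_ : Algebra (MvPolynomial (Fin n) R) C) (_ : Algebra (MvPolynomial (Fin n) A) C)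
      (_ : IsScalarTower A (MvPolynomial (Fin n) A) (MvPolynomial (Fin n) R))
      (_ : IsScalarTower (MvPolynomial (Fin n) A) (MvPolynomial (Fin n) R) C)
      (_ : IsScalarTower R (MvPolynomial (Fin n) R) C)
      (_ : IsScalarTower (MvPolynomial (Fin n) A) B C),
      Surjective (algebraMap (MvPolynomial (Fin n) R) C) ∧
      Algebra.IsPushout A (MvPolynomial (Fin n) A) R (MvPolynomial (Fin n) R) ∧
      IsBaseChange (MvPolynomial (Fin n) R) (IsScalarTower.toAlgHom (MvPolynomial (Fin n) A) B C).toLinearMap := by
  let P := MvPolynomial (Fin n) A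
  let S' := MvPolynomial (Fin n) R
  let i1 : Algebra P S' := MvPolynomial.algebraMvPolynomial
  let i2 : Algebra P C := ((algebraMap B C).comp (algebraMap P B)).toAlgebra
  let i3 : Algebra S' C := (MvPolynomial.aeval (R := R) fun i : Fin n ↦ algebraMap P C (MvPolynomial.X i)).toAlgebra
  have t1 : IsScalarTower A P S' := by infer_instance
  have t2 : IsScalarTower R S' C := .of_algebraMap_eq fun x ↦
    ((MvPolynomial.aeval (R := R) fun i : Fin n ↦ algebraMap P C (MvPolynomial.X i)).commutes x).symm
  have t3 : IsScalarTower P B C := .of_algebraMap_eq fun x ↦ rfl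
  have t6 : IsScalarTower A P C := .of_algebraMap_eq fun x ↦ by
    rw [IsScalarTower.algebraMap_apply P B C, ← IsScalarTower.algebraMap_apply A P B,
      ← IsScalarTower.algebraMap_apply A B C]
  have t5 : IsScalarTower A S' C := .of_algebraMap_eq fun x ↦ by
    rw [IsScalarTower.algebraMap_apply A R S', ← IsScalarTower.algebraMap_apply R S' C,
      ← IsScalarTower.algebraMap_apply A R C]
  have t4 : IsScalarTower P S' C := by
    refine .of_algebraMap_eq' ?_
    apply MvPolynomial.ringHom_ext
    · intro a
      change algebraMap P C (algebraMap A P a) = algebraMap S' C (algebraMap P S' (algebraMap A P a))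
      rw [← IsScalarTower.algebraMap_apply A P C, ← IsScalarTower.algebraMap_apply A P S',
        ← IsScalarTower.algebraMap_apply A S' C]
    · intro i
      change algebraMap P C (MvPolynomial.X i) = MvPolynomial.aeval _ (MvPolynomial.map _ (MvPolynomial.X i))
      rw [MvPolynomial.map_X, MvPolynomial.aeval_X]
  have hp : Algebra.IsPushout A P R S' := by infer_instance
  have hp2 : Algebra.IsPushout P B S' C := (Algebra.IsPushout.comp_iff A P R S').mp inferInstance
  refine ⟨i1, i3, i2, t1, t4, t2, t3, ?_, hp, hp2.symm.out⟩
  intro c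
  have hbc : IsBaseChange S' (IsScalarTower.toAlgHom P B C).toLinearMap := hp2.symm.out
  obtain ⟨z, rfl⟩ := hbc.equiv.surjective c
  induction z with
  | zero => exact ⟨0, by simp⟩
  | add x y hx hy =>
    obtain ⟨x', hx'⟩ := hx
    obtain ⟨y', hy'⟩ := hy
    exact ⟨x' + y', by rw [map_add, map_add, hx', hy']⟩
  | tmul r b =>
    obtain ⟨p, rfl⟩ := hs b
    refine ⟨r * algebraMap P S' p, ?_⟩
    rw [hbc.equiv_tmul, map_mul, ← IsScalarTower.algebraMap_apply P S' C,
      IsScalarTower.algebraMap_apply P B C, Algebra.smul_def]
    rfl

end concl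

open Groth.Agent.Flat2C.GlobFlat Groth.Agent.Flat2C.FlatteningRing in
/-- Ring-level flattening for algebras of finite type. -/
theorem ringFlattening : RingFlattening.{u} := by
  intro A B φ hφ I₀ hI₀ hflat hfp
  let iAB : Algebra A B := φ.hom.toAlgebra
  have hft : Algebra.FiniteType A B := hφ
  obtain ⟨n, f, hf⟩ := Algebra.FiniteType.iff_quotient_mvPolynomial''.mp hft
  let P := MvPolynomial (Fin n) A
  let iPB : Algebra P B := f.toRingHom.toAlgebra
  have tAPB : IsScalarTower A P B := .of_algebraMap_eq fun x ↦ (f.commutes x).symm
  have hPs : Surjective (algebraMap P B) := hf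
  have hfin : Module.Finite P B := Module.Finite.of_surjective (Algebra.linearMap P B) hPs
  obtain ⟨J, hJ, hJr, H⟩ := flattening_ring (A := A) (B := P) B I₀ hI₀
    (fun a ha ↦ by
      have : Module.Flat A (Localization.Away (algebraMap A B a)) := by
        rw [← RingHom.flat_algebraMap_iff, IsScalarTower.algebraMap_eq A B]
        exact hflat a ha
      exact flat_localized a)
    (fun a ha ↦ by
      have : Algebra.FinitePresentation A (Localization.Away (algebraMap A B a)) := by
        rw [← RingHom.finitePresentation_algebraMap, IsScalarTower.algebraMap_eq A B]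
        exact hfp a ha
      exact fp_localized a hPs)
  refine ⟨J, hJ, hJr, ?_⟩
  intro R C ψ q r hpush d hd hJd T hT
  let iAR : Algebra A R := ψ.hom.toAlgebra
  let iBC : Algebra B C := q.hom.toAlgebra
  let iRC : Algebra R C := r.hom.toAlgebra
  let iAC : Algebra A C := (q.hom.comp φ.hom).toAlgebra
  have tABC : IsScalarTower A B C := .of_algebraMap_eq fun x ↦ rfl
  have tARC : IsScalarTower A R C := .of_algebraMap_eq fun x ↦ congr($(hpush.w) x)
  have hP : Algebra.IsPushout A B R C := CommRingCat.isPushout_iff_isPushout.mp hpush
  obtain ⟨i1, i3, i2, t1, t4, t2, t3, hs, hp, hbc⟩ := exists_model (A := A) (B := B) (R := R) (C := C) hPs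
  let S' := MvPolynomial (Fin n) R
  obtain ⟨h1, h2⟩ := H R S' C (C ⧸ T) (IsScalarTower.toAlgHom P B C).toLinearMap hbc
    ((Ideal.Quotient.mkₐ S' T).toLinearMap) d hd hJd Ideal.Quotient.mk_surjective (by
      intro m
      rw [AlgHom.toLinearMap_apply, Ideal.Quotient.mkₐ_eq_mk, Ideal.Quotient.eq_zero_iff_mem, hT]
      refine exists_congr fun n ↦ ?_
      rw [Algebra.smul_def, map_pow]
      rfl)
  constructor
  · rw [show ((Ideal.Quotient.mk T).comp r.hom) = algebraMap R (C ⧸ T) from rfl, RingHom.flat_algebraMap_iff]
    exact h1
  · rw [show ((Ideal.Quotient.mk T).comp r.hom) = algebraMap R (C ⧸ T) from rfl,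
      RingHom.finitePresentation_algebraMap]
    let f' : S' →ₐ[R] (C ⧸ T) := IsScalarTower.toAlgHom R S' (C ⧸ T)
    have hf' : Surjective f' := Ideal.Quotient.mk_surjective.comp hs
    refine Algebra.FinitePresentation.of_surjective (f := f') hf' ?_
    exact Module.FinitePresentation.fg_ker (Algebra.linearMap S' (C ⧸ T)) hf'

end Groth.Agent.Flat2C.FlatteningAlg
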