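import Mathlib.LinearAlgebra.Matrix.Adjugate
import Mathlib.LinearAlgebra.Matrix.ToLin
import Mathlib.LinearAlgebra.Matrix.Block
import Mathlib.Data.Matrix.ColumnRowPartitioned
import Mathlib.RingTheory.LocalRing.Module
import Mathlib.LinearAlgebra.Dimension.Localization
import Mathlib.LinearAlgebra.Dimension.Constructions
import Mathlib.LinearAlgebra.FreeModule.StrongRankCondition

/-!
# Minors of presentation matrices

* `det_submatrix_mul_eq_zero` : the `(k+1)`-minors of a product `B * C` through rank `k` vanish.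
* `det_mul_mul_mem` : the determinant of `P * A * Q` lies in every ideal containing the `k`-minors of `A`.
* `minors_of_free` : for a presentation matrix of a free module of rank `r` on `k + r` generators over a
  local ring, the `(k+1)`-minors vanish and the `k`-minors generate the unit ideal.
* `det_mul_eq_zero_of_mulVec`, `sum_cramer_smul` : Cramer-type identities.
-/

set_option autoImplicit false

namespace Groth.Agent.Flat2C.MinorsAux

open Matrix

variable {L : Type*} [CommRing L]

/-- The `(k+1)`-minors of a product through rank `k` vanish. -/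
theorem det_submatrix_mul_eq_zero {ι κ : Type*} {k : ℕ} (B : Matrix ι (Fin k) L)
    (C : Matrix (Fin k) κ L) (ρ : Fin k ⊕ Unit → ι) (γ : Fin k ⊕ Unit → κ) :
    ((B * C).submatrix ρ γ).det = 0 := by
  have h : (B * C).submatrix ρ γ = Matrix.fromCols (B.submatrix ρ id) (0 : Matrix _ Unit L) *
      Matrix.fromRows (C.submatrix id γ) (0 : Matrix Unit _ L) := by
    rw [Matrix.fromCols_mul_fromRows, Matrix.mul_zero, add_zero]
    ext i j
    simp [Matrix.mul_apply]
  rw [h, det_mul, Matrix.det_eq_zero_of_column_eq_zero (Sum.inr ()) (fun i => rfl), zero_mul]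

/-- The determinant of `P * Q` lies in every ideal containing the minors of `Q`. -/
theorem det_mul_mem (J : Ideal L) {ι : Type*} [Fintype ι] {k : ℕ} (P : Matrix (Fin k) ι L)
    (Q : Matrix ι (Fin k) L) (h : ∀ α : Fin k → ι, (Q.submatrix α id).det ∈ J) :
    (P * Q).det ∈ J := by
  classical
  have h1 : (P * Q).det =
      Matrix.detRowAlternating.toMultilinearMap (fun i => ∑ j, P i j • Q j) := by
    change (P * Q).det = Matrix.det _
    congr 1
    ext i j
    simp [Matrix.mul_apply]
  rw [h1, MultilinearMap.map_sum]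
  refine J.sum_mem fun α _ => ?_
  rw [MultilinearMap.map_smul_univ]
  exact J.mul_mem_left _ (h α)

/-- The determinant of `P * A * Q` lies in every ideal containing the minors of `A`. -/
theorem det_mul_mul_mem (J : Ideal L) {ι κ : Type*} [Fintype ι] [Fintype κ] {k : ℕ}
    (P : Matrix (Fin k) ι L) (A : Matrix ι κ L) (Q : Matrix κ (Fin k) L)
    (h : ∀ (α : Fin k → ι) (β : Fin k → κ), (A.submatrix α β).det ∈ J) :
    (P * A * Q).det ∈ J := by
  rw [Matrix.mul_assoc]
  refine det_mul_mem J P (A * Q) fun α => ?_
  rw [← Matrix.det_transpose]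
  have : ((A * Q).submatrix α id)ᵀ = Qᵀ * (A.submatrix α id)ᵀ := by
    ext i j
    simp [Matrix.mul_apply, mul_comm]
  rw [this]
  refine det_mul_mem J _ _ fun β => ?_
  rw [← Matrix.det_transpose]
  exact h α β

/-- Presentation matrices of free modules over local rings. -/
theorem minors_of_free [IsLocalRing L] {ι κ : Type*} [Fintype ι] [Fintype κ] (k r : ℕ)
    (hι : Fintype.card ι = k + r) (A : Matrix ι κ L) {N : Type*} [AddCommGroup N] [Module L N]
    [Module.Free L N] (hr : Module.finrank L N = r) (π : (ι → L) →ₗ[L] N)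
    (hπ : Function.Surjective π) (hker : LinearMap.ker π = LinearMap.range A.mulVecLin) :
    (∀ (ρ : Fin k ⊕ Unit → ι) (γ : Fin k ⊕ Unit → κ), (A.submatrix ρ γ).det = 0) ∧
    (∀ J : Ideal L, (∀ (α : Fin k → ι) (β : Fin k → κ), (A.submatrix α β).det ∈ J) → J = ⊤) := by
  classical
  have : Module.Finite L N := Module.Finite.of_surjective π hπ
  obtain ⟨σ, hσ⟩ := Module.projective_lifting_property π LinearMap.id hπ
  have hσ' : ∀ y, π (σ y) = y := fun y => LinearMap.congr_fun hσ y
  -- the retraction onto the kernel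
  let ret : (ι → L) →ₗ[L] LinearMap.ker π :=
    (LinearMap.id - σ ∘ₗ π).codRestrict (LinearMap.ker π) (fun x => by
      simp [hσ'])
  have hret : ∀ x : LinearMap.ker π, ret (x : ι → L) = x := by
    intro x
    apply Subtype.ext
    simp [ret]
  have hproj : Module.Projective L (LinearMap.ker π) :=
    Module.Projective.of_split (LinearMap.ker π).subtype ret (by ext x : 1; exact hret x)
  have hfin : Module.Finite L (LinearMap.ker π) :=
    Module.Finite.of_surjective ret (fun x => ⟨x, hret x⟩)
  have hfree : Module.Free L (LinearMap.ker π) := Module.free_of_flat_of_isLocalRing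
  let e : (ι → L) ≃ₗ[L] LinearMap.ker π × N :=
    LinearEquiv.ofBijective (ret.prod π) (by
      constructor
      · rw [← LinearMap.ker_eq_bot, LinearMap.ker_eq_bot']
        intro x hx
        have h1 : ret x = 0 := congrArg Prod.fst hx
        have h2 : π x = 0 := congrArg Prod.snd hx
        have h3 := hret ⟨x, h2⟩
        have h4 : (⟨x, h2⟩ : LinearMap.ker π) = 0 := by rw [← h3]; exact h1
        exact congrArg Subtype.val h4
      · rintro ⟨x, y⟩
        refine ⟨x + σ y, ?_⟩
        have h1 : ret (σ y) = 0 := by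
          apply Subtype.ext
          simp [ret, hσ']
        have h2 : π (x : ι → L) = 0 := x.2
        simp [h1, h2, hσ', hret])
  have hk : Module.finrank L (LinearMap.ker π) = k := by
    have h1 := e.finrank_eq
    rw [Module.finrank_prod, Module.finrank_fintype_fun_eq_card, hι, hr] at h1
    omega
  let b : Module.Basis (Fin k) L (LinearMap.ker π) := Module.finBasisOfFinrankEq L _ hk
  have hA : ∀ j, A.col j ∈ LinearMap.ker π := by
    intro j
    rw [hker]
    exact ⟨Pi.single j 1, by simp⟩
  let B : Matrix ι (Fin k) L := Matrix.of fun i t => (b t : ι → L) i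
  let C : Matrix (Fin k) κ L := Matrix.of fun t j => b.repr ⟨A.col j, hA j⟩ t
  have hBC : A = B * C := by
    ext i j
    have h1 := b.sum_repr ⟨A.col j, hA j⟩
    have h2 := congrFun (congrArg Subtype.val h1) i
    rw [Matrix.mul_apply]
    simp only [B, C, Matrix.of_apply]
    simp only [Submodule.coe_sum, Submodule.coe_smul, Finset.sum_apply, Pi.smul_apply,
      smul_eq_mul, Matrix.col_apply] at h2
    rw [← h2]
    exact Finset.sum_congr rfl fun t _ => mul_comm _ _
  have hC' : ∀ t : Fin k, ∃ z : κ → L, A *ᵥ z = b t := by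
    intro t
    have : (b t : ι → L) ∈ LinearMap.range A.mulVecLin := by rw [← hker]; exact (b t).2
    obtain ⟨z, hz⟩ := this
    exact ⟨z, hz⟩
  choose z hz using hC'
  let C' : Matrix κ (Fin k) L := Matrix.of fun j t => z t j
  have hAC' : A * C' = B := by
    ext i t
    exact congrFun (hz t) i
  let B' : Matrix (Fin k) ι L := Matrix.of fun t i => b.repr (ret (Pi.single i 1)) t
  have hB'B : B' * B = 1 := by
    ext s t
    have h1 : (b t : ι → L) = ∑ i, (b t : ι → L) i • Pi.single i (1 : L) := by
      ext i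
      simp [Pi.single_apply]
    have h2 : b.repr (ret (b t : ι → L)) s = (1 : Matrix (Fin k) (Fin k) L) s t := by
      rw [hret, b.repr_self, Finsupp.single_apply, Matrix.one_apply]
      simp [eq_comm]
    rw [← h2, h1, map_sum, map_sum, Finsupp.finsetSum_apply, Matrix.mul_apply]
    refine Finset.sum_congr rfl fun i _ => ?_
    rw [map_smul, map_smul, Finsupp.smul_apply, smul_eq_mul, mul_comm]
    simp [B, B']
  refine ⟨fun ρ γ => ?_, fun J hJ => ?_⟩
  · rw [hBC]
    exact det_submatrix_mul_eq_zero B C ρ γ
  · rw [Ideal.eq_top_iff_one]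
    have h1 := det_mul_mul_mem J B' A C' hJ
    rwa [Matrix.mul_assoc, hAC', hB'B, det_one] at h1

/-- Cramer relations: if the columns of `A` are relations among the `e i`, so are the vectors of `k`-minors
obtained by moving one row. -/
theorem sum_cramer_smul {ι κ : Type*} [Fintype ι] [DecidableEq ι] {k : ℕ} (A : Matrix ι κ L) {N : Type*} [AddCommGroup N]
    [Module L N] (e : ι → N) (hA : ∀ j, ∑ i, A i j • e i = 0) (α : Fin k → ι) (β : Fin k → κ)
    (s : Fin k) : ∑ i, (A.submatrix (Function.update α s i) β).det • e i = 0 := by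
  have h1 : ∀ i, (A.submatrix (Function.update α s i) β).det =
      ∑ t, (A.submatrix α β)ᵀ.adjugate s t * A i (β t) := by
    intro i
    have h2 : A.submatrix (Function.update α s i) β =
        (A.submatrix α β).updateRow s (fun t => A i (β t)) := by
      ext s' t
      by_cases h : s' = s
      · subst h; simp
      · simp [h]
    rw [h2, ← cramer_transpose_apply, cramer_eq_adjugate_mulVec]
    rfl
  simp_rw [h1, Finset.sum_smul, mul_smul]
  rw [Finset.sum_comm]
  refine Finset.sum_eq_zero fun t _ => ?_
  rw [← Finset.smul_sum, hA, smul_zero]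

/-- If the `(k+1)`-minors of `A` are killed by `c`, and the rows `α` of `A z` vanish, then
`c * det A_{αβ}` kills all of `A z`. -/
theorem mul_det_mul_mulVec {ι κ : Type*} [Fintype κ] {k : ℕ} (A : Matrix ι κ L) (c : L)
    (hc : ∀ (ρ : Fin k ⊕ Unit → ι) (γ : Fin k ⊕ Unit → κ), c * (A.submatrix ρ γ).det = 0)
    (z : κ → L) (α : Fin k → ι) (β : Fin k → κ) (h0 : ∀ s, (A *ᵥ z) (α s) = 0) (i : ι) :
    c * (A.submatrix α β).det * (A *ᵥ z) i = 0 := by
  let ρ : Fin k ⊕ Unit → ι := Sum.elim α (fun _ => i)
  let U : Matrix (Fin k ⊕ Unit) (Fin k ⊕ Unit) L :=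
    Matrix.of fun p q => Sum.elim (fun t => A (ρ p) (β t)) (fun _ => 0) q
  have h1 : cramer U (fun p => (A *ᵥ z) (ρ p)) (Sum.inr ()) =
      (A.submatrix α β).det * (A *ᵥ z) i := by
    rw [cramer_apply]
    have h2 : U.updateCol (Sum.inr ()) (fun p => (A *ᵥ z) (ρ p)) =
        fromBlocks (A.submatrix α β) 0 (Matrix.of fun _ t => A i (β t))
          (Matrix.of fun (_ _ : Unit) => (A *ᵥ z) i) := by
      ext (p | p) (q | q)
      · simp [U, ρ]
      · simpa [U, ρ] using h0 p
      · simp [U, ρ]
      · simp [U, ρ]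
    rw [h2, det_fromBlocks_zero₁₂, det_unique (Matrix.of fun (_ _ : Unit) => (A *ᵥ z) i)]
    rfl
  have h3 : (fun p => (A *ᵥ z) (ρ p)) = ∑ j, z j • (fun p => A (ρ p) j) := by
    ext p
    simp [Matrix.mulVec, dotProduct, mul_comm]
  rw [mul_assoc, ← h1, h3, map_sum, Finset.sum_apply, Finset.mul_sum]
  refine Finset.sum_eq_zero fun j _ => ?_
  rw [map_smul, Pi.smul_apply, smul_eq_mul, mul_left_comm, cramer_apply]
  have h4 : U.updateCol (Sum.inr ()) (fun p => A (ρ p) j) =
      A.submatrix ρ (Sum.elim β (fun _ => j)) := by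
    ext p (q | q)
    · simp [U]
    · simp [U]
  rw [h4, hc, mul_zero]

end Groth.Agent.Flat2C.MinorsAux
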