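import Groth.Prelude.Def_FlatCA
import Groth.Agent.Flat2C.MinorsAux
import Mathlib.RingTheory.Localization.Away.Basic
import Mathlib.RingTheory.Localization.Integer
import Mathlib.RingTheory.IsTensorProduct
import Mathlib.LinearAlgebra.Dimension.Constructions

/-!
# Freeness after inverting one element, and relations after base change

* `mem_powTorsion` : `x ∈ powTorsion S a M ↔ ∃ n, a ^ n • x = 0`.
* `free_away` : a module with generators `e i` such that `g e_{α s}` is a combination of the `e i`, `i ∉ α`, and the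
  latter have only `g`-torsion relations, is free of rank `r` after inverting `g`.
* `exists_relation_baseChange` : the relations of a base change.
-/

set_option autoImplicit false
universe u

namespace Groth.Agent.Flat2C.FreeAway

open Matrix

theorem mem_powTorsion {S : Type u} [CommRing S] (a : S) {M : Type u} [AddCommGroup M] [Module S M]
    (x : M) : x ∈ FlatCA.powTorsion S a M ↔ ∃ n : ℕ, a ^ n • x = 0 := by
  rw [FlatCA.powTorsion, Submodule.mem_iSup_of_directed]
  · simp only [Submodule.mem_torsionBy_iff]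
  · intro i j
    refine ⟨i + j, fun x hx => ?_, fun x hx => ?_⟩
    · rw [Submodule.mem_torsionBy_iff] at hx ⊢
      rw [pow_add, mul_comm, mul_smul, hx, smul_zero]
    · rw [Submodule.mem_torsionBy_iff] at hx ⊢
      rw [pow_add, mul_smul, hx, smul_zero]

/-- Freeness after inverting one element. -/
theorem free_away {S : Type u} [CommRing S] {N : Type u} [AddCommGroup N] [Module S N]
    {ι : Type} [Fintype ι] [DecidableEq ι] (k r : ℕ) (hι : Fintype.card ι = k + r) (e : ι → N)
    (he : ∀ x : N, ∃ c : ι → S, x = ∑ i, c i • e i) (α : Fin k → ι) (hα : Function.Injective α)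
    (g : S) (B : ι → Fin k → S) (hB : ∀ s, ∑ i, B i s • e i = 0)
    (hBα : ∀ s s', B (α s') s = if s' = s then g else 0)
    (hinj : ∀ x : ι → S, (∀ s, x (α s) = 0) → ∑ i, x i • e i = 0 → ∀ i, ∃ n : ℕ, g ^ n * x i = 0)
    (hg : ¬ IsNilpotent g) :
    Module.Free (Localization.Away g) (LocalizedModule (Submonoid.powers g) N) ∧
      Module.rank (Localization.Away g) (LocalizedModule (Submonoid.powers g) N) = r := by
  classical
  let T := Localization.Away g
  let P := Submonoid.powers g
  let mk := LocalizedModule.mkLinearMap P N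
  let κ := {i : ι // i ∉ Set.range α}
  have hκ : Fintype.card κ = r := by
    have h1 : Fintype.card (Set.range α) = k := by
      rw [Set.card_range_of_injective hα, Fintype.card_fin]
    have h2 := Fintype.card_subtype_compl (fun i => i ∈ Set.range α)
    have h3 : Fintype.card {i // i ∈ Set.range α} = k := h1
    rw [h3, hι] at h2
    change Fintype.card {i // ¬ i ∈ Set.range α} = r
    rw [h2]
    omega
  let π : (κ → T) →ₗ[T] LocalizedModule P N := Fintype.linearCombination T (fun i => mk (e i.1))
  have hπ : ∀ x : κ → T, π x = ∑ i, x i • mk (e i.1) := fun x =>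
    Fintype.linearCombination_apply T _ x
  have hsum : ∀ y : ι → S, ∑ i, y i • e i = (∑ s, y (α s) • e (α s)) + ∑ i : κ, y i.1 • e i.1 := by
    intro y
    rw [← Fintype.sum_subtype_add_sum_subtype (fun i => i ∈ Set.range α) (fun i => y i • e i)]
    congr 1
    have h := (Fintype.sum_equiv (Equiv.ofInjective α hα) (fun s => y (α s) • e (α s))
      (fun i => y i.1 • e i.1) (fun s => rfl)).symm
    convert h
  have hgu : IsUnit (algebraMap S T g) := IsLocalization.Away.algebraMap_isUnit g
  have hgen : ∀ i, mk (e i) ∈ LinearMap.range π := by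
    intro i
    by_cases hi : i ∈ Set.range α
    · obtain ⟨s, rfl⟩ := hi
      have h1 : g • e (α s) = - ∑ i : κ, B i.1 s • e i.1 := by
        have h2 := hB s
        rw [hsum, Finset.sum_eq_single s] at h2
        · rw [hBα, if_pos rfl] at h2
          exact eq_neg_of_add_eq_zero_left h2
        · intro s' _ hs'
          rw [hBα, if_neg hs', zero_smul]
        · intro h; exact absurd (Finset.mem_univ _) h
      have h3 : algebraMap S T g • mk (e (α s)) ∈ LinearMap.range π := by
        rw [algebraMap_smul, ← map_smul, h1]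
        refine ⟨fun i => - algebraMap S T (B i.1 s), ?_⟩
        rw [hπ, map_neg, map_sum, ← Finset.sum_neg_distrib]
        refine Finset.sum_congr rfl fun i _ => ?_
        rw [neg_smul, algebraMap_smul, map_smul]
      exact (Submodule.smul_mem_iff_of_isUnit _ hgu).mp h3
    · refine ⟨Pi.single ⟨i, hi⟩ 1, ?_⟩
      rw [hπ, Finset.sum_eq_single ⟨i, hi⟩]
      · rw [Pi.single_eq_same, one_smul]
      · intro j _ hj
        rw [Pi.single_eq_of_ne hj, zero_smul]
      · intro h; exact absurd (Finset.mem_univ _) h
  have hsurj : Function.Surjective π := by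
    intro y
    obtain ⟨⟨x, s⟩, hx⟩ := IsLocalizedModule.surj P mk y
    have hx' : s • y = mk x := hx
    obtain ⟨c, hc⟩ := he x
    have h1 : algebraMap S T s • y ∈ LinearMap.range π := by
      rw [algebraMap_smul]
      change s • y ∈ _
      rw [hx', hc, map_sum]
      refine sum_mem fun i _ => ?_
      rw [map_smul, ← algebraMap_smul T (c i)]
      exact Submodule.smul_mem _ _ (hgen i)
    exact (Submodule.smul_mem_iff_of_isUnit _ (IsLocalization.map_units T s)).mp h1
  have hinj' : Function.Injective π := by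
    rw [← LinearMap.ker_eq_bot, LinearMap.ker_eq_bot']
    intro x hx
    obtain ⟨b, hb⟩ := IsLocalization.exist_integer_multiples_of_finite P x
    choose x' hx' using hb
    let x'' : ι → S := fun i => if h : i ∉ Set.range α then x' ⟨i, h⟩ else 0
    have hx''1 : ∀ s, x'' (α s) = 0 := fun s => by simp [x'']
    have hx''2 : ∀ i : κ, x'' i.1 = x' i := fun i => by
      have := i.2
      simp only [x'']
      rw [dif_pos this]
    have h1 : mk (∑ i, x'' i • e i) = 0 := by
      rw [hsum, map_add, map_sum, map_sum]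
      rw [Finset.sum_eq_zero (fun s _ => by rw [hx''1, zero_smul, map_zero]), zero_add]
      have h2 : π (algebraMap S T b • x) = 0 := by rw [map_smul, hx, smul_zero]
      rw [← h2, hπ]
      refine Finset.sum_congr rfl fun i _ => ?_
      rw [hx''2, map_smul, Pi.smul_apply, smul_eq_mul, ← Algebra.smul_def, ← algebraMap_smul T (x' i),
        hx']
    rw [IsLocalizedModule.eq_zero_iff P] at h1
    obtain ⟨c, hc⟩ := h1
    have h3 : ∑ i, ((c : S) * x'' i) • e i = 0 := by
      simp_rw [mul_smul]
      rw [← Finset.smul_sum]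
      exact hc
    ext i
    obtain ⟨n, hn⟩ := hinj _ (fun s => by rw [hx''1, mul_zero]) h3 i.1
    rw [hx''2] at hn
    have h4 : algebraMap S T (g ^ n * c * b) * x i = 0 := by
      have h5 := congrArg (algebraMap S T) hn
      rw [map_mul, map_mul, hx', map_zero, Algebra.smul_def] at h5
      rw [map_mul, map_mul]
      rw [← h5]
      ring
    have hu : IsUnit (algebraMap S T (g ^ n * c * b)) := by
      apply IsLocalization.map_units T (⟨g ^ n * c * b, ?_⟩ : P)
      exact mul_mem (mul_mem ⟨n, rfl⟩ c.2) b.2
    exact (hu.mul_right_eq_zero).mp h4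
  have hnt : Nontrivial T := by
    by_contra h
    rw [not_nontrivial_iff_subsingleton, IsLocalization.subsingleton_iff (M := P)] at h
    obtain ⟨n, hn⟩ := h
    exact hg ⟨n, hn⟩
  let E : (κ → T) ≃ₗ[T] LocalizedModule P N := LinearEquiv.ofBijective π ⟨hinj', hsurj⟩
  refine ⟨Module.Free.of_equiv E, ?_⟩
  rw [← hκ]
  have h1 : Module.rank T (κ → T) = Fintype.card κ := rank_fun'
  exact E.rank_eq.symm.trans h1

/-- The relations of a base change. -/
theorem exists_relation_baseChange {S S' : Type u} [CommRing S] [CommRing S'] [Algebra S S']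
    {M M' : Type u} [AddCommGroup M] [Module S M] [AddCommGroup M'] [Module S' M'] [Module S M']
    [IsScalarTower S S' M'] (φ : M →ₗ[S] M') (hφ : IsBaseChange S' φ)
    {ι κ : Type} [Fintype ι] [Fintype κ] (e : ι → M) (he : ∀ x : M, ∃ c : ι → S, x = ∑ i, c i • e i)
    (A : Matrix ι κ S) (f : S)
    (hA : ∀ x : ι → S, ∑ i, x i • e i = 0 → ∃ (N : ℕ) (z : κ → S), f ^ N • x = A *ᵥ z)
    (x : ι → S') (hx : ∑ i, x i • φ (e i) = 0) :
    ∃ (N : ℕ) (z : κ → S'), algebraMap S S' f ^ N • x = (A.map (algebraMap S S')) *ᵥ z := by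
  classical
  let am : (ι → S) →ₗ[S] (ι → S') :=
    { toFun := fun x i => algebraMap S S' (x i)
      map_add' := fun x y => by ext i; simp
      map_smul' := fun c x => by ext i; simp [Algebra.smul_def] }
  let π : (ι → S) →ₗ[S] M := Fintype.linearCombination S e
  have hπ : ∀ x : ι → S, π x = ∑ i, x i • e i := fun x => Fintype.linearCombination_apply S e x
  have hπs : Function.Surjective π := fun y => by
    obtain ⟨c, hc⟩ := he y
    exact ⟨c, by rw [hπ, hc]⟩
  let W : Submodule S' (ι → S') := Submodule.span S' (am '' (LinearMap.ker π : Set (ι → S)))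
  let q : (ι → S') →ₗ[S'] (ι → S') ⧸ W := W.mkQ
  have hW : ∀ w ∈ W, ∃ (N : ℕ) (z : κ → S'),
      algebraMap S S' f ^ N • w = (A.map (algebraMap S S')) *ᵥ z := by
    intro w hw
    induction hw using Submodule.span_induction with
    | mem w hw =>
      obtain ⟨y, hy, rfl⟩ := hw
      have hy' : ∑ i, y i • e i = 0 := by rw [← hπ]; exact hy
      obtain ⟨N, z, hz⟩ := hA y hy'
      refine ⟨N, fun j => algebraMap S S' (z j), ?_⟩
      ext i
      have := congrArg (algebraMap S S') (congrFun hz i)
      rw [Pi.smul_apply, smul_eq_mul, map_mul, map_pow] at this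
      rw [Pi.smul_apply, smul_eq_mul]
      change _ * algebraMap S S' (y i) = _
      rw [this]
      simp [Matrix.mulVec, dotProduct]
    | zero => exact ⟨0, 0, by simp⟩
    | add w w' _ _ hw hw' =>
      obtain ⟨N, z, hz⟩ := hw
      obtain ⟨N', z', hz'⟩ := hw'
      refine ⟨N + N', algebraMap S S' f ^ N' • z + algebraMap S S' f ^ N • z', ?_⟩
      rw [Matrix.mulVec_add, Matrix.mulVec_smul, Matrix.mulVec_smul, ← hz, ← hz', smul_smul,
        smul_smul, smul_add, ← pow_add, ← pow_add, add_comm N' N]
    | smul c w _ hw =>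
      obtain ⟨N, z, hz⟩ := hw
      exact ⟨N, c • z, by rw [Matrix.mulVec_smul, ← hz, smul_comm]⟩
  -- the map `M' → S'^ι / W`
  obtain ⟨ψ, hψ⟩ : ∃ ψ : M →ₗ[S] (ι → S') ⧸ W, ∀ y, ψ (π y) = q (am y) := by
    have hle : LinearMap.ker π ≤ LinearMap.ker ((q.restrictScalars S) ∘ₗ am) := by
      intro y hy
      rw [LinearMap.mem_ker]
      change q (am y) = 0
      rw [Submodule.mkQ_apply, Submodule.Quotient.mk_eq_zero]
      exact Submodule.subset_span ⟨y, hy, rfl⟩
    let E := LinearMap.quotKerEquivOfSurjective π hπs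
    refine ⟨(LinearMap.ker π).liftQ ((q.restrictScalars S) ∘ₗ am) hle ∘ₗ E.symm.toLinearMap, fun y => ?_⟩
    have h1 : E.symm (π y) = Submodule.Quotient.mk y := by
      rw [LinearEquiv.symm_apply_eq]
      rfl
    rw [LinearMap.comp_apply]
    change (LinearMap.ker π).liftQ _ hle (E.symm (π y)) = _
    rw [h1]
    rfl
  let Ψ : M' →ₗ[S'] (ι → S') ⧸ W := hφ.lift ψ
  have hΨ : ∀ y, Ψ (φ y) = ψ y := hφ.lift_eq ψ
  have hei : ∀ i, Ψ (φ (e i)) = q (Pi.single i 1) := by
    intro i
    have h1 : e i = π (Pi.single i 1) := by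
      rw [hπ, Finset.sum_eq_single i]
      · rw [Pi.single_eq_same, one_smul]
      · intro j _ hj
        rw [Pi.single_eq_of_ne hj, zero_smul]
      · intro h; exact absurd (Finset.mem_univ _) h
    rw [hΨ, h1, hψ]
    congr 1
    ext j
    change algebraMap S S' (Pi.single (M := fun _ => S) i 1 j) = _
    by_cases h : j = i
    · subst h; simp
    · rw [Pi.single_eq_of_ne h, Pi.single_eq_of_ne h, map_zero]
  have h2 : q x = 0 := by
    have h3 : Ψ (∑ i, x i • φ (e i)) = q x := by
      rw [map_sum]
      have h4 : x = ∑ i, x i • Pi.single (M := fun _ => S') i 1 := by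
        ext j
        simp [Pi.single_apply]
      conv_rhs => rw [h4, map_sum]
      refine Finset.sum_congr rfl fun i _ => ?_
      rw [map_smul, map_smul, hei]
    rw [← h3, hx, map_zero]
  rw [Submodule.mkQ_apply, Submodule.Quotient.mk_eq_zero] at h2
  exact hW x h2

/-- The images of generators generate the base change. -/
theorem exists_comb_baseChange {S S' : Type u} [CommRing S] [CommRing S'] [Algebra S S']
    {M M' : Type u} [AddCommGroup M] [Module S M] [AddCommGroup M'] [Module S' M'] [Module S M']
    [IsScalarTower S S' M'] (φ : M →ₗ[S] M') (hφ : IsBaseChange S' φ)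
    {ι : Type} [Fintype ι] (e : ι → M) (he : ∀ x : M, ∃ c : ι → S, x = ∑ i, c i • e i) (y : M') :
    ∃ c : ι → S', y = ∑ i, c i • φ (e i) := by
  induction y using hφ.inductionOn with
  | zero => exact ⟨0, by simp⟩
  | tmul m =>
    obtain ⟨c, hc⟩ := he m
    refine ⟨fun i => algebraMap S S' (c i), ?_⟩
    rw [hc, map_sum]
    refine Finset.sum_congr rfl fun i _ => ?_
    rw [map_smul, algebraMap_smul]
  | smul s m h =>
    obtain ⟨c, hc⟩ := h
    refine ⟨fun i => s * c i, ?_⟩
    rw [hc, Finset.smul_sum]
    simp_rw [mul_smul]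
  | add m m' h h' =>
    obtain ⟨c, hc⟩ := h
    obtain ⟨c', hc'⟩ := h'
    refine ⟨fun i => c i + c' i, ?_⟩
    rw [hc, hc', ← Finset.sum_add_distrib]
    simp_rw [add_smul]

end Groth.Agent.Flat2C.FreeAway
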