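import Groth.Agent.S0389
import Groth.Agent.Flat2C.CokerBC
import Groth.Agent.Flat2C.PushoutBC

/-!
A finitely presented module over a finitely presented `A`-algebra becomes free over `A_p / I` for some finitely generated
ideal `I ⊆ pA_p` (part of Stacks 0AT8).
-/

set_option autoImplicit false
universe u

namespace Groth.Agent.Flat2C.FreeQuot

open TensorProduct

/-- base change of a generically free module -/
theorem free_baseChange {A' R Rf D A M' M N₁ : Type*} [CommRing A'] [CommRing R] [CommRing Rf] [CommRing D] [CommRing A]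
    [Algebra A' R] [Algebra R Rf] [Algebra Rf D] [Algebra R D] [Algebra A' D] [Algebra A' A] [Algebra A D]
    [IsScalarTower A' R D] [IsScalarTower R Rf D] [IsScalarTower A' A D]
    [AddCommGroup M'] [Module A' M'] [AddCommGroup M] [Module A M] [Module A' M] [IsScalarTower A' A M]
    [AddCommGroup N₁] [Module R N₁]
    (hfree : Module.Free Rf (Rf ⊗[R] N₁)) (e : N₁ ≃ₗ[R] R ⊗[A'] M') (φ : M' →ₗ[A'] M) (hφ : IsBaseChange A φ) :
    Module.Free D (D ⊗[A] M) := by
  have h1 : Module.Free D (D ⊗[Rf] (Rf ⊗[R] N₁)) := inferInstance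
  have e1 : D ⊗[Rf] (Rf ⊗[R] N₁) ≃ₗ[D] D ⊗[R] N₁ := AlgebraTensorModule.cancelBaseChange R Rf D D N₁
  have e2 : D ⊗[R] N₁ ≃ₗ[D] D ⊗[R] (R ⊗[A'] M') := AlgebraTensorModule.congr (LinearEquiv.refl D D) e
  have e3 : D ⊗[R] (R ⊗[A'] M') ≃ₗ[D] D ⊗[A'] M' := AlgebraTensorModule.cancelBaseChange A' R D D M'
  have e4 : D ⊗[A] (A ⊗[A'] M') ≃ₗ[D] D ⊗[A'] M' := AlgebraTensorModule.cancelBaseChange A' A D D M'
  have e5 : D ⊗[A] (A ⊗[A'] M') ≃ₗ[D] D ⊗[A] M := AlgebraTensorModule.congr (LinearEquiv.refl D D) hφ.equiv
  exact Module.Free.of_equiv (e1 ≪≫ₗ e2 ≪≫ₗ e3 ≪≫ₗ e4.symm ≪≫ₗ e5)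

/-- generic freeness for a base change -/
theorem generic_free_baseChange {A' R S' S₁ : Type u} [CommRing A'] [CommRing R] [IsDomain R] [CommRing S'] [CommRing S₁]
    [Algebra A' R] [Algebra A' S'] [Algebra R S₁] [Algebra S' S₁] [Algebra A' S₁] [IsScalarTower A' R S₁]
    [IsScalarTower A' S' S₁] [Algebra.IsPushout A' R S' S₁] [Algebra.FiniteType R S₁]
    (M' : Type u) [AddCommGroup M'] [Module S' M'] [Module A' M'] [IsScalarTower A' S' M'] [Module.Finite S' M'] :
    ∃ f : R, f ≠ 0 ∧ Module.Free (Localization.Away f) (Localization.Away f ⊗[R] (R ⊗[A'] M')) := by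
  obtain ⟨f, hf0, hfree, -⟩ := S0389.result (R := R) (S := S₁) (M := S₁ ⊗[S'] M')
  refine ⟨f, hf0, ?_⟩
  have e : S₁ ⊗[S'] M' ≃ₗ[R] R ⊗[A'] M' := Algebra.IsPushout.cancelBaseChange A' R S' S₁ M'
  exact Module.Free.of_equiv (AlgebraTensorModule.congr (LinearEquiv.refl (Localization.Away f) (Localization.Away f)) e)

attribute [local instance] MvPolynomial.algebraMvPolynomial

/-- A finitely presented module over a finitely presented `A`-algebra comes, as an `A`-module, by base change from
a finite module over a polynomial ring over a ring of finite type over `ℤ`. -/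
theorem exists_model {A B : Type u} [CommRing A] [CommRing B] [Algebra A B] [Algebra.FinitePresentation A B]
    (N : Type u) [AddCommGroup N] [Module B N] [Module A N] [IsScalarTower A B N] [Module.FinitePresentation B N] :
    ∃ (n : ℕ) (A' : Type u) (_ : CommRing A') (_ : Algebra A' A) (M' : Type u) (_ : AddCommGroup M')
      (_ : Module A' M') (_ : Module A' N) (_ : IsScalarTower A' A N) (_ : Module (MvPolynomial (Fin n) A') M')
      (_ : IsScalarTower A' (MvPolynomial (Fin n) A') M') (φ : M' →ₗ[A'] N),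
      Algebra.FiniteType ℤ A' ∧ Module.Finite (MvPolynomial (Fin n) A') M' ∧ IsBaseChange A φ := by
  classical
  obtain ⟨n, π, hπ, hker⟩ := Algebra.FinitePresentation.out (R := A) (A := B)
  algebraize [π.toRingHom]
  let mN : Module (MvPolynomial (Fin n) A) N := Module.compHom N π.toRingHom
  have tBN : IsScalarTower (MvPolynomial (Fin n) A) B N := IsScalarTower.of_algebraMap_smul fun _ _ => rfl
  have tAS : IsScalarTower A (MvPolynomial (Fin n) A) B := IsScalarTower.of_algebraMap_eq fun a => (π.commutes a).symm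
  have tAN : IsScalarTower A (MvPolynomial (Fin n) A) N := IsScalarTower.of_algebraMap_smul fun a x => by
    rw [← algebraMap_smul B (algebraMap A (MvPolynomial (Fin n) A) a) x, ← IsScalarTower.algebraMap_apply,
      algebraMap_smul]
  have fB : Module.FinitePresentation (MvPolynomial (Fin n) A) B :=
    Module.finitePresentation_of_surjective (Algebra.linearMap (MvPolynomial (Fin n) A) B) hπ hker
  have fN : Module.FinitePresentation (MvPolynomial (Fin n) A) N :=
    Module.FinitePresentation.trans (MvPolynomial (Fin n) A) N B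
  obtain ⟨A', hA', M', _, _, hfp, _, _, φ, hφ⟩ := CokerBC.exists_descent_mvPolynomial A n N
  have hft : Algebra.FiniteType ℤ A' := (Subalgebra.fg_iff_finiteType A').mp hA'
  -- structures over `A'`
  have t3 : IsScalarTower A' A N := inferInstance
  have t1 : IsScalarTower A' (MvPolynomial (Fin n) A') N := IsScalarTower.of_algebraMap_smul fun a x => by
    rw [← algebraMap_smul (MvPolynomial (Fin n) A) (algebraMap A' (MvPolynomial (Fin n) A') a) x,
      ← algebraMap_smul A a x, ← algebraMap_smul (MvPolynomial (Fin n) A) (algebraMap A' A a) x]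
    congr 1
    rw [← IsScalarTower.algebraMap_apply, ← IsScalarTower.algebraMap_apply]
  let mA'M' : Module A' M' := Module.compHom M' (algebraMap A' (MvPolynomial (Fin n) A'))
  have t2 : IsScalarTower A' (MvPolynomial (Fin n) A') M' := IsScalarTower.of_algebraMap_smul fun _ _ => rfl
  have hφA : IsBaseChange A (φ.restrictScalars A') :=
    (PushoutBC.isBaseChange_iff (R := A') (S := A) (A := MvPolynomial (Fin n) A') (B := MvPolynomial (Fin n) A) φ).mp hφ
  exact ⟨n, A', inferInstance, inferInstance, M', inferInstance, mA'M', inferInstance, t3, inferInstance, t2,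
    φ.restrictScalars A', hft, inferInstance, hφA⟩

theorem exists_free_quotient {A B : Type u} [CommRing A] [CommRing B] [Algebra A B] [Algebra.FinitePresentation A B]
    (N : Type u) [AddCommGroup N] [Module B N] [Module A N] [IsScalarTower A B N] [Module.FinitePresentation B N]
    (p : Ideal A) [p.IsPrime] :
    ∃ I : Ideal (Localization.AtPrime p), I.FG ∧ I ≤ IsLocalRing.maximalIdeal (Localization.AtPrime p) ∧
      Module.Free (Localization.AtPrime p ⧸ I) ((Localization.AtPrime p ⧸ I) ⊗[A] N) := by
  obtain ⟨n, A', _, _, M', _, _, _, _, _, _, φ, hft, hfin, hφA⟩ := exists_model (A := A) (B := B) N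
  have noeth : IsNoetherianRing A' := Algebra.FiniteType.isNoetherianRing ℤ A'
  -- generic freeness over `A'/p'`
  let p' : Ideal A' := p.comap (algebraMap A' A)
  let R := A' ⧸ p'
  obtain ⟨f, hf0, hfree⟩ := generic_free_baseChange (A' := A') (R := R) (S' := MvPolynomial (Fin n) A')
    (S₁ := MvPolynomial (Fin n) R) M'
  obtain ⟨f', rfl⟩ := Ideal.Quotient.mk_surjective f
  have hf' : algebraMap A' A f' ∉ p := fun h => hf0 (Ideal.Quotient.eq_zero_iff_mem.mpr h)
  let Ap := Localization.AtPrime p
  let I : Ideal Ap := p'.map (algebraMap A' Ap)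
  refine ⟨I, ?_, ?_, ?_⟩
  · exact ((isNoetherianRing_iff_ideal_fg A').mp noeth p').map _
  · rw [Ideal.map_le_iff_le_comap]
    intro a ha
    have : algebraMap A' A a ∈ p := ha
    rw [Ideal.mem_comap, IsScalarTower.algebraMap_apply A' A Ap]
    exact (IsLocalization.AtPrime.to_map_mem_maximal_iff Ap p _).mpr this
  · let D := Ap ⧸ I
    let ρ : R →+* D := Ideal.quotientMap I (algebraMap A' Ap) Ideal.le_comap_map
    have hunit : IsUnit (ρ (Ideal.Quotient.mk p' f')) := by
      have h1 : ρ (Ideal.Quotient.mk p' f') = Ideal.Quotient.mk I (algebraMap A' Ap f') := Ideal.quotientMap_mk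
      rw [h1, IsScalarTower.algebraMap_apply A' A Ap]
      exact (IsLocalization.map_units Ap (⟨algebraMap A' A f', hf'⟩ : p.primeCompl)).map _
    let ρf : Localization.Away (Ideal.Quotient.mk p' f') →+* D := IsLocalization.Away.lift _ hunit
    let a1 : Algebra R D := ρ.toAlgebra
    let a2 : Algebra (Localization.Away (Ideal.Quotient.mk p' f')) D := ρf.toAlgebra
    have s1 : IsScalarTower A' R D := IsScalarTower.of_algebraMap_eq fun a => rfl
    have s2 : IsScalarTower R (Localization.Away (Ideal.Quotient.mk p' f')) D :=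
      IsScalarTower.of_algebraMap_eq fun a => (IsLocalization.Away.lift_eq _ hunit a).symm
    exact free_baseChange hfree (LinearEquiv.refl _ _) φ hφA

end Groth.Agent.Flat2C.FreeQuot
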