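import Groth.Agent.Desc.FPSections
import Mathlib.RingTheory.Localization.Module
import Mathlib.Algebra.Module.LocalizedModule.Basic
import Mathlib.RingTheory.Localization.Away.Basic

/-!
# Algebra for the globalisation of 0811

* `finitePresentation_localized` : if some model of the localization of `N` is finitely presented over the localized
  ring, then so is Mathlib's `LocalizedModule`.
* `free_of_elementwise` : a map from a finite free module which is bijective up to powers of `g` makes the
  localization at `g` finite free.
-/

set_option autoImplicit false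
universe u v w

namespace Groth.Agent.Flat2C.GenFreeAlg

theorem finitePresentation_localized {B : Type u} [CommRing B] {N : Type v} [AddCommGroup N] [Module B N]
    (T : Submonoid B) {C : Type w} [CommRing C] [Algebra B C] [IsLocalization T C] {P : Type*} [AddCommGroup P]
    [Module B P] [Module C P] [IsScalarTower B C P] (φ : N →ₗ[B] P) [IsLocalizedModule T φ]
    [h : Module.FinitePresentation C P] : Module.FinitePresentation (Localization T) (LocalizedModule T N) := by
  let e : Localization T ≃ₐ[B] C := IsLocalization.algEquiv T _ _
  let i1 : Algebra C (Localization T) := (e.symm : C →+* Localization T).toAlgebra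
  let i2 : Module C (LocalizedModule T N) := Module.compHom _ (e.symm : C →+* Localization T)
  have i3 : IsScalarTower C (Localization T) (LocalizedModule T N) :=
    IsScalarTower.of_algebraMap_smul fun _ _ => rfl
  have i4 : Module.Finite C (Localization T) :=
    Module.Finite.of_surjective (Algebra.linearMap C (Localization T)) e.symm.surjective
  have i5 : IsScalarTower B C (LocalizedModule T N) := by
    refine IsScalarTower.of_algebraMap_smul fun r m => ?_
    change (e.symm (algebraMap B C r)) • m = r • m
    rw [e.symm.commutes, algebraMap_smul]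
  let ε : LocalizedModule T N ≃ₗ[B] P := IsLocalizedModule.iso T φ
  let ε' : P ≃ₗ[C] LocalizedModule T N := by
    refine { ε.symm.toAddEquiv with map_smul' := ?_ }
    intro c p
    change ε.symm (c • p) = c • ε.symm p
    obtain ⟨b, t, rfl⟩ := IsLocalization.exists_mk'_eq T c
    have ht : IsUnit (algebraMap B C t) := IsLocalization.map_units C t
    have h1 : algebraMap B C t • ε.symm (IsLocalization.mk' C b t • p) =
        algebraMap B C t • IsLocalization.mk' C b t • ε.symm p := by
      rw [smul_smul, IsLocalization.mk'_spec', algebraMap_smul, algebraMap_smul, ← map_smul, ← map_smul,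
        ← algebraMap_smul C (t : B) (IsLocalization.mk' C b t • p), smul_smul, IsLocalization.mk'_spec',
        algebraMap_smul]
    exact (ht.smul_left_cancel).mp h1
  have h2 : Module.FinitePresentation C (LocalizedModule T N) := Module.FinitePresentation.of_equiv ε'
  exact Groth.Agent.Desc.FPSections.finitePresentation_of_restrictScalars C _ _

/-- A linear map from a finite free module which is bijective up to powers of `g` becomes bijective after inverting
`g`. -/
theorem free_of_elementwise {S : Type u} [CommRing S] {G : Type v} [AddCommGroup G] [Module S G] (g : S) {r : ℕ}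
    (ψ : (Fin r → S) →ₗ[S] G) (h1 : ∀ y : G, ∃ (m : ℕ) (z : Fin r → S), ψ z = g ^ m • y)
    (h2 : ∀ z : Fin r → S, ψ z = 0 → ∃ m : ℕ, g ^ m • z = 0)
    {C : Type w} [CommRing C] [Algebra S C] [IsLocalization.Away g C] {P : Type*} [AddCommGroup P]
    [Module S P] [Module C P] [IsScalarTower S C P] (φ : G →ₗ[S] P) [IsLocalizedModule (Submonoid.powers g) φ] :
    Module.Free C P ∧ Module.Finite C P := by
  have hg : IsUnit (algebraMap S C g) := IsLocalization.Away.algebraMap_isUnit g
  have hgk : ∀ k : ℕ, IsUnit (algebraMap S C (g ^ k)) := fun k => by rw [map_pow]; exact hg.pow k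
  let v : Fin r → P := fun j => φ (ψ (Pi.single j 1))
  have hv : ∀ z : Fin r → S, φ (ψ z) = ∑ j, algebraMap S C (z j) • v j := by
    intro z
    conv_lhs => rw [← Finset.univ_sum_single z, map_sum, map_sum]
    refine Finset.sum_congr rfl fun j _ => ?_
    have : Pi.single (M := fun _ => S) j (z j) = z j • Pi.single j 1 := by
      rw [← Pi.single_smul, smul_eq_mul, mul_one]
    rw [this, map_smul, map_smul, algebraMap_smul]
  let L : (Fin r → C) →ₗ[C] P := Fintype.linearCombination C v
  have hL : ∀ c, L c = ∑ j, c j • v j := fun c => Fintype.linearCombination_apply C v c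
  have hsurj : Function.Surjective L := by
    intro p
    obtain ⟨⟨y, ⟨_, k, rfl⟩⟩, hy⟩ := IsLocalizedModule.surj (Submonoid.powers g) φ p
    obtain ⟨m, z, hz⟩ := h1 y
    have h3 : algebraMap S C (g ^ (m + k)) • p = L (fun j => algebraMap S C (z j)) := by
      rw [hL, ← hv, hz, map_smul, ← hy, algebraMap_smul, pow_add, mul_smul]
      rfl
    obtain ⟨w, hw⟩ := (hgk (m + k)).exists_left_inv
    refine ⟨w • (fun j => algebraMap S C (z j)), ?_⟩
    rw [map_smul, ← h3, smul_smul, hw, one_smul]
  have hinj : Function.Injective L := by
    rw [injective_iff_map_eq_zero]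
    intro c hc
    obtain ⟨⟨_, k, rfl⟩, hk⟩ := IsLocalization.exist_integer_multiples_of_finite (Submonoid.powers g) c
    choose z hz using hk
    have h3 : φ (ψ z) = 0 := by
      rw [hv]
      have : ∑ j, algebraMap S C (z j) • v j = algebraMap S C (g ^ k) • L c := by
        rw [hL, Finset.smul_sum]
        refine Finset.sum_congr rfl fun j _ => ?_
        rw [hz j, smul_smul, Algebra.smul_def]
      rw [this, hc, smul_zero]
    obtain ⟨⟨_, n, rfl⟩, hn⟩ := (IsLocalizedModule.eq_zero_iff (Submonoid.powers g) φ).mp h3
    have h4 : ψ (g ^ n • z) = 0 := by rw [map_smul]; exact hn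
    obtain ⟨m, hm⟩ := h2 _ h4
    funext j
    have h5 : g ^ m * (g ^ n * z j) = 0 := congrFun hm j
    have h6 : algebraMap S C (z j) = 0 := by
      have := congrArg (algebraMap S C) h5
      rw [map_mul, map_mul, map_zero] at this
      have h7 := (hgk m).mul_right_eq_zero.mp this
      exact (hgk n).mul_right_eq_zero.mp h7
    rw [hz j, Algebra.smul_def] at h6
    exact (hgk k).mul_right_eq_zero.mp h6
  let E := LinearEquiv.ofBijective L ⟨hinj, hsurj⟩
  exact ⟨Module.Free.of_equiv E, Module.Finite.equiv E⟩

end Groth.Agent.Flat2C.GenFreeAlg
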