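import Groth.Agent.Flat2C.GenFreeRing
import Groth.Agent.Flat2C.GenFreeAlg
import Groth.Agent.Flat2C.GlobFlat
import Groth.Agent.Flat2C.Admissible
import Groth.Agent.Flat2C.StrictQC
import Groth.Agent.Flat2C.FlatSec
import Groth.Agent.Flat2C.FibreInj
import Groth.Agent.Flat2G.AffPrimes
import Groth.Agent.VarietyB.PullSec
import Groth.Agent.Desc.FinLocFreeSections
import Groth.Agent.CohqB.FiniteType2

/-!
# Globalisation of the ring-level generic freeness theorem (0811)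
-/

set_option autoImplicit false
universe u

open CategoryTheory AlgebraicGeometry Limits TopologicalSpace

namespace Groth.Agent.Flat2C.GenFreeGlob

open Groth.Agent.Flat2C.FlatSec Groth.Agent.Flat2C.Glob Groth.Agent.Divis.IdealComap
  Groth.Agent.Divis.EffCartier

section Alg

open TensorProduct

theorem fp_of_bijective {A B N N' : Type*} [CommRing A] [CommRing B] [Algebra A B]
    (h : Function.Bijective (algebraMap A B)) [AddCommGroup N] [Module A N] [AddCommGroup N'] [Module A N']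
    [Module B N'] [IsScalarTower A B N'] (φ : N →ₗ[A] N') (hφ : IsBaseChange B φ) :
    Module.FinitePresentation A N ↔ Module.FinitePresentation B N' := by
  have : Module.FaithfullyFlat A B :=
    Module.FaithfullyFlat.of_linearEquiv _ _ (LinearEquiv.ofBijective (Algebra.linearMap A B) h).symm
  constructor
  · intro h1
    exact Module.FinitePresentation.of_equiv hφ.equiv
  · intro h1
    have : Module.FinitePresentation B (B ⊗[A] N) := Module.FinitePresentation.of_equiv hφ.equiv.symm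
    exact Groth.Agent.Desc.FinLocFreeSections.finitePresentation_of_tensorProduct A B N

theorem flat_of_isBaseChange {A B N N' : Type*} [CommRing A] [CommRing B] [Algebra A B]
    [AddCommGroup N] [Module A N] [AddCommGroup N'] [Module A N']
    [Module B N'] [IsScalarTower A B N'] (φ : N →ₗ[A] N') (hφ : IsBaseChange B φ) [Module.Flat A N] :
    Module.Flat B N' :=
  Module.Flat.of_linearEquiv hφ.equiv.symm

end Alg

section Charts

variable {X S : Scheme.{u}} (f : X ⟶ S)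

/-- Charts of a geometrically integral morphism. -/
theorem geomIntegralFibres [GeometricallyIntegral f] {W : S.Opens} (hW : IsAffineOpen W) {V : X.Opens}
    (hV : IsAffineOpen V) (e : V ≤ f ⁻¹ᵁ W) (hVW : f ⁻¹ᵁ W = V) :
    letI := algebraOver f e
    FlatCA.GeomIntegralFibres Γ(S, W) Γ(X, V) := by
  have h1 : IsPullback (Spec.map (f.appLE W V e)) hV.fromSpec hW.fromSpec f := by
    apply IsOpenImmersion.isPullback
    · rw [IsAffineOpen.SpecMap_appLE_fromSpec]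
    · rw [hV.opensRange_fromSpec, hW.opensRange_fromSpec, hVW]
  exact MorphismProperty.of_isPullback (P := @GeometricallyIntegral) h1.flip ‹_›

theorem algebra_hyps [LocallyOfFinitePresentation f] [Flat f] {W : S.Opens} (hW : IsAffineOpen W) {V : X.Opens}
    (hV : IsAffineOpen V) (e : V ≤ f ⁻¹ᵁ W) :
    letI := algebraOver f e
    Algebra.FinitePresentation Γ(S, W) Γ(X, V) ∧ Module.Flat Γ(S, W) Γ(X, V) :=
  ⟨HasRingHomProperty.appLE @LocallyOfFinitePresentation f ‹_› ⟨W, hW⟩ ⟨V, hV⟩ e,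
    HasRingHomProperty.appLE @Flat f ‹_› ⟨W, hW⟩ ⟨V, hV⟩ e⟩

/-- The extension of a prime of the base to a flat geometrically integral chart is the generic point of the fibre. -/
theorem generic_point [Flat f] [GeometricallyIntegral f] {W : S.Opens} (hW : IsAffineOpen W) {V : X.Opens}
    (hV : IsAffineOpen V) (e : V ≤ f ⁻¹ᵁ W) (hVW : f ⁻¹ᵁ W = V) (s : S) (hs : s ∈ W) :
    ∃ (x : X) (hx : x ∈ V), f x = s ∧
      (hV.primeIdealOf ⟨x, hx⟩).asIdeal = (hW.primeIdealOf ⟨s, hs⟩).asIdeal.map (f.appLE W V e).hom ∧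
      closure ({f.asFiber x} : Set (f.fiber (f x))) = Set.univ := by
  let i1 : Algebra Γ(S, W) Γ(X, V) := algebraOver f e
  have hflat : Module.Flat Γ(S, W) Γ(X, V) := HasRingHomProperty.appLE @Flat f ‹_› ⟨W, hW⟩ ⟨V, hV⟩ e
  have hgi := geomIntegralFibres f hW hV e hVW
  let p := hW.primeIdealOf ⟨s, hs⟩
  have hprime := FibreInj.isPrime_map hgi p.asIdeal
  let q : PrimeSpectrum Γ(X, V) := ⟨p.asIdeal.map (f.appLE W V e).hom, hprime⟩
  have hq : PrimeSpectrum.comap (f.appLE W V e).hom q = p := by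
    ext r
    exact FibreInj.algebraMap_mem_map_iff hgi p.asIdeal r
  obtain ⟨x, hx, hxq⟩ := exists_primeIdealOf hV q
  have hfx : f x = s := by
    have h1 := IsAffineOpen.comap_primeIdealOf_appLE W hW V hV e hx
    rw [hxq, hq] at h1
    exact (Flat2G.AffPrimes.primeIdealOf_injective hW s (f x) hs (e hx) (congrArg PrimeSpectrum.asIdeal h1)).symm
  refine ⟨x, hx, hfx, congrArg PrimeSpectrum.asIdeal hxq, ?_⟩
  rw [Set.eq_univ_iff_forall]
  intro y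
  rw [← specializes_iff_mem_closure, ← (f.fiberι _).isEmbedding.isInducing.specializes_iff, f.fiberι_asFiber]
  have hy : f (f.fiberι _ y) = f x := by
    have : f.fiberι _ y ∈ Set.range (f.fiberι (f x)) := ⟨y, rfl⟩
    rw [f.range_fiberι] at this
    exact this
  have hyV : f.fiberι _ y ∈ V := by
    rw [← hVW]
    change f (f.fiberι _ y) ∈ W
    rw [hy, hfx]
    exact hs
  rw [← Flat2G.AffPrimes.primeIdealOf_le_iff hV x _ hx hyV, hxq]
  change p.asIdeal.map (f.appLE W V e).hom ≤ _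
  rw [Ideal.map_le_iff_le_comap]
  have h1 := IsAffineOpen.comap_primeIdealOf_appLE W hW V hV e hyV
  have h2 : (hV.primeIdealOf ⟨f.fiberι _ y, hyV⟩).asIdeal.comap (f.appLE W V e).hom =
      (hW.primeIdealOf ⟨f (f.fiberι _ y), e hyV⟩).asIdeal := congrArg PrimeSpectrum.asIdeal h1
  rw [h2]
  have h3 : ∀ s' (hs' : s' ∈ W), s' = s → p.asIdeal ≤ (hW.primeIdealOf ⟨s', hs'⟩).asIdeal := by
    rintro s' hs' rfl
    exact le_rfl
  exact h3 _ _ (hy.trans hfx)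

/-- Sections of the restriction of a quasi-coherent module to an open `O`, over affine opens inside `O`. -/
theorem restrict_sections {F : X.Modules} (hqc : Coh.IsQCoh F) (O : X.Opens) {D : X.Opens} (hD : IsAffineOpen D)
    (hDO : D ≤ O) :
    (Module.FinitePresentation Γ(X, D) Γ(F, D) ↔
      Module.FinitePresentation Γ(O, O.ι ⁻¹ᵁ D) Γ((Scheme.Modules.pullback O.ι).obj F, O.ι ⁻¹ᵁ D)) ∧
    (Module.Flat Γ(X, D) Γ(F, D) → Module.Flat Γ(O, O.ι ⁻¹ᵁ D) Γ((Scheme.Modules.pullback O.ι).obj F, O.ι ⁻¹ᵁ D)) := by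
  have hDO' : D ≤ O.ι.opensRange := by simpa using hDO
  have hD' : IsAffineOpen (O.ι ⁻¹ᵁ D) := hD.preimage_of_isOpenImmersion O.ι hDO'
  let i1 : Algebra Γ(X, D) Γ(O, O.ι ⁻¹ᵁ D) := (O.ι.appLE D (O.ι ⁻¹ᵁ D) le_rfl).hom.toAlgebra
  let i2 : Module Γ(X, D) Γ((Scheme.Modules.pullback O.ι).obj F, O.ι ⁻¹ᵁ D) :=
    VarietyB.PullSec.secModule O.ι F (U := D) (V := O.ι ⁻¹ᵁ D) le_rfl
  have i3 : IsScalarTower Γ(X, D) Γ(O, O.ι ⁻¹ᵁ D) Γ((Scheme.Modules.pullback O.ι).obj F, O.ι ⁻¹ᵁ D) :=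
    IsScalarTower.of_algebraMap_smul fun _ _ => rfl
  have h1 := VarietyB.PullSec.isBaseChange_secₗ O.ι F (U := D) (V := O.ι ⁻¹ᵁ D) le_rfl hqc hD hD'
  have h2 : Function.Bijective (algebraMap Γ(X, D) Γ(O, O.ι ⁻¹ᵁ D)) := by
    have := Scheme.Hom.isIso_app O.ι D hDO'
    have h3 : O.ι.appLE D (O.ι ⁻¹ᵁ D) le_rfl = O.ι.app D := Scheme.Hom.app_eq_appLE _ |>.symm
    change Function.Bijective (O.ι.appLE D (O.ι ⁻¹ᵁ D) le_rfl).hom
    rw [h3]
    exact ConcreteCategory.bijective_of_isIso (O.ι.app D)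
  exact ⟨fp_of_bijective h2 _ h1, fun _ => flat_of_isBaseChange _ h1⟩

/-- Finite presentation over an open, on localizations of sections. -/
theorem fp_localized {F : X.Modules} (hqc : Coh.IsQCoh F) (O : X.Opens)
    (hfp : CohB1.IsFP ((Scheme.Modules.pullback O.ι).obj F)) {V : X.Opens} (hV : IsAffineOpen V) (h : Γ(X, V))
    (hO : X.basicOpen h ≤ O) :
    Module.FinitePresentation (Localization.Away h) (LocalizedModule (Submonoid.powers h) Γ(F, V)) := by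
  have hD : IsAffineOpen (X.basicOpen h) := hV.basicOpen h
  have hD' : IsAffineOpen (O.ι ⁻¹ᵁ X.basicOpen h) := hD.preimage_of_isOpenImmersion O.ι (by simpa using hO)
  have h1 := Desc.FPSections.finitePresentation_sections hD' (VarietyB.PullSec.isQCoh_pullback O.ι F hqc) hfp
  have h2 := (restrict_sections hqc O hD hO).1.mpr h1
  let i2 : Module Γ(X, V) Γ(F, X.basicOpen h) := Fdesc.QCohStalk.resModule F (X.basicOpen_le h)
  have h3 := Fdesc.QCohStalk.isLocalizedModule_res F hV hqc h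
  have h4 : IsLocalization.Away h Γ(X, X.basicOpen h) := hV.isLocalization_basicOpen h
  have i3 : IsScalarTower Γ(X, V) Γ(X, X.basicOpen h) Γ(F, X.basicOpen h) :=
    IsScalarTower.of_algebraMap_smul fun _ _ => rfl
  exact GenFreeAlg.finitePresentation_localized (Submonoid.powers h) (C := Γ(X, X.basicOpen h))
    (Fdesc.QCohStalk.resₗ F (X.basicOpen_le h))

end Charts

section Center

/-- The conclusion of the ring-level theorem, for a centre `J`. -/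
def IsCenter {A B : Type u} [CommRing A] [CommRing B] [Algebra A B] (N : Type u) [AddCommGroup N] [Module B N]
    (J : Ideal A) : Prop :=
  ∀ (R S' N' G : Type u) [CommRing R] [CommRing S'] [Algebra A R] [Algebra R S']
        [Algebra B S'] [Algebra A S'] [IsScalarTower A R S'] [IsScalarTower A B S']
        [Algebra.IsPushout A B R S']
        [AddCommGroup N'] [Module S' N'] [Module B N'] [Module R N'] [IsScalarTower B S' N']
        [IsScalarTower R S' N'] (φ : N →ₗ[B] N'), IsBaseChange S' φ →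
        ∀ [AddCommGroup G] [Module S' G] (π : N' →ₗ[S'] G) (d : R), d ∈ nonZeroDivisors R →
          J.map (algebraMap A R) = Ideal.span {d} → Function.Surjective π →
          (∀ m : N', π m = 0 ↔ ∃ n : ℕ, d ^ n • m = 0) →
          ∀ (p : Ideal R) [p.IsPrime], ∃ g : S', g ∉ p.map (algebraMap R S') ∧
            ∃ (r : ℕ) (ψ : (Fin r → S') →ₗ[S'] G),
              (∀ y : G, ∃ (m : ℕ) (z : Fin r → S'), ψ z = g ^ m • y) ∧
              (∀ z : Fin r → S', ψ z = 0 → ∃ m : ℕ, g ^ m • z = 0)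

variable {X S : Scheme.{u}} (f : X ⟶ S)

/-- Centres on charts. -/
theorem exists_center [IsAffineHom f] [LocallyOfFinitePresentation f] [Flat f] [GeometricallyIntegral f]
    (U : S.Opens) {F : X.Modules} (hqc : Coh.IsQCoh F) (hft : CohB1.IsFT F)
    (hfpU : CohB1.IsFP ((Scheme.Modules.pullback (f ⁻¹ᵁ U).ι).obj F))
    (hflU : ∀ x : X, f.base x ∈ U → closure ({f.asFiber x} : Set (f.fiber (f.base x))) = Set.univ →
      FlatMod.IsFlatOverAt f F x)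
    (I₀ : S.IdealSheafData) (hI₀ft : BlowUp.IsFiniteTypeIdeal I₀) (hI₀ : (I₀.support : Set S) = (U : Set S)ᶜ)
    (W : S.affineOpens) :
    letI := algebraOver f (U := f ⁻¹ᵁ W.1) (V := W.1) le_rfl
    ∃ J : Ideal Γ(S, W.1), J.FG ∧ J.radical = (I₀.ideal W).radical ∧ IsCenter (B := Γ(X, f ⁻¹ᵁ W.1)) Γ(F, f ⁻¹ᵁ W.1) J := by
  let i1 : Algebra Γ(S, W.1) Γ(X, f ⁻¹ᵁ W.1) := algebraOver f (U := f ⁻¹ᵁ W.1) (V := W.1) le_rfl
  let i2 : Module Γ(S, W.1) Γ(F, f ⁻¹ᵁ W.1) := moduleOver f F (U := f ⁻¹ᵁ W.1) (V := W.1) le_rfl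
  have i3 : IsScalarTower Γ(S, W.1) Γ(X, f ⁻¹ᵁ W.1) Γ(F, f ⁻¹ᵁ W.1) := isScalarTower_over f F le_rfl
  have hV : IsAffineOpen (f ⁻¹ᵁ W.1) := W.2.preimage f
  obtain ⟨h1, h2⟩ := algebra_hyps f W.2 hV le_rfl
  have h3 := geomIntegralFibres f W.2 hV le_rfl rfl
  have h4 : Module.Finite Γ(X, f ⁻¹ᵁ W.1) Γ(F, f ⁻¹ᵁ W.1) :=
    @CohqB.FiniteType2.finite_sections_of_isFT _ F hqc hft _ hV
  refine GenFreeRing.genFree_ring h3 Γ(F, f ⁻¹ᵁ W.1) (I₀.ideal W) (hI₀ft W) ?_ ?_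
  · intro a ha
    refine fp_localized hqc (f ⁻¹ᵁ U) hfpU hV _ ?_
    intro x hx
    change f x ∈ U
    have hx' : f x ∈ S.basicOpen a := by
      have h5 : x ∈ X.basicOpen (f.appLE W.1 (f ⁻¹ᵁ W.1) le_rfl a) := hx
      rw [Scheme.basicOpen_appLE] at h5
      exact h5.2
    by_contra hU
    have h6 : f x ∈ I₀.support := by
      have : f x ∈ (I₀.support : Set S) := by rw [hI₀]; exact hU
      exact this
    rw [Scheme.IdealSheafData.mem_support_iff_of_mem (U := W) (S.basicOpen_le a hx'), Scheme.mem_zeroLocus_iff] at h6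
    exact h6 a ha hx'
  · intro p hp hp' hI
    obtain ⟨s, hs, hsp⟩ := exists_primeIdealOf W.2 ⟨p, hp⟩
    obtain ⟨x, hx, hfx, hxq, hcl⟩ := generic_point f W.2 hV le_rfl rfl s hs
    have hsU : s ∈ U := by
      by_contra hsU
      apply hI
      have h7 := fromSpec_mem_support_iff I₀ W ⟨p, hp⟩
      rw [← hsp, W.2.fromSpec_primeIdealOf ⟨s, hs⟩] at h7
      have h8 : s ∈ I₀.support := by
        have : s ∈ (I₀.support : Set S) := by rw [hI₀]; exact hsU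
        exact this
      have h9 := h7.mp h8
      rw [hsp] at h9
      exact h9
    have hfl := hflU x (by rw [show f.base x = s from hfx]; exact hsU) hcl
    have h10 := (isFlatOverAt_iff_flatAt f F hV W.2 le_rfl hqc x hx).mp hfl
    have h11 : (hV.primeIdealOf ⟨x, hx⟩).asIdeal = p.map (algebraMap Γ(S, W.1) Γ(X, f ⁻¹ᵁ W.1)) := by
      rw [hxq, hsp]
      rfl
    have h12 : ∀ (q : Ideal Γ(X, f ⁻¹ᵁ W.1)) (_ : q.IsPrime), (hV.primeIdealOf ⟨x, hx⟩).asIdeal = q →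
        FlatCA.FlatAt Γ(S, W.1) q Γ(F, f ⁻¹ᵁ W.1) := by
      rintro q hq rfl
      exact h10
    exact h12 _ hp' h11

theorem killed_iff {Y : Scheme.{u}} {E : Y.IdealSheafData} (H : Y.Modules) (V : Y.affineOpens) {e d : Γ(Y, V.1)}
    {N : ℕ} (hE : E.ideal V = Ideal.span {e}) (hde : d ∣ e) (hed : e ∣ d ^ N) (m : Γ(H, V.1)) :
    BlowUp.KilledByPowerNear E H V m ↔ ∃ n : ℕ, d ^ n • m = 0 := by
  have h1 : ∀ n : ℕ, (E ^ n).ideal V = Ideal.span {e ^ n} := by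
    intro n
    rw [Scheme.IdealSheafData.ideal_pow, Pi.pow_apply, hE, Ideal.span_singleton_pow]
  constructor
  · rintro ⟨n, hn⟩
    have h2 : e ^ n • m = 0 := hn _ (by rw [h1]; exact Ideal.mem_span_singleton_self _)
    obtain ⟨c, hc⟩ := hed
    refine ⟨N * n, ?_⟩
    rw [pow_mul, hc, mul_pow, mul_comm, mul_smul, h2, smul_zero]
  · rintro ⟨n, hn⟩
    refine ⟨n, fun a ha => ?_⟩
    rw [h1, Ideal.mem_span_singleton] at ha
    obtain ⟨c, hc⟩ := hde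
    obtain ⟨c', rfl⟩ := ha
    rw [hc, mul_pow, mul_assoc, mul_comm, mul_smul, hn, smul_zero]

/-- Local statement: the strict transform is free near a point of each fibre. -/
theorem exists_free_nhd [IsAffineHom f] [Flat f] [GeometricallyIntegral f]
    {F : X.Modules} (hqc : Coh.IsQCoh F) {W : S.affineOpens} {J : Ideal Γ(S, W.1)}
    (hJ : letI := algebraOver f (U := f ⁻¹ᵁ W.1) (V := W.1) le_rfl
      IsCenter (B := Γ(X, f ⁻¹ᵁ W.1)) Γ(F, f ⁻¹ᵁ W.1) J)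
    {T X' : Scheme.{u}} {b : T ⟶ S} {p₁ : X' ⟶ X} {p₂ : X' ⟶ T} (hpb : IsPullback p₁ p₂ f b)
    {𝓘 : S.IdealSheafData} (h𝓘 : BlowUp.IsFiniteTypeIdeal 𝓘)
    {G : X'.Modules} {π : (Scheme.Modules.pullback p₁).obj F ⟶ G}
    (hst : BlowUp.IsStrictTransform p₁ (𝓘.comap f) F G π)
    (W' : T.affineOpens) (hle : W'.1 ≤ b ⁻¹ᵁ W.1) {d e : Γ(T, W'.1)} {N : ℕ} (hd : d ∈ nonZeroDivisors _)
    (hJd : J.map (b.appLE W.1 W'.1 hle).hom = Ideal.span {d}) (he : (𝓘.comap b).ideal W' = Ideal.span {e})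
    (hde : d ∣ e) (hed : e ∣ d ^ N) (t : T) (ht : t ∈ W'.1) :
    ∃ D : X'.Opens, IsAffineOpen D ∧ Module.FinitePresentation Γ(X', D) Γ(G, D) ∧ Module.Flat Γ(X', D) Γ(G, D) ∧
      ∃ x' ∈ D, p₂ x' = t := by
  have ha₂ : IsAffineHom p₂ := MorphismProperty.of_isPullback hpb ‹_›
  have hf₂ : Flat p₂ := MorphismProperty.of_isPullback hpb ‹_›
  have hg₂ : GeometricallyIntegral p₂ := MorphismProperty.of_isPullback hpb ‹_›
  have hV : IsAffineOpen (f ⁻¹ᵁ W.1) := W.2.preimage f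
  have hV' : IsAffineOpen (p₂ ⁻¹ᵁ W'.1) := W'.2.preimage p₂
  have e₁ : p₂ ⁻¹ᵁ W'.1 ≤ p₁ ⁻¹ᵁ (f ⁻¹ᵁ W.1) := by
    intro x hx
    have h1 : b (p₂ x) ∈ W.1 := hle hx
    rw [← Scheme.Hom.comp_apply, ← hpb.w, Scheme.Hom.comp_apply] at h1
    exact h1
  have heq : p₂ ⁻¹ᵁ W'.1 = p₁ ⁻¹ᵁ (f ⁻¹ᵁ W.1) ⊓ p₂ ⁻¹ᵁ W'.1 := (inf_eq_right.mpr e₁).symm
  have hpush : IsPushout (f.appLE W.1 (f ⁻¹ᵁ W.1) le_rfl) (b.appLE W.1 W'.1 hle)
      (p₁.appLE (f ⁻¹ᵁ W.1) (p₂ ⁻¹ᵁ W'.1) e₁) (p₂.appLE W'.1 (p₂ ⁻¹ᵁ W'.1) le_rfl) :=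
    (isIso_pushoutSection_iff hpb hle le_rfl heq).mp
      (isIso_pushoutSection_of_isAffineOpen hpb hle le_rfl heq W.2 W'.2 hV)
  -- algebra structures
  let i1 : Algebra Γ(S, W.1) Γ(X, f ⁻¹ᵁ W.1) := algebraOver f (U := f ⁻¹ᵁ W.1) (V := W.1) le_rfl
  let i2 : Algebra Γ(S, W.1) Γ(T, W'.1) := (b.appLE W.1 W'.1 hle).hom.toAlgebra
  let i3 : Algebra Γ(T, W'.1) Γ(X', p₂ ⁻¹ᵁ W'.1) := (p₂.appLE W'.1 (p₂ ⁻¹ᵁ W'.1) le_rfl).hom.toAlgebra
  let i4 : Algebra Γ(X, f ⁻¹ᵁ W.1) Γ(X', p₂ ⁻¹ᵁ W'.1) := (p₁.appLE (f ⁻¹ᵁ W.1) (p₂ ⁻¹ᵁ W'.1) e₁).hom.toAlgebra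
  let i5 : Algebra Γ(S, W.1) Γ(X', p₂ ⁻¹ᵁ W'.1) :=
    ((b.appLE W.1 W'.1 hle) ≫ (p₂.appLE W'.1 (p₂ ⁻¹ᵁ W'.1) le_rfl)).hom.toAlgebra
  have t1 : IsScalarTower Γ(S, W.1) Γ(T, W'.1) Γ(X', p₂ ⁻¹ᵁ W'.1) := IsScalarTower.of_algebraMap_eq' rfl
  have t2 : IsScalarTower Γ(S, W.1) Γ(X, f ⁻¹ᵁ W.1) Γ(X', p₂ ⁻¹ᵁ W'.1) :=
    IsScalarTower.of_algebraMap_eq' (congrArg CommRingCat.Hom.hom hpush.w.symm)
  have t3 : Algebra.IsPushout Γ(S, W.1) Γ(X, f ⁻¹ᵁ W.1) Γ(T, W'.1) Γ(X', p₂ ⁻¹ᵁ W'.1) :=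
    CommRingCat.isPushout_iff_isPushout.mp hpush
  -- modules
  let H : X'.Modules := (Scheme.Modules.pullback p₁).obj F
  have hH : Coh.IsQCoh H := VarietyB.PullSec.isQCoh_pullback p₁ F hqc
  let i6 : Module Γ(X, f ⁻¹ᵁ W.1) Γ(H, p₂ ⁻¹ᵁ W'.1) := VarietyB.PullSec.secModule p₁ F e₁
  let i7 : Module Γ(T, W'.1) Γ(H, p₂ ⁻¹ᵁ W'.1) := Module.compHom _ (p₂.appLE W'.1 (p₂ ⁻¹ᵁ W'.1) le_rfl).hom
  have t4 : IsScalarTower Γ(X, f ⁻¹ᵁ W.1) Γ(X', p₂ ⁻¹ᵁ W'.1) Γ(H, p₂ ⁻¹ᵁ W'.1) :=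
    IsScalarTower.of_algebraMap_smul fun _ _ => rfl
  have t5 : IsScalarTower Γ(T, W'.1) Γ(X', p₂ ⁻¹ᵁ W'.1) Γ(H, p₂ ⁻¹ᵁ W'.1) :=
    IsScalarTower.of_algebraMap_smul fun _ _ => rfl
  have hbc : IsBaseChange Γ(X', p₂ ⁻¹ᵁ W'.1) (VarietyB.PullSec.secₗ p₁ F e₁) :=
    VarietyB.PullSec.isBaseChange_secₗ p₁ F e₁ hqc hV hV'
  let ϖ : Γ(H, p₂ ⁻¹ᵁ W'.1) →ₗ[Γ(X', p₂ ⁻¹ᵁ W'.1)] Γ(G, p₂ ⁻¹ᵁ W'.1) :=
    { toFun := π.app (p₂ ⁻¹ᵁ W'.1)
      map_add' := map_add _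
      map_smul' := fun r m => Scheme.Modules.Hom.app_smul _ _ _ }
  -- the exceptional ideal
  let E := BlowUp.exceptional p₁ (𝓘.comap f)
  have hE : BlowUp.IsFiniteTypeIdeal E := Admissible.isFT_comap (Admissible.isFT_comap h𝓘 f) p₁
  have hEeq : E = (𝓘.comap b).comap p₂ := by
    change (𝓘.comap f).comap p₁ = _
    rw [← Scheme.IdealSheafData.comap_comp, ← Scheme.IdealSheafData.comap_comp, hpb.w]
  have hEV : E.ideal ⟨p₂ ⁻¹ᵁ W'.1, hV'⟩ = Ideal.span {(p₂.appLE W'.1 (p₂ ⁻¹ᵁ W'.1) le_rfl).hom e} := by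
    rw [hEeq, ideal_comap _ _ W' ⟨p₂ ⁻¹ᵁ W'.1, hV'⟩ le_rfl, he, Ideal.map_span, Set.image_singleton]
  have hepi : Epi π := hst.1
  have hGqc : Coh.IsQCoh G := StrictQC.isQCoh hE hH π hst.2
  have hsurj : Function.Surjective ϖ := StrictQC.app_surjective hE hH π hst.2 hV'
  have hker : ∀ m : Γ(H, p₂ ⁻¹ᵁ W'.1), ϖ m = 0 ↔ ∃ n : ℕ, d ^ n • m = 0 := by
    intro m
    have h1 := hst.2 ⟨p₂ ⁻¹ᵁ W'.1, hV'⟩ m
    refine h1.trans ?_
    rw [show BlowUp.exceptional p₁ (𝓘.comap f) = E from rfl,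
      killed_iff H ⟨p₂ ⁻¹ᵁ W'.1, hV'⟩ hEV (d := (p₂.appLE W'.1 (p₂ ⁻¹ᵁ W'.1) le_rfl).hom d) (N := N)
        (map_dvd _ hde) (by rw [← map_pow]; exact map_dvd _ hed)]
    refine exists_congr fun n => ?_
    rw [← map_pow]
    rfl
  obtain ⟨g, hg, r, ψ, h1, h2⟩ := hJ Γ(T, W'.1) Γ(X', p₂ ⁻¹ᵁ W'.1) Γ(H, p₂ ⁻¹ᵁ W'.1) Γ(G, p₂ ⁻¹ᵁ W'.1)
    (VarietyB.PullSec.secₗ p₁ F e₁) hbc ϖ d hd hJd hsurj hker (W'.2.primeIdealOf ⟨t, ht⟩).asIdeal
  obtain ⟨x', hx', hx't, hxq, -⟩ := generic_point p₂ W'.2 hV' le_rfl rfl t ht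
  have hx'g : x' ∈ X'.basicOpen g := by
    rw [Fdesc.QCohStalk.mem_basicOpen_iff hV' x' hx', hxq]
    exact hg
  let i8 : Module Γ(X', p₂ ⁻¹ᵁ W'.1) Γ(G, X'.basicOpen g) := Fdesc.QCohStalk.resModule G (X'.basicOpen_le g)
  have h3 := Fdesc.QCohStalk.isLocalizedModule_res G hV' hGqc g
  have h4 : IsLocalization.Away g Γ(X', X'.basicOpen g) := hV'.isLocalization_basicOpen g
  have t6 : IsScalarTower Γ(X', p₂ ⁻¹ᵁ W'.1) Γ(X', X'.basicOpen g) Γ(G, X'.basicOpen g) :=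
    IsScalarTower.of_algebraMap_smul fun _ _ => rfl
  obtain ⟨h5, h6⟩ := GenFreeAlg.free_of_elementwise g ψ h1 h2 (C := Γ(X', X'.basicOpen g))
    (Fdesc.QCohStalk.resₗ G (X'.basicOpen_le g))
  exact ⟨X'.basicOpen g, hV'.basicOpen g, Module.finitePresentation_of_projective _ _, inferInstance, x', hx'g, hx't⟩

/-- **0811** from the ring-level theorem. -/
theorem main [CompactSpace S] [QuasiSeparatedSpace S]
    [IsAffineHom f] [LocallyOfFinitePresentation f] [Flat f] [GeometricallyIntegral f]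
    (U : S.Opens) (hU : IsCompact (U : Set S))
    (F : X.Modules) (hqc : Coh.IsQCoh F) (hft : CohB1.IsFT F)
    (hfpU : CohB1.IsFP ((Scheme.Modules.pullback (f ⁻¹ᵁ U).ι).obj F))
    (hflU : ∀ x : X, f.base x ∈ U → closure ({f.asFiber x} : Set (f.fiber (f.base x))) = Set.univ →
      FlatMod.IsFlatOverAt f F x) :
    ∃ 𝓘 : S.IdealSheafData, BlowUp.IsAdmissibleFor U 𝓘 ∧ ∀ (T : Scheme.{u}) (b : T ⟶ S),
      BlowUp.IsEffCartierIdeal (𝓘.comap b) →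
      ∀ (X' : Scheme.{u}) (p₁ : X' ⟶ X) (p₂ : X' ⟶ T), IsPullback p₁ p₂ f b →
      ∀ (G : X'.Modules) (π : (Scheme.Modules.pullback p₁).obj F ⟶ G), BlowUp.IsStrictTransform p₁ (𝓘.comap f) F G π →
        ∃ V : X'.Opens, FlatMod.IsFinLocFree ((Scheme.Modules.pullback V.ι).obj G) ∧
          Function.Surjective (V.ι ≫ p₂).base := by
  obtain ⟨I₀, hI₀ft, hI₀⟩ := exists_ft_support_eq_compl U hU
  have hcov : ∀ s : S, ∃ W : S.affineOpens, s ∈ W.1 := fun s => by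
    obtain ⟨W, hW, hs, -⟩ := exists_isAffineOpen_mem_and_subset (x := s) (U := ⊤) trivial
    exact ⟨⟨W, hW⟩, hs⟩
  choose W hW using hcov
  obtain ⟨c, hc⟩ := isCompact_univ.elim_finite_subcover (fun s ↦ ((W s).1 : Set S))
    (fun s ↦ (W s).1.2) (fun s _ ↦ Set.mem_iUnion.mpr ⟨s, hW s⟩)
  choose J hJ hJr hJF using fun i : c => exists_center f U hqc hft hfpU hflU I₀ hI₀ft hI₀ (W i)
  obtain ⟨𝓘, h𝓘, h𝓘s, H⟩ := exists_glob U hU I₀ hI₀ft hI₀ (fun i : c ↦ W i) J hJ hJr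
  refine ⟨𝓘, ⟨h𝓘, by rw [h𝓘s]; exact disjoint_compl_left⟩, ?_⟩
  intro T b hb X' p₁ p₂ hpb G π hst
  have hE : BlowUp.IsFiniteTypeIdeal (BlowUp.exceptional p₁ (𝓘.comap f)) :=
    Admissible.isFT_comap (Admissible.isFT_comap h𝓘 f) p₁
  have hepi : Epi π := hst.1
  have hGqc : Coh.IsQCoh G := StrictQC.isQCoh hE (VarietyB.PullSec.isQCoh_pullback p₁ F hqc) π hst.2
  have key : ∀ t : T, ∃ D : X'.Opens, IsAffineOpen D ∧ Module.FinitePresentation Γ(X', D) Γ(G, D) ∧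
      Module.Flat Γ(X', D) Γ(G, D) ∧ ∃ x' ∈ D, p₂ x' = t := by
    intro t
    obtain ⟨i, hi, hti⟩ := Set.mem_iUnion₂.mp (hc (Set.mem_univ (b t)))
    obtain ⟨W', hle, ht, -, d, e, N, hd, -, hJd, he, hde, hed⟩ := H b hb ⟨i, hi⟩ t ⊤ trivial hti
    exact exists_free_nhd f hqc (hJF ⟨i, hi⟩) hpb h𝓘 hst W' hle hd hJd he hde hed t ht
  choose D hD hD1 hD2 x' hx' hxt using key
  let V : X'.Opens := ⨆ t, D t
  refine ⟨V, ?_, fun t => ⟨⟨x' t, ?_⟩, ?_⟩⟩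
  · rw [Desc.FinLocFreeSections.isFinLocFree_iff_of_cover (VarietyB.PullSec.isQCoh_pullback V.ι G hGqc)
      (fun O => ∃ t, O = V.ι ⁻¹ᵁ D t)]
    · rintro _ ⟨t, rfl⟩ -
      have hDV : D t ≤ V := le_iSup D t
      have h := restrict_sections hGqc V (hD t) hDV
      exact ⟨h.1.mp (hD1 t), h.2 (hD2 t)⟩
    · rintro ⟨y, hy⟩
      obtain ⟨t, ht⟩ := Opens.mem_iSup.mp hy
      exact ⟨V.ι ⁻¹ᵁ D t, ⟨t, rfl⟩, (hD t).preimage_of_isOpenImmersion V.ι (by simpa using le_iSup D t), ht⟩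
  · exact Opens.mem_iSup.mpr ⟨t, hx' t⟩
  · exact hxt t

end Center

end Groth.Agent.Flat2C.GenFreeGlob
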