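import Groth.Agent.Flat2C.MinorGeneric
import Groth.Agent.Flat2C.Content

/-!
# The content ideals of the minors are locally trivial off the centre
-/

set_option autoImplicit false
universe u

namespace Groth.Agent.Flat2C.GenFreeIdem

open Groth.Agent.Flat2C.Minors Groth.Agent.Flat2C.Content Groth.Agent.Flat2C.GenericPoint
  Groth.Agent.Flat2C.MinorGeneric

variable {A B : Type u} [CommRing A] [CommRing B] [Algebra A B] [Module.Flat A B]
  [Module.Projective A B]

/-- At a prime `p` where `N` is flat at the generic point of the fibre, the content ideals of minors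
are `0` or everything; in particular idempotent. -/
theorem exists_mul_mem (hgi : FlatCA.GeomIntegralFibres A B) {n : ℕ}
    (N : Type u) [AddCommGroup N] [Module A N] [Module B N] [IsScalarTower A B N]
    (f : (Fin n → B) →ₗ[B] N) (hf : Function.Surjective f) (W : Set (Fin n → B)) (hWfin : W.Finite)
    (hW : ∀ w ∈ W, f w = 0) (p : Ideal A) [p.IsPrime]
    (hW' : ∀ k, f k = 0 → ∃ a ∉ p, algebraMap A B a • k ∈ Submodule.span B W)
    [(p.map (algebraMap A B)).IsPrime]
    (hflat : FlatCA.FlatAt A (p.map (algebraMap A B)) N) (s : ℕ) :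
    ∃ a ∉ p, ∀ y ∈ content A (minors s W), a * y ∈ content A (minors s W) * content A (minors s W) := by
  classical
  have hcomap : ∀ a : A, a ∉ p → algebraMap A B a ∉ p.map (algebraMap A B) := by
    intro a ha h
    apply ha
    rw [← comap_map hgi p]
    exact h
  have hW'' : ∀ k, f k = 0 → ∃ t ∉ p.map (algebraMap A B), t • k ∈ Submodule.span B W := by
    intro k hk
    obtain ⟨a, ha, h⟩ := hW' k hk
    exact ⟨_, hcomap a ha, h⟩
  let q := p.map (algebraMap A B)
  let L := Localization.AtPrime q
  obtain ⟨F, hF, hker⟩ := exists_presentation q f hf W hW hW''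
  have hfp : Module.FinitePresentation L (LocalizedModule q.primeCompl N) := by
    refine Module.finitePresentation_of_surjective F hF ?_
    rw [hker]
    exact Submodule.fg_span (hWfin.image _)
  have hfl : Module.Flat A (LocalizedModule q.primeCompl N) := hflat
  have hfree : Module.Free L (LocalizedModule q.primeCompl N) :=
    free_of_flat p (LocalizedModule q.primeCompl N)
  rcases minors_dichotomy q f hf W hW hW'' s with h | ⟨w, hw, hwq⟩
  · -- all minors vanish near `p`
    have h1 : ∀ w ∈ minors s W, ∃ a ∉ p, a • w = 0 := by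
      intro w hw
      obtain ⟨t, ht, htw⟩ := h w hw
      exact exists_smul_eq_zero hgi p t w ht htw
    have hfin := finite_minors s hWfin
    have h2 : ∃ a ∉ p, ∀ w ∈ minors s W, a • w = 0 := by
      choose! a ha haw using h1
      refine ⟨∏ w ∈ hfin.toFinset, a w, ?_, ?_⟩
      · intro hmem
        obtain ⟨w, hw, hwp⟩ := (Ideal.IsPrime.prod_mem_iff (p := p)).mp hmem
        exact ha w (hfin.mem_toFinset.mp hw) hwp
      · intro w hw
        rw [← Finset.prod_erase_mul _ _ (hfin.mem_toFinset.mpr hw), mul_smul, haw w hw, smul_zero]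
    obtain ⟨a, ha, haw⟩ := h2
    refine ⟨a, ha, fun y hy => ?_⟩
    have h3 : a * y = 0 := by
      induction hy using Submodule.span_induction with
      | mem y hy =>
        obtain ⟨φ, w, hw, rfl⟩ := hy
        rw [← smul_eq_mul, ← map_smul, haw w hw, map_zero]
      | zero => rw [mul_zero]
      | add x y _ _ hx hy => rw [mul_add, hx, hy, add_zero]
      | smul r x _ hx => rw [smul_eq_mul, mul_left_comm, hx, mul_zero]
    rw [h3]
    exact zero_mem _
  · have h1 : ¬ content A (minors s W) ≤ p := by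
      intro hle
      exact hwq ((content_le_iff.mp hle) hw)
    obtain ⟨c₀, hc₀, hc₀p⟩ := Set.not_subset.mp h1
    exact ⟨c₀, hc₀p, fun y hy => Ideal.mul_mem_mul hc₀ hy⟩

/-- Off `V(I₀)` idempotent implies `I₀ᴺ c ≤ c²`. -/
theorem exists_pow_mul_le (I₀ : Ideal A) (hI₀ : I₀.FG) (c : Ideal A)
    (h : ∀ (p : Ideal A) [p.IsPrime], ¬ I₀ ≤ p → ∃ a ∉ p, ∀ y ∈ c, a * y ∈ c * c) :
    ∃ N : ℕ, I₀ ^ N * c ≤ c * c := by
  let col : Ideal A := (c * c).colon c
  have hcol : ∀ a, a ∈ col ↔ ∀ y ∈ c, a * y ∈ c * c := by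
    intro a
    rw [Submodule.mem_colon]
    rfl
  have h1 : I₀ ≤ col.radical := by
    rw [Ideal.radical_eq_sInf]
    refine le_sInf ?_
    rintro p ⟨hle, hp⟩
    by_contra hcon
    obtain ⟨a, ha, hay⟩ := h p hcon
    exact ha (hle ((hcol a).mpr hay))
  obtain ⟨N, hN⟩ := Ideal.exists_pow_le_of_le_radical_of_fg h1 hI₀
  refine ⟨N, ?_⟩
  rw [Ideal.mul_le]
  intro x hx y hy
  exact (hcol x).mp (hN hx) y hy

end Groth.Agent.Flat2C.GenFreeIdem
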