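import Groth.Agent.Flat2C.MinorGeneric
import Mathlib.RingTheory.IsTensorProduct
import Mathlib.RingTheory.Finiteness.Ideal

/-!
# Finitely many relations generating all relations off a closed subset; base change of presentations
-/

set_option autoImplicit false
universe u

namespace Groth.Agent.Flat2C.GenFreeRel

open Groth.Agent.Flat2C.MinorGeneric

variable {B : Type u} [CommRing B] {n : ℕ}

/-- Finitely many relations generate all relations after inverting `b`, when the localized module
is finitely presented. -/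
theorem exists_relations_away {N : Type u} [AddCommGroup N] [Module B N]
    (f : (Fin n → B) →ₗ[B] N) (hf : Function.Surjective f) (b : B)
    (hfp : Module.FinitePresentation (Localization.Away b)
      (LocalizedModule (Submonoid.powers b) N)) :
    ∃ W : Finset (Fin n → B), (∀ w ∈ W, f w = 0) ∧
      ∀ k, f k = 0 → ∃ m : ℕ, b ^ m • k ∈ Submodule.span B (W : Set (Fin n → B)) := by
  classical
  let L := Localization.Away b
  have hloc1 : IsLocalizedModule (Submonoid.powers b) (Algebra.linearMap B L) := inferInstance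
  have hloc : IsLocalizedModule (Submonoid.powers b) (coordMap B L n) :=
    IsLocalizedModule.pi (Submonoid.powers b) (fun _ : Fin n => Algebra.linearMap B L)
  let F₀ := IsLocalizedModule.map (Submonoid.powers b) (coordMap B L n)
    (LocalizedModule.mkLinearMap (Submonoid.powers b) N) f
  let F := F₀.extendScalarsOfIsLocalization (Submonoid.powers b) L
  have hF : Function.Surjective F :=
    IsLocalizedModule.map_surjective (Submonoid.powers b) (coordMap B L n)
      (LocalizedModule.mkLinearMap (Submonoid.powers b) N) f hf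
  have h1 : (LinearMap.ker f).localized' L (Submonoid.powers b) (coordMap B L n) =
      LinearMap.ker F :=
    LinearMap.localized'_ker_eq_ker_localizedMap L (Submonoid.powers b) (coordMap B L n)
      (LocalizedModule.mkLinearMap (Submonoid.powers b) N) f
  have hfg : (LinearMap.ker F).FG := Module.FinitePresentation.fg_ker F hF
  rw [← h1, Submodule.localized'_eq_span] at hfg
  obtain ⟨T, hT, hT'⟩ := (Submodule.fg_span_iff_fg_span_finset_subset _).mp hfg
  obtain ⟨W, hW, rfl⟩ := Finset.subset_set_image_iff.mp hT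
  refine ⟨W, fun w hw => hW hw, fun k hk => ?_⟩
  have h2 : coordMap B L n k ∈ Submodule.span L (coordMap B L n '' (LinearMap.ker f : Set _)) :=
    Submodule.subset_span ⟨k, hk, rfl⟩
  rw [hT', Finset.coe_image] at h2
  have h3 : coordMap B L n k ∈ (Submodule.span B (W : Set (Fin n → B))).localized' L
      (Submonoid.powers b) (coordMap B L n) := by
    rw [Submodule.localized'_eq_span]
    exact Submodule.span_mono (Set.image_mono Submodule.subset_span) h2
  rw [Submodule.mem_localized'] at h3
  obtain ⟨y, hy, s, hs⟩ := h3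
  rw [IsLocalizedModule.mk'_eq_iff, Submonoid.smul_def, ← map_smul,
    IsLocalizedModule.eq_iff_exists (Submonoid.powers b)] at hs
  obtain ⟨c, hc⟩ := hs
  obtain ⟨m₁, hm₁⟩ := c.2
  obtain ⟨m₂, hm₂⟩ := s.2
  refine ⟨m₁ + m₂, ?_⟩
  have hm₁' : (c : B) = b ^ m₁ := hm₁.symm
  have hm₂' : (s : B) = b ^ m₂ := hm₂.symm
  rw [Submonoid.smul_def, Submonoid.smul_def, hm₁', hm₂'] at hc
  rw [pow_add, mul_smul, ← hc]
  exact Submodule.smul_mem _ _ hy

/-- Finitely many relations generate all relations off `V(I₀)`. -/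
theorem exists_relations {A : Type u} [CommRing A] [Algebra A B] {N : Type u} [AddCommGroup N]
    [Module B N] (f : (Fin n → B) →ₗ[B] N) (hf : Function.Surjective f) (I₀ : Ideal A)
    (hI₀ : I₀.FG)
    (hfp : ∀ a ∈ I₀, Module.FinitePresentation (Localization.Away (algebraMap A B a))
      (LocalizedModule (Submonoid.powers (algebraMap A B a)) N)) :
    ∃ W : Set (Fin n → B), W.Finite ∧ (∀ w ∈ W, f w = 0) ∧
      (∀ k, f k = 0 → ∃ M : ℕ, ∀ y ∈ (I₀.map (algebraMap A B)) ^ M, y • k ∈ Submodule.span B W) ∧
      (∀ (p : Ideal A) [p.IsPrime], ¬ I₀ ≤ p → ∀ k, f k = 0 →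
        ∃ a ∉ p, algebraMap A B a • k ∈ Submodule.span B W) := by
  classical
  obtain ⟨T, hT⟩ := hI₀
  have hTI : ∀ a ∈ T, a ∈ I₀ := fun a ha => hT ▸ Ideal.subset_span ha
  have key : ∀ a ∈ T, ∃ W : Finset (Fin n → B), (∀ w ∈ W, f w = 0) ∧
      ∀ k, f k = 0 → ∃ m : ℕ, (algebraMap A B a) ^ m • k ∈
        Submodule.span B (W : Set (Fin n → B)) := fun a ha =>
    exists_relations_away f hf (algebraMap A B a) (hfp a (hTI a ha))
  choose! W hW hWk using key
  let W' : Finset (Fin n → B) := T.biUnion W
  have hsub : ∀ a ∈ T, Submodule.span B (W a : Set (Fin n → B)) ≤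
      Submodule.span B (W' : Set (Fin n → B)) := by
    intro a ha
    refine Submodule.span_mono ?_
    exact_mod_cast Finset.subset_biUnion_of_mem W ha
  refine ⟨(W' : Set (Fin n → B)), W'.finite_toSet, ?_, ?_, ?_⟩
  · intro w hw
    obtain ⟨a, ha, hwa⟩ := Finset.mem_biUnion.mp (Finset.mem_coe.mp hw)
    exact hW a ha w hwa
  · intro k hk
    let col : Ideal B := (Submodule.span B (W' : Set (Fin n → B))).comap
      (LinearMap.toSpanSingleton B (Fin n → B) k)
    have hcol : ∀ b, b ∈ col ↔ b • k ∈ Submodule.span B (W' : Set (Fin n → B)) := by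
      intro b
      rfl
    have hle : I₀.map (algebraMap A B) ≤ col.radical := by
      rw [← hT, Ideal.map_span, Ideal.span_le]
      rintro _ ⟨a, ha, rfl⟩
      obtain ⟨m, hm⟩ := hWk a ha k hk
      exact ⟨m, (hcol _).mpr (hsub a ha hm)⟩
    have hfg : (I₀.map (algebraMap A B)).FG := Ideal.FG.map ⟨T, hT⟩ _
    obtain ⟨M, hM⟩ := Ideal.exists_pow_le_of_le_radical_of_fg hle hfg
    exact ⟨M, fun y hy => (hcol y).mp (hM hy)⟩
  · intro p hp hIp k hk
    have : ∃ a ∈ T, a ∉ p := by
      by_contra hcon
      push Not at hcon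
      apply hIp
      rw [← hT]
      exact Ideal.span_le.mpr hcon
    obtain ⟨a, ha, hap⟩ := this
    obtain ⟨m, hm⟩ := hWk a ha k hk
    refine ⟨a ^ m, fun h => hap (hp.mem_of_pow_mem m h), ?_⟩
    rw [map_pow]
    exact hsub a ha hm

section BaseChange

variable {S' : Type u} [CommRing S'] [Algebra B S'] {N N' : Type u} [AddCommGroup N] [Module B N]
  [AddCommGroup N'] [Module S' N'] [Module B N'] [IsScalarTower B S' N']
  (f : (Fin n → B) →ₗ[B] N)

/-- The base change of a presentation. -/
noncomputable def bc (φ : N →ₗ[B] N') : (Fin n → S') →ₗ[S'] N' :=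
  (Pi.basisFun S' (Fin n)).constr S' fun i => φ (f (Pi.single i 1))

theorem bc_coordMap (φ : N →ₗ[B] N') (y : Fin n → B) :
    bc (S' := S') f φ (coordMap B S' n y) = φ (f y) := by
  classical
  have h : ((bc (S' := S') f φ).restrictScalars B) ∘ₗ (coordMap B S' n) = φ ∘ₗ f := by
    refine (Pi.basisFun B (Fin n)).ext fun i => ?_
    rw [Pi.basisFun_apply]
    have h1 : coordMap B S' n (Pi.single i 1) = Pi.basisFun S' (Fin n) i := by
      ext j
      rw [coordMap_apply, Pi.basisFun_apply]
      by_cases h : j = i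
      · subst h
        simp
      · simp [h]
    change bc (S' := S') f φ (coordMap B S' n (Pi.single i 1)) = φ (f (Pi.single i 1))
    rw [h1, bc, Module.Basis.constr_basis]
  exact LinearMap.congr_fun h y

theorem bc_surjective (hf : Function.Surjective f) (φ : N →ₗ[B] N') (hφ : IsBaseChange S' φ) :
    Function.Surjective (bc (S' := S') f φ) := by
  rw [← LinearMap.range_eq_top, ← top_le_iff]
  intro z _
  refine hφ.inductionOn z (motive := fun z => z ∈ LinearMap.range (bc (S' := S') f φ)) (zero_mem _) ?_ ?_ ?_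
  · intro m
    obtain ⟨y, rfl⟩ := hf m
    exact ⟨_, bc_coordMap f φ y⟩
  · intro s m hm
    exact Submodule.smul_mem _ s hm
  · intro x y hx hy
    exact add_mem hx hy

/-- The kernel of the base change of a presentation. -/
theorem mem_span_of_bc_eq_zero (hf : Function.Surjective f) (φ : N →ₗ[B] N')
    (hφ : IsBaseChange S' φ) (y : Fin n → S') (hy : bc (S' := S') f φ y = 0) :
    y ∈ Submodule.span S' (coordMap B S' n '' {k | f k = 0}) := by
  classical
  let K := Submodule.span S' (coordMap B S' n '' {k | f k = 0})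
  let g₁ : (Fin n → B) →ₗ[B] ((Fin n → S') ⧸ K) := (K.mkQ.restrictScalars B) ∘ₗ coordMap B S' n
  have hg₁ : LinearMap.ker f ≤ LinearMap.ker g₁ := by
    intro k hk
    rw [LinearMap.mem_ker]
    exact (Submodule.Quotient.mk_eq_zero K).mpr (Submodule.subset_span ⟨k, hk, rfl⟩)
  let g₀ : N →ₗ[B] ((Fin n → S') ⧸ K) :=
    ((LinearMap.ker f).liftQ g₁ hg₁) ∘ₗ (f.quotKerEquivOfSurjective hf).symm.toLinearMap
  have hg₀ : ∀ x, g₀ (f x) = K.mkQ (coordMap B S' n x) := by
    intro x
    have h1 : (f.quotKerEquivOfSurjective hf).symm (f x) = (LinearMap.ker f).mkQ x := by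
      apply (f.quotKerEquivOfSurjective hf).injective
      rw [LinearEquiv.apply_symm_apply]
      rfl
    change (LinearMap.ker f).liftQ g₁ hg₁ ((f.quotKerEquivOfSurjective hf).symm (f x)) = _
    rw [h1]
    rfl
  let g : N' →ₗ[S'] ((Fin n → S') ⧸ K) := hφ.lift g₀
  have hg : g ∘ₗ bc (S' := S') f φ = K.mkQ := by
    refine (Pi.basisFun S' (Fin n)).ext fun i => ?_
    have h1 : coordMap B S' n (Pi.single i 1) = Pi.basisFun S' (Fin n) i := by
      ext j
      rw [coordMap_apply, Pi.basisFun_apply]
      by_cases h : j = i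
      · subst h
        simp
      · simp [h]
    rw [← h1, LinearMap.comp_apply, bc_coordMap]
    have h2 : g (φ (f (Pi.single i 1))) = g₀ (f (Pi.single i 1)) := hφ.lift_eq _ _
    rw [h2, hg₀]
  have h3 := LinearMap.congr_fun hg y
  rw [LinearMap.comp_apply, hy, map_zero] at h3
  exact (Submodule.Quotient.mk_eq_zero K).mp h3.symm

end BaseChange

end Groth.Agent.Flat2C.GenFreeRel
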