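import Mathlib.RingTheory.LocalRing.MaximalIdeal.Basic
import Mathlib.RingTheory.Nakayama
import Mathlib.Algebra.GroupWithZero.NonZeroDivisors
import Mathlib.RingTheory.Ideal.Operations
import Mathlib.RingTheory.Ideal.BigOperators
import Mathlib.RingTheory.Finiteness.Ideal

/-!
# Principal products of ideals in local rings

* `exists_eq_span_of_mul_eq`: if `I * J = (d)` in a local ring with `d` a nonzerodivisor then `I = (i)`
  with `i ∣ d` a nonzerodivisor.
* `exists_eq_span_of_prod`: the same for a factor of a finite product.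
* `eq_bot_or_eq_span`: if `c` is finitely generated, `tᴺ c ≤ c²` and `c + (tᵐ) = (x)` with `m > N` then
  `c = 0` or `c = (x)`.
-/

set_option autoImplicit false
universe u v

namespace Groth.Agent.Flat2C.LocalCartier

variable {L : Type u} [CommRing L] [IsLocalRing L]

theorem exists_eq_span_of_mul_eq (I J : Ideal L) (d : L) (hd : d ∈ nonZeroDivisors L)
    (h : I * J = Ideal.span {d}) :
    ∃ i ∈ nonZeroDivisors L, I = Ideal.span {i} ∧ i ∣ d := by
  -- some product of elements is a unit multiple of `d`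
  have key : ∃ i ∈ I, ∃ j ∈ J, ∃ r : L, IsUnit r ∧ i * j = r * d := by
    by_contra hcon
    push Not at hcon
    have hle : I * J ≤ IsLocalRing.maximalIdeal L * Ideal.span {d} := by
      rw [Ideal.mul_le]
      intro i hi j hj
      have h1 : i * j ∈ Ideal.span {d} := h ▸ Ideal.mul_mem_mul hi hj
      obtain ⟨r, hr⟩ := Ideal.mem_span_singleton'.mp h1
      have h2 : ¬ IsUnit r := fun hu => hcon i hi j hj r hu hr.symm
      rw [← hr]
      exact Ideal.mul_mem_mul ((IsLocalRing.mem_maximalIdeal r).mpr h2)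
        (Ideal.mem_span_singleton_self d)
    have h3 : d ∈ IsLocalRing.maximalIdeal L * Ideal.span {d} :=
      hle (h ▸ Ideal.mem_span_singleton_self d)
    rw [Ideal.mem_mul_span_singleton] at h3
    obtain ⟨z, hz, hzd⟩ := h3
    have h4 : (1 - z) * d = 0 := by rw [sub_mul, one_mul, hzd, sub_self]
    have h5 : 1 - z = 0 := (mul_right_mem_nonZeroDivisors_eq_zero_iff hd).mp h4
    have h6 : z = 1 := (sub_eq_zero.mp h5).symm
    rw [h6] at hz
    exact (Ideal.ne_top_iff_one _).mp (IsLocalRing.maximalIdeal.isMaximal L).ne_top hz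
  obtain ⟨i, hi, j, hj, r, hr, hij⟩ := key
  obtain ⟨u, rfl⟩ := hr
  have hrd : (u : L) * d ∈ nonZeroDivisors L := mul_mem u.isUnit.mem_nonZeroDivisors hd
  have hi0 : i ∈ nonZeroDivisors L := (mul_mem_nonZeroDivisors.mp (hij ▸ hrd)).1
  have hj0 : j ∈ nonZeroDivisors L := (mul_mem_nonZeroDivisors.mp (hij ▸ hrd)).2
  refine ⟨i, hi0, le_antisymm ?_ ((Ideal.span_singleton_le_iff_mem _).mpr hi), ?_⟩
  · intro x hx
    have h1 : x * j ∈ Ideal.span {d} := h ▸ Ideal.mul_mem_mul hx hj
    obtain ⟨y, hy⟩ := Ideal.mem_span_singleton'.mp h1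
    -- x j = y d = y u⁻¹ i j
    refine Ideal.mem_span_singleton'.mpr ⟨y * (↑u⁻¹ : L), ?_⟩
    have h2 : (y * (↑u⁻¹ : L) * i - x) * j = 0 := by
      have : y * (↑u⁻¹ : L) * i * j = y * d := by
        rw [mul_assoc _ i j, hij, mul_assoc y, ← mul_assoc (↑u⁻¹ : L), Units.inv_mul, one_mul]
      rw [sub_mul, this, hy, sub_self]
    exact sub_eq_zero.mp ((mul_right_mem_nonZeroDivisors_eq_zero_iff hj0).mp h2)
  · refine ⟨(↑u⁻¹ : L) * j, ?_⟩
    calc d = (↑u⁻¹ : L) * ((u : L) * d) := by rw [← mul_assoc, Units.inv_mul, one_mul]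
      _ = i * ((↑u⁻¹ : L) * j) := by rw [← hij]; ring

theorem exists_eq_span_of_prod {ι : Type v} (s : Finset ι) (I : ι → Ideal L) (d : L)
    (hd : d ∈ nonZeroDivisors L) (h : ∏ i ∈ s, I i = Ideal.span {d}) (i : ι) (hi : i ∈ s) :
    ∃ x ∈ nonZeroDivisors L, I i = Ideal.span {x} ∧ x ∣ d := by
  classical
  rw [← Finset.mul_prod_erase s I hi] at h
  exact exists_eq_span_of_mul_eq _ _ d hd h

/-- Dichotomy for ideals which are locally trivial off `V(t)`. -/
theorem eq_bot_or_eq_span (c : Ideal L) (hc : c.FG) (t : L) (ht : t ∈ nonZeroDivisors L)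
    (N m : ℕ) (hNm : N < m) (hN : ∀ y ∈ c, t ^ N * y ∈ c * c) (x : L)
    (hx : c ⊔ Ideal.span {t ^ m} = Ideal.span {x}) :
    c = ⊥ ∨ c = Ideal.span {x} := by
  by_cases htu : IsUnit t
  · -- then `c` is idempotent
    have h1 : c ≤ c * c := by
      intro y hy
      have h2 := Ideal.mul_mem_left (c * c) (↑(htu.pow N).unit⁻¹ : L) (hN y hy)
      rwa [← mul_assoc, IsUnit.val_inv_mul, one_mul] at h2
    by_cases htop : c = ⊤
    · right
      rw [← hx, htop, top_sup_eq]
    · left
      have hle : c ≤ IsLocalRing.maximalIdeal L := IsLocalRing.le_maximalIdeal htop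
      refine Submodule.eq_bot_of_le_smul_of_le_jacobson_bot (IsLocalRing.maximalIdeal L) c hc ?_ ?_
      · rw [smul_eq_mul]
        exact h1.trans (Ideal.mul_mono_left hle)
      · exact (IsLocalRing.jacobson_eq_maximalIdeal ⊥ bot_ne_top).ge
  · have htm : t ∈ IsLocalRing.maximalIdeal L := (IsLocalRing.mem_maximalIdeal t).mpr htu
    have hxmem : x ∈ c ⊔ Ideal.span {t ^ m} := hx ▸ Ideal.mem_span_singleton_self x
    obtain ⟨c₀, hc₀, t₀, ht₀, hct⟩ := Submodule.mem_sup.mp hxmem
    obtain ⟨r, rfl⟩ := Ideal.mem_span_singleton'.mp ht₀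
    have hc₀x : c₀ ∈ Ideal.span {x} := hx ▸ Submodule.mem_sup_left hc₀
    obtain ⟨y, hy⟩ := Ideal.mem_span_singleton'.mp hc₀x
    have htx : t ^ m ∈ Ideal.span {x} :=
      hx ▸ Submodule.mem_sup_right (Ideal.mem_span_singleton_self _)
    obtain ⟨z, hz⟩ := Ideal.mem_span_singleton'.mp htx
    have hxn : x ∈ nonZeroDivisors L := by
      have : z * x ∈ nonZeroDivisors L := hz ▸ pow_mem ht m
      exact (mul_mem_nonZeroDivisors.mp this).2
    have h1 : y + r * z = 1 := by
      have h2 : (1 - (y + r * z)) * x = 0 := by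
        have : (y + r * z) * x = x := by
          rw [add_mul, mul_assoc, hy, hz, hct]
        rw [sub_mul, one_mul, this, sub_self]
      exact (sub_eq_zero.mp ((mul_right_mem_nonZeroDivisors_eq_zero_iff hxn).mp h2)).symm
    rcases IsLocalRing.isUnit_or_isUnit_of_add_one h1 with hu | hu
    · right
      refine le_antisymm (hx ▸ le_sup_left) ?_
      rw [Ideal.span_singleton_le_iff_mem]
      have h2 := Ideal.mul_mem_left c (↑hu.unit⁻¹ : L) hc₀
      rwa [← hy, ← mul_assoc, IsUnit.val_inv_mul, one_mul] at h2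
    · left
      have hzu : IsUnit z := isUnit_of_mul_isUnit_right hu
      -- `c ≤ (t ^ m)`
      have hle : c ≤ Ideal.span {t ^ m} := by
        have h3 : c ≤ Ideal.span {x} := hx ▸ le_sup_left
        refine h3.trans ?_
        rw [Ideal.span_singleton_le_iff_mem, Ideal.mem_span_singleton']
        exact ⟨↑hzu.unit⁻¹, by rw [← hz, ← mul_assoc, IsUnit.val_inv_mul, one_mul]⟩
      refine Submodule.eq_bot_of_le_smul_of_le_jacobson_bot (IsLocalRing.maximalIdeal L) c hc ?_
        (IsLocalRing.jacobson_eq_maximalIdeal ⊥ bot_ne_top).ge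
      rw [smul_eq_mul]
      intro w hw
      -- `t ^ N w ∈ c * c ≤ t ^ m c`
      have h4 : t ^ N * w ∈ Ideal.span {t ^ m} * c := Ideal.mul_mono_left hle (hN w hw)
      rw [Ideal.mem_span_singleton_mul] at h4
      obtain ⟨w', hw', hww⟩ := h4
      have h5 : t ^ N * (w - t ^ (m - N) * w') = 0 := by
        rw [mul_sub, ← mul_assoc, ← pow_add, Nat.add_sub_cancel' hNm.le, hww, sub_self]
      have h6 : w = t ^ (m - N) * w' :=
        sub_eq_zero.mp ((mul_left_mem_nonZeroDivisors_eq_zero_iff (pow_mem ht N)).mp h5)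
      rw [h6]
      refine Ideal.mul_mem_mul ?_ hw'
      exact Ideal.pow_mem_of_mem _ htm _ (Nat.sub_pos_of_lt hNm)

end Groth.Agent.Flat2C.LocalCartier
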