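import Groth.Agent.Flat2C.GenericPoint
import Groth.Agent.Flat2C.Content
import Groth.Agent.Flat2C.LocalCartier
import Mathlib.RingTheory.Localization.Ideal
import Mathlib.RingTheory.Localization.Submodule

/-!
# Minors of a presentation after a base change making the centre Cartier
-/

set_option autoImplicit false
universe u

namespace Groth.Agent.Flat2C.GenFreeTest

open Groth.Agent.Flat2C.Minors Groth.Agent.Flat2C.Content Groth.Agent.Flat2C.GenericPoint
  Groth.Agent.Flat2C.LocalCartier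

/-- Spreading out an inclusion of ideals from a local ring. -/
theorem spread {R : Type u} [CommRing R] (p : Ideal R) [p.IsPrime] (a b : Ideal R) (ha : a.FG)
    (h : a.map (algebraMap R (Localization.AtPrime p)) ≤ b.map (algebraMap R (Localization.AtPrime p))) :
    ∃ r ∉ p, ∀ y ∈ a, r * y ∈ b := by
  classical
  obtain ⟨T, rfl⟩ := ha
  have key : ∀ y ∈ T, ∃ r ∉ p, r * y ∈ b := by
    intro y hy
    have h1 := h (Ideal.mem_map_of_mem (algebraMap R (Localization.AtPrime p))
      (Ideal.subset_span hy))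
    rw [IsLocalization.mem_map_algebraMap_iff p.primeCompl] at h1
    obtain ⟨⟨z, t⟩, hz⟩ := h1
    rw [← map_mul, IsLocalization.eq_iff_exists p.primeCompl] at hz
    obtain ⟨c, hc⟩ := hz
    refine ⟨c * t, p.primeCompl.mul_mem c.2 t.2, ?_⟩
    have : (c : R) * t * y = c * z := by
      rw [← hc]
      ring
    rw [this]
    exact b.mul_mem_left _ z.2
  choose! r hr hry using key
  refine ⟨∏ y ∈ T, r y, ?_, ?_⟩
  · intro hmem
    obtain ⟨y, hy, hyp⟩ := (Ideal.IsPrime.prod_mem_iff (p := p)).mp hmem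
    exact hr y hy hyp
  · intro y hy
    induction hy using Submodule.span_induction with
    | mem y hy =>
      rw [← Finset.prod_erase_mul _ _ hy, mul_assoc]
      exact b.mul_mem_left _ (hry y hy)
    | zero => rw [mul_zero]; exact zero_mem _
    | add x y _ _ hx hy => rw [mul_add]; exact add_mem hx hy
    | smul c x _ hx =>
      rw [smul_eq_mul, mul_left_comm]
      exact b.mul_mem_left _ hx

theorem content_minors_zero {A B : Type u} [CommRing A] [CommRing B] [Algebra A B]
    [Module.Flat A B] [Module.Projective A B] (hgi : FlatCA.GeomIntegralFibres A B) {n : ℕ}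
    (W : Set (Fin n → B)) : content A (minors 0 W) = ⊤ := by
  by_contra hne
  obtain ⟨m, hm, hle⟩ := Ideal.exists_le_maximal _ hne
  rw [content_le_iff] at hle
  have h1 := hle (one_mem_minors_zero W)
  have h2 := isPrime_map hgi m
  exact h2.ne_top ((Ideal.eq_top_iff_one _).mpr h1)

theorem content_minors_succ {A B : Type u} [CommRing A] [CommRing B] [Algebra A B]
    [Module.Projective A B] {n : ℕ} (W : Set (Fin n → B)) :
    content A (minors (n + 1) W) = ⊥ := by
  rw [← le_bot_iff, content_le_iff]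
  rintro _ ⟨v, e, _, rfl⟩
  rw [minor_eq_zero_of_lt (Nat.lt_succ_self n)]
  exact zero_mem _

/-- The local structure of the minors after a base change making the centre Cartier. -/
theorem exists_minor {A B : Type u} [CommRing A] [CommRing B] [Algebra A B] [Module.Flat A B]
    [Module.Projective A B] (hgi : FlatCA.GeomIntegralFibres A B) {n : ℕ} (W : Set (Fin n → B))
    (hW : W.Finite) (I₀ : Ideal A) (N m : ℕ) (hNm : N < m)
    (hidem : ∀ s, I₀ ^ N * content A (minors s W) ≤
      content A (minors s W) * content A (minors s W))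
    (R S' : Type u) [CommRing R] [CommRing S'] [Algebra A R] [Algebra R S']
    [Algebra B S'] [Algebra A S'] [IsScalarTower A R S'] [IsScalarTower A B S']
    [Algebra.IsPushout A R B S'] (d : R) (hd : d ∈ nonZeroDivisors R)
    (hJ : (I₀ * ∏ s ∈ Finset.range (n + 1), (content A (minors s W) ⊔ I₀ ^ m)).map
      (algebraMap A R) = Ideal.span {d}) (p : Ideal R) [p.IsPrime] :
    ∃ (s : ℕ) (a x : R) (v : Fin s → Fin n → B) (e : Fin s → Fin n) (z : S'),
      (∀ j, v j ∈ W) ∧ a ∉ p ∧ z ∉ p.map (algebraMap R S') ∧ x ∣ a * d ∧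
      (∀ w ∈ minors (s + 1) W, a • algebraMap B S' w = 0) ∧
      (∀ w ∈ minors s W, ∃ y, a • algebraMap B S' w = x • y) ∧
      a • algebraMap B S' (minor v e) = x • z := by
  classical
  let L := Localization.AtPrime p
  let c : ℕ → Ideal A := fun s => content A (minors s W)
  let cR : ℕ → Ideal R := fun s => content R (algebraMap B S' '' minors s W)
  have hcR : ∀ s, cR s = (c s).map (algebraMap A R) := fun s =>
    content_baseChange R S' (minors s W)
  have hbc : IsBaseChange R (IsScalarTower.toAlgHom A B S').toLinearMap :=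
    Algebra.IsPushout.out
  have hprojS' : Module.Projective R S' := Module.Projective.of_equiv hbc.equiv
  have hcfg : ∀ s, (c s).FG := fun s => content_fg (finite_minors s hW)
  have hcRfg : ∀ s, (cR s).FG := fun s => by
    rw [hcR]
    exact (hcfg s).map _
  let ψ : A →+* L := (algebraMap R L).comp (algebraMap A R)
  have hcL : ∀ s, (cR s).map (algebraMap R L) = (c s).map ψ := fun s => by
    rw [hcR, Ideal.map_map]
  have hdL : algebraMap R L d ∈ nonZeroDivisors L :=
    IsLocalization.map_nonZeroDivisors_le p.primeCompl L (Submonoid.mem_map_of_mem _ hd)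
  have hJL : (I₀.map ψ) * ∏ s ∈ Finset.range (n + 1), ((c s).map ψ ⊔ (I₀.map ψ) ^ m) =
      Ideal.span {algebraMap R L d} := by
    have h1 := congrArg (Ideal.map (algebraMap R L)) hJ
    rw [Ideal.map_map, Ideal.map_span, Set.image_singleton] at h1
    rw [← h1, Ideal.map_mul]
    congr 1
    change _ = Ideal.mapHom ψ _
    rw [map_prod]
    refine Finset.prod_congr rfl fun s _ => ?_
    rw [Ideal.mapHom_apply, Ideal.map_sup, Ideal.map_pow]
  -- the centre
  obtain ⟨t, ht, hIt, htd⟩ := exists_eq_span_of_mul_eq _ _ _ hdL hJL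
  have hprod : ∀ s ∈ Finset.range (n + 1), ∃ x ∈ nonZeroDivisors L,
      ((c s).map ψ ⊔ (I₀.map ψ) ^ m) = Ideal.span {x} ∧ x ∣ algebraMap R L d := by
    intro s hs
    rw [mul_comm] at hJL
    obtain ⟨y, hy, hyJ, hyd⟩ := exists_eq_span_of_mul_eq _ _ _ hdL hJL
    obtain ⟨x, hx, hx', hxy⟩ := exists_eq_span_of_prod _ _ y hy hyJ s hs
    exact ⟨x, hx, hx', hxy.trans hyd⟩
  have hdich : ∀ s ∈ Finset.range (n + 1), (c s).map ψ = ⊥ ∨
      ∃ x ∈ nonZeroDivisors L, (c s).map ψ = Ideal.span {x} ∧ x ∣ algebraMap R L d := by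
    intro s hs
    obtain ⟨x, hx, hx', hxd⟩ := hprod s hs
    rw [hIt, Ideal.span_singleton_pow] at hx'
    have h1 : ∀ y ∈ (c s).map ψ, t ^ N * y ∈ (c s).map ψ * (c s).map ψ := by
      intro y hy
      have h2 := Ideal.map_mono (f := ψ) (hidem s)
      rw [Ideal.map_mul, Ideal.map_mul, Ideal.map_pow, hIt, Ideal.span_singleton_pow] at h2
      exact h2 (Ideal.mul_mem_mul (Ideal.mem_span_singleton_self _) hy)
    rcases eq_bot_or_eq_span _ ((hcfg s).map ψ) t ht N m hNm h1 x hx' with h | h
    · exact Or.inl h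
    · exact Or.inr ⟨x, hx, h, hxd⟩
  -- the rank
  have hrank : ∃ s ∈ Finset.range (n + 1), (c s).map ψ ≠ ⊥ ∧ (c (s + 1)).map ψ = ⊥ := by
    by_contra hcon
    push Not at hcon
    have h1 : ∀ s ≤ n + 1, (c s).map ψ ≠ ⊥ := by
      intro s
      induction s with
      | zero =>
        intro _
        have : c 0 = ⊤ := content_minors_zero hgi W
        rw [this, Ideal.map_top]
        exact top_ne_bot
      | succ s ih =>
        intro hs
        exact hcon s (Finset.mem_range.mpr hs) (ih (by omega))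
    apply h1 (n + 1) le_rfl
    have : c (n + 1) = ⊥ := content_minors_succ W
    rw [this, Ideal.map_bot]
  obtain ⟨s, hs, hsne, hs1⟩ := hrank
  obtain ⟨x', hx'nzd, hcx', hx'd⟩ := (hdich s hs).resolve_left hsne
  obtain ⟨⟨x, t'⟩, hxt⟩ := IsLocalization.mk'_surjective p.primeCompl x'
  have hxt' : x' * algebraMap R L t' = algebraMap R L x := by
    rw [← hxt]
    exact IsLocalization.mk'_spec L x t'
  have hut : IsUnit (algebraMap R L t') := IsLocalization.map_units L t'
  have hspan : Ideal.span {x'} = (Ideal.span {x}).map (algebraMap R L) := by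
    rw [Ideal.map_span, Set.image_singleton, ← hxt']
    exact (Ideal.span_singleton_mul_right_unit hut x').symm
  have hxnzd : algebraMap R L x ∈ nonZeroDivisors L := by
    rw [← hxt']
    exact mul_mem hx'nzd hut.mem_nonZeroDivisors
  -- spread out
  obtain ⟨a₁, ha₁, h₁⟩ := spread p (cR (s + 1)) ⊥ (hcRfg _) (by rw [hcL, hs1]; exact bot_le)
  obtain ⟨a₂, ha₂, h₂⟩ := spread p (cR s) (Ideal.span {x}) (hcRfg _) (by
    rw [hcL, hcx', hspan])
  obtain ⟨a₃, ha₃, h₃⟩ := spread p (Ideal.span {x}) (cR s) ⟨{x}, by simp⟩ (by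
    rw [hcL, hcx', hspan])
  obtain ⟨a₄, ha₄, h₄⟩ := spread p (Ideal.span {d}) (Ideal.span {x}) ⟨{d}, by simp⟩ (by
    rw [← hspan, Ideal.map_span, Set.image_singleton, Ideal.span_singleton_le_span_singleton]
    exact hx'd)
  have hS' : ∀ (r : R) (I : Ideal R) (b : Ideal R), (∀ y ∈ I, r * y ∈ b) →
      ∀ z ∈ I.map (algebraMap R S'), r • z ∈ b.map (algebraMap R S') := by
    intro r I b h z hz
    rw [Algebra.smul_def]
    induction hz using Submodule.span_induction with
    | mem z hz =>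
      obtain ⟨y, hy, rfl⟩ := hz
      rw [← map_mul]
      exact Ideal.mem_map_of_mem _ (h y hy)
    | zero => rw [mul_zero]; exact zero_mem _
    | add z₁ z₂ _ _ h₁ h₂ => rw [mul_add]; exact add_mem h₁ h₂
    | smul b' z _ hz =>
      rw [smul_eq_mul, mul_left_comm]
      exact Ideal.mul_mem_left _ _ hz
  have hdivx : ∀ w ∈ minors s W, ∃ y, (a₁ * a₂ * a₄) • algebraMap B S' w = x • y := by
    intro w hw
    have h5 : algebraMap B S' w ∈ (cR s).map (algebraMap R S') := mem_map_content ⟨w, hw, rfl⟩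
    have h6 := hS' a₂ _ _ h₂ _ h5
    rw [Ideal.map_span, Set.image_singleton, Ideal.mem_span_singleton'] at h6
    obtain ⟨y, hy⟩ := h6
    refine ⟨(a₁ * a₄) • y, ?_⟩
    have h7 : a₁ * a₂ * a₄ = (a₁ * a₄) * a₂ := by ring
    rw [h7, mul_smul, ← hy, smul_comm x, Algebra.smul_def x, mul_comm y]
  have hamem : a₁ * a₂ * a₄ ∉ p := by
    intro h
    rcases (Ideal.IsPrime.mem_or_mem ‹p.IsPrime› h) with h | h
    · rcases (Ideal.IsPrime.mem_or_mem ‹p.IsPrime› h) with h | h
      · exact ha₁ h
      · exact ha₂ h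
    · exact ha₄ h
  have hminor : ∃ w ∈ minors s W, ∃ z, (a₁ * a₂ * a₄) • algebraMap B S' w = x • z ∧
      z ∉ p.map (algebraMap R S') := by
    by_contra hcon
    push Not at hcon
    -- all values of linear forms are in `x p`
    have h5 : ∀ y ∈ cR s, ∃ z ∈ p, (a₁ * a₂ * a₄) * y = x * z := by
      intro y hy
      induction hy using Submodule.span_induction with
      | mem y hy =>
        obtain ⟨φ, _, ⟨w, hw, rfl⟩, rfl⟩ := hy
        obtain ⟨z, hz⟩ := hdivx w hw
        refine ⟨φ z, apply_mem_of_mem_map p φ (hcon w hw z hz), ?_⟩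
        rw [← smul_eq_mul, ← map_smul, hz, map_smul, smul_eq_mul]
      | zero => exact ⟨0, zero_mem _, by simp⟩
      | add y₁ y₂ _ _ h₁ h₂ =>
        obtain ⟨z₁, hz₁, h₁⟩ := h₁
        obtain ⟨z₂, hz₂, h₂⟩ := h₂
        exact ⟨z₁ + z₂, add_mem hz₁ hz₂, by rw [mul_add, h₁, h₂, mul_add]⟩
      | smul r y _ h =>
        obtain ⟨z, hz, h⟩ := h
        exact ⟨r * z, p.mul_mem_left _ hz, by rw [smul_eq_mul, mul_left_comm, h, mul_left_comm]⟩
    obtain ⟨z, hz, h6⟩ := h5 _ (h₃ x (Ideal.mem_span_singleton_self x))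
    -- `x (a a₃ - z) = 0`
    have h7 : algebraMap R L ((a₁ * a₂ * a₄) * a₃ - z) = 0 := by
      have h8 : algebraMap R L ((a₁ * a₂ * a₄) * a₃ - z) * algebraMap R L x = 0 := by
        rw [← map_mul]
        have : ((a₁ * a₂ * a₄) * a₃ - z) * x = 0 := by
          have : ((a₁ * a₂ * a₄) * a₃ - z) * x = (a₁ * a₂ * a₄) * (a₃ * x) - x * z := by ring
          rw [this, h6, sub_self]
        rw [this, map_zero]
      exact (mul_right_mem_nonZeroDivisors_eq_zero_iff hxnzd).mp h8
    have h8 : (a₁ * a₂ * a₄) * a₃ - z ∈ p := by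
      rw [IsLocalization.map_eq_zero_iff p.primeCompl] at h7
      obtain ⟨t, ht⟩ := h7
      have : (t : R) * ((a₁ * a₂ * a₄) * a₃ - z) ∈ p := ht ▸ zero_mem _
      exact (Ideal.IsPrime.mem_or_mem ‹p.IsPrime› this).resolve_left t.2
    have h9 : (a₁ * a₂ * a₄) * a₃ ∈ p := by
      have := add_mem h8 hz
      rwa [sub_add_cancel] at this
    rcases (Ideal.IsPrime.mem_or_mem ‹p.IsPrime› h9) with h | h
    · exact hamem h
    · exact ha₃ h
  obtain ⟨w, ⟨v, e, hv, rfl⟩, z, hz, hzp⟩ := hminor
  refine ⟨s, a₁ * a₂ * a₄, x, v, e, z, hv, hamem, hzp, ?_, ?_, hdivx, hz⟩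
  · have h5 := h₄ d (Ideal.mem_span_singleton_self d)
    rw [Ideal.mem_span_singleton] at h5
    have : a₁ * a₂ * a₄ * d = (a₁ * a₂) * (a₄ * d) := by ring
    rw [this]
    exact h5.mul_left _
  · intro w hw
    have h5 : algebraMap B S' w ∈ (cR (s + 1)).map (algebraMap R S') :=
      mem_map_content ⟨w, hw, rfl⟩
    have h6 := hS' a₁ _ _ h₁ _ h5
    rw [Ideal.map_bot, Ideal.mem_bot] at h6
    have h7 : a₁ * a₂ * a₄ = (a₂ * a₄) * a₁ := by ring
    rw [h7, mul_smul, h6, smul_zero]

end Groth.Agent.Flat2C.GenFreeTest
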