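import Groth.Agent.Flat2C.Minors
import Mathlib.LinearAlgebra.Matrix.Adjugate

/-!
# Reduction to a free module by minors (algebraic core of Stacks 0810)

`exists_free`: let `π : Bⁿ → G` be surjective with kernel the `d`-saturation of a submodule `K`
(`d` a nonzerodivisor). Suppose, up to the multiplier `a`, all `s+1`-minors of `K` vanish, all
`s`-minors of `K` are divisible by `x` and one of them equals `x * u`, with `x ∣ aᵏ dᴺ`. Then `G` becomes
free of rank `n - s` after inverting `a * u` (or `B` becomes zero).
-/

set_option autoImplicit false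
universe u v

namespace Groth.Agent.Flat2C.MinorFree

open Groth.Agent.Flat2C.Minors

variable {B : Type u} [CommRing B] {n : ℕ}

/-- Extension by zero of a function on the complement of the range of `e`. -/
noncomputable def ext0 {s : ℕ} (e : Fin s → Fin n) :
    ({l : Fin n // l ∉ Set.range e} → B) →ₗ[B] (Fin n → B) :=
  open Classical in
  LinearMap.pi fun l => if h : l ∉ Set.range e then LinearMap.proj ⟨l, h⟩ else 0

theorem ext0_of_mem {s : ℕ} (e : Fin s → Fin n) (b : {l : Fin n // l ∉ Set.range e} → B) (i : Fin s) :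
    ext0 e b (e i) = 0 := by
  simp only [ext0, LinearMap.pi_apply]
  rw [dif_neg (fun h => h ⟨i, rfl⟩)]
  rfl

theorem ext0_of_not_mem {s : ℕ} (e : Fin s → Fin n) (b : {l : Fin n // l ∉ Set.range e} → B)
    (l : Fin n) (hl : l ∉ Set.range e) : ext0 e b l = b ⟨l, hl⟩ := by
  simp only [ext0, LinearMap.pi_apply]
  rw [dif_pos hl]
  rfl

/-- Cramer's rule: a combination of the vectors `v` with entries minors. -/
theorem cramer_combination {s : ℕ} (v : Fin s → Fin n → B) (e : Fin s → Fin n) (i₀ : Fin s) :
    ∃ c : Fin s → B, ∀ l, (∑ j, c j • v j) l = minor v (Function.update e i₀ l) := by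
  classical
  let V : Matrix (Fin s) (Fin s) B := Matrix.of fun i j => v j (e i)
  refine ⟨fun j => Matrix.cramer V.transpose (Pi.single j 1) i₀, fun l => ?_⟩
  have h1 : minor v (Function.update e i₀ l) = (V.updateRow i₀ (fun j => v j l)).det := by
    rw [minor]
    congr 1
    ext i j
    rw [Matrix.updateRow_apply]
    by_cases h : i = i₀
    · subst h
      simp
    · simp [h, V]
  rw [h1, ← Matrix.cramer_transpose_apply, LinearMap.pi_apply_eq_sum_univ (Matrix.cramer V.transpose)]
  simp only [Finset.sum_apply, Pi.smul_apply, smul_eq_mul]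
  refine Finset.sum_congr rfl fun j _ => ?_
  have hk : (fun i => if j = i then (1 : B) else 0) = Pi.single j 1 := by
    ext l'
    simp [Pi.single_apply, eq_comm]
  rw [hk, mul_comm]

/-- The bordered minor. -/
theorem minor_cons {s : ℕ} (v : Fin s → Fin n → B) (e : Fin s → Fin n) (w : Fin n → B)
    (hw : ∀ i, w (e i) = 0) (l : Fin n) :
    minor (Fin.cons w v : Fin (s + 1) → Fin n → B) (Fin.cons l e : Fin (s + 1) → Fin n) =
      w l * minor v e := by
  rw [minor, Matrix.det_succ_column_zero, Finset.sum_eq_single 0]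
  · simp only [Fin.val_zero, pow_zero, one_mul, Matrix.of_apply, Fin.cons_zero]
    rfl
  · intro i _ hi
    obtain ⟨j, rfl⟩ := Fin.exists_succ_eq.mpr hi
    simp [hw]
  · simp

/-- Algebraic core of Stacks 0810. -/
theorem exists_free {s : ℕ} (K : Submodule B (Fin n → B)) {G : Type v} [AddCommGroup G] [Module B G]
    (π : (Fin n → B) →ₗ[B] G) (hπ : Function.Surjective π) (d : B) (hd : d ∈ nonZeroDivisors B)
    (hker : ∀ y, π y = 0 ↔ ∃ m : ℕ, d ^ m • y ∈ K) (a x u : B) (k N : ℕ)
    (hx : x ∣ a ^ k * d ^ N)
    (h1 : ∀ w ∈ minors (s + 1) (K : Set (Fin n → B)), a * w = 0)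
    (h2 : ∀ w ∈ minors s (K : Set (Fin n → B)), x ∣ a * w)
    (v : Fin s → Fin n → B) (hv : ∀ j, v j ∈ K) (e : Fin s → Fin n) (h3 : a * minor v e = x * u) :
    ∃ (r : ℕ) (φ : (Fin r → B) →ₗ[B] G), (Function.Injective e → r = n - s) ∧
      (∀ y, ∃ (m : ℕ) (z : Fin r → B), φ z = (a * u) ^ m • y) ∧
      (∀ z, φ z = 0 → ∃ m : ℕ, (a * u) ^ m • z = 0) := by
  classical
  -- the complement
  let I := {l : Fin n // l ∉ Set.range e}
  -- it is enough to find the map on `I → B`
  suffices h : ∃ (φ : (I → B) →ₗ[B] G), (∀ y, ∃ (m : ℕ) (z : I → B), φ z = (a * u) ^ m • y) ∧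
      (∀ z, φ z = 0 → ∃ m : ℕ, (a * u) ^ m • z = 0) by
    obtain ⟨φ, hφ1, hφ2⟩ := h
    let ε : I ≃ Fin (Fintype.card I) := Fintype.equivFin I
    let E : (Fin (Fintype.card I) → B) ≃ₗ[B] (I → B) := LinearEquiv.funCongrLeft B B ε
    refine ⟨Fintype.card I, φ ∘ₗ E.toLinearMap, ?_, ?_, ?_⟩
    · intro he
      have h1 : Fintype.card (Set.range e) = s := by
        rw [Set.card_range_of_injective he, Fintype.card_fin]
      have h2 := Fintype.card_subtype_compl (fun l : Fin n => l ∈ Set.range e)
      rw [Fintype.card_fin] at h2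
      have h3 : Fintype.card {x // x ∈ Set.range e} = s := h1
      rw [h3] at h2
      exact h2
    · intro y
      obtain ⟨m, z, hz⟩ := hφ1 y
      exact ⟨m, E.symm z, by simpa using hz⟩
    · intro z hz
      obtain ⟨m, hm⟩ := hφ2 (E z) (by simpa using hz)
      refine ⟨m, ?_⟩
      apply E.injective
      rw [map_smul, map_zero, hm]
  refine ⟨π ∘ₗ ext0 e, ?_, ?_⟩
  · -- generation
    -- first the basis vectors
    have key : ∀ l : Fin n, ∃ (m : ℕ) (z : I → B),
        π (ext0 e z) = (a * u) ^ m • π (Pi.single l 1) := by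
      intro l
      by_cases hl : l ∈ Set.range e
      · obtain ⟨i₀, rfl⟩ := hl
        obtain ⟨c, hc⟩ := cramer_combination v e i₀
        have hmem : ∑ j, c j • v j ∈ K :=
          Submodule.sum_mem _ fun j _ => Submodule.smul_mem _ _ (hv j)
        have hdvd : ∀ l, ∃ z, a * (∑ j, c j • v j) l = x * z := by
          intro l
          rw [hc]
          exact h2 _ ⟨v, _, hv, rfl⟩
        choose z hz using hdvd
        -- the vector z', with x * z' = a * y
        by_cases hinj : Function.Injective e
        · let z' : Fin n → B := u • Pi.single (e i₀) 1 + ext0 e (fun l => z l.1)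
          have hxz : x • z' = a • ∑ j, c j • v j := by
            ext l
            rw [Pi.smul_apply, Pi.smul_apply, smul_eq_mul, smul_eq_mul]
            by_cases hl : l ∈ Set.range e
            · obtain ⟨i, rfl⟩ := hl
              simp only [z', Pi.add_apply, Pi.smul_apply, ext0_of_mem, add_zero, smul_eq_mul]
              rw [hc]
              by_cases hi : i = i₀
              · subst hi
                rw [Function.update_eq_self, h3]
                simp
              · rw [Pi.single_eq_of_ne (fun h => hi (hinj h)), mul_zero, mul_zero]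
                have : minor v (Function.update e i₀ (e i)) = 0 := by
                  refine Matrix.det_zero_of_row_eq (i := i) (j := i₀) hi ?_
                  ext j
                  simp [hi]
                rw [this, mul_zero]
            · have hne : l ≠ e i₀ := fun h => hl ⟨i₀, h.symm⟩
              simp only [z', Pi.add_apply, Pi.smul_apply, ext0_of_not_mem e _ l hl, smul_eq_mul]
              rw [Pi.single_eq_of_ne hne, mul_zero, zero_add]
              exact (hz l).symm
          have hxK : x • z' ∈ K := by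
            rw [hxz]
            exact Submodule.smul_mem _ _ hmem
          obtain ⟨t, ht⟩ := hx
          have hπz : a ^ k • π z' = 0 := by
            rw [← map_smul, hker]
            refine ⟨N, ?_⟩
            rw [smul_smul, mul_comm, ht, mul_comm, mul_smul]
            exact Submodule.smul_mem _ _ hxK
          refine ⟨k + 1, (-(a ^ (k + 1) * u ^ k)) • (fun l => z l.1), ?_⟩
          have h5 : π (ext0 e (fun l => z l.1)) = π z' - u • π (Pi.single (e i₀) 1) := by
            simp only [z', map_add, map_smul]
            abel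
          rw [map_smul, map_smul, h5, smul_sub]
          have h6 : (-(a ^ (k + 1) * u ^ k)) • π z' = 0 := by
            have : -(a ^ (k + 1) * u ^ k) = (-(a * u ^ k)) * a ^ k := by ring
            rw [this, mul_smul, hπz, smul_zero]
          rw [h6, zero_sub, neg_smul, neg_neg, smul_smul]
          congr 1
          ring
        · -- then `a * u` is nilpotent
          have h0 : minor v e = 0 := by
            rw [Function.not_injective_iff] at hinj
            obtain ⟨i, j, hij, hne⟩ := hinj
            refine Matrix.det_zero_of_row_eq hne ?_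
            ext l
            simp [hij]
          rw [h0, mul_zero] at h3
          obtain ⟨t, ht⟩ := hx
          have h6 : d ^ N * (a ^ k * u) = 0 := by
            calc d ^ N * (a ^ k * u) = (a ^ k * d ^ N) * u := by ring
              _ = t * (x * u) := by rw [ht]; ring
              _ = 0 := by rw [← h3, mul_zero]
          have h7 : a ^ k * u = 0 := (mul_left_mem_nonZeroDivisors_eq_zero_iff (pow_mem hd N)).mp h6
          refine ⟨k + 1, 0, ?_⟩
          have h8 : (a * u) ^ (k + 1) = 0 := by
            calc (a * u) ^ (k + 1) = (a * u ^ k) * (a ^ k * u) := by ring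
              _ = 0 := by rw [h7, mul_zero]
          rw [h8, zero_smul, map_zero, map_zero]
      · refine ⟨0, Pi.single ⟨l, hl⟩ 1, ?_⟩
        rw [pow_zero, one_smul]
        congr 1
        ext l'
        by_cases hl' : l' ∈ Set.range e
        · obtain ⟨i, rfl⟩ := hl'
          rw [ext0_of_mem, Pi.single_eq_of_ne (fun h => hl ⟨i, h⟩)]
        · rw [ext0_of_not_mem e _ l' hl']
          by_cases h : l' = l
          · subst h
            rw [Pi.single_eq_same, Pi.single_eq_same]
          · rw [Pi.single_eq_of_ne h, Pi.single_eq_of_ne (fun h' => h (congrArg Subtype.val h'))]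
    choose m z hmz using key
    intro y'
    obtain ⟨y, rfl⟩ := hπ y'
    let M := ∑ l, m l
    refine ⟨M, ∑ l, ((a * u) ^ (M - m l) * y l) • z l, ?_⟩
    rw [LinearMap.comp_apply, map_sum, map_sum]
    have hy : y = ∑ l, y l • (Pi.single l 1 : Fin n → B) := by
      ext l
      rw [Finset.sum_apply, Finset.sum_eq_single l]
      · simp
      · intro l' _ hl'
        simp [hl'.symm]
      · simp
    conv_rhs => rw [hy, map_sum, Finset.smul_sum]
    refine Finset.sum_congr rfl fun l _ => ?_
    have hle : m l ≤ M := Finset.single_le_sum (f := m) (fun _ _ => Nat.zero_le _) (Finset.mem_univ l)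
    rw [map_smul, map_smul, hmz, smul_smul, map_smul, smul_smul]
    congr 1
    calc (a * u) ^ (M - m l) * y l * (a * u) ^ m l
        = ((a * u) ^ (M - m l) * (a * u) ^ m l) * y l := by ring
      _ = (a * u) ^ M * y l := by rw [← pow_add, Nat.sub_add_cancel hle]
  · -- relations
    intro b hb
    rw [LinearMap.comp_apply, hker] at hb
    obtain ⟨m, hm⟩ := hb
    refine ⟨k + 1, ?_⟩
    ext ⟨l, hl⟩
    have hmemK : ∀ j, (Fin.cons (d ^ m • ext0 e b) v : Fin (s + 1) → Fin n → B) j ∈
        (K : Set (Fin n → B)) := by
      intro j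
      refine Fin.cases ?_ (fun j => ?_) j
      · rw [Fin.cons_zero]
        exact hm
      · rw [Fin.cons_succ]
        exact hv j
    have h4 := h1 (minor (Fin.cons (d ^ m • ext0 e b) v : Fin (s + 1) → Fin n → B)
      (Fin.cons l e : Fin (s + 1) → Fin n)) ⟨_, _, hmemK, rfl⟩
    rw [minor_cons v e _ (fun i => by rw [Pi.smul_apply, ext0_of_mem, smul_zero]) l,
      Pi.smul_apply, ext0_of_not_mem e b l hl, smul_eq_mul] at h4
    obtain ⟨t, ht⟩ := hx
    have h5 : d ^ (m + N) * (a ^ k * u * b ⟨l, hl⟩) = 0 := by
      calc d ^ (m + N) * (a ^ k * u * b ⟨l, hl⟩)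
          = (a ^ k * d ^ N) * u * (d ^ m * b ⟨l, hl⟩) := by rw [pow_add]; ring
        _ = t * (d ^ m * b ⟨l, hl⟩ * (x * u)) := by rw [ht]; ring
        _ = t * (a * (d ^ m * b ⟨l, hl⟩ * minor v e)) := by rw [← h3]; ring
        _ = 0 := by rw [h4, mul_zero]
    have h6 : a ^ k * u * b ⟨l, hl⟩ = 0 :=
      (mul_left_mem_nonZeroDivisors_eq_zero_iff (pow_mem hd _)).mp h5
    rw [Pi.smul_apply, smul_eq_mul, Pi.zero_apply]
    calc (a * u) ^ (k + 1) * b ⟨l, hl⟩ = (a * u ^ k) * (a ^ k * u * b ⟨l, hl⟩) := by ring
      _ = 0 := by rw [h6, mul_zero]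

end Groth.Agent.Flat2C.MinorFree
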