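import Groth.Prelude.Def_FlatCA
import Groth.Agent.Flat2C.GenFreeIdem
import Groth.Agent.Flat2C.GenFreeTest
import Groth.Agent.Flat2C.GenFreeRel
import Groth.Agent.Flat2C.MinorFree
import Groth.Agent.Flat2B.ProjGeomInt
import Mathlib.RingTheory.Flat.Basic
import Mathlib.RingTheory.Flat.TorsionFree
import Mathlib.RingTheory.FinitePresentation
import Mathlib.Algebra.Module.FinitePresentation
import Mathlib.Algebra.Module.LocalizedModule.Basic
import Mathlib.RingTheory.Localization.Away.Basic
import Mathlib.RingTheory.IsTensorProduct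

/-!
# Generic freeness of strict transforms along fibres, ring level, Cartier-test form (0810/0811)
-/

set_option autoImplicit false
universe u

namespace Groth.Agent.Flat2C.GenFreeRing

open Groth.Agent.Flat2C.Minors Groth.Agent.Flat2C.Content Groth.Agent.Flat2C.GenericPoint
  Groth.Agent.Flat2C.MinorGeneric Groth.Agent.Flat2C.GenFreeIdem Groth.Agent.Flat2C.GenFreeTest
  Groth.Agent.Flat2C.GenFreeRel

/-- The centre: `J = I₀ ∏ (c_s + I₀^m)`. -/
theorem radical_centre {A : Type u} [CommRing A] (I₀ : Ideal A) (c : ℕ → Ideal A) (n m : ℕ) :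
    (I₀ * ∏ s ∈ Finset.range (n + 1), (c s ⊔ I₀ ^ m)).radical = I₀.radical := by
  apply le_antisymm
  · exact Ideal.radical_mono Ideal.mul_le_left
  · rw [← Ideal.radical_idem (I₀ * _)]
    refine Ideal.radical_mono fun x hx => ?_
    refine ⟨1 + m * (n + 1), ?_⟩
    rw [pow_add, pow_one]
    refine Ideal.mul_mem_mul hx ?_
    have h : x ^ (m * (n + 1)) = ∏ s ∈ Finset.range (n + 1), x ^ m := by
      rw [Finset.prod_const, Finset.card_range, pow_mul]
    rw [h]
    exact Ideal.prod_mem_prod fun s _ => Ideal.mem_sup_right (Ideal.pow_mem_pow hx m)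

theorem fg_centre {A : Type u} [CommRing A] (I₀ : Ideal A) (hI₀ : I₀.FG) (c : ℕ → Ideal A)
    (hc : ∀ s, (c s).FG) (n m : ℕ) :
    (I₀ * ∏ s ∈ Finset.range (n + 1), (c s ⊔ I₀ ^ m)).FG := by
  refine Submodule.FG.mul hI₀ ?_
  have h : ∀ T : Finset ℕ, (∏ s ∈ T, (c s ⊔ I₀ ^ m)).FG := by
    classical
    intro T
    induction T using Finset.induction_on with
    | empty =>
      rw [Finset.prod_empty, Ideal.one_eq_top]
      exact ⟨{1}, by simp [Ideal.span_singleton_one]⟩
    | insert a T ha ih =>
      rw [Finset.prod_insert ha]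
      exact Submodule.FG.mul (Submodule.FG.sup (hc a) (hI₀.pow)) ih
  exact h _

section

variable {B S' : Type u} [CommRing B] [CommRing S'] [Algebra B S'] {n : ℕ}

/-- The submodule generated by the images of the relations. -/
theorem span_minors_coordMap (s : ℕ) (W : Set (Fin n → B)) :
    Ideal.span (minors s (Submodule.span S' (coordMap B S' n '' W) : Set (Fin n → S'))) =
      Ideal.span (algebraMap B S' '' minors s W) := by
  rw [span_minors_span, minors_coordMap]

theorem coordMap_mem_span (W : Set (Fin n → B)) (y : Fin n → B) (hy : y ∈ Submodule.span B W) :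
    coordMap B S' n y ∈ Submodule.span S' (coordMap B S' n '' W) := by
  induction hy using Submodule.span_induction with
  | mem x hx => exact Submodule.subset_span ⟨x, hx, rfl⟩
  | zero => rw [map_zero]; exact zero_mem _
  | add x y _ _ hx hy => rw [map_add]; exact add_mem hx hy
  | smul a x _ hx =>
    rw [map_smul, ← algebraMap_smul S' a]
    exact Submodule.smul_mem _ _ hx

/-- An element of `(I S')^M` kills what `I^M` kills modulo the relations. -/
theorem smul_mem_span (W : Set (Fin n → B)) (I : Ideal B) (k : Fin n → B)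
    (hk : ∀ y ∈ I, y • k ∈ Submodule.span B W) (t : S') (ht : t ∈ I.map (algebraMap B S')) :
    t • coordMap B S' n k ∈ Submodule.span S' (coordMap B S' n '' W) := by
  induction ht using Submodule.span_induction with
  | mem x hx =>
    obtain ⟨y, hy, rfl⟩ := hx
    rw [algebraMap_smul, ← map_smul]
    exact coordMap_mem_span W _ (hk y hy)
  | zero => rw [zero_smul]; exact zero_mem _
  | add x y _ _ hx hy => rw [add_smul]; exact add_mem hx hy
  | smul a x _ hx =>
    rw [smul_eq_mul, mul_smul]
    exact Submodule.smul_mem _ _ hx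

/-- All relations of the base change become relations in the span of `W` after multiplication
with a power of an element of `I S'`. -/
theorem exists_pow_smul_mem {N : Type u} [AddCommGroup N] [Module B N] (f : (Fin n → B) →ₗ[B] N)
    (W : Set (Fin n → B)) (I : Ideal B)
    (hWM : ∀ k, f k = 0 → ∃ M : ℕ, ∀ y ∈ I ^ M, y • k ∈ Submodule.span B W) (t : S')
    (ht : t ∈ I.map (algebraMap B S')) (y : Fin n → S')
    (hy : y ∈ Submodule.span S' (coordMap B S' n '' {k | f k = 0})) :
    ∃ M : ℕ, t ^ M • y ∈ Submodule.span S' (coordMap B S' n '' W) := by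
  induction hy using Submodule.span_induction with
  | mem x hx =>
    obtain ⟨k, hk, rfl⟩ := hx
    obtain ⟨M, hM⟩ := hWM k hk
    refine ⟨M, smul_mem_span W (I ^ M) k hM _ ?_⟩
    rw [Ideal.map_pow]
    exact Ideal.pow_mem_pow ht M
  | zero => exact ⟨0, by rw [smul_zero]; exact zero_mem _⟩
  | add x y _ _ hx hy =>
    obtain ⟨M₁, h₁⟩ := hx
    obtain ⟨M₂, h₂⟩ := hy
    refine ⟨M₁ + M₂, ?_⟩
    rw [smul_add]
    refine add_mem ?_ ?_
    · rw [pow_add, mul_comm, mul_smul]
      exact Submodule.smul_mem _ _ h₁
    · rw [pow_add, mul_smul]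
      exact Submodule.smul_mem _ _ h₂
  | smul a x _ hx =>
    obtain ⟨M, h⟩ := hx
    refine ⟨M, ?_⟩
    rw [smul_comm]
    exact Submodule.smul_mem _ _ h

end

/-- Uniform exponent of idempotency of the contents. -/
theorem exists_uniform {A B : Type u} [CommRing A] [CommRing B] [Algebra A B]
    [Module.Flat A B] [Module.Projective A B] (hgi : FlatCA.GeomIntegralFibres A B) {n : ℕ}
    (N : Type u) [AddCommGroup N] [Module A N] [Module B N] [IsScalarTower A B N]
    (f : (Fin n → B) →ₗ[B] N) (hf : Function.Surjective f) (W : Set (Fin n → B)) (hWfin : W.Finite)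
    (hW : ∀ w ∈ W, f w = 0) (I₀ : Ideal A) (hI₀ : I₀.FG)
    (hW' : ∀ (p : Ideal A) [p.IsPrime], ¬ I₀ ≤ p → ∀ k, f k = 0 →
      ∃ a ∉ p, algebraMap A B a • k ∈ Submodule.span B W)
    (hflat : ∀ (p : Ideal A) [p.IsPrime] [(p.map (algebraMap A B)).IsPrime], ¬ I₀ ≤ p →
      FlatCA.FlatAt A (p.map (algebraMap A B)) N) :
    ∃ M : ℕ, ∀ s, I₀ ^ M * content A (minors s W) ≤
      content A (minors s W) * content A (minors s W) := by
  have key : ∀ s : ℕ, ∃ M : ℕ, I₀ ^ M * content A (minors s W) ≤
      content A (minors s W) * content A (minors s W) := by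
    intro s
    refine exists_pow_mul_le I₀ hI₀ _ ?_
    intro p hp hIp
    have := isPrime_map hgi p
    exact exists_mul_mem hgi N f hf W hWfin hW p (hW' p hIp) (hflat p hIp) s
  choose M hM using key
  refine ⟨(Finset.range (n + 1)).sup M, fun s => ?_⟩
  by_cases hs : s ∈ Finset.range (n + 1)
  · exact (Ideal.mul_mono_left (Ideal.pow_le_pow_right (Finset.le_sup hs))).trans (hM s)
  · have h0 : content A (minors s W) = ⊥ := by
      rw [← le_bot_iff, content_le_iff]
      rintro _ ⟨v, e, _, rfl⟩
      rw [minor_eq_zero_of_lt (by simpa using hs)]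
      exact zero_mem _
    rw [h0, Ideal.mul_bot]
    exact bot_le

/-- **0810/0811, ring level.**  Let `B` be a flat finitely presented `A`-algebra with geometrically
integral fibres, `N` a finite `B`-module and `I₀` a finitely generated ideal of `A` such that
`N_a` is finitely presented over `B_a` for every `a ∈ I₀` and `N` is flat over `A` at the generic
point `pB` of the fibre over every prime `p` not containing `I₀`. Then there is a finitely generated
ideal `J` with the same radical as `I₀` such that for every `A`-algebra `R` in which `J` becomes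
principal generated by a nonzerodivisor `d`, the quotient `G` of `N' = S' ⊗_B N` (`S' = R ⊗_A B`,
any models) by its `d`-power torsion is free of finite rank near the generic point of each fibre:
for each prime `p` of `R` there is `g ∉ pS'` and a map `ψ` from a finite free module to `G`
which becomes bijective after inverting `g`. -/
theorem genFree_ring {A B : Type u} [CommRing A] [CommRing B] [Algebra A B]
    [Algebra.FinitePresentation A B] [Module.Flat A B] (hgi : FlatCA.GeomIntegralFibres A B)
    (N : Type u) [AddCommGroup N] [Module A N] [Module B N] [IsScalarTower A B N]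
    [Module.Finite B N] (I₀ : Ideal A) (hI₀ : I₀.FG)
    (hfp : ∀ a ∈ I₀, Module.FinitePresentation (Localization.Away (algebraMap A B a))
      (LocalizedModule (Submonoid.powers (algebraMap A B a)) N))
    (hflat : ∀ (p : Ideal A) [p.IsPrime] [(p.map (algebraMap A B)).IsPrime], ¬ I₀ ≤ p →
      FlatCA.FlatAt A (p.map (algebraMap A B)) N) :
    ∃ J : Ideal A, J.FG ∧ J.radical = I₀.radical ∧
      ∀ (R S' N' G : Type u) [CommRing R] [CommRing S'] [Algebra A R] [Algebra R S']
        [Algebra B S'] [Algebra A S'] [IsScalarTower A R S'] [IsScalarTower A B S']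
        [Algebra.IsPushout A B R S']
        [AddCommGroup N'] [Module S' N'] [Module B N'] [Module R N'] [IsScalarTower B S' N']
        [IsScalarTower R S' N'] (φ : N →ₗ[B] N'), IsBaseChange S' φ →
        ∀ [AddCommGroup G] [Module S' G] (π : N' →ₗ[S'] G) (d : R), d ∈ nonZeroDivisors R →
          J.map (algebraMap A R) = Ideal.span {d} → Function.Surjective π →
          (∀ m : N', π m = 0 ↔ ∃ n : ℕ, d ^ n • m = 0) →
          ∀ (p : Ideal R) [p.IsPrime], ∃ g : S', g ∉ p.map (algebraMap R S') ∧
            ∃ (r : ℕ) (ψ : (Fin r → S') →ₗ[S'] G),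
              (∀ y : G, ∃ (m : ℕ) (z : Fin r → S'), ψ z = g ^ m • y) ∧
              (∀ z : Fin r → S', ψ z = 0 → ∃ m : ℕ, g ^ m • z = 0) := by
  have hproj : Module.Projective A B :=
    Groth.Agent.Flat2B.ProjGeomInt.projective_of_geomIntegralFibres A B hgi
  obtain ⟨n, f, hf⟩ := Module.Finite.exists_fin' B N
  obtain ⟨W, hWfin, hW, hWM, hWp⟩ := exists_relations f hf I₀ hI₀ hfp
  obtain ⟨M, hM⟩ := exists_uniform hgi N f hf W hWfin hW I₀ hI₀ hWp hflat
  refine ⟨I₀ * ∏ s ∈ Finset.range (n + 1), (content A (minors s W) ⊔ I₀ ^ (M + 1)),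
    fg_centre I₀ hI₀ _ (fun s => content_fg (finite_minors s hWfin)) n (M + 1),
    radical_centre I₀ _ n (M + 1), ?_⟩
  intro R S' N' G _ _ _ _ _ _ _ _ hpush _ _ _ _ _ _ φ hφ _ _ π d hd hJ hπ hker p hp
  have hpush' : Algebra.IsPushout A R B S' := Algebra.IsPushout.symm hpush
  have hgi' : FlatCA.GeomIntegralFibres R S' :=
    Groth.Agent.Flat2A.GeomInt.baseChange hgi R S'
  have hflatS : Module.Flat R S' := by
    have : IsBaseChange R (IsScalarTower.toAlgHom A B S').toLinearMap := hpush'.out
    exact Module.Flat.isBaseChange A R B S' this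
  have hd' : algebraMap R S' d ∈ nonZeroDivisors S' := by
    rw [mem_nonZeroDivisors_iff_right]
    intro y hy
    have h1 := Module.Flat.isSMulRegular_of_nonZeroDivisors (M := S') hd
    apply h1
    simp only [smul_zero]
    rw [Algebra.smul_def, mul_comm, hy]
  obtain ⟨s, a, x, v, e, z, hv, hap, hzp, hxd, h1, h2, h3⟩ :=
    exists_minor hgi W hWfin I₀ M (M + 1) (Nat.lt_succ_self M) hM R S' d hd hJ p
  -- the presentation of `G`
  let K : Submodule S' (Fin n → S') := Submodule.span S' (coordMap B S' n '' W)
  let P : (Fin n → S') →ₗ[S'] G := π ∘ₗ bc (S' := S') f φ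
  have hP : Function.Surjective P := hπ.comp (bc_surjective f hf φ hφ)
  have hsmul : ∀ (k : ℕ) (m : N'), (algebraMap R S' d) ^ k • m = d ^ k • m := by
    intro k m
    rw [← map_pow, algebraMap_smul]
  have hdI : algebraMap R S' d ∈ (I₀.map (algebraMap A B)).map (algebraMap B S') := by
    have h4 : d ∈ I₀.map (algebraMap A R) := by
      have h5 : d ∈ (I₀ * ∏ s ∈ Finset.range (n + 1),
          (content A (minors s W) ⊔ I₀ ^ (M + 1))).map (algebraMap A R) := by
        rw [hJ]
        exact Ideal.mem_span_singleton_self d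
      exact Ideal.map_mono Ideal.mul_le_left h5
    have h5 := Ideal.mem_map_of_mem (algebraMap R S') h4
    rw [Ideal.map_map, ← IsScalarTower.algebraMap_eq] at h5
    rw [Ideal.map_map, ← IsScalarTower.algebraMap_eq]
    exact h5
  have hKle : ∀ y ∈ K, bc (S' := S') f φ y = 0 := by
    intro y hy
    have : K ≤ LinearMap.ker (bc (S' := S') f φ) := by
      refine Submodule.span_le.mpr ?_
      rintro _ ⟨w, hw, rfl⟩
      rw [SetLike.mem_coe, LinearMap.mem_ker, bc_coordMap, hW w hw, map_zero]
    exact this hy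
  have hPker : ∀ y, P y = 0 ↔ ∃ m : ℕ, (algebraMap R S' d) ^ m • y ∈ K := by
    intro y
    constructor
    · intro hy
      obtain ⟨m, hm⟩ := (hker _).mp hy
      rw [← hsmul, ← map_smul] at hm
      have h4 := mem_span_of_bc_eq_zero f hf φ hφ _ hm
      obtain ⟨m', hm'⟩ := exists_pow_smul_mem f W (I₀.map (algebraMap A B)) hWM _ hdI _ h4
      refine ⟨m' + m, ?_⟩
      rw [pow_add, mul_smul]
      exact hm'
    · rintro ⟨m, hm⟩
      refine (hker _).mpr ⟨m, ?_⟩
      rw [← hsmul, ← map_smul]
      exact hKle _ hm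
  have hspan : ∀ (s : ℕ) (w : S'), w ∈ minors s (K : Set (Fin n → S')) →
      w ∈ Ideal.span (algebraMap B S' '' minors s W) := by
    intro s w hw
    rw [← span_minors_coordMap]
    exact Ideal.subset_span hw
  have hK1 : ∀ w ∈ minors (s + 1) (K : Set (Fin n → S')), algebraMap R S' a * w = 0 := by
    intro w hw
    have h4 : Ideal.span (algebraMap B S' '' minors (s + 1) W) ≤
        LinearMap.ker (LinearMap.mulLeft S' (algebraMap R S' a)) := by
      refine Ideal.span_le.mpr ?_
      rintro _ ⟨y, hy, rfl⟩
      rw [SetLike.mem_coe, LinearMap.mem_ker, LinearMap.mulLeft_apply, ← Algebra.smul_def]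
      exact h1 y hy
    exact h4 (hspan _ _ hw)
  have hK2 : ∀ w ∈ minors s (K : Set (Fin n → S')), algebraMap R S' x ∣ algebraMap R S' a * w := by
    intro w hw
    have h4 : Ideal.span (algebraMap B S' '' minors s W) ≤
        Submodule.comap (LinearMap.mulLeft S' (algebraMap R S' a))
          (Ideal.span {algebraMap R S' x}) := by
      refine Ideal.span_le.mpr ?_
      rintro _ ⟨y, hy, rfl⟩
      obtain ⟨y', hy'⟩ := h2 y hy
      rw [SetLike.mem_coe, Submodule.mem_comap, LinearMap.mulLeft_apply, ← Algebra.smul_def, hy',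
        Algebra.smul_def]
      exact Ideal.mul_mem_right _ _ (Ideal.mem_span_singleton_self _)
    exact Ideal.mem_span_singleton.mp (h4 (hspan _ _ hw))
  obtain ⟨r, ψ, -, hψ1, hψ2⟩ := MinorFree.exists_free K P hP (algebraMap R S' d) hd' hPker
    (algebraMap R S' a) (algebraMap R S' x) z 1 1 (by
      rw [pow_one, pow_one, ← map_mul]
      exact map_dvd _ hxd) hK1 hK2 (fun j => coordMap B S' n (v j))
      (fun j => Submodule.subset_span ⟨v j, hv j, rfl⟩) e (by
      rw [← Algebra.smul_def, ← Algebra.smul_def, ← h3, minor_map]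
      rfl)
  refine ⟨algebraMap R S' a * z, ?_, r, ψ, hψ1, hψ2⟩
  intro hmem
  have := isPrime_map hgi' p
  rcases this.mem_or_mem hmem with h | h
  · apply hap
    rw [← comap_map hgi' p]
    exact h
  · exact hzp h

end Groth.Agent.Flat2C.GenFreeRing
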