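import Mathlib.LinearAlgebra.Matrix.Determinant.Basic
import Mathlib.LinearAlgebra.Multilinear.Basic
import Mathlib.RingTheory.LocalRing.Module
import Mathlib.LinearAlgebra.Dimension.Free
import Mathlib.LinearAlgebra.FreeModule.StrongRankCondition
import Mathlib.RingTheory.Ideal.Maps

/-!
# Minors of submodules of `Bⁿ`

`minors s W` is the set of `s × s` minors of vectors in `W ⊆ Bⁿ`.

* `mem_span_minors_of_span`: minors of vectors in the span of `W` are combinations of minors of `W`.
* `finite_minors`: finitely many minors for finite `W`.
* `minor_map`: compatibility with ring homomorphisms.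
* `all_zero_or_exists_isUnit`: over a local ring, if `Lⁿ/K` is free then all `s`-minors of `K` vanish
  or one of them is a unit.
-/

set_option autoImplicit false
universe u v

namespace Groth.Agent.Flat2C.Minors

variable {B : Type u} [CommRing B] {n : ℕ}

/-- The `s`-minor of the vectors `v` in the rows `e`. -/
def minor {s : ℕ} (v : Fin s → Fin n → B) (e : Fin s → Fin n) : B :=
  (Matrix.of fun i j => v j (e i)).det

/-- The set of `s`-minors of vectors in `W`. -/
def minors (s : ℕ) (W : Set (Fin n → B)) : Set B :=
  {w | ∃ (v : Fin s → Fin n → B) (e : Fin s → Fin n), (∀ j, v j ∈ W) ∧ w = minor v e}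

theorem minors_mono {s : ℕ} {W W' : Set (Fin n → B)} (h : W ⊆ W') : minors s W ⊆ minors s W' := by
  rintro w ⟨v, e, hv, rfl⟩
  exact ⟨v, e, fun j => h (hv j), rfl⟩

/-- The minor as an alternating map of the vectors. -/
noncomputable def minorAlt (s : ℕ) (e : Fin s → Fin n) : (Fin n → B) [⋀^Fin s]→ₗ[B] B :=
  Matrix.detRowAlternating.compLinearMap (LinearMap.funLeft B B e)

theorem minorAlt_apply {s : ℕ} (v : Fin s → Fin n → B) (e : Fin s → Fin n) :
    minorAlt s e v = minor v e := by
  rw [minor, ← Matrix.det_transpose]
  rfl

theorem minor_zero (v : Fin 0 → Fin n → B) (e : Fin 0 → Fin n) : minor v e = 1 := by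
  simp [minor]

theorem one_mem_minors_zero (W : Set (Fin n → B)) : (1 : B) ∈ minors 0 W :=
  ⟨Fin.elim0, Fin.elim0, fun j => j.elim0, (minor_zero _ _).symm⟩

/-- Minors in too many rows vanish. -/
theorem minor_eq_zero_of_lt {s : ℕ} (h : n < s) (v : Fin s → Fin n → B) (e : Fin s → Fin n) :
    minor v e = 0 := by
  obtain ⟨i, j, hij, he⟩ := Fintype.exists_ne_map_eq_of_card_lt e (by simpa using h)
  refine Matrix.det_zero_of_row_eq hij ?_
  ext k
  simp [he]

theorem minor_mem_span_of_span {s : ℕ} (W : Set (Fin n → B)) (v : Fin s → Fin n → B)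
    (e : Fin s → Fin n) (hv : ∀ j, v j ∈ Submodule.span B W) :
    minor v e ∈ Ideal.span (minors s W) := by
  classical
  have key : ∀ (T : Finset (Fin s)) (v : Fin s → Fin n → B),
      (∀ j ∈ T, v j ∈ Submodule.span B W) → (∀ j ∉ T, v j ∈ W) →
        minor v e ∈ Ideal.span (minors s W) := by
    intro T
    induction T using Finset.induction_on with
    | empty =>
      intro v _ h
      exact Ideal.subset_span ⟨v, e, fun j => h j (by simp), rfl⟩
    | insert j₀ T hj₀ ih =>
      intro v h1 h2
      have h3 : ∀ x ∈ Submodule.span B W,
          minor (Function.update v j₀ x) e ∈ Ideal.span (minors s W) := by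
        intro x hx
        induction hx using Submodule.span_induction with
        | mem x hx =>
          refine ih _ ?_ ?_
          · intro j hj
            have : j ≠ j₀ := fun h => hj₀ (h ▸ hj)
            rw [Function.update_of_ne this]
            exact h1 j (Finset.mem_insert_of_mem hj)
          · intro j hj
            by_cases hjj : j = j₀
            · subst hjj
              rw [Function.update_self]
              exact hx
            · rw [Function.update_of_ne hjj]
              exact h2 j (by simp [hjj, hj])
        | zero =>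
          rw [← minorAlt_apply, AlternatingMap.map_update_zero]
          exact zero_mem _
        | add x y _ _ hx hy =>
          rw [← minorAlt_apply, AlternatingMap.map_update_add, minorAlt_apply, minorAlt_apply]
          exact add_mem hx hy
        | smul a x _ hx =>
          rw [← minorAlt_apply, AlternatingMap.map_update_smul, minorAlt_apply]
          exact Ideal.mul_mem_left _ _ hx
      have h4 := h3 (v j₀) (h1 j₀ (Finset.mem_insert_self _ _))
      rwa [Function.update_eq_self] at h4
  exact key Finset.univ v (fun j _ => hv j) (fun j hj => absurd (Finset.mem_univ j) hj)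

theorem span_minors_span (s : ℕ) (W : Set (Fin n → B)) :
    Ideal.span (minors s (Submodule.span B W : Set (Fin n → B))) = Ideal.span (minors s W) := by
  refine le_antisymm (Ideal.span_le.mpr ?_) (Ideal.span_mono (minors_mono Submodule.subset_span))
  rintro w ⟨v, e, hv, rfl⟩
  exact minor_mem_span_of_span W v e hv

theorem finite_minors (s : ℕ) {W : Set (Fin n → B)} (hW : W.Finite) : (minors s W).Finite := by
  have : Finite W := hW
  refine (Set.finite_range fun x : (Fin s → W) × (Fin s → Fin n) =>
    minor (fun j => (x.1 j : Fin n → B)) x.2).subset ?_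
  rintro w ⟨v, e, hv, rfl⟩
  exact ⟨(fun j => ⟨v j, hv j⟩, e), rfl⟩

theorem minor_map {B' : Type v} [CommRing B'] (φ : B →+* B') {s : ℕ} (v : Fin s → Fin n → B)
    (e : Fin s → Fin n) : φ (minor v e) = minor (fun j i => φ (v j i)) e := by
  rw [minor, RingHom.map_det]
  rfl

/-- Minors of the images under a linear endomorphism. -/
theorem minor_linearMap {s m : ℕ} (g : (Fin n → B) →ₗ[B] (Fin m → B)) (v : Fin s → Fin n → B)
    (e : Fin s → Fin m) :
    minor (fun j => g (v j)) e =
      ∑ r : Fin s → Fin n, (∏ i, g (Pi.single (r i) 1) (e i)) * minor v r := by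
  classical
  have hg : ∀ (x : Fin n → B) (l : Fin m), g x l = ∑ k, g (Pi.single k 1) l * x k := by
    intro x l
    conv_lhs => rw [LinearMap.pi_apply_eq_sum_univ g x]
    simp only [Finset.sum_apply, Pi.smul_apply, smul_eq_mul]
    refine Finset.sum_congr rfl fun k _ => ?_
    have hk : (fun j => if k = j then (1 : B) else 0) = Pi.single k 1 := by
      ext l'
      simp [Pi.single_apply, eq_comm]
    rw [mul_comm, hk]
  have h1 : minor (fun j => g (v j)) e = Matrix.detRowAlternating
      (fun i => ∑ k, (g (Pi.single k 1) (e i)) • (fun j => v j k)) := by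
    rw [minor]
    congr 1
    ext i j
    simp only [Matrix.of_apply, Finset.sum_apply, Pi.smul_apply, smul_eq_mul]
    exact hg _ _
  rw [h1]
  have h2 := MultilinearMap.map_sum (Matrix.detRowAlternating (n := Fin s) (R := B)).toMultilinearMap
    (α := fun _ => Fin n) (fun i k => (g (Pi.single k 1) (e i)) • (fun j => v j k))
  refine h2.trans ?_
  refine Finset.sum_congr rfl fun r _ => ?_
  have h3 := MultilinearMap.map_smul_univ (Matrix.detRowAlternating (n := Fin s) (R := B)).toMultilinearMap
    (fun i => g (Pi.single (r i) 1) (e i)) (fun i j => v j (r i))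
  exact h3

theorem minor_linearMap_mem {s m : ℕ} (g : (Fin n → B) →ₗ[B] (Fin m → B)) (W : Set (Fin n → B))
    (v : Fin s → Fin n → B) (hv : ∀ j, v j ∈ W) (e : Fin s → Fin m) :
    minor (fun j => g (v j)) e ∈ Ideal.span (minors s W) := by
  rw [minor_linearMap]
  refine Ideal.sum_mem _ fun r _ => Ideal.mul_mem_left _ _ (Ideal.subset_span ⟨v, r, hv, rfl⟩)

/-- Over a local ring, if the quotient by `K` is free then the ideals of minors of `K` are trivial. -/
theorem all_zero_or_exists_isUnit {L : Type u} [CommRing L] [IsLocalRing L] {n : ℕ}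
    (K : Submodule L (Fin n → L)) [Module.Free L ((Fin n → L) ⧸ K)] (s : ℕ) :
    (∀ w ∈ minors s (K : Set (Fin n → L)), w = 0) ∨
      ∃ w ∈ minors s (K : Set (Fin n → L)), IsUnit w := by
  classical
  obtain ⟨σ, hσ⟩ := Module.projective_lifting_property K.mkQ LinearMap.id K.mkQ_surjective
  -- the retraction
  let ρ : (Fin n → L) →ₗ[L] K := LinearMap.codRestrict K (LinearMap.id - σ ∘ₗ K.mkQ) (by
    intro x
    rw [← Submodule.Quotient.mk_eq_zero, ← Submodule.mkQ_apply]
    have := LinearMap.congr_fun hσ (K.mkQ x)
    simp only [LinearMap.comp_apply, LinearMap.id_apply] at this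
    simp only [LinearMap.sub_apply, LinearMap.id_apply, LinearMap.comp_apply, map_sub]
    rw [this, sub_self])
  have hρ : ∀ x : K, ρ x = x := by
    intro x
    ext1
    simp only [ρ, LinearMap.codRestrict_apply, LinearMap.sub_apply, LinearMap.id_apply,
      LinearMap.comp_apply]
    have : K.mkQ x = 0 := (Submodule.Quotient.mk_eq_zero K).mpr x.2
    rw [this, map_zero, sub_zero]
  have hproj : Module.Projective L K := Module.Projective.of_split K.subtype ρ (by
    ext1 x
    exact hρ x)
  have hfin : Module.Finite L K := Module.Finite.of_surjective ρ fun x => ⟨x, hρ x⟩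
  have hfree : Module.Free L K := Module.free_of_flat_of_isLocalRing
  let t := Module.finrank L K
  let b : Module.Basis (Fin t) L K := Module.finBasis L K
  have htn : t ≤ n := by
    have := LinearMap.finrank_le_finrank_of_injective (f := K.subtype) K.injective_subtype
    simpa using this
  by_cases hst : s ≤ t
  · right
    let τ : Fin t → Fin n := Fin.castLE htn
    let g : (Fin n → L) →ₗ[L] (Fin n → L) :=
      (b.constr L (fun j => (Pi.single (τ j) 1 : Fin n → L))) ∘ₗ ρ
    have hg : ∀ j, g (b j) = Pi.single (τ j) 1 := by
      intro j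
      simp only [g, LinearMap.comp_apply, hρ, Module.Basis.constr_basis]
    let v : Fin s → Fin n → L := fun j => b (Fin.castLE hst j)
    have hv : ∀ j, v j ∈ (K : Set (Fin n → L)) := fun j => (b (Fin.castLE hst j)).2
    have h1 := minor_linearMap_mem g (K : Set (Fin n → L)) v hv (fun i => τ (Fin.castLE hst i))
    have h2 : minor (fun j => g (v j)) (fun i => τ (Fin.castLE hst i)) = 1 := by
      rw [minor]
      have : (Matrix.of fun i j => (fun j => g (v j)) j (τ (Fin.castLE hst i)) :
          Matrix (Fin s) (Fin s) L) = 1 := by
        ext i j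
        simp only [Matrix.of_apply, v, hg, Matrix.one_apply, Pi.single_apply, τ]
        simp [Fin.ext_iff]
      rw [this, Matrix.det_one]
    rw [h2, ← Ideal.eq_top_iff_one] at h1
    by_contra hcon
    push Not at hcon
    have : Ideal.span (minors s (K : Set (Fin n → L))) ≤ IsLocalRing.maximalIdeal L :=
      Ideal.span_le.mpr fun w hw => (IsLocalRing.mem_maximalIdeal w).mpr (hcon w hw)
    rw [h1] at this
    exact (IsLocalRing.maximalIdeal.isMaximal L).ne_top (top_le_iff.mp this)
  · left
    intro w hw
    have hspan : K = Submodule.span L (Set.range fun j => (b j : Fin n → L)) := by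
      have := congrArg (Submodule.map K.subtype) b.span_eq
      rw [Submodule.map_span, ← Set.range_comp, Submodule.map_top, Submodule.range_subtype] at this
      exact this.symm
    have h1 : w ∈ Ideal.span (minors s (Set.range fun j => (b j : Fin n → L))) := by
      rw [← span_minors_span, ← hspan]
      exact Ideal.subset_span hw
    have h2 : minors s (Set.range fun j => (b j : Fin n → L)) ⊆ {0} := by
      rintro w ⟨v, e, hv, rfl⟩
      choose r hr using hv
      obtain ⟨i, j, hij, he⟩ := Fintype.exists_ne_map_eq_of_card_lt r (by simpa using hst)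
      rw [Set.mem_singleton_iff]
      refine Matrix.det_zero_of_column_eq hij ?_
      intro k
      simp only [Matrix.of_apply]
      rw [← hr i, ← hr j, he]
    have h3 := Ideal.span_mono h2 h1
    simpa using h3

end Groth.Agent.Flat2C.Minors
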