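import Groth.Prelude.Def_FlatCA
import Groth.Agent.Flat2A.GeomInt
import Groth.Agent.Flat2C.UnivInjMod
import Groth.Agent.Flat2C.Minors
import Mathlib.RingTheory.LocalRing.Module
import Mathlib.LinearAlgebra.TensorProduct.Quotient
import Mathlib.RingTheory.Localization.BaseChange

/-!
# Generic points of fibres of algebras with geometrically integral fibres
-/

set_option autoImplicit false
universe u

namespace Groth.Agent.Flat2C.GenericPoint

open TensorProduct

/-- `pB` is the kernel of `B → κ(p) ⊗ B` for flat `B`. -/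
theorem mem_map_iff {A B : Type u} [CommRing A] [CommRing B] [Algebra A B]
    [Module.Flat A B] (p : Ideal A) [p.IsPrime] (y : B) :
    y ∈ p.map (algebraMap A B) ↔ (1 : p.ResidueField) ⊗ₜ[A] y = 0 := by
  have h4 : TensorProduct.quotTensorEquivQuotSMul B p ((1 : A ⧸ p) ⊗ₜ[A] y) =
      Submodule.Quotient.mk y := by
    simp
  constructor
  · intro hy
    have h3 : (1 : A ⧸ p) ⊗ₜ[A] y = 0 := by
      apply (TensorProduct.quotTensorEquivQuotSMul B p).injective
      rw [h4, map_zero, Submodule.Quotient.mk_eq_zero, Ideal.smul_top_eq_map]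
      exact hy
    let g : (A ⧸ p) →ₗ[A] p.ResidueField :=
      (IsScalarTower.toAlgHom A (A ⧸ p) p.ResidueField).toLinearMap
    have h5 := congrArg (g.rTensor B) h3
    rw [LinearMap.rTensor_tmul, map_zero] at h5
    have : g 1 = 1 := map_one (algebraMap (A ⧸ p) p.ResidueField)
    rwa [this] at h5
  · intro hy
    let g : (A ⧸ p) →ₗ[A] p.ResidueField :=
      (IsScalarTower.toAlgHom A (A ⧸ p) p.ResidueField).toLinearMap
    have hg : Function.Injective g := Ideal.injective_algebraMap_quotient_residueField p
    have h1 : Function.Injective (g.rTensor B) :=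
      Module.Flat.rTensor_preserves_injective_linearMap g hg
    have h2 : (1 : A ⧸ p) ⊗ₜ[A] y = 0 := by
      apply h1
      rw [LinearMap.rTensor_tmul, map_zero]
      have : g 1 = 1 := map_one (algebraMap (A ⧸ p) p.ResidueField)
      rw [this, hy]
    have h3 := congrArg (TensorProduct.quotTensorEquivQuotSMul B p) h2
    rw [map_zero, h4, Submodule.Quotient.mk_eq_zero, Ideal.smul_top_eq_map] at h3
    exact h3

variable {A B : Type u} [CommRing A] [CommRing B] [Algebra A B] [Module.Flat A B]

theorem isPrime_map (hgi : FlatCA.GeomIntegralFibres A B) (p : Ideal A) [p.IsPrime] :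
    (p.map (algebraMap A B)).IsPrime := by
  have := Groth.Agent.Flat2A.GeomInt.isDomain_fiber hgi p
  let ι : B →+* p.Fiber B :=
    (Algebra.TensorProduct.includeRight (R := A) (A := p.ResidueField) (B := B)).toRingHom
  have h : p.map (algebraMap A B) = RingHom.ker ι := by
    ext y
    rw [mem_map_iff]
    rfl
  rw [h]
  exact RingHom.ker_isPrime ι

theorem comap_map (hgi : FlatCA.GeomIntegralFibres A B) (p : Ideal A) [p.IsPrime] :
    (p.map (algebraMap A B)).comap (algebraMap A B) = p := by
  have := Groth.Agent.Flat2A.GeomInt.isDomain_fiber hgi p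
  refine le_antisymm ?_ Ideal.le_comap_map
  intro a ha
  rw [Ideal.mem_comap, mem_map_iff] at ha
  have h1 : algebraMap p.ResidueField (p.Fiber B) (algebraMap A p.ResidueField a) = 0 := by
    rw [Algebra.TensorProduct.algebraMap_apply, Algebra.algebraMap_self, RingHom.id_apply]
    rw [Algebra.algebraMap_eq_smul_one, TensorProduct.smul_tmul, ← Algebra.algebraMap_eq_smul_one]
    exact ha
  have h2 : algebraMap A p.ResidueField a = 0 :=
    (algebraMap p.ResidueField (p.Fiber B)).injective (by rw [h1, map_zero])
  exact (Ideal.algebraMap_residueField_eq_zero).mp h2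

omit [Module.Flat A B] in
theorem lTensor_mulLeft_injective (Ap K : Type u) [CommRing Ap] [Algebra A Ap] [CommRing K]
    [Algebra Ap K] [Algebra A K] [IsScalarTower A Ap K] (t : B) (hdom : IsDomain (K ⊗[A] B))
    (ht0 : (1 : K) ⊗ₜ[A] t ≠ 0) :
    Function.Injective ((LinearMap.mulLeft Ap ((1 : Ap) ⊗ₜ[A] t : Ap ⊗[A] B)).lTensor K) := by
  let e : K ⊗[Ap] (Ap ⊗[A] B) ≃ₐ[K] K ⊗[A] B := Algebra.TensorProduct.cancelBaseChange A Ap K K B
  have he : ∀ z : K ⊗[Ap] (Ap ⊗[A] B),
      e ((LinearMap.mulLeft Ap ((1 : Ap) ⊗ₜ[A] t : Ap ⊗[A] B)).lTensor K z) =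
        ((1 : K) ⊗ₜ[A] t) * e z := by
    intro z
    have h1 : (LinearMap.mulLeft Ap ((1 : Ap) ⊗ₜ[A] t : Ap ⊗[A] B)).lTensor K z =
        ((1 : K) ⊗ₜ[Ap] ((1 : Ap) ⊗ₜ[A] t : Ap ⊗[A] B)) * z := by
      induction z with
      | zero => rw [map_zero, mul_zero]
      | add x y hx hy => rw [map_add, hx, hy, mul_add]
      | tmul k y =>
        rw [LinearMap.lTensor_tmul, Algebra.TensorProduct.tmul_mul_tmul, one_mul]
        rfl
    have h2 : e ((1 : K) ⊗ₜ[Ap] ((1 : Ap) ⊗ₜ[A] t : Ap ⊗[A] B)) = (1 : K) ⊗ₜ[A] t := by
      simp [e]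
    rw [h1, map_mul, h2]
  rw [injective_iff_map_eq_zero]
  intro z hz
  have h1 := he z
  rw [hz, map_zero] at h1
  rcases mul_eq_zero.mp h1.symm with h | h
  · exact absurd h ht0
  · exact e.injective (by rw [h, map_zero])

/-- An element killed by something outside the generic point of the fibre over `p` vanishes
near `p`. -/
theorem exists_smul_eq_zero [Module.Projective A B] (hgi : FlatCA.GeomIntegralFibres A B)
    (p : Ideal A) [p.IsPrime] (t w : B) (ht : t ∉ p.map (algebraMap A B)) (htw : t * w = 0) :
    ∃ a ∉ p, a • w = 0 := by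
  let Ap := Localization.AtPrime p
  let Bp := Ap ⊗[A] B
  let v : Bp →ₗ[Ap] Bp := LinearMap.mulLeft Ap ((1 : Ap) ⊗ₜ[A] t)
  have hinj : ∀ (m : Ideal Ap) [m.IsMaximal], Function.Injective (v.lTensor (Ap ⧸ m)) := by
    intro m hm
    obtain rfl : m = IsLocalRing.maximalIdeal Ap := IsLocalRing.eq_maximalIdeal hm
    refine lTensor_mulLeft_injective Ap (Ap ⧸ IsLocalRing.maximalIdeal Ap) t ?_ ?_
    · exact Groth.Agent.Flat2A.GeomInt.isDomain_fiber hgi p
    · intro h0
      exact ht ((mem_map_iff p t).mpr h0)
  have huniv := Groth.Agent.Flat2C.UnivInjMod.univInj_of_projective v hinj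
  have hvinj : Function.Injective v := by
    have h1 := huniv Ap
    rw [injective_iff_map_eq_zero] at h1 ⊢
    intro z hz
    have h2 := h1 ((1 : Ap) ⊗ₜ[Ap] z) (by rw [LinearMap.lTensor_tmul, hz, tmul_zero])
    have h3 := congrArg (TensorProduct.lid Ap Bp) h2
    rwa [TensorProduct.lid_tmul, one_smul, map_zero] at h3
  have h1 : (1 : Ap) ⊗ₜ[A] w = (0 : Bp) := by
    apply hvinj
    rw [map_zero]
    change ((1 : Ap) ⊗ₜ[A] t) * ((1 : Ap) ⊗ₜ[A] w) = 0
    rw [Algebra.TensorProduct.tmul_mul_tmul, htw, tmul_zero]
  have h2 : (TensorProduct.mk A Ap B 1) w = 0 := h1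
  have h3 : IsLocalizedModule p.primeCompl (TensorProduct.mk A Ap B 1) := inferInstance
  rw [IsLocalizedModule.eq_zero_iff p.primeCompl] at h2
  obtain ⟨c, hc⟩ := h2
  exact ⟨c.1, c.2, hc⟩

omit [Module.Flat A B] in
/-- A finitely presented module over the local ring at the generic point of a fibre which is
flat over the base is free. -/
theorem free_of_flat (p : Ideal A) [p.IsPrime] [hp : (p.map (algebraMap A B)).IsPrime]
    (M : Type u) [AddCommGroup M] [Module A M]
    [Module (Localization.AtPrime (p.map (algebraMap A B))) M]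
    [IsScalarTower A (Localization.AtPrime (p.map (algebraMap A B))) M]
    [Module.FinitePresentation (Localization.AtPrime (p.map (algebraMap A B))) M]
    [Module.Flat A M] :
    Module.Free (Localization.AtPrime (p.map (algebraMap A B))) M := by
  let L := Localization.AtPrime (p.map (algebraMap A B))
  apply Module.free_of_maximalIdeal_rTensor_injective
  -- the ideal `p` maps onto generators of the maximal ideal
  have hmax : p.map (algebraMap A L) = IsLocalRing.maximalIdeal L := by
    rw [← Localization.AtPrime.map_eq_maximalIdeal, Ideal.map_map, ← IsScalarTower.algebraMap_eq]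
  let j : p →ₗ[A] IsLocalRing.maximalIdeal L :=
    { toFun := fun a => ⟨algebraMap A L a, hmax ▸ Ideal.mem_map_of_mem _ a.2⟩
      map_add' := fun a b => by ext; simp
      map_smul' := fun a b => by ext; simp [Algebra.smul_def] }
  let σ : p ⊗[A] M →ₗ[A] (IsLocalRing.maximalIdeal L) ⊗[L] M :=
    TensorProduct.lift
      { toFun := fun a => ((TensorProduct.mk L (IsLocalRing.maximalIdeal L) M (j a)).restrictScalars A)
        map_add' := fun a b => by ext; simp
        map_smul' := fun a b => by
          ext
          simp only [map_smul, LinearMap.coe_restrictScalars, TensorProduct.mk_apply,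
            RingHom.id_apply, LinearMap.smul_apply]
          rw [TensorProduct.smul_tmul'] }
  have hσ : ∀ a y, σ (a ⊗ₜ y) = (j a) ⊗ₜ y := fun a y => rfl
  have hσsurj : Function.Surjective σ := by
    intro z
    induction z with
    | zero => exact ⟨0, map_zero _⟩
    | add x y hx hy =>
      obtain ⟨x', rfl⟩ := hx
      obtain ⟨y', rfl⟩ := hy
      exact ⟨x' + y', map_add _ _ _⟩
    | tmul m y =>
      obtain ⟨m, hm⟩ := m
      have hm' : m ∈ Submodule.span L (algebraMap A L '' p) := by
        have : m ∈ p.map (algebraMap A L) := hmax ▸ hm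
        exact this
      -- induction on the span
      have key : ∀ m (hm : m ∈ IsLocalRing.maximalIdeal L),
          m ∈ Submodule.span L (algebraMap A L '' p) → ∀ y : M, ∃ z, σ z = (⟨m, hm⟩ : IsLocalRing.maximalIdeal L) ⊗ₜ[L] y := by
        intro m hm hms
        induction hms using Submodule.span_induction with
        | mem x hx =>
          obtain ⟨a, ha, rfl⟩ := hx
          intro y
          exact ⟨(⟨a, ha⟩ : p) ⊗ₜ y, rfl⟩
        | zero =>
          intro y
          refine ⟨0, ?_⟩
          rw [map_zero]
          have : (⟨0, hm⟩ : IsLocalRing.maximalIdeal L) = 0 := rfl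
          rw [this, zero_tmul]
        | add a b ha hb iha ihb =>
          intro y
          have hle : Submodule.span L (algebraMap A L '' p) ≤ IsLocalRing.maximalIdeal L := by
            have h1 : p.map (algebraMap A L) ≤ IsLocalRing.maximalIdeal L := hmax.le
            exact h1
          obtain ⟨z₁, h₁⟩ := iha (hle ha) y
          obtain ⟨z₂, h₂⟩ := ihb (hle hb) y
          refine ⟨z₁ + z₂, ?_⟩
          rw [map_add, h₁, h₂, ← add_tmul]
          rfl
        | smul c a ha iha =>
          intro y
          have hle : Submodule.span L (algebraMap A L '' p) ≤ IsLocalRing.maximalIdeal L := by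
            have h1 : p.map (algebraMap A L) ≤ IsLocalRing.maximalIdeal L := hmax.le
            exact h1
          obtain ⟨z, h⟩ := iha (hle ha) (c • y)
          refine ⟨z, ?_⟩
          rw [h, ← TensorProduct.smul_tmul]
          rfl
      exact key m hm hm' y
  rw [injective_iff_map_eq_zero]
  intro z hz
  obtain ⟨z', rfl⟩ := hσsurj z
  -- compare with `p ⊗ M → M`
  have hfl : Function.Injective ((p.subtype).rTensor M) :=
    Module.Flat.rTensor_preserves_injective_linearMap _ Subtype.val_injective
  have hcomm : ∀ z' : p ⊗[A] M, TensorProduct.lid L M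
      ((IsLocalRing.maximalIdeal L).subtype.rTensor M (σ z')) =
      TensorProduct.lid A M ((p.subtype).rTensor M z') := by
    intro z'
    induction z' with
    | zero => simp
    | add x y hx hy => simp only [map_add, hx, hy]
    | tmul a y =>
      rw [hσ, LinearMap.rTensor_tmul, LinearMap.rTensor_tmul, TensorProduct.lid_tmul,
        TensorProduct.lid_tmul]
      exact algebraMap_smul L (a : A) y
  have h1 := hcomm z'
  rw [hz, map_zero] at h1
  have h2 : z' = 0 := by
    apply hfl
    apply (TensorProduct.lid A M).injective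
    rw [← h1, map_zero, map_zero]
  rw [h2, map_zero]

end Groth.Agent.Flat2C.GenericPoint
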