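import Groth.Agent.S0389
import Mathlib.RingTheory.Ideal.AssociatedPrime.Basic
import Mathlib.RingTheory.Ideal.AssociatedPrime.Finiteness
import Mathlib.RingTheory.Localization.Away.Basic
import Mathlib.RingTheory.Localization.FractionRing
import Mathlib.RingTheory.Localization.LocalizationLocalization
import Mathlib.RingTheory.Flat.Basic
import Mathlib.RingTheory.IsTensorProduct
import Mathlib.RingTheory.FiniteStability

set_option autoImplicit false
universe u

/-!
# A nonzerodivisor on the generic fibre is a nonzerodivisor on nearby fibres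
-/

namespace Groth.Agent.Flat2C.GenericRegular

open TensorProduct

/-- multiplication by `1 ⊗ g` on `C ⊗ B`. -/
theorem lTensor_mulLeft_apply {A B C : Type u} [CommRing A] [CommRing B] [Algebra A B]
    [CommRing C] [Algebra A C] (g : B) (z : C ⊗[A] B) :
    (LinearMap.mulLeft A g).lTensor C z = (1 ⊗ₜ g) * z := by
  induction z with
  | zero => simp
  | tmul x y => simp
  | add x y hx hy => simp [hx, hy, mul_add]

/-- `1 ⊗ g` is regular on `C ⊗ B`. -/
def Reg (A : Type u) {B : Type u} (C : Type u) [CommRing A] [CommRing B] [Algebra A B]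
    [CommRing C] [Algebra A C] (g : B) : Prop :=
  ∀ z : C ⊗[A] B, (1 ⊗ₜ g) * z = 0 → z = 0

theorem domain_case {A B : Type u} [CommRing A] [IsDomain A] [CommRing B] [Algebra A B]
    [Algebra.FiniteType A B] (K : Type u) [CommRing K] [Algebra A K] [IsFractionRing A K] (g : B)
    (hg : Reg A K g) :
    ∃ a : A, a ≠ 0 ∧ ∀ (C : Type u) [CommRing C] [Algebra A C], IsUnit (algebraMap A C a) →
      Reg A C g := by
  obtain ⟨a, ha, hM, hB, -, -⟩ := Groth.Agent.S0389.result (R := A) (S := B) (M := B ⧸ Ideal.span {g})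
  refine ⟨a, ha, fun C _ _ hC => ?_⟩
  set L := Localization.Away a with hL
  have hpow : Submonoid.powers a ≤ nonZeroDivisors A := by
    rw [Submonoid.powers_le]; exact mem_nonZeroDivisors_of_ne_zero ha
  have : IsDomain L := IsLocalization.isDomain_of_le_nonZeroDivisors L hpow
  have haK : IsUnit (algebraMap A K a) :=
    IsLocalization.map_units K (⟨a, mem_nonZeroDivisors_of_ne_zero ha⟩ : nonZeroDivisors A)
  let _ : Algebra L K := (IsLocalization.Away.lift a (S := L) haK).toAlgebra
  have : IsScalarTower A L K := IsScalarTower.of_algebraMap_eq (fun x => by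
    simp [RingHom.algebraMap_toAlgebra])
  have hLK : Function.Injective (algebraMap L K) := by
    have : IsFractionRing L K := IsFractionRing.isFractionRing_of_isDomain_of_isLocalization (Submonoid.powers a) L K
    exact IsFractionRing.injective L K
  -- injectivity of `L ⊗ B → L ⊗ B`
  have hinj : Function.Injective ((LinearMap.mulLeft A g).baseChange L) := by
    rw [injective_iff_map_eq_zero]
    intro z hz
    have h1 : (1 ⊗ₜ g : L ⊗[A] B) * z = 0 := by
      rw [← lTensor_mulLeft_apply]; exact hz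
    let φ : L ⊗[A] B →ₐ[A] K ⊗[A] B := Algebra.TensorProduct.map (IsScalarTower.toAlgHom A L K) (AlgHom.id A B)
    have hφ : Function.Injective φ := by
      have h2 := Algebra.TensorProduct.includeRight_injective (R := L) (A := K) (B := L ⊗[A] B) hLK
      have h3 : (φ : L ⊗[A] B → K ⊗[A] B) = (TensorProduct.AlgebraTensorModule.cancelBaseChange A L K K B) ∘ (Algebra.TensorProduct.includeRight (R := L) (A := K) (B := L ⊗[A] B)) := by
        ext z
        induction z with
        | zero => simp
        | tmul x y => simp [φ, Algebra.smul_def]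
        | add x y hx hy => simp only [map_add, hx, hy, Function.comp_apply]
      rw [h3]
      exact (TensorProduct.AlgebraTensorModule.cancelBaseChange A L K K B).injective.comp h2
    apply hφ
    rw [map_zero φ]
    apply hg (φ z)
    have h4 : φ ((1 ⊗ₜ g : L ⊗[A] B) * z) = (1 ⊗ₜ g) * φ z := by
      rw [map_mul]; simp [φ]
    rw [← h4, h1, map_zero]
  have hexact : Function.Exact ((LinearMap.mulLeft A g)) ((Ideal.span {g}).mkQ.restrictScalars A) := by
    intro x
    rw [LinearMap.restrictScalars_apply, Submodule.mkQ_apply, Submodule.Quotient.mk_eq_zero, Ideal.mem_span_singleton']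
    constructor
    · rintro ⟨y, rfl⟩
      exact ⟨y, by simp [mul_comm]⟩
    · rintro ⟨y, rfl⟩
      exact ⟨y, by simp [mul_comm]⟩
  have hsurj : Function.Surjective ((Ideal.span {g}).mkQ.restrictScalars A) := by
    intro x
    obtain ⟨y, hy⟩ := Submodule.mkQ_surjective (Ideal.span {g}) x
    exact ⟨y, hy⟩
  have hexact' : Function.Exact ((LinearMap.mulLeft A g).baseChange L) (((Ideal.span {g}).mkQ.restrictScalars A).baseChange L) :=
    lTensor_exact L hexact hsurj
  have hsurj' : Function.Surjective (((Ideal.span {g}).mkQ.restrictScalars A).baseChange L) :=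
    LinearMap.lTensor_surjective L hsurj
  obtain ⟨l, hl⟩ := Module.projective_lifting_property (((Ideal.span {g}).mkQ.restrictScalars A).baseChange L) LinearMap.id hsurj'
  obtain ⟨-, r, hr⟩ := ((Function.Exact.split_tfae' hexact').out 0 1 rfl rfl).mp ⟨hinj, l, hl⟩
  -- now to `C`
  let _ : Algebra L C := (IsLocalization.Away.lift a (S := L) hC).toAlgebra
  have : IsScalarTower A L C := IsScalarTower.of_algebraMap_eq (fun x => by
    simp [RingHom.algebraMap_toAlgebra])
  intro z hz
  obtain ⟨w, rfl⟩ := (TensorProduct.AlgebraTensorModule.cancelBaseChange A L C C B).surjective z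
  have h5 : ∀ w, (1 ⊗ₜ g) * (TensorProduct.AlgebraTensorModule.cancelBaseChange A L C C B) w =
    (TensorProduct.AlgebraTensorModule.cancelBaseChange A L C C B) (((LinearMap.mulLeft A g).baseChange L).lTensor C w) := by
    intro w
    induction w with
    | zero => simp
    | tmul x y =>
      induction y with
      | zero => simp
      | tmul y z => simp
      | add y z hy hz => simp only [TensorProduct.tmul_add, map_add, mul_add, hy, hz]
    | add x y hx hy => simp only [map_add, mul_add, hx, hy]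
  rw [h5] at hz
  have h6 := (TensorProduct.AlgebraTensorModule.cancelBaseChange A L C C B).injective (hz.trans (map_zero _).symm)
  have h7 : (r.lTensor C) (((LinearMap.mulLeft A g).baseChange L).lTensor C w) = w := by
    rw [← LinearMap.comp_apply, ← LinearMap.lTensor_comp, hr, LinearMap.lTensor_id, LinearMap.id_apply]
  rw [h6, map_zero] at h7
  rw [← h7, map_zero]

/-- Compatibility of `Reg` with base change in stages. -/
theorem reg_iff {A B : Type u} [CommRing A] [CommRing B] [Algebra A B] (A' C : Type u)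
    [CommRing A'] [Algebra A A'] [CommRing C] [Algebra A C] [Algebra A' C] [IsScalarTower A A' C] (g : B) :
    Reg A C g ↔ Reg A' C (B := A' ⊗[A] B) ((1 : A') ⊗ₜ[A] g) := by
  let e : C ⊗[A'] (A' ⊗[A] B) ≃ₐ[C] C ⊗[A] B := Algebra.TensorProduct.cancelBaseChange A A' C C B
  have he : e (1 ⊗ₜ (1 ⊗ₜ g)) = 1 ⊗ₜ g := by
    have := Algebra.TensorProduct.cancelBaseChange_tmul A A' C C B (1 : C) (1 : A') g
    rw [one_smul] at this
    exact this
  constructor
  · intro h z hz
    apply e.injective
    rw [map_zero]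
    exact h (e z) (by rw [← he, ← map_mul, hz, map_zero])
  · intro h z hz
    obtain ⟨w, rfl⟩ := e.surjective z
    rw [← he, ← map_mul, EmbeddingLike.map_eq_zero_iff] at hz
    rw [h w hz, map_zero]

/-- The general case: the base `A` has a prime ideal `p₀`, `K = Frac (A/p₀)`. -/
theorem general_case {A B : Type u} [CommRing A] [CommRing B] [Algebra A B]
    [Algebra.FiniteType A B] (p₀ : Ideal A) [p₀.IsPrime] (K : Type u) [CommRing K] [Nontrivial K] [Algebra A K]
    (hK0 : ∀ x ∈ p₀, algebraMap A K x = 0) (hK1 : ∀ d ∉ p₀, IsUnit (algebraMap A K d))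
    (hK2 : ∀ z : K, ∃ n d : A, d ∉ p₀ ∧ z * algebraMap A K d = algebraMap A K n) (g : B)
    (hg : Reg A K g) :
    ∃ a : A, a ∉ p₀ ∧ ∀ (C : Type u) [CommRing C] [Algebra A C], (∀ x ∈ p₀, algebraMap A C x = 0) →
      IsUnit (algebraMap A C a) → Reg A C g := by
  let A' := A ⧸ p₀
  let _ : Algebra A' K := (Ideal.Quotient.lift p₀ (algebraMap A K) hK0).toAlgebra
  have : IsScalarTower A A' K := IsScalarTower.of_algebraMap_eq (fun x => by
    simp [A', RingHom.algebraMap_toAlgebra])
  have hinj : Function.Injective (algebraMap A' K) := by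
    rw [injective_iff_map_eq_zero]
    intro x hx
    obtain ⟨x, rfl⟩ := Ideal.Quotient.mk_surjective x
    by_contra hx0
    have : x ∉ p₀ := fun h => hx0 (Ideal.Quotient.eq_zero_iff_mem.mpr h)
    have h1 := hK1 x this
    have h2 : algebraMap A K x = 0 := hx
    rw [h2] at h1
    exact not_isUnit_zero h1
  have : IsFractionRing A' K :=
    { map_units := fun ⟨y, hy⟩ => by
        obtain ⟨y, rfl⟩ := Ideal.Quotient.mk_surjective y
        exact hK1 y (fun h => nonZeroDivisors.ne_zero hy (Ideal.Quotient.eq_zero_iff_mem.mpr h))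
      surj := fun z => by
        obtain ⟨n, d, hd, h⟩ := hK2 z
        refine ⟨⟨Ideal.Quotient.mk p₀ n, ⟨Ideal.Quotient.mk p₀ d, mem_nonZeroDivisors_of_ne_zero
          (fun h => hd (Ideal.Quotient.eq_zero_iff_mem.mp h))⟩⟩, h⟩
      exists_of_eq := fun {x y} h => ⟨1, by rw [hinj h]⟩ }
  obtain ⟨a, ha, h⟩ := domain_case (A := A') (B := A' ⊗[A] B) K (1 ⊗ₜ g) ((reg_iff A' K g).mp hg)
  obtain ⟨a, rfl⟩ := Ideal.Quotient.mk_surjective a
  refine ⟨a, fun h => ha (Ideal.Quotient.eq_zero_iff_mem.mpr h), fun C _ _ hC hu => ?_⟩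
  let _ : Algebra A' C := (Ideal.Quotient.lift p₀ (algebraMap A C) hC).toAlgebra
  have : IsScalarTower A A' C := IsScalarTower.of_algebraMap_eq (fun x => by
    simp [A', RingHom.algebraMap_toAlgebra])
  exact (reg_iff A' C g).mpr (h C hu)

/-- Existence of an element of `I` which is a nonzerodivisor on the generic fibre, and hence on nearby fibres. -/
theorem exists_mem_reg {A B : Type u} [CommRing A] [CommRing B] [Algebra A B]
    [Algebra.FiniteType A B] (p₀ : Ideal A) [p₀.IsPrime] (K : Type u) [CommRing K] [Nontrivial K] [Algebra A K]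
    (hK0 : ∀ x ∈ p₀, algebraMap A K x = 0) (hK1 : ∀ d ∉ p₀, IsUnit (algebraMap A K d))
    (hK2 : ∀ z : K, ∃ n d : A, d ∉ p₀ ∧ z * algebraMap A K d = algebraMap A K n) (I : Ideal B)
    (hI : ∀ x : K ⊗[A] B, (∀ i ∈ I, (1 ⊗ₜ i) * x = 0) → x = 0) :
    ∃ g ∈ I, ∃ a : A, a ∉ p₀ ∧ ∀ (C : Type u) [CommRing C] [Algebra A C], (∀ x ∈ p₀, algebraMap A C x = 0) →
      IsUnit (algebraMap A C a) → Reg A C g := by
  have hfield : IsField K := 
    { exists_pair_ne := exists_pair_ne K
      mul_comm := mul_comm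
      mul_inv_cancel := fun {z} hz => by
        obtain ⟨n, d, hd, h⟩ := hK2 z
        have hn : n ∉ p₀ := by
          intro hn
          rw [hK0 n hn] at h
          exact hz ((hK1 d hd).mul_left_eq_zero.mp h)
        obtain ⟨u, hu⟩ := (hK1 n hn).exists_right_inv
        exact ⟨algebraMap A K d * u, by rw [← mul_assoc, h, hu]⟩ }
  have hnoeth : IsNoetherianRing K := by
    let _ := hfield.toField
    infer_instance
  have : IsNoetherianRing (K ⊗[A] B) := Algebra.FiniteType.isNoetherianRing K _
  let ι : B →+* K ⊗[A] B := (Algebra.TensorProduct.includeRight : B →ₐ[A] K ⊗[A] B).toRingHom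
  have hι : ∀ b, ι b = 1 ⊗ₜ b := fun b => rfl
  let IK : Ideal (K ⊗[A] B) := I.map ι
  have hone : (1 : A) ∉ p₀ := (Ideal.ne_top_iff_one p₀).mp ‹p₀.IsPrime›.ne_top
  obtain ⟨r, hr, hr'⟩ : ∃ r ∈ IK, ∀ z : K ⊗[A] B, r * z = 0 → z = 0 := by
    by_contra! hcon
    have hdisj : Disjoint (IK : Set (K ⊗[A] B)) (nonZeroDivisors (K ⊗[A] B)) := by
      rw [Set.disjoint_left]
      intro r hr hr'
      obtain ⟨z, hz, hz0⟩ := hcon r hr
      exact hz0 ((mem_nonZeroDivisors_iff_right.mp hr') z (by rw [mul_comm]; exact hz))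
    have h1 := Ideal.bot_lt_annihilator_of_disjoint_nonZeroDivisors hdisj
    obtain ⟨x, hx, hx0⟩ := Submodule.exists_mem_ne_zero_of_ne_bot h1.ne'
    refine hx0 (hI x fun i hi => ?_)
    have h2 := Submodule.mem_annihilator.mp hx (ι i) (Ideal.mem_map_of_mem _ hi)
    rw [smul_eq_mul, mul_comm] at h2
    exact h2
  have hadd : ∀ (b b' : B) (d d' : A), ι (d' • b + d • b') = algebraMap A K d' • ι b + algebraMap A K d • ι b' := by
    intro b b' d d'
    simp [hι, Algebra.algebraMap_eq_smul_one, TensorProduct.tmul_add]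
  -- every element of `K ⊗ B` is a fraction
  have hfrac : ∀ z : K ⊗[A] B, ∃ (b : B) (d : A), d ∉ p₀ ∧ algebraMap A K d • z = ι b := by
    intro z
    induction z with
    | zero => exact ⟨0, 1, hone, by simp⟩
    | tmul x y =>
      obtain ⟨n, d, hd, h⟩ := hK2 x
      refine ⟨n • y, d, hd, ?_⟩
      rw [TensorProduct.smul_tmul', smul_eq_mul, mul_comm, h, hι, Algebra.algebraMap_eq_smul_one, TensorProduct.smul_tmul]
    | add x y hx hy =>
      obtain ⟨b, d, hd, h⟩ := hx
      obtain ⟨b', d', hd', h'⟩ := hy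
      refine ⟨d' • b + d • b', d * d', fun h => (‹p₀.IsPrime›.mem_or_mem h).elim hd hd', ?_⟩
      rw [hadd, ← h, ← h', smul_add, smul_smul, smul_smul, map_mul]
      congr 2
      rw [mul_comm]
  have hfracI : ∀ z ∈ IK, ∃ (b : B) (d : A), b ∈ I ∧ d ∉ p₀ ∧ algebraMap A K d • z = ι b := by
    intro z hz
    refine Submodule.span_induction (p := fun z _ => ∃ (b : B) (d : A), b ∈ I ∧ d ∉ p₀ ∧ algebraMap A K d • z = ι b) ?_ ?_ ?_ ?_ hz
    · rintro _ ⟨b, hb, rfl⟩
      exact ⟨b, 1, hb, hone, by simp⟩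
    · exact ⟨0, 1, I.zero_mem, hone, by simp⟩
    · rintro x y - - ⟨b, d, hb, hd, h⟩ ⟨b', d', hb', hd', h'⟩
      refine ⟨d' • b + d • b', d * d', I.add_mem ?_ ?_, fun h => (‹p₀.IsPrime›.mem_or_mem h).elim hd hd', ?_⟩
      · rw [Algebra.smul_def]; exact I.mul_mem_left _ hb
      · rw [Algebra.smul_def]; exact I.mul_mem_left _ hb'
      rw [hadd, ← h, ← h', smul_add, smul_smul, smul_smul, map_mul]
      congr 2
      rw [mul_comm]
    · rintro a x - ⟨b, d, hb, hd, h⟩
      obtain ⟨b', d', hd', h'⟩ := hfrac a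
      refine ⟨b' * b, d' * d, I.mul_mem_left _ hb, fun h => (‹p₀.IsPrime›.mem_or_mem h).elim hd' hd, ?_⟩
      rw [map_mul ι, ← h, ← h', map_mul, smul_mul_smul_comm, smul_eq_mul]
  obtain ⟨g, d, hgI, hd, hgd⟩ := hfracI r hr
  have hg : Reg A K g := by
    intro z hz
    have h1 : (1 ⊗ₜ g : K ⊗[A] B) = algebraMap A K d • r := hgd.symm
    rw [h1, smul_mul_assoc] at hz
    obtain ⟨u, hu⟩ := (hK1 d hd).exists_left_inv
    have h2 : u • (algebraMap A K d • (r * z)) = 0 := by rw [hz, smul_zero]
    rw [smul_smul, hu, one_smul] at h2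
    exact hr' z h2
  obtain ⟨a, ha, h⟩ := general_case p₀ K hK0 hK1 hK2 g hg
  exact ⟨g, hgI, a, ha, fun C _ _ => h C⟩

end Groth.Agent.Flat2C.GenericRegular
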