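import Groth.Agent.Flat2C.FiberBC

/-!
Descending an impurity along a base change `A₁ → A'` of `A`-algebras (Stacks 05IZ and 05FX): if the equation
witnessing that the closure of the associated point misses the fibre already lives over `A₁`, then there is an impurity
over `A₁`.
-/

set_option autoImplicit false
universe u

namespace Groth.Agent.Flat2C.ImpurityDescent

/-- The closure of the point `P` misses the fibre over `t` iff some element outside `t` lies in `P + tB'`. -/
theorem exists_mem_sup_of_closure_misses {A' B' : Type*} [CommRing A'] [CommRing B'] [Algebra A' B']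
    (t : Ideal A') [t.IsPrime] (P : Ideal B')
    (h : ∀ (P' : Ideal B') [P'.IsPrime], P ≤ P' → ¬ P'.LiesOver t) :
    ∃ s : A', s ∉ t ∧ algebraMap A' B' s ∈ P ⊔ t.map (algebraMap A' B') := by
  by_contra hcon
  push Not at hcon
  have hdis : Disjoint ((P ⊔ t.map (algebraMap A' B') : Ideal B') : Set B')
      ((t.primeCompl.map (algebraMap A' B') : Submonoid B') : Set B') := by
    rw [Set.disjoint_left]
    rintro x hx ⟨s, hs, rfl⟩
    exact hcon s hs hx
  obtain ⟨P', hP', hle, hd⟩ := Ideal.exists_le_prime_disjoint _ _ hdis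
  refine h P' (le_sup_left.trans hle) ⟨?_⟩
  apply le_antisymm
  · intro a ha
    exact hle (le_sup_right (a := P) (Ideal.mem_map_of_mem _ ha))
  · intro a ha
    by_contra hna
    exact (Set.disjoint_left.mp hd) ha ⟨a, hna, rfl⟩

theorem closure_misses_of_mem_sup {A' B' : Type*} [CommRing A'] [CommRing B'] [Algebra A' B']
    (t : Ideal A') (P : Ideal B') (s : A') (hs : s ∉ t)
    (h : algebraMap A' B' s ∈ P ⊔ t.map (algebraMap A' B'))
    (P' : Ideal B') [P'.IsPrime] (hle : P ≤ P') : ¬ P'.LiesOver t := by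
  intro hlo
  apply hs
  rw [hlo.over]
  have h2 : t.map (algebraMap A' B') ≤ P' := by
    rw [Ideal.map_le_iff_le_comap]
    exact le_of_eq hlo.over
  exact (sup_le hle h2) h

section

variable {A A₁ A' B B₁ B' : Type u} [CommRing A] [CommRing A₁] [CommRing A'] [CommRing B] [CommRing B₁] [CommRing B']
  [Algebra A A₁] [Algebra A A'] [Algebra A₁ A'] [IsScalarTower A A₁ A'] [Algebra A B] [Algebra A B₁] [Algebra B B₁]
  [Algebra A₁ B₁] [IsScalarTower A B B₁] [IsScalarTower A A₁ B₁] [Algebra A B'] [Algebra B B'] [Algebra A' B']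
  [IsScalarTower A B B'] [IsScalarTower A A' B'] [Algebra B₁ B'] [Algebra A₁ B'] [IsScalarTower A₁ A' B']
  [IsScalarTower A₁ B₁ B'] [IsScalarTower B B₁ B']

theorem isImpurity_descend [Algebra.FiniteType A B]
    (hpo₁ : Algebra.IsPushout A B A₁ B₁)
    (N N₁ N' : Type u) [AddCommGroup N] [Module B N] [Module.Finite B N]
    [AddCommGroup N₁] [Module B₁ N₁] [Module B N₁] [IsScalarTower B B₁ N₁] [Module A₁ N₁] [IsScalarTower A₁ B₁ N₁]
    [AddCommGroup N'] [Module B' N'] [Module B N'] [IsScalarTower B B' N'] [Module A' N'] [IsScalarTower A' B' N']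
    (f₁ : N →ₗ[B] N₁) (hf₁ : IsBaseChange B₁ f₁) (f : N →ₗ[B] N')
    (p : Ideal A) [p.IsPrime] (t' t : Ideal A') [t'.IsPrime] [t.IsPrime] (P : Ideal B') [P.IsPrime]
    (himp : FlatCA.IsImpurity A B N p A' B' N' f t' t P)
    (s₁ : A₁) (hs₁ : algebraMap A₁ A' s₁ ∉ t)
    (hs₁' : algebraMap A₁ B₁ s₁ ∈ P.comap (algebraMap B₁ B') ⊔ (t.comap (algebraMap A₁ A')).map (algebraMap A₁ B₁)) :
    FlatCA.IsImpurity A B N p A₁ B₁ N₁ f₁ (t'.comap (algebraMap A₁ A')) (t.comap (algebraMap A₁ A'))
      (P.comap (algebraMap B₁ B')) := by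
  obtain ⟨hpo, hf, htt, htp, hPt, hass, hcl⟩ := himp
  refine ⟨hpo₁, hf₁, Ideal.comap_mono htt, ⟨?_⟩, ⟨?_⟩, ?_, ?_⟩
  · rw [htp.over, Ideal.under, Ideal.under, Ideal.comap_comap, ← IsScalarTower.algebraMap_eq]
  · rw [Ideal.under, Ideal.comap_comap, ← IsScalarTower.algebraMap_eq, IsScalarTower.algebraMap_eq A₁ A' B',
      ← Ideal.comap_comap]
    congr 1
    exact hPt.over
  · have hft : Algebra.FiniteType A₁ B₁ :=
      (Algebra.FiniteType.equiv (inferInstanceAs (Algebra.FiniteType A₁ (TensorProduct A A₁ B)))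
        (hpo₁.symm.equiv _ _ _ _))
    have hfin : Module.Finite B₁ N₁ :=
      Module.Finite.equiv (hf₁.equiv)
    -- N' is a base change of N₁
    let m1 : Module B₁ N' := Module.compHom N' (algebraMap B₁ B')
    have t1 : IsScalarTower B₁ B' N' := IsScalarTower.of_algebraMap_smul fun r x => rfl
    have t2 : IsScalarTower B B₁ N' := IsScalarTower.of_algebraMap_smul fun r x => by
      change algebraMap B₁ B' (algebraMap B B₁ r) • x = r • x
      rw [← IsScalarTower.algebraMap_apply, algebraMap_smul]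
    let h : N₁ →ₗ[B₁] N' := hf₁.lift f
    have hh : (h.restrictScalars B) ∘ₗ f₁ = f := hf₁.lift_comp _
    have hb : IsBaseChange B' h := by
      apply IsBaseChange.of_comp hf₁
      rw [hh]
      exact hf
    have hpo₂ : Algebra.IsPushout A₁ A' B₁ B' := by
      have := hpo.symm
      have := hpo₁.symm
      have : IsScalarTower A B₁ B' := IsScalarTower.of_algebraMap_eq fun a => by
        rw [IsScalarTower.algebraMap_apply A B B₁, ← IsScalarTower.algebraMap_apply B B₁ B',
          ← IsScalarTower.algebraMap_apply A B B']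
      exact (Algebra.IsPushout.comp_iff A A₁ B B₁).mp hpo.symm
    have hlo : t'.LiesOver (t'.comap (algebraMap A₁ A')) := ⟨rfl⟩
    exact FiberBC.ass_descent (t'.comap (algebraMap A₁ A')) t' N₁ N' h hb P hass
  · intro P' _ hle
    exact closure_misses_of_mem_sup _ _ s₁ hs₁ hs₁' P' hle

end

end Groth.Agent.Flat2C.ImpurityDescent
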