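import Groth.Agent.Flat2C.CokerBC

/-!
A finitely presented module over a localization `T⁻¹B` is the localization of a finitely presented `B`-module.
-/

set_option autoImplicit false
universe u

namespace Groth.Agent.Flat2C.LocModel

theorem exists_fp_model {B : Type u} [CommRing B] (T : Submonoid B) (L : Type u) [CommRing L] [Algebra B L]
    [IsLocalization T L] (N : Type u) [AddCommGroup N] [Module L N] [Module B N] [IsScalarTower B L N]
    [Module.FinitePresentation L N] :
    ∃ (N₀ : Type u) (_ : AddCommGroup N₀) (_ : Module B N₀) (φ : N₀ →ₗ[B] N),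
      Module.FinitePresentation B N₀ ∧ IsBaseChange L φ := by
  classical
  obtain ⟨n, m, f, g, hf, hex⟩ := Module.FinitePresentation.exists_fin' L N
  obtain ⟨b, hb⟩ := IsLocalization.exist_integer_multiples_of_finite T
    (fun ji : Fin m × Fin n => g (Pi.single ji.1 1) ji.2)
  choose q hq using hb
  have hbu : IsUnit (algebraMap B L b) := IsLocalization.map_units L b
  let g₂ : (Fin m → L) →ₗ[L] (Fin n → L) := (algebraMap B L b) • g
  have hrange : LinearMap.range g₂ = LinearMap.range g := by
    apply le_antisymm
    · rintro _ ⟨x, rfl⟩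
      exact ⟨algebraMap B L b • x, by simp [g₂]⟩
    · rintro _ ⟨x, rfl⟩
      refine ⟨(↑hbu.unit⁻¹ : L) • x, ?_⟩
      simp only [g₂, LinearMap.smul_apply, map_smul, smul_smul]
      rw [IsUnit.val_inv_mul, one_smul]
  have hex₂ : Function.Exact g₂ f := by
    rw [LinearMap.exact_iff, hrange]
    exact LinearMap.exact_iff.mp hex
  let g' : (Fin m → B) →ₗ[B] (Fin n → B) := Fintype.linearCombination B fun j i => q (j, i)
  obtain ⟨φ, hφ⟩ := CokerBC.isBaseChange_coker g' g₂ (fun j i => by
    have := hq (j, i)
    simp only [g', g₂, Fintype.linearCombination_apply_single, one_smul, LinearMap.smul_apply, Pi.smul_apply]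
    rw [this, algebraMap_smul]) N f hf hex₂
  refine ⟨_, inferInstance, inferInstance, φ, ?_, hφ⟩
  exact Module.finitePresentation_of_surjective (Submodule.mkQ _) (Submodule.mkQ_surjective _)
    (by rw [Submodule.ker_mkQ, LinearMap.range_eq_map]; exact (Module.Finite.fg_top).map _)

end Groth.Agent.Flat2C.LocModel
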