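import Mathlib.Algebra.Module.FinitePresentation
import Mathlib.RingTheory.Localization.Finiteness

/-!
# Relations of a module which is finitely presented after inverting an element
-/

set_option autoImplicit false
universe u

namespace Groth.Agent.Flat2C.LocRelations

/-- If `M_f` is finitely presented over `S_f`, the kernel of a surjection `F → M` from a finite module is
generated, up to powers of `f`, by finitely many of its elements. -/
theorem exists_relations {S : Type u} [CommRing S] (f : S) {M F : Type u} [AddCommGroup M]
    [Module S M] [AddCommGroup F] [Module S F] [Module.Finite S F] (π : F →ₗ[S] M)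
    (hπ : Function.Surjective π)
    (h : Module.FinitePresentation (Localization.Away f)
      (LocalizedModule (Submonoid.powers f) M)) :
    ∃ (m : ℕ) (k : Fin m → F), (∀ j, π (k j) = 0) ∧
      ∀ x, π x = 0 → ∃ (N : ℕ) (z : Fin m → S), f ^ N • x = ∑ j, z j • k j := by
  let P := Submonoid.powers f
  let l : LocalizedModule P F →ₗ[Localization P] LocalizedModule P M := LocalizedModule.map P π
  have hl : Function.Surjective l :=
    IsLocalizedModule.map_surjective P (LocalizedModule.mkLinearMap P F)
      (LocalizedModule.mkLinearMap P M) π hπ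
  have hfin : Module.Finite (Localization P) (LocalizedModule P F) :=
    Module.Finite.of_isLocalizedModule P (LocalizedModule.mkLinearMap P F)
  have hfp : Module.FinitePresentation (Localization P) (LocalizedModule P M) := h
  obtain ⟨m, γ, hγ⟩ := Submodule.fg_iff_exists_fin_generating_family.mp
    (Module.FinitePresentation.fg_ker l hl)
  have hlmk : ∀ x : F, l (LocalizedModule.mkLinearMap P F x) = LocalizedModule.mkLinearMap P M (π x) :=
    fun x => IsLocalizedModule.map_apply P (LocalizedModule.mkLinearMap P F)
      (LocalizedModule.mkLinearMap P M) π x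
  have h1 : ∀ j, ∃ (k : F) (s : P), π k = 0 ∧ s • γ j = LocalizedModule.mkLinearMap P F k := by
    intro j
    obtain ⟨⟨x, s⟩, hx⟩ := IsLocalizedModule.surj P (LocalizedModule.mkLinearMap P F) (γ j)
    have hj : γ j ∈ LinearMap.ker l := by
      rw [← hγ]
      exact Submodule.subset_span ⟨j, rfl⟩
    have h2 : LocalizedModule.mkLinearMap P M (π x) = 0 := by
      rw [← hlmk]
      have : s • γ j = LocalizedModule.mkLinearMap P F x := hx
      rw [← this]
      change l ((s : S) • γ j) = 0
      rw [← algebraMap_smul (Localization P) (s : S) (γ j), map_smul, LinearMap.mem_ker.mp hj,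
        smul_zero]
    rw [IsLocalizedModule.eq_zero_iff P] at h2
    obtain ⟨c, hc⟩ := h2
    refine ⟨c • x, c * s, ?_, ?_⟩
    · change π ((c : S) • x) = 0
      rw [map_smul]
      exact hc
    · have : s • γ j = LocalizedModule.mkLinearMap P F x := hx
      rw [mul_smul, this]
      exact (map_smul (LocalizedModule.mkLinearMap P F) (c : S) x).symm
  choose k s hk hs using h1
  refine ⟨m, k, hk, fun x hx => ?_⟩
  let Q := F ⧸ Submodule.span S (Set.range k)
  let q : F →ₗ[S] Q := (Submodule.span S (Set.range k)).mkQ
  let lq : LocalizedModule P F →ₗ[Localization P] LocalizedModule P Q := LocalizedModule.map P q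
  have hlq : ∀ x : F, lq (LocalizedModule.mkLinearMap P F x) = LocalizedModule.mkLinearMap P Q (q x) :=
    fun x => IsLocalizedModule.map_apply P (LocalizedModule.mkLinearMap P F)
      (LocalizedModule.mkLinearMap P Q) q x
  have h3 : LinearMap.ker l ≤ LinearMap.ker lq := by
    rw [← hγ, Submodule.span_le]
    rintro _ ⟨j, rfl⟩
    change lq (γ j) = 0
    have h4 : lq (s j • γ j) = 0 := by
      rw [hs, hlq]
      have : q (k j) = 0 := by
        rw [Submodule.mkQ_apply, Submodule.Quotient.mk_eq_zero]
        exact Submodule.subset_span ⟨j, rfl⟩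
      rw [this, map_zero]
    have h5 : s j • lq (γ j) = 0 := by
      have : lq ((s j : S) • γ j) = (s j : S) • lq (γ j) := by
        rw [← algebraMap_smul (Localization P) (s j : S) (γ j), map_smul, algebraMap_smul]
      rw [← h4]
      exact this.symm
    exact IsLocalizedModule.smul_injective (LocalizedModule.mkLinearMap P Q) (s j)
      (h5.trans (smul_zero (s j)).symm)
  have h6 : lq (LocalizedModule.mkLinearMap P F x) = 0 := by
    apply h3
    rw [LinearMap.mem_ker, hlmk, hx, map_zero]
  rw [hlq, IsLocalizedModule.eq_zero_iff P] at h6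
  obtain ⟨⟨_, N, rfl⟩, hN⟩ := h6
  have h7 : q (f ^ N • x) = 0 := by
    rw [map_smul]
    exact hN
  rw [Submodule.mkQ_apply, Submodule.Quotient.mk_eq_zero, Submodule.mem_span_range_iff_exists_fun] at h7
  obtain ⟨z, hz⟩ := h7
  exact ⟨N, z, hz.symm⟩

end Groth.Agent.Flat2C.LocRelations
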