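import Groth.Prelude.Def_Flat
import Mathlib.AlgebraicGeometry.Morphisms.QuasiFinite
import Mathlib.AlgebraicGeometry.ZariskisMainTheorem
import Groth.Agent.FlatB.QfAffSpace

/-!
# Quasi-finiteness and the local fibre dimension
-/

set_option autoImplicit false
universe u

namespace Groth.Agent.Flat2C.LqfDense

open AlgebraicGeometry CategoryTheory Limits

/-- The local dimension at an isolated point is at most zero. -/
theorem localDim_le_zero_of_isOpen {X : Type*} [TopologicalSpace X] (x : X) (h : IsOpen ({x} : Set X)) :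
    FlatMor.localDim X x ≤ 0 := by
  refine (iInf_le _ ⟨⟨{x}, h⟩, rfl⟩).trans ?_
  have : Subsingleton (({x} : Set X) : Type _) := inferInstance
  change topologicalKrullDim (({x} : Set X) : Type _) ≤ 0
  have hs : Subsingleton (TopologicalSpace.IrreducibleCloseds (({x} : Set X) : Type _)) := by
    refine ⟨fun A B ↦ ?_⟩
    ext y
    obtain ⟨a, ha⟩ := A.isIrreducible.nonempty
    obtain ⟨b, hb⟩ := B.isIrreducible.nonempty
    have h1 : y = a := Subsingleton.elim _ _
    have h2 : y = b := Subsingleton.elim _ _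
    constructor
    · intro _; rw [h2]; exact hb
    · intro _; rw [h1]; exact ha
  exact Order.krullDim_nonpos_of_subsingleton

/-- Quasi-finite at a point: the fibre has local dimension at most zero. -/
theorem fibreDimAt_le_zero_of_quasiFiniteAt {X S : Scheme.{u}} (f : X ⟶ S) [LocallyOfFiniteType f] (x : X)
    (h : f.QuasiFiniteAt x) : FlatMor.fibreDimAt f x ≤ 0 :=
  localDim_le_zero_of_isOpen _ (Scheme.Hom.quasiFiniteAt_iff_isOpen_singleton_asFiber.mp h)

/-- Over an open where the morphism is locally quasi-finite the fibre dimension is at most zero. -/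
theorem fibreDimAt_le_zero_of_restrict {X S : Scheme.{u}} (f : X ⟶ S) [LocallyOfFiniteType f] (U : S.Opens)
    [LocallyQuasiFinite (f ∣_ U)] (x : X) (hx : f x ∈ U) : FlatMor.fibreDimAt f x ≤ 0 := by
  apply fibreDimAt_le_zero_of_quasiFiniteAt
  have h1 : (f ⁻¹ᵁ U).ι ≫ f = (f ∣_ U) ≫ U.ι := (morphismRestrict_ι f U).symm
  have h2 : LocallyQuasiFinite ((f ⁻¹ᵁ U).ι ≫ f) := by
    rw [h1]; infer_instance
  have h3 := ((f ⁻¹ᵁ U).ι ≫ f).quasiFiniteAt ⟨x, hx⟩
  exact Scheme.Hom.quasiFiniteAt_comp_iff_of_isOpenImmersion.mp h3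

/-- If the local fibre dimension is at most zero everywhere the morphism is locally quasi-finite. -/
theorem locallyQuasiFinite_of_fibreDimAt {X S : Scheme.{u}} (f : X ⟶ S) [LocallyOfFiniteType f]
    (h : ∀ x : X, FlatMor.fibreDimAt f x ≤ 0) : LocallyQuasiFinite f := by
  rw [HasRingHomProperty.iff_exists_appLE (P := @LocallyQuasiFinite)
    (RingHom.QuasiFinite.stableUnderComposition.stableUnderCompositionWithLocalizationAway
      RingHom.QuasiFinite.holdsForLocalizationAway).1]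
  intro x
  obtain ⟨V, U, hV, hU, e, m, φ, hxU, hm, hφ, hφf⟩ :=
    Groth.Agent.FlatB.QfAffSpace.exists_chart_le f x 0 (by simpa using h x)
  obtain rfl : m = 0 := by omega
  refine ⟨⟨V, hV⟩, ⟨U, hU⟩, hxU, e, ?_⟩
  rw [← hφf]
  refine RingHom.QuasiFinite.comp hφ (RingHom.QuasiFinite.of_finite ?_)
  exact RingHom.Finite.of_surjective _ (MvPolynomial.C_surjective _)

/-- A restriction of a base change is a base change of the restriction. -/
theorem exists_isPullback_restrict {X S T X' : Scheme.{u}} {f : X ⟶ S} {g : T ⟶ S} {p₁ : X' ⟶ X}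
    {p₂ : X' ⟶ T} (h : IsPullback p₁ p₂ f g) (U : S.Opens) :
    ∃ a, IsPullback a (p₂ ∣_ (g ⁻¹ᵁ U)) (f ∣_ U) (g ∣_ U) := by
  have h1 : IsPullback ((p₂ ⁻¹ᵁ (g ⁻¹ᵁ U)).ι ≫ p₁) (p₂ ∣_ (g ⁻¹ᵁ U)) f ((g ⁻¹ᵁ U).ι ≫ g) :=
    IsPullback.paste_horiz (isPullback_morphismRestrict p₂ (g ⁻¹ᵁ U)).flip h
  have h2 : IsPullback (f ⁻¹ᵁ U).ι (f ∣_ U) f U.ι := (isPullback_morphismRestrict f U).flip
  rw [← morphismRestrict_ι g U] at h1
  have h3 : ((p₂ ⁻¹ᵁ (g ⁻¹ᵁ U)).ι ≫ p₁) ≫ f = (p₂ ∣_ (g ⁻¹ᵁ U) ≫ g ∣_ U) ≫ U.ι := by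
    rw [h1.w, Category.assoc]
  refine ⟨h2.lift _ _ h3, IsPullback.of_right ?_ (h2.lift_snd _ _ h3) h2⟩
  rw [h2.lift_fst]
  exact h1

end Groth.Agent.Flat2C.LqfDense
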