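import Groth.Agent.Flat2C.GenericPoint
import Mathlib.RingTheory.TensorProduct.IsBaseChangePi
import Mathlib.Algebra.Module.LocalizedModule.Submodule

/-!
# Minors of a presentation at a prime where the module is free
-/

set_option autoImplicit false
universe u

namespace Groth.Agent.Flat2C.MinorGeneric

open Groth.Agent.Flat2C.Minors

variable {B : Type u} [CommRing B] {n : ℕ}

/-- The coordinatewise map `Bⁿ → Lⁿ`. -/
noncomputable def coordMap (B L : Type u) [CommRing B] [CommRing L] [Algebra B L] (n : ℕ) :
    (Fin n → B) →ₗ[B] (Fin n → L) :=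
  .pi fun i => (Algebra.linearMap B L) ∘ₗ .proj i

theorem coordMap_apply (L : Type u) [CommRing L] [Algebra B L] (v : Fin n → B) (i : Fin n) :
    coordMap B L n v i = algebraMap B L (v i) := rfl

theorem minors_coordMap (L : Type u) [CommRing L] [Algebra B L] (s : ℕ) (W : Set (Fin n → B)) :
    minors s (coordMap B L n '' W) = algebraMap B L '' minors s W := by
  ext w
  constructor
  · rintro ⟨v, e, hv, rfl⟩
    choose v' hv' hvv using hv
    refine ⟨minor v' e, ⟨v', e, hv', rfl⟩, ?_⟩
    rw [minor_map]
    congr 1
    funext j i
    exact congrFun (hvv j) i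
  · rintro ⟨_, ⟨v, e, hv, rfl⟩, rfl⟩
    exact ⟨fun j => coordMap B L n (v j), e, fun j => ⟨v j, hv j, rfl⟩, minor_map _ _ _⟩

section

variable (q : Ideal B) [q.IsPrime] {N : Type u} [AddCommGroup N] [Module B N]
  (f : (Fin n → B) →ₗ[B] N) (hf : Function.Surjective f) (W : Set (Fin n → B))
  (hW : ∀ w ∈ W, f w = 0) (hW' : ∀ k, f k = 0 → ∃ t ∉ q, t • k ∈ Submodule.span B W)

include hf hW hW' in
/-- The localization at `q` of the presentation given by `W`. -/
theorem exists_presentation :
    ∃ F : (Fin n → Localization.AtPrime q) →ₗ[Localization.AtPrime q]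
      LocalizedModule q.primeCompl N, Function.Surjective F ∧
      LinearMap.ker F = Submodule.span (Localization.AtPrime q)
        (coordMap B (Localization.AtPrime q) n '' W) := by
  let L := Localization.AtPrime q
  have hloc1 : IsLocalizedModule q.primeCompl (Algebra.linearMap B L) := inferInstance
  have hloc : IsLocalizedModule q.primeCompl (coordMap B L n) :=
    IsLocalizedModule.pi q.primeCompl (fun _ : Fin n => Algebra.linearMap B L)
  let F₀ := IsLocalizedModule.map q.primeCompl (coordMap B L n)
    (LocalizedModule.mkLinearMap q.primeCompl N) f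
  let F := F₀.extendScalarsOfIsLocalization q.primeCompl L
  refine ⟨F, ?_, ?_⟩
  · exact IsLocalizedModule.map_surjective q.primeCompl (coordMap B L n)
      (LocalizedModule.mkLinearMap q.primeCompl N) f hf
  · have h1 : (LinearMap.ker f).localized' L q.primeCompl (coordMap B L n) = LinearMap.ker F :=
      LinearMap.localized'_ker_eq_ker_localizedMap L q.primeCompl (coordMap B L n)
        (LocalizedModule.mkLinearMap q.primeCompl N) f
    rw [← h1, Submodule.localized'_eq_span]
    apply le_antisymm
    · refine Submodule.span_le.mpr ?_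
      rintro _ ⟨k, hk, rfl⟩
      obtain ⟨t, ht, htk⟩ := hW' k hk
      -- `t • k ∈ span W`
      have h2 : ∀ y ∈ Submodule.span B W,
          coordMap B L n y ∈ Submodule.span L (coordMap B L n '' W) := by
        intro y hy
        induction hy using Submodule.span_induction with
        | mem x hx => exact Submodule.subset_span ⟨x, hx, rfl⟩
        | zero => rw [map_zero]; exact zero_mem _
        | add x y _ _ hx hy => rw [map_add]; exact add_mem hx hy
        | smul a x _ hx =>
          rw [map_smul, ← algebraMap_smul L a]
          exact Submodule.smul_mem _ _ hx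
      have h3 := h2 _ htk
      rw [map_smul, ← algebraMap_smul L t] at h3
      have hu : IsUnit (algebraMap B L t) :=
        IsLocalization.map_units L (⟨t, ht⟩ : q.primeCompl)
      have h4 := Submodule.smul_mem _ (↑hu.unit⁻¹ : L) h3
      rwa [smul_smul, IsUnit.val_inv_mul, one_smul] at h4
    · refine Submodule.span_mono ?_
      rintro _ ⟨w, hw, rfl⟩
      exact ⟨w, hW w hw, rfl⟩

include hf hW hW' in
/-- If `N_q` is free, then the `s`-minors of `W` either all vanish at `q` or one of them does not
lie in `q`. -/
theorem minors_dichotomy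
    [Module.Free (Localization.AtPrime q) (LocalizedModule q.primeCompl N)] (s : ℕ) :
    (∀ w ∈ minors s W, ∃ t ∉ q, t * w = 0) ∨ (∃ w ∈ minors s W, w ∉ q) := by
  obtain ⟨F, hF, hker⟩ := exists_presentation q f hf W hW hW'
  let L := Localization.AtPrime q
  let e := F.quotKerEquivOfSurjective hF
  have hfree : Module.Free L ((Fin n → L) ⧸ LinearMap.ker F) := Module.Free.of_equiv e.symm
  rcases all_zero_or_exists_isUnit (LinearMap.ker F) s with h | ⟨w, hw, hu⟩
  · left
    intro w hw
    have h1 : algebraMap B L w ∈ minors s (LinearMap.ker F : Set (Fin n → L)) := by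
      refine minors_mono (W := coordMap B L n '' W) ?_ ?_
      · rw [hker]
        exact Submodule.subset_span
      · rw [minors_coordMap]
        exact ⟨w, hw, rfl⟩
    have h2 := h _ h1
    rw [IsLocalization.map_eq_zero_iff q.primeCompl] at h2
    obtain ⟨t, ht⟩ := h2
    exact ⟨t.1, t.2, ht⟩
  · right
    by_contra hcon
    push Not at hcon
    have h1 : Ideal.span (minors s (LinearMap.ker F : Set (Fin n → L))) ≤
        IsLocalRing.maximalIdeal L := by
      rw [hker, span_minors_span, minors_coordMap]
      refine Ideal.span_le.mpr ?_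
      rintro _ ⟨w, hw, rfl⟩
      rw [SetLike.mem_coe, ← Localization.AtPrime.map_eq_maximalIdeal]
      exact Ideal.mem_map_of_mem _ (hcon w hw)
    have h2 := h1 (Ideal.subset_span hw)
    exact (IsLocalRing.mem_maximalIdeal w).mp h2 hu

end

end Groth.Agent.Flat2C.MinorGeneric
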