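import Groth.Agent.Flat2C.MinorsAux
import Mathlib.RingTheory.Localization.AtPrime.Basic
import Mathlib.Algebra.Module.LocalizedModule.Basic
import Mathlib.RingTheory.Localization.Integer

/-!
# Minors of a relation matrix at a prime where the module is free of rank `r`
-/

set_option autoImplicit false
universe u

namespace Groth.Agent.Flat2C.MinorsAtPrime

open Matrix

/-- Let `A` be a matrix of relations among generators `e i`, `card ι = k + r`, of `M`, generating all relations after
inverting `f ∉ q`. If `M_q` is free of rank `r`, then the `(k+1)`-minors of `A` vanish at `q` and some `k`-minor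
of `A` is not in `q`. -/
theorem minors_atPrime {S : Type u} [CommRing S] {M : Type u} [AddCommGroup M] [Module S M]
    {ι κ : Type*} [Fintype ι] [Fintype κ] (k r : ℕ) (hι : Fintype.card ι = k + r)
    (e : ι → M) (he : ∀ x : M, ∃ c : ι → S, x = ∑ i, c i • e i) (A : Matrix ι κ S)
    (hA : ∀ j, ∑ i, A i j • e i = 0) (f : S)
    (hA' : ∀ x : ι → S, ∑ i, x i • e i = 0 → ∃ (N : ℕ) (z : κ → S), f ^ N • x = A *ᵥ z)
    (q : Ideal S) [q.IsPrime] (hf : f ∉ q)
    (hfree : Module.Free (Localization.AtPrime q) (LocalizedModule q.primeCompl M))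
    (hrank : Module.rank (Localization.AtPrime q) (LocalizedModule q.primeCompl M) = r) :
    (∀ (ρ : Fin k ⊕ Unit → ι) (γ : Fin k ⊕ Unit → κ), ∃ t : S, t ∉ q ∧ t * (A.submatrix ρ γ).det = 0) ∧
    ∃ (α : Fin k → ι) (β : Fin k → κ), (A.submatrix α β).det ∉ q := by
  classical
  let L := Localization.AtPrime q
  let P := q.primeCompl
  let mk := LocalizedModule.mkLinearMap P M
  let A' : Matrix ι κ L := A.map (algebraMap S L)
  let π : (ι → L) →ₗ[L] LocalizedModule P M := Fintype.linearCombination L (fun i => mk (e i))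
  have hπ : ∀ x : ι → L, π x = ∑ i, x i • mk (e i) := fun x =>
    Fintype.linearCombination_apply L _ x
  have hmk : ∀ x : ι → S, π (fun i => algebraMap S L (x i)) = mk (∑ i, x i • e i) := by
    intro x
    rw [hπ, map_sum]
    refine Finset.sum_congr rfl fun i _ => ?_
    rw [algebraMap_smul, map_smul]
  have hsurj : Function.Surjective π := by
    intro y
    obtain ⟨⟨x, s⟩, hx⟩ := IsLocalizedModule.surj P mk y
    obtain ⟨c, hc⟩ := he x
    refine ⟨IsLocalization.mk' L 1 s • fun i => algebraMap S L (c i), ?_⟩
    have hx' : s • y = mk x := hx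
    rw [map_smul, hmk, ← hc, ← hx']
    change IsLocalization.mk' L 1 s • ((s : S) • y) = y
    rw [← algebraMap_smul L (s : S) y, smul_smul, IsLocalization.mk'_spec, map_one, one_smul]
  have hmulVec : ∀ z : κ → S, (fun i => algebraMap S L ((A *ᵥ z) i)) =
      A' *ᵥ (fun j => algebraMap S L (z j)) := by
    intro z
    ext i
    simp [A', Matrix.mulVec, dotProduct]
  have hker : LinearMap.ker π = LinearMap.range A'.mulVecLin := by
    apply le_antisymm
    · intro x hx
      rw [LinearMap.mem_ker] at hx
      obtain ⟨b, hb⟩ := IsLocalization.exist_integer_multiples_of_finite P x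
      choose x' hx' using hb
      have h1 : mk (∑ i, x' i • e i) = 0 := by
        rw [← hmk]
        have : (fun i => algebraMap S L (x' i)) = algebraMap S L (b : S) • x := by
          ext i
          rw [hx', Pi.smul_apply, Algebra.smul_def, smul_eq_mul]
        rw [this, map_smul, hx, smul_zero]
      rw [IsLocalizedModule.eq_zero_iff P] at h1
      obtain ⟨c, hc⟩ := h1
      have h2 : ∑ i, ((c : S) * x' i) • e i = 0 := by
        simp_rw [mul_smul]
        rw [← Finset.smul_sum]
        exact hc
      obtain ⟨N, z, hz⟩ := hA' _ h2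
      have h3 : A' *ᵥ (fun j => algebraMap S L (z j)) =
          algebraMap S L (f ^ N * c * b) • x := by
        rw [← hmulVec, ← hz]
        ext i
        rw [Pi.smul_apply, Pi.smul_apply, smul_eq_mul, smul_eq_mul, map_mul, map_mul, map_mul,
          map_mul, hx', Algebra.smul_def]
        ring
      have hu : IsUnit (algebraMap S L (f ^ N * c * b)) := by
        apply IsLocalization.map_units L (⟨f ^ N * c * b, ?_⟩ : P)
        exact mul_mem (mul_mem (pow_mem (show f ∈ P from hf) N) c.2) b.2
      obtain ⟨v, hv⟩ := hu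
      refine ⟨(v⁻¹ : Lˣ).1 • fun j => algebraMap S L (z j), ?_⟩
      rw [map_smul, Matrix.mulVecLin_apply, h3, ← hv, smul_smul, Units.inv_mul, one_smul]
    · rintro _ ⟨z, rfl⟩
      rw [LinearMap.mem_ker, Matrix.mulVecLin_apply, hπ]
      simp only [Matrix.mulVec, dotProduct, Finset.sum_smul]
      rw [Finset.sum_comm]
      refine Finset.sum_eq_zero fun j _ => ?_
      have h1 : ∑ i, (A' i j * z j) • mk (e i) = z j • mk (∑ i, A i j • e i) := by
        rw [map_sum, Finset.smul_sum]
        refine Finset.sum_congr rfl fun i _ => ?_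
        rw [map_smul, mul_comm, mul_smul, ← algebraMap_smul L (A i j)]
        rfl
      rw [h1, hA, map_zero, smul_zero]
  have hr : Module.finrank L (LocalizedModule P M) = r := Module.finrank_eq_of_rank_eq hrank
  have hfree' : Module.Free L (LocalizedModule P M) := hfree
  obtain ⟨h1, h2⟩ := Groth.Agent.Flat2C.MinorsAux.minors_of_free k r hι A' hr π hsurj hker
  have hdet : ∀ {T : Type} [Fintype T] [DecidableEq T] (ρ : T → ι) (γ : T → κ),
      (A'.submatrix ρ γ).det = algebraMap S L (A.submatrix ρ γ).det := by
    intro T _ _ ρ γ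
    rw [RingHom.map_det]
    rfl
  refine ⟨fun ρ γ => ?_, ?_⟩
  · have h3 := h1 ρ γ
    rw [hdet, IsLocalization.map_eq_zero_iff P] at h3
    obtain ⟨t, ht⟩ := h3
    exact ⟨t, t.2, ht⟩
  · by_contra hcon
    push Not at hcon
    have h3 := h2 (IsLocalRing.maximalIdeal L) (fun α β => by
      rw [hdet]
      exact (IsLocalization.AtPrime.to_map_mem_maximal_iff L q _).mpr (hcon α β))
    exact (IsLocalRing.maximalIdeal.isMaximal L).ne_top h3

end Groth.Agent.Flat2C.MinorsAtPrime
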