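import Mathlib.RingTheory.Flat.Basic
import Mathlib.RingTheory.Flat.TorsionFree
import Mathlib.RingTheory.IsTensorProduct
import Mathlib.RingTheory.Finiteness.Ideal
import Mathlib.LinearAlgebra.TensorProduct.RightExactness
import Mathlib.LinearAlgebra.TensorProduct.Pi
import Mathlib.RingTheory.Localization.Away.Basic

/-!
# Power torsion of a module with respect to an ideal, and quotients by it

* `PTors I m` : some power of the ideal `I` kills `m`.
* `TorsFree I G` : the only element of `G` killed by `I` is `0` (equivalently no `I`-power torsion).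
* `IsTorsQuot I φ` : the linear map `φ : M → G` is surjective and its kernel is exactly the
  `I`-power torsion of `M`.
-/

set_option autoImplicit false

universe u

open TensorProduct

namespace Groth.Agent.Flat2C.PowTors

section Basic

variable {A : Type*} [CommRing A] (I : Ideal A) {M G H : Type*} [AddCommGroup M] [Module A M]
  [AddCommGroup G] [Module A G] [AddCommGroup H] [Module A H]

/-- `m` is killed by some power of the ideal `I`. -/
def PTors (m : M) : Prop := ∃ n : ℕ, ∀ a ∈ I ^ n, a • m = 0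

variable (G) in
/-- No nonzero element of `G` is killed by `I`. -/
def TorsFree : Prop := ∀ g : G, (∀ a ∈ I, a • g = 0) → g = 0

/-- `φ` is surjective with kernel the `I`-power torsion. -/
def IsTorsQuot (φ : M →ₗ[A] G) : Prop :=
  Function.Surjective φ ∧ ∀ m : M, φ m = 0 ↔ PTors I m

variable {I}

lemma powTors_zero : PTors I (0 : M) := ⟨0, fun a _ ↦ smul_zero a⟩

lemma PTors.mono_exp {m : M} {n k : ℕ} (h : ∀ a ∈ I ^ n, a • m = 0) (hnk : n ≤ k) :
    ∀ a ∈ I ^ k, a • m = 0 :=
  fun a ha ↦ h a (Ideal.pow_le_pow_right hnk ha)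

lemma PTors.add {m m' : M} (h : PTors I m) (h' : PTors I m') : PTors I (m + m') := by
  obtain ⟨n, hn⟩ := h
  obtain ⟨n', hn'⟩ := h'
  refine ⟨max n n', fun a ha ↦ ?_⟩
  rw [smul_add, PTors.mono_exp hn (le_max_left _ _) a ha,
    PTors.mono_exp hn' (le_max_right _ _) a ha, add_zero]

lemma PTors.smul {m : M} (h : PTors I m) (r : A) : PTors I (r • m) := by
  obtain ⟨n, hn⟩ := h
  refine ⟨n, fun a ha ↦ ?_⟩
  rw [smul_comm, hn a ha, smul_zero]

lemma PTors.map {m : M} (h : PTors I m) (φ : M →ₗ[A] G) : PTors I (φ m) := by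
  obtain ⟨n, hn⟩ := h
  refine ⟨n, fun a ha ↦ ?_⟩
  rw [← map_smul, hn a ha, map_zero]

/-- If `J ^ n ≤ I` then `I`-power torsion is `J`-power torsion. -/
lemma PTors.of_pow_le {J : Ideal A} {m : M} (h : PTors I m) (n : ℕ) (hJ : J ^ n ≤ I) :
    PTors J m := by
  obtain ⟨k, hk⟩ := h
  refine ⟨n * k, fun a ha ↦ hk a ?_⟩
  rw [pow_mul] at ha
  exact Ideal.pow_right_mono hJ k ha

lemma PTors.anti {J : Ideal A} {m : M} (h : PTors I m) (hJ : J ≤ I) : PTors J m :=
  h.of_pow_le 1 (by rwa [pow_one])

lemma PTors.of_le_radical {J : Ideal A} (hJ : J.FG) {m : M} (h : PTors I m) (hJI : J ≤ I.radical) :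
    PTors J m := by
  obtain ⟨n, hn⟩ := Ideal.exists_pow_le_of_le_radical_of_fg hJI hJ
  exact h.of_pow_le n hn

/-- If `I` is generated by `s` (finite), it is enough to test on powers of generators. -/
lemma powTors_iff_of_span {s : Set A} (hs : s.Finite) {m : M} :
    PTors (Ideal.span s) m ↔ ∃ n : ℕ, ∀ a ∈ s, a ^ n • m = 0 := by
  constructor
  · rintro ⟨n, hn⟩
    exact ⟨n, fun a ha ↦ hn _ (Ideal.pow_mem_pow (Ideal.subset_span ha) n)⟩
  · rintro ⟨n, hn⟩
    -- the ideal of annihilators of `m`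
    let K : Ideal A := Module.annihilator A (Submodule.span A {m})
    have hK : ∀ a, a ∈ K ↔ a • m = 0 := by
      intro a
      rw [Module.mem_annihilator]
      constructor
      · intro h
        have := h ⟨m, Submodule.mem_span_singleton_self m⟩
        exact congrArg Subtype.val this
      · rintro h ⟨x, hx⟩
        obtain ⟨b, rfl⟩ := Submodule.mem_span_singleton.mp hx
        ext
        change a • b • m = 0
        rw [smul_comm, h, smul_zero]
    have h1 : Ideal.span s ≤ K.radical := by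
      rw [Ideal.span_le]
      intro a ha
      exact ⟨n, (hK _).mpr (hn a ha)⟩
    obtain ⟨k, hk⟩ := Ideal.exists_pow_le_of_le_radical_of_fg h1 ⟨hs.toFinset, by simp⟩
    exact ⟨k, fun a ha ↦ (hK a).mp (hk ha)⟩

/-- The `I`-power torsion submodule. -/
def torsSub (I : Ideal A) (M : Type*) [AddCommGroup M] [Module A M] : Submodule A M where
  carrier := {m | PTors I m}
  add_mem' := fun h h' ↦ h.add h'
  zero_mem' := powTors_zero
  smul_mem' := fun r _ h ↦ h.smul r

lemma mem_torsSub {m : M} : m ∈ torsSub I M ↔ PTors I m := Iff.rfl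

/-- Uniformity: a family `a • m`, `a` in an f.g. ideal `J`, of power torsion elements. -/
lemma powTors_uniform {J : Ideal A} (hJ : J.FG) {m : M} (h : ∀ a ∈ J, PTors I (a • m)) :
    ∃ n : ℕ, ∀ a ∈ J, ∀ b ∈ I ^ n, b • a • m = 0 := by
  obtain ⟨s, rfl⟩ := hJ
  have h2 : ∃ n : ℕ, ∀ a ∈ s, ∀ b ∈ I ^ n, b • a • m = 0 := by
    classical
    induction s using Finset.induction_on with
    | empty => exact ⟨0, fun a ha ↦ absurd ha (Finset.notMem_empty a)⟩
    | insert a s _ ih =>
      obtain ⟨n, hn⟩ := ih fun b hb ↦ h b (Ideal.span_mono (by simp) hb)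
      obtain ⟨k, hk⟩ := h a (Ideal.subset_span (by simp))
      refine ⟨max n k, fun b hb ↦ ?_⟩
      rcases Finset.mem_insert.mp hb with rfl | hb
      · exact PTors.mono_exp hk (le_max_right _ _)
      · exact PTors.mono_exp (hn b hb) (le_max_left _ _)
  obtain ⟨n, hn⟩ := h2
  refine ⟨n, fun a ha b hb ↦ ?_⟩
  refine Submodule.span_induction (p := fun a _ ↦ b • a • m = 0) ?_ ?_ ?_ ?_ ha
  · intro a ha
    exact hn a ha b hb
  · rw [zero_smul, smul_zero]
  · intro x y _ _ hx hy
    rw [add_smul, smul_add, hx, hy, add_zero]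
  · intro r x _ hx
    rw [smul_eq_mul, mul_smul, smul_comm b r, hx, smul_zero]

/-- If all `a • m`, `a ∈ I ^ k`, are `I`-power torsion then so is `m` (for `I` f.g.). -/
lemma powTors_of_pow (hI : I.FG) {m : M} (k : ℕ) (h : ∀ a ∈ I ^ k, PTors I (a • m)) :
    PTors I m := by
  obtain ⟨n, hn⟩ := powTors_uniform (hI.pow (n := k)) h
  refine ⟨n + k, fun a ha ↦ ?_⟩
  rw [pow_add] at ha
  refine Submodule.mul_induction_on ha ?_ ?_
  · intro b hb c hc
    rw [mul_smul]
    exact hn c hc b hb
  · intro x y hx hy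
    rw [add_smul, hx, hy, add_zero]

lemma TorsFree.eq_zero (h : TorsFree I G) {g : G} (hg : PTors I g) : g = 0 := by
  obtain ⟨n, hn⟩ := hg
  induction n generalizing g with
  | zero =>
    have := hn 1 (by simp)
    rwa [one_smul] at this
  | succ n ih =>
    refine ih fun a ha ↦ ?_
    refine h _ fun b hb ↦ ?_
    rw [← mul_smul]
    exact hn _ (by rw [pow_succ']; exact Ideal.mul_mem_mul hb ha)

lemma torsFree_iff : TorsFree I G ↔ ∀ g : G, PTors I g → g = 0 :=
  ⟨fun h _ ↦ h.eq_zero, fun h g hg ↦ h g ⟨1, by rwa [pow_one]⟩⟩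

lemma TorsFree.mono {J : Ideal A} (h : TorsFree I G) (hJ : I ≤ J) : TorsFree J G :=
  fun g hg ↦ h g fun a ha ↦ hg a (hJ ha)

lemma TorsFree.of_pow_le {J : Ideal A} (h : TorsFree I G) (n : ℕ) (hJ : I ^ n ≤ J) : TorsFree J G :=
  fun _ hg ↦ h.eq_zero ⟨n, fun a ha ↦ hg a (hJ ha)⟩

lemma TorsFree.of_injective (h : TorsFree I G) (φ : H →ₗ[A] G) (hφ : Function.Injective φ) :
    TorsFree I H := by
  intro g hg
  apply hφ
  rw [map_zero]
  refine h _ fun a ha ↦ ?_
  rw [← map_smul, hg a ha, map_zero]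

lemma torsFree_top : TorsFree (⊤ : Ideal A) G := fun g hg ↦ by
  have := hg 1 trivial
  rwa [one_smul] at this

/-- The target of a torsion quotient is torsion free. -/
lemma IsTorsQuot.torsFree {φ : M →ₗ[A] G} (h : IsTorsQuot I φ) (hI : I.FG) : TorsFree I G := by
  intro g hg
  obtain ⟨m, rfl⟩ := h.1 g
  rw [h.2]
  refine powTors_of_pow hI 1 fun a ha ↦ ?_
  rw [pow_one] at ha
  rw [← h.2, map_smul, hg a ha]

lemma isTorsQuot_id (h : TorsFree I M) : IsTorsQuot I (LinearMap.id : M →ₗ[A] M) :=
  ⟨Function.surjective_id, fun _ ↦ ⟨fun hm ↦ by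
    rw [LinearMap.id_apply] at hm; rw [hm]; exact powTors_zero, fun hm ↦ h.eq_zero hm⟩⟩

lemma IsTorsQuot.bijective {φ : M →ₗ[A] G} (h : IsTorsQuot I φ) (hM : TorsFree I M) :
    Function.Bijective φ := by
  refine ⟨?_, h.1⟩
  rw [injective_iff_map_eq_zero]
  intro m hm
  exact hM.eq_zero ((h.2 m).mp hm)

lemma isTorsQuot_mkQ : IsTorsQuot I (torsSub I M).mkQ :=
  ⟨(torsSub I M).mkQ_surjective, fun m ↦ by
    rw [Submodule.mkQ_apply, Submodule.Quotient.mk_eq_zero, mem_torsSub]⟩

/-- Two torsion quotients of the same module are isomorphic. -/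
lemma IsTorsQuot.exists_equiv {φ : M →ₗ[A] G} {ψ : M →ₗ[A] H} (h : IsTorsQuot I φ)
    (h' : IsTorsQuot I ψ) : ∃ e : G ≃ₗ[A] H, ∀ m, e (φ m) = ψ m := by
  have hk : LinearMap.ker φ = LinearMap.ker ψ := by
    ext m
    rw [LinearMap.mem_ker, LinearMap.mem_ker, h.2, h'.2]
  refine ⟨((LinearMap.quotKerEquivOfSurjective φ h.1).symm.trans
    (Submodule.quotEquivOfEq _ _ hk)).trans (LinearMap.quotKerEquivOfSurjective ψ h'.1), fun m ↦ ?_⟩
  have : (LinearMap.quotKerEquivOfSurjective φ h.1).symm (φ m) = Submodule.Quotient.mk m := by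
    rw [LinearEquiv.symm_apply_eq]
    rfl
  rw [LinearEquiv.trans_apply, LinearEquiv.trans_apply, this]
  rfl

lemma IsTorsQuot.comp_equiv {φ : M →ₗ[A] G} (h : IsTorsQuot I φ) (e : H ≃ₗ[A] M) :
    IsTorsQuot I (φ ∘ₗ e.toLinearMap) := by
  refine ⟨h.1.comp e.surjective, fun m ↦ ?_⟩
  rw [LinearMap.comp_apply, h.2]
  constructor
  · intro hm
    simpa using hm.map e.symm.toLinearMap
  · intro hm
    exact hm.map e.toLinearMap

lemma IsTorsQuot.equiv_comp {φ : M →ₗ[A] G} (h : IsTorsQuot I φ) (e : G ≃ₗ[A] H) :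
    IsTorsQuot I (e.toLinearMap ∘ₗ φ) := by
  refine ⟨e.surjective.comp h.1, fun m ↦ ?_⟩
  rw [LinearMap.comp_apply, LinearEquiv.coe_coe, LinearEquiv.map_eq_zero_iff, h.2]

/-- Transitivity. -/
lemma IsTorsQuot.trans {J : Ideal A} {φ : M →ₗ[A] G} {ψ : G →ₗ[A] H} (hφ1 : Function.Surjective φ)
    (hφ2 : ∀ m, φ m = 0 → PTors J m) (hψ : IsTorsQuot J ψ) (hJ : J.FG) :
    IsTorsQuot J (ψ ∘ₗ φ) := by
  refine ⟨hψ.1.comp hφ1, fun m ↦ ?_⟩
  rw [LinearMap.comp_apply, hψ.2]
  constructor
  · rintro ⟨k, hk⟩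
    refine powTors_of_pow hJ k fun a ha ↦ hφ2 _ ?_
    rw [map_smul, hk a ha]
  · intro h
    exact h.map φ

/-- A surjection whose kernel consists of torsion elements onto a torsion free module. -/
lemma isTorsQuot_of_torsFree {φ : M →ₗ[A] G} (h1 : Function.Surjective φ)
    (h2 : ∀ m, φ m = 0 → PTors I m) (h3 : TorsFree I G) : IsTorsQuot I φ :=
  ⟨h1, fun m ↦ ⟨h2 m, fun h ↦ h3.eq_zero (h.map φ)⟩⟩

end Basic

section Flat

variable {R A : Type*} [CommRing R] [CommRing A] [Algebra R A] {G : Type*} [AddCommGroup G]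
  [Module A G] [Module R G] [IsScalarTower R A G]

/-- `G` flat over `R`, `c ∈ R` a nonzerodivisor: `G` is torsion free for the ideal `cA`. -/
lemma torsFree_of_flat [Module.Flat R G] {c : R} (hc : c ∈ nonZeroDivisors R) :
    TorsFree (Ideal.span {algebraMap R A c}) G := by
  intro g hg
  have h := Module.Flat.isSMulRegular_of_nonZeroDivisors (M := G) hc
  apply h
  have := hg (algebraMap R A c) (Ideal.subset_span rfl)
  rw [algebraMap_smul] at this
  simpa using this

end Flat

section BaseChange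

variable {A B : Type*} [CommRing A] [CommRing B] [Algebra A B] {I : Ideal A}
  {M MB G GB : Type*} [AddCommGroup M] [Module A M] [AddCommGroup MB] [Module A MB] [Module B MB]
  [IsScalarTower A B MB] [AddCommGroup G] [Module A G] [AddCommGroup GB] [Module A GB] [Module B GB]
  [IsScalarTower A B GB] {canM : M →ₗ[A] MB} {canG : G →ₗ[A] GB}
  (hM : IsBaseChange B canM) (hG : IsBaseChange B canG) {φ : M →ₗ[A] G} {φB : MB →ₗ[B] GB}
  (comm : ∀ m, φB (canM m) = canG (φ m))

lemma powTors_can {m : M} (h : PTors I m) (canM : M →ₗ[A] MB) :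
    PTors (I.map (algebraMap A B)) (canM m) := by
  obtain ⟨n, hn⟩ := h
  refine ⟨n, fun b hb ↦ ?_⟩
  rw [← Ideal.map_pow] at hb
  refine Submodule.span_induction (p := fun b _ ↦ b • canM m = 0) ?_ ?_ ?_ ?_ hb
  · rintro _ ⟨a, ha, rfl⟩
    rw [algebraMap_smul, ← map_smul, hn a ha, map_zero]
  · rw [zero_smul]
  · intro x y _ _ hx hy
    rw [add_smul, hx, hy, add_zero]
  · intro r x _ hx
    rw [smul_eq_mul, mul_smul, hx, smul_zero]

omit [IsScalarTower A B MB] in
include hG comm in
lemma surjective_baseChange (h : Function.Surjective φ) : Function.Surjective φB := by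
  intro g
  induction g using hG.inductionOn with
  | zero => exact ⟨0, map_zero _⟩
  | tmul g =>
    obtain ⟨m, rfl⟩ := h g
    exact ⟨canM m, comm m⟩
  | smul b g hg =>
    obtain ⟨m, rfl⟩ := hg
    exact ⟨b • m, map_smul _ _ _⟩
  | add x y hx hy =>
    obtain ⟨m, rfl⟩ := hx
    obtain ⟨m', rfl⟩ := hy
    exact ⟨m + m', map_add _ _ _⟩

include hM hG comm in
/-- The kernel of the base change of a surjective map is generated by the image of the kernel. -/
lemma ker_le_span_of_surjective (h : Function.Surjective φ) :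
    LinearMap.ker φB ≤ Submodule.span B (canM '' (LinearMap.ker φ : Set M)) := by
  -- compare with the tensor product
  have hex : Function.Exact ((LinearMap.ker φ).subtype) φ := LinearMap.exact_subtype_ker_map φ
  have h1 := lTensor_exact B hex h
  intro m' hm'
  have e1 : φB m' = 0 := hm'
  obtain ⟨t, rfl⟩ := hM.equiv.surjective m'
  have hcomm2 : ∀ t : B ⊗[A] M, φB (hM.equiv t) = hG.equiv ((φ.lTensor B) t) := by
    intro t
    induction t using TensorProduct.induction_on with
    | zero => simp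
    | tmul b m =>
      rw [IsBaseChange.equiv_tmul, map_smul, comm, LinearMap.lTensor_tmul, IsBaseChange.equiv_tmul]
    | add x y hx hy => rw [map_add, map_add, map_add, map_add, hx, hy]
  rw [hcomm2, LinearEquiv.map_eq_zero_iff] at e1
  obtain ⟨k, rfl⟩ := (h1 t).mp e1
  have key : ∀ k : B ⊗[A] (LinearMap.ker φ), hM.equiv ((LinearMap.ker φ).subtype.lTensor B k) ∈
      Submodule.span B (canM '' (LinearMap.ker φ : Set M)) := by
    intro k
    induction k using TensorProduct.induction_on with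
    | zero => simp
    | tmul b k =>
      rw [LinearMap.lTensor_tmul, IsBaseChange.equiv_tmul]
      exact Submodule.smul_mem _ _ (Submodule.subset_span ⟨k.1, k.2, rfl⟩)
    | add x y hx hy =>
      rw [map_add, map_add]
      exact Submodule.add_mem _ hx hy
  exact key k

include hM hG comm in
/-- If the kernel of the surjection `φ` is `I`-power torsion then the kernel of its base change is
`IB`-power torsion. -/
lemma pTors_of_mem_ker_baseChange (h1 : Function.Surjective φ) (h2 : ∀ m, φ m = 0 → PTors I m)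
    (m : MB) (hm : φB m = 0) : PTors (I.map (algebraMap A B)) m := by
  have h3 := ker_le_span_of_surjective hM hG comm h1 (show m ∈ LinearMap.ker φB from hm)
  have h4 : Submodule.span B (canM '' (LinearMap.ker φ : Set M)) ≤
      torsSub (I.map (algebraMap A B)) MB := by
    rw [Submodule.span_le]
    rintro _ ⟨m, hm, rfl⟩
    exact powTors_can (h2 m hm) canM
  exact h4 h3

include hM hG comm in
/-- Base change of a torsion quotient, when the base change of the target is torsion free for `J`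
and `J ^ n ≤ IB`. -/
lemma isTorsQuot_baseChange (h1 : Function.Surjective φ) (h2 : ∀ m, φ m = 0 → PTors I m)
    {J : Ideal B} (n : ℕ) (hJ : J ^ n ≤ I.map (algebraMap A B)) (hGB : TorsFree J GB) :
    IsTorsQuot J φB :=
  isTorsQuot_of_torsFree (surjective_baseChange hG comm h1)
    (fun m hm ↦ (pTors_of_mem_ker_baseChange hM hG comm h1 h2 m hm).of_pow_le n hJ) hGB

include hG in
/-- Flat base change of torsion freeness. -/
lemma torsFree_baseChange_flat [Module.Flat A B] (hI : I.FG) (h : TorsFree I G) :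
    TorsFree (I.map (algebraMap A B)) GB := by
  obtain ⟨s, rfl⟩ := hI
  -- multiplication by the generators
  let ψ : G →ₗ[A] (s → G) := LinearMap.pi fun a ↦ LinearMap.lsmul A G a.1
  have hψ : Function.Injective ψ := by
    rw [injective_iff_map_eq_zero]
    intro g hg
    refine h g fun a ha ↦ ?_
    refine Submodule.span_induction (p := fun a _ ↦ a • g = 0) ?_ ?_ ?_ ?_ ha
    · intro a ha
      exact congrFun hg ⟨a, ha⟩
    · rw [zero_smul]
    · intro x y _ _ hx hy
      rw [add_smul, hx, hy, add_zero]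
    · intro r x _ hx
      rw [smul_eq_mul, mul_smul, hx, smul_zero]
  have hψB := Module.Flat.lTensor_preserves_injective_linearMap (M := B) ψ hψ
  intro g hg
  obtain ⟨t, rfl⟩ := hG.equiv.surjective g
  rw [LinearEquiv.map_eq_zero_iff]
  apply hψB
  rw [map_zero]
  classical
  apply (TensorProduct.piRight A B B (fun _ : s ↦ G)).injective
  rw [map_zero]
  ext a
  have key : ∀ t : B ⊗[A] G, TensorProduct.piRight A B B (fun _ : s ↦ G) (ψ.lTensor B t) a =
      (algebraMap A B a.1) • t := by
    intro t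
    induction t using TensorProduct.induction_on with
    | zero => simp
    | tmul b m =>
      rw [LinearMap.lTensor_tmul, TensorProduct.piRight_apply, TensorProduct.piRightHom_tmul]
      change b ⊗ₜ[A] (a.1 • m) = (algebraMap A B a.1) • (b ⊗ₜ[A] m)
      rw [algebraMap_smul, TensorProduct.tmul_smul]
    | add x y hx hy => rw [map_add, map_add, Pi.add_apply, hx, hy, smul_add]
  rw [key]
  apply hG.equiv.injective
  rw [map_smul, Pi.zero_apply, map_zero]
  exact hg _ (Ideal.mem_map_of_mem _ (Ideal.subset_span a.2))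

include hM hG comm in
/-- Flat base change of torsion quotients. -/
lemma isTorsQuot_baseChange_flat [Module.Flat A B] (hI : I.FG) (h : IsTorsQuot I φ) :
    IsTorsQuot (I.map (algebraMap A B)) φB :=
  isTorsQuot_baseChange hM hG comm h.1 (fun m ↦ (h.2 m).mp) 1 (by rw [pow_one])
    (torsFree_baseChange_flat hG hI (h.torsFree hI))

end BaseChange

end Groth.Agent.Flat2C.PowTors
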