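import Groth.Agent.Flat2A.RelAssCons
import Groth.Agent.Flat2A.ImpurityBC
import Groth.Agent.Flat2A.ProjPure
import Groth.Agent.Flat2B.EtAss
import Groth.Agent.Flat2B.EtaleNhd
import Mathlib.RingTheory.Etale.QuasiFinite

/-!
# Purity through an étale chart (towards Stacks 05MA)

`C` étale over `B`, `C ⊗ N` projective over `R`, all primes of `B` over `r` in the image of `Spec C`.
For an `R`-algebra `A₂` and primes `t' ≤ t` of `A₂` with `t` over `r`: there is no impurity of `N` at `(t', t)` iff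
the relative assassin of `N` over `t' ∩ R` lies in the image of `Spec C`.
-/

set_option autoImplicit false

universe u

namespace Groth.Agent.Flat2C.PureLim392Key

open TensorProduct Topology Flat2A.Fiber Flat2A.FiberAss Flat2A.ImpurityBC Flat2B.EtaleNhd

section proj

variable {R A₂ B B₂ C C₂ N : Type u} [CommRing R] [CommRing A₂] [CommRing B] [CommRing B₂] [CommRing C]
  [CommRing C₂] [Algebra R A₂] [Algebra R C] [Algebra A₂ C₂] [Algebra C C₂] [Algebra R C₂] [IsScalarTower R A₂ C₂]
  [IsScalarTower R C C₂] [Algebra B C] [Algebra B B₂] [Algebra B₂ C₂] [Algebra B C₂] [IsScalarTower B C C₂]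
  [IsScalarTower B B₂ C₂] [AddCommGroup N] [Module B N] [Algebra.IsPushout R A₂ C C₂]

/-- Base change of projectivity of the chart module. -/
theorem projective_chart (h : Module.Projective R (C ⊗[B] N)) :
    Module.Projective A₂ (C₂ ⊗[B₂] (B₂ ⊗[B] N)) := by
  have e1 : C₂ ⊗[C] (C ⊗[B] N) ≃ₗ[A₂] C₂ ⊗[B] N :=
    { AlgebraTensorModule.cancelBaseChange B C C₂ C₂ N with
      map_smul' := by
        intro r x
        change AlgebraTensorModule.cancelBaseChange B C C₂ C₂ N (r • x) =
          r • AlgebraTensorModule.cancelBaseChange B C C₂ C₂ N x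
        rw [← algebraMap_smul C₂ r x, map_smul, algebraMap_smul] }
  have e2 : C₂ ⊗[B₂] (B₂ ⊗[B] N) ≃ₗ[A₂] C₂ ⊗[B] N :=
    { AlgebraTensorModule.cancelBaseChange B B₂ C₂ C₂ N with
      map_smul' := by
        intro r x
        change AlgebraTensorModule.cancelBaseChange B B₂ C₂ C₂ N (r • x) =
          r • AlgebraTensorModule.cancelBaseChange B B₂ C₂ C₂ N x
        rw [← algebraMap_smul C₂ r x, map_smul, algebraMap_smul] }
  have e3 : C₂ ⊗[C] (C ⊗[B] N) ≃ₗ[A₂] A₂ ⊗[R] (C ⊗[B] N) :=
    Algebra.IsPushout.cancelBaseChange R A₂ C C₂ (C ⊗[B] N)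
  exact Module.Projective.of_equiv ((e3.symm.trans e1).trans e2.symm)

end proj

section chart

variable {R B C : Type u} [CommRing R] [CommRing B] [CommRing C] [Algebra R B] [Algebra.FiniteType R B]
  [Algebra B C] [Algebra R C] [IsScalarTower R B C] [Algebra.Etale B C]
  {N : Type u} [AddCommGroup N] [Module B N] [Module R N] [IsScalarTower R B N]

/-- A relatively associated prime in the image of a projective étale chart specializes over every specialization. -/
theorem exists_prime_over_of_chart (hproj : Module.Projective R (C ⊗[B] N)) (t' t : Ideal R) [t'.IsPrime]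
    [t.IsPrime] (hle : t' ≤ t) (P : Ideal B) (hP : P ∈ associatedPrimes B (FlatCA.fiberMod t' B N))
    (Q : Ideal C) [Q.IsPrime] (hQ : Q.LiesOver P) :
    ∃ P' : Ideal B, P'.IsPrime ∧ P ≤ P' ∧ P'.LiesOver t := by
  have hft : Algebra.FiniteType R C := Algebra.FiniteType.trans (S := B) inferInstance inferInstance
  have h1 : Q.comap (algebraMap B C) = P := hQ.over.symm
  have h2 : Q ∈ associatedPrimes C (FlatCA.fiberMod t' C (C ⊗[B] N)) :=
    Flat2B.EtAss.mem_of_etale t' (TensorProduct.mk B C N 1) (TensorProduct.isBaseChange B N C) (by rw [h1]; exact hP)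
  obtain ⟨-, h3, h4⟩ := (mem_associatedPrimes_fiberMod_iff t' _ Q).mp h2
  obtain ⟨Q', hQ', hle', hov⟩ := Flat2A.ProjPure.exists_prime_over (LinearMap.id (R := C) (M := C ⊗[B] N)) t' t hle
    (by
      have : (LinearMap.id (R := C) (M := C ⊗[B] N)).restrictScalars R = LinearMap.id := rfl
      rw [this, LinearMap.rTensor_id]
      exact Function.injective_id) Q h4
  refine ⟨Q'.comap (algebraMap B C), inferInstance, ?_, ⟨?_⟩⟩
  · rw [← h1]
    exact Ideal.comap_mono hle'
  · rw [hov.over, Ideal.under_def, Ideal.under_def, Ideal.comap_comap, ← IsScalarTower.algebraMap_eq]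

/-- The relative assassin over `s` lies in the image of `Spec C`. -/
def AssIn (R B C N : Type u) [CommRing R] [CommRing B] [CommRing C] [Algebra R B] [Algebra B C]
    [AddCommGroup N] [Module B N] (s : Ideal R) [s.IsPrime] : Prop :=
  ∀ P ∈ associatedPrimes B (FlatCA.fiberMod s B N), ∃ Q : Ideal C, Q.IsPrime ∧ Q.LiesOver P

attribute [local instance] Algebra.TensorProduct.rightAlgebra

/-- If the relative assassin of `N` over `t' ∩ R` lies in the image of the chart, then `N` has no impurity at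
`t' ≤ t` over `A₂`. -/
theorem not_imp_of_assIn (hproj : Module.Projective R (C ⊗[B] N)) (A₂ : Type u) [CommRing A₂] [Algebra R A₂]
    (t' t : Ideal A₂) [t'.IsPrime] [t.IsPrime] (s : Ideal R) [s.IsPrime] [t'.LiesOver s] (hs : AssIn R B C N s) :
    ¬ Imp R B N A₂ t' t := by
  rintro ⟨hle, P, hP, hno⟩
  let B₂ := A₂ ⊗[R] B
  let N₂ := B₂ ⊗[B] N
  have hn1 : IsNoetherianRing (s.Fiber B) := fiber_isNoetherianRing s
  have hn2 : IsNoetherianRing (t'.Fiber B₂) := fiber_isNoetherianRing t'
  have hpo : Algebra.IsPushout R B A₂ B₂ := inferInstance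
  have hP₀ : P.comap (algebraMap B B₂) ∈ associatedPrimes B (FlatCA.fiberMod s B N) :=
    Flat2A.AssBaseChange.comap_mem_ass_fiberMod s t' (TensorProduct.mk B B₂ N 1)
      (TensorProduct.isBaseChange B N B₂) P hP
  obtain ⟨Q₀, hQ₀, hQP⟩ := hs _ hP₀
  have hPp : P.IsPrime := hP.1
  let C₂ := B₂ ⊗[B] C
  obtain ⟨Q, hQ, hQ1, hQ2⟩ := exists_prime_of_isPushout (R := B) (R' := B₂) (S := C) (S' := C₂)
    (P.comap (algebraMap B B₂)) Q₀ P (hp' := ⟨rfl⟩)
  have h5 : IsScalarTower R C C₂ := IsScalarTower.of_algebraMap_eq fun x => by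
    rw [IsScalarTower.algebraMap_apply R B C, ← IsScalarTower.algebraMap_apply B C C₂,
      IsScalarTower.algebraMap_apply B B₂ C₂, ← IsScalarTower.algebraMap_apply R B B₂]
    exact IsScalarTower.algebraMap_apply R B₂ C₂ x
  have hpo₂ : Algebra.IsPushout R C A₂ C₂ := by
    rw [Algebra.IsPushout.comp_iff R B A₂ (S' := B₂)]
    infer_instance
  have hpo₃ : Algebra.IsPushout R A₂ C C₂ := hpo₂.symm
  have hproj₂ : Module.Projective A₂ (C₂ ⊗[B₂] N₂) :=
    projective_chart (R := R) (A₂ := A₂) (B := B) (B₂ := B₂) (C := C) (C₂ := C₂) (N := N) hproj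
  obtain ⟨P', hP', hle', hov⟩ := exists_prime_over_of_chart (R := A₂) (B := B₂) (C := C₂) hproj₂ t' t hle P hP Q hQ2
  exact hno P' hle' hov

omit [Algebra R C] [IsScalarTower R B C] in
/-- Conversely, if `N` has no impurity at `t' ≤ t` and `t` lies over `r`, and every prime of `B` over `r` lies in the
image of the chart, then so does the relative assassin over `t' ∩ R`. -/
theorem assIn_of_not_imp (r : Ideal R) [r.IsPrime]
    (hcov : ∀ (P : Ideal B) [P.IsPrime], P.LiesOver r → ∃ Q : Ideal C, Q.IsPrime ∧ Q.LiesOver P)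
    (A₂ : Type u) [CommRing A₂] [Algebra R A₂] (t' t : Ideal A₂) [t'.IsPrime] [t.IsPrime] (ht : t.LiesOver r)
    (hle : t' ≤ t) (s : Ideal R) [s.IsPrime] [t'.LiesOver s] (h : ¬ Imp R B N A₂ t' t) : AssIn R B C N s := by
  intro P₀ hP₀
  let B₂ := A₂ ⊗[R] B
  have hn1 : IsNoetherianRing (s.Fiber B) := fiber_isNoetherianRing s
  have hn2 : IsNoetherianRing (t'.Fiber B₂) := fiber_isNoetherianRing t'
  have hpo : Algebra.IsPushout R B A₂ B₂ := inferInstance
  obtain ⟨P, hP, hc⟩ := Flat2A.AssBaseChange.exists_mem_ass_fiberMod s t' (TensorProduct.mk B B₂ N 1)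
      (TensorProduct.isBaseChange B N B₂) P₀ hP₀
  have h1 : ∃ P' : Ideal B₂, P'.IsPrime ∧ P ≤ P' ∧ P'.LiesOver t := by
    by_contra hcon
    exact h ⟨hle, P, hP, fun P' hP' h2 h3 => hcon ⟨P', hP', h2, h3⟩⟩
  obtain ⟨P', hP', hPP', hov⟩ := h1
  have h2 : (P'.comap (algebraMap B B₂)).LiesOver r := by
    constructor
    rw [ht.over, hov.over]
    change Ideal.comap _ (Ideal.comap _ _) = Ideal.comap _ (Ideal.comap _ _)
    rw [Ideal.comap_comap, Ideal.comap_comap, ← IsScalarTower.algebraMap_eq, ← IsScalarTower.algebraMap_eq]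
  obtain ⟨Q', hQ', hQ'o⟩ := hcov _ h2
  have hP₀p : P₀.IsPrime := hP₀.1
  have hle₀ : P₀ ≤ P'.comap (algebraMap B B₂) := by
    rw [← hc]
    exact Ideal.comap_mono hPP'
  obtain ⟨Q, -, hQ, hQo⟩ := Ideal.exists_ideal_le_liesOver_of_le (R := B) (p := P₀)
    (q := P'.comap (algebraMap B B₂)) Q' hle₀
  exact ⟨Q, hQ, hQo⟩

/-- The image of an étale chart is a finite union of basic opens. -/
theorem exists_basicOpens (B C : Type u) [CommRing B] [CommRing C] [Algebra B C] [Algebra.Etale B C] :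
    ∃ (l : ℕ) (g : Fin l → B), ∀ (P : Ideal B) [P.IsPrime],
      (∃ Q : Ideal C, Q.IsPrime ∧ Q.LiesOver P) ↔ ∃ i, g i ∉ P := by
  have h1 : IsOpen (Set.range (PrimeSpectrum.comap (algebraMap B C))) := by
    rw [← Set.image_univ]
    exact PrimeSpectrum.isOpenMap_comap_of_hasGoingDown_of_finitePresentation _ isOpen_univ
  have h2 : IsCompact (Set.range (PrimeSpectrum.comap (algebraMap B C))) := by
    rw [← Set.image_univ]
    exact isCompact_univ.image (PrimeSpectrum.continuous_comap (algebraMap B C))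
  obtain ⟨t, ht⟩ := PrimeSpectrum.isCompact_isOpen_iff.mp ⟨h2, h1⟩
  refine ⟨t.card, fun i => (t.equivFin.symm i : B), fun P _ => ?_⟩
  have h3 : (∃ Q : Ideal C, Q.IsPrime ∧ Q.LiesOver P) ↔
      (⟨P, inferInstance⟩ : PrimeSpectrum B) ∈ Set.range (PrimeSpectrum.comap (algebraMap B C)) := by
    constructor
    · rintro ⟨Q, hQ, hQP⟩
      exact ⟨⟨Q, hQ⟩, PrimeSpectrum.ext hQP.over.symm⟩
    · rintro ⟨Q, hQ⟩
      exact ⟨Q.asIdeal, Q.isPrime, ⟨(congrArg PrimeSpectrum.asIdeal hQ).symm⟩⟩
  rw [h3, ← ht, Set.mem_compl_iff, PrimeSpectrum.mem_zeroLocus, Set.not_subset]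
  constructor
  · rintro ⟨a, ha, ha'⟩
    exact ⟨t.equivFin ⟨a, ha⟩, by simpa using ha'⟩
  · rintro ⟨i, hi⟩
    exact ⟨_, (t.equivFin.symm i).2, hi⟩

omit [Algebra.FiniteType R B] [Algebra R C] [IsScalarTower R B C] in
/-- The set of points over which the relative assassin lies in the image of an étale chart is constructible. -/
theorem isConstructible_assIn [Algebra.FinitePresentation R B] [Module.FinitePresentation B N] :
    IsConstructible {s : PrimeSpectrum R | AssIn R B C N s.asIdeal} := by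
  obtain ⟨l, g, hg⟩ := exists_basicOpens B C
  have := Flat2A.RelAssCons.isConstructible_relAss_subset (A := R) (B := B) N g
  convert this using 1
  ext s
  constructor
  · intro h q _ h1 h2
    exact (hg q).mp (h q ((mem_associatedPrimes_fiberMod_iff s.asIdeal N q).mpr ⟨inferInstance, h1, h2⟩))
  · intro h P hP
    obtain ⟨h1, h2, h3⟩ := (mem_associatedPrimes_fiberMod_iff s.asIdeal N P).mp hP
    exact (hg P).mpr (h P h2 h3)

end chart

end Groth.Agent.Flat2C.PureLim392Key
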