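import Mathlib.RingTheory.Localization.BaseChange
import Mathlib.RingTheory.FiniteType
import Mathlib.RingTheory.Noetherian.Basic
import Mathlib.RingTheory.FiniteStability
import Mathlib.RingTheory.TensorProduct.Finite

/-!
Killing the `T`-torsion of a fibre module by inverting one element of `T`.
-/

set_option autoImplicit false

namespace Groth.Agent.Flat2C.TorsKill

open TensorProduct

theorem exists_kill {B Λ F : Type*} [CommRing B] [CommRing Λ] [Algebra B Λ] [AddCommGroup F] [Module Λ F]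
    [IsNoetherian Λ F] [Module B F] [IsScalarTower B Λ F] (T : Submonoid B) :
    ∃ t₀ ∈ T, ∀ t ∈ T, ∀ x : F, t • x = 0 → t₀ • x = 0 := by
  let K : B → Submodule Λ F := fun t => LinearMap.ker (LinearMap.lsmul Λ F (algebraMap B Λ t))
  have hK : ∀ t x, x ∈ K t ↔ t • x = 0 := by
    intro t x
    rw [LinearMap.mem_ker, LinearMap.lsmul_apply, algebraMap_smul]
  obtain ⟨M, ⟨t₀, ht₀, rfl⟩, hmax⟩ := set_has_maximal_iff_noetherian.mpr (inferInstance : IsNoetherian Λ F)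
    (K '' (T : Set B)) ⟨_, ⟨1, T.one_mem, rfl⟩⟩
  refine ⟨t₀, ht₀, fun t ht x hx => ?_⟩
  have hle : K t₀ ≤ K (t₀ * t) := by
    intro y hy
    rw [hK] at hy ⊢
    rw [mul_comm, mul_smul, hy, smul_zero]
  have heq : K t₀ = K (t₀ * t) := by
    by_contra hne
    exact hmax _ ⟨_, T.mul_mem ht₀ ht, rfl⟩ (lt_of_le_of_ne hle hne)
  rw [← hK, heq, hK, mul_smul, hx, smul_zero]

theorem exists_kill_fiber {A B N₀ κ : Type*} [CommRing A] [CommRing B] [Algebra A B] [Algebra.FiniteType A B]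
    [AddCommGroup N₀] [Module B N₀] [Module A N₀] [IsScalarTower A B N₀] [Module.Finite B N₀] [Field κ] [Algebra A κ]
    (T : Submonoid B) :
    ∃ t₀ ∈ T, ∀ t ∈ T, ∀ x : N₀ ⊗[A] κ, t • x = 0 → t₀ • x = 0 := by
  have hnoeth : IsNoetherianRing (B ⊗[A] κ) := by
    have : IsNoetherianRing (κ ⊗[A] B) := Algebra.FiniteType.isNoetherianRing κ (κ ⊗[A] B)
    exact isNoetherianRing_of_ringEquiv (κ ⊗[A] B) (Algebra.TensorProduct.comm A κ B).toRingEquiv
  have : IsNoetherian (B ⊗[A] κ) ((B ⊗[A] κ) ⊗[B] N₀) := isNoetherian_of_isNoetherianRing_of_finite _ _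
  obtain ⟨t₀, ht₀, h⟩ := exists_kill (B := B) (Λ := B ⊗[A] κ) (F := (B ⊗[A] κ) ⊗[B] N₀) T
  refine ⟨t₀, ht₀, fun t ht x hx => ?_⟩
  let e : (B ⊗[A] κ) ⊗[B] N₀ ≃ₗ[B] N₀ ⊗[A] κ :=
    TensorProduct.comm B _ _ ≪≫ₗ AlgebraTensorModule.cancelBaseChange A B B N₀ κ
  apply e.symm.injective
  rw [map_smul, map_zero]
  apply h t ht
  rw [← map_smul, hx, map_zero]

theorem smul_injective_of_kill {A B N₀ N' κ : Type*} [CommRing A] [CommRing B] [Algebra A B]
    [AddCommGroup N₀] [Module B N₀] [Module A N₀] [IsScalarTower A B N₀]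
    [AddCommGroup N'] [Module B N'] [Module A N'] [IsScalarTower A B N'] [AddCommGroup κ] [Module A κ]
    (T : Submonoid B) (t₀ : B) (ht₀ : t₀ ∈ T) (h : ∀ t ∈ T, ∀ x : N₀ ⊗[A] κ, t • x = 0 → t₀ • x = 0)
    (φ : N₀ →ₗ[B] N') [IsLocalizedModule (Submonoid.powers t₀) φ] (t : B) (ht : t ∈ T) (x : N' ⊗[A] κ)
    (hx : t • x = 0) : x = 0 := by
  have hloc : IsLocalizedModule (Submonoid.powers t₀) (AlgebraTensorModule.rTensor A κ φ) := inferInstance
  obtain ⟨⟨y, s, ⟨k, rfl⟩⟩, hy⟩ := IsLocalizedModule.surj (Submonoid.powers t₀) (AlgebraTensorModule.rTensor A κ φ) x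
  dsimp only at hy
  have hu := IsLocalizedModule.map_units (AlgebraTensorModule.rTensor A κ φ) (⟨t₀, ⟨1, pow_one t₀⟩⟩ : Submonoid.powers t₀)
  have hinj : ∀ z : N' ⊗[A] κ, t₀ • z = 0 → z = 0 := by
    intro z hz
    have h1 := (Module.End.isUnit_iff _).mp hu
    apply h1.1
    simpa using hz
  have hinjk : ∀ (k : ℕ) (z : N' ⊗[A] κ), t₀ ^ k • z = 0 → z = 0 := by
    intro k
    induction k with
    | zero => intro z hz; simpa using hz
    | succ k ih =>
      intro z hz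
      rw [pow_succ, mul_smul] at hz
      exact hinj _ (ih _ hz)
  have h2 : AlgebraTensorModule.rTensor A κ φ (t • y) = 0 := by
    rw [map_smul, ← hy]
    change t • (t₀ ^ k • x) = 0
    rw [smul_comm, hx, smul_zero]
  obtain ⟨⟨s, ⟨m, rfl⟩⟩, hs⟩ := IsLocalizedModule.exists_of_eq (S := Submonoid.powers t₀)
    (f := AlgebraTensorModule.rTensor A κ φ) (x₁ := t • y) (x₂ := 0) (by rw [h2, map_zero])
  have h3 : (t₀ ^ m * t) • y = 0 := by
    rw [mul_smul]
    exact hs.trans (smul_zero _)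
  have h4 : t₀ • y = 0 := h _ (T.mul_mem (T.pow_mem ht₀ m) ht) y h3
  apply hinjk k
  apply hinj
  change t₀ • ((⟨t₀ ^ k, ⟨k, rfl⟩⟩ : Submonoid.powers t₀) • x) = 0
  rw [hy, ← map_smul, h4, map_zero]

end Groth.Agent.Flat2C.TorsKill
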