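import Mathlib.RingTheory.LocalRing.Module
import Mathlib.LinearAlgebra.TensorProduct.Vanishing
import Mathlib.LinearAlgebra.TensorProduct.Basis

/-!
Universal injectivity over a local ring: a map from a free module to a flat module which is injective modulo the
maximal ideal is universally injective (Stacks 05CF / 0AT5 core).
-/

set_option autoImplicit false

namespace Groth.Agent.Flat2C.UnivInj

open TensorProduct IsLocalRing

variable {R : Type*} [CommRing R] [IsLocalRing R] {P M : Type*} [AddCommGroup P] [Module R P]
  [AddCommGroup M] [Module R M]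

/-- Over a local ring, a map from a free module to a flat module which is injective after tensoring with the residue
field is universally injective. -/
theorem lTensor_injective_of_residueField [Module.Free R P] [Module.Flat R M] (u : P →ₗ[R] M)
    (hu : Function.Injective (u.lTensor (ResidueField R))) (Q : Type*) [AddCommGroup Q] [Module R Q] :
    Function.Injective (u.lTensor Q) := by
  classical
  rw [injective_iff_map_eq_zero]
  intro x hx
  let b := Module.Free.chooseBasis R P
  let c := TensorProduct.equivFinsuppOfBasisRight b x
  have hxc : x = c.sum fun i q => q ⊗ₜ b i := by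
    rw [← TensorProduct.equivFinsuppOfBasisRight_symm_apply]; simp [c]
  let s := c.support
  have hx' : x = ∑ i : s, c i ⊗ₜ b i := by
    rw [hxc, Finsupp.sum, ← Finset.sum_coe_sort]
  have h0 : ∑ i : s, c i ⊗ₜ[R] u (b i) = 0 := by
    rw [hx', map_sum] at hx; simpa using hx
  have hv := TensorProduct.vanishesTrivially_of_sum_tmul_eq_zero_of_rTensor_injective R
    (Module.Flat.rTensor_preserves_injective_linearMap _ (Submodule.injective_subtype _)) h0
  obtain ⟨k, a, y, h1, h2⟩ := hv
  let i₀ : (s → R) →ₗ[R] P := Fintype.linearCombination R (fun i : s => b i)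
  let r₀ : P →ₗ[R] (s → R) := LinearMap.pi fun i => b.coord i
  let A : (s → R) →ₗ[R] (Fin k → R) := Fintype.linearCombination R a
  let Y : (Fin k → R) →ₗ[R] M := Fintype.linearCombination R y
  have hYA : Y ∘ₗ A = u ∘ₗ i₀ := by
    ext i
    simp [Y, A, i₀, h1, Fintype.linearCombination_apply]
  have hr₀ : r₀ ∘ₗ i₀ = LinearMap.id := by
    ext i j
    simp [r₀, i₀, Finsupp.single_apply, Pi.single_apply, eq_comm]
  have hi₀ : ∀ (Q : Type _) [AddCommGroup Q] [Module R Q], Function.Injective (i₀.lTensor Q) := by
    intro Q _ _
    apply Function.LeftInverse.injective (g := r₀.lTensor Q)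
    intro z
    rw [← LinearMap.comp_apply, ← LinearMap.lTensor_comp, hr₀]
    simp
  have hA : Function.Injective (A.lTensor (ResidueField R)) := by
    have h3 : Function.Injective ((Y ∘ₗ A).lTensor (ResidueField R)) := by
      rw [hYA, LinearMap.lTensor_comp]
      exact hu.comp (hi₀ _)
    rw [LinearMap.lTensor_comp] at h3
    exact Function.Injective.of_comp h3
  obtain ⟨l', hl'⟩ := (IsLocalRing.split_injective_iff_lTensor_residueField_injective A).mpr hA
  let x₀ : Q ⊗[R] (s → R) := ∑ i : s, c i ⊗ₜ Pi.single i 1
  have hxx₀ : i₀.lTensor Q x₀ = x := by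
    rw [hx', map_sum]
    simp [i₀]
  have hAx : A.lTensor Q x₀ = 0 := by
    have h4 : ∀ i : s, a i = ∑ j : Fin k, a i j • (Pi.single j 1 : Fin k → R) := by
      intro i
      ext j
      simp [Pi.single_apply]
    rw [map_sum]
    simp only [LinearMap.lTensor_tmul, A, Fintype.linearCombination_apply_single, one_smul]
    calc ∑ i : s, c i ⊗ₜ[R] a i = ∑ i : s, ∑ j : Fin k, (a i j • c i) ⊗ₜ[R] (Pi.single j 1 : Fin k → R) := by
          refine Finset.sum_congr rfl fun i _ => ?_
          conv_lhs => rw [h4 i]
          rw [TensorProduct.tmul_sum]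
          refine Finset.sum_congr rfl fun j _ => ?_
          rw [TensorProduct.smul_tmul]
      _ = ∑ j : Fin k, (∑ i : s, a i j • c i) ⊗ₜ[R] (Pi.single j 1 : Fin k → R) := by
          rw [Finset.sum_comm]
          refine Finset.sum_congr rfl fun j _ => ?_
          rw [TensorProduct.sum_tmul]
      _ = 0 := by
          refine Finset.sum_eq_zero fun j _ => ?_
          rw [h2 j, TensorProduct.zero_tmul]
  have hx₀ : x₀ = 0 := by
    have h5 := congrArg (l'.lTensor Q) hAx
    rw [← LinearMap.comp_apply, ← LinearMap.lTensor_comp, hl'] at h5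
    simpa using h5
  rw [← hxx₀, hx₀, map_zero]

/-- Variant with an arbitrary field `k` receiving a local homomorphism from `R`. -/
theorem lTensor_injective_of_field [Module.Free R P] [Module.Flat R M] (u : P →ₗ[R] M)
    (k : Type*) [Field k] [Algebra R k] [IsLocalHom (algebraMap R k)]
    (hu : Function.Injective (u.lTensor k)) (Q : Type*) [AddCommGroup Q] [Module R Q] :
    Function.Injective (u.lTensor Q) := by
  apply lTensor_injective_of_residueField
  let j : ResidueField R →ₐ[R] k :=
    { toRingHom := IsLocalRing.ResidueField.lift (algebraMap R k)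
      commutes' := fun r => IsLocalRing.ResidueField.lift_residue_apply _ _ }
  have hj : Function.Injective (j.toLinearMap.rTensor P) :=
    Module.Flat.rTensor_preserves_injective_linearMap _ j.toRingHom.injective
  have h1 : (u.lTensor k) ∘ₗ (j.toLinearMap.rTensor P) = (j.toLinearMap.rTensor M) ∘ₗ (u.lTensor (ResidueField R)) := by
    ext; simp
  have h2 : Function.Injective ((j.toLinearMap.rTensor M) ∘ₗ (u.lTensor (ResidueField R))) := by
    rw [← h1]
    exact hu.comp hj
  exact Function.Injective.of_comp h2

end Groth.Agent.Flat2C.UnivInj
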