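import Groth.Prelude.Def_FlatCA
import Groth.Agent.Flat2C.UnivInj
import Groth.Agent.Flat2C.TorsKill
import Groth.Agent.Flat2C.PushoutBC

/-!
Universal injectivity of localization maps (used for pure spreadouts, Stacks 0AT8).
-/

set_option autoImplicit false
universe u

namespace Groth.Agent.Flat2C.PureSpread

open TensorProduct

/-- A localization map is universally injective as soon as the denominators act universally injectively. -/
theorem univInj_of_isLocalizedModule {A₁ C₁ N₁' N₁ : Type u} [CommRing A₁] [CommRing C₁] [Algebra A₁ C₁]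
    [AddCommGroup N₁'] [Module C₁ N₁'] [Module A₁ N₁'] [IsScalarTower A₁ C₁ N₁']
    [AddCommGroup N₁] [Module C₁ N₁] [Module A₁ N₁] [IsScalarTower A₁ C₁ N₁]
    (S : Submonoid C₁) (g : N₁' →ₗ[C₁] N₁) [IsLocalizedModule S g]
    (h : ∀ s ∈ S, ∀ (Q : Type u) [AddCommGroup Q] [Module A₁ Q],
      Function.Injective (((LinearMap.lsmul C₁ N₁' s).restrictScalars A₁).lTensor Q)) :
    FlatCA.UnivInj A₁ (g.restrictScalars A₁) := by
  intro Q _ _
  rw [LinearMap.lTensor_inj_iff_rTensor_inj, injective_iff_map_eq_zero]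
  intro x hx
  have hloc : IsLocalizedModule S (AlgebraTensorModule.rTensor A₁ Q g) := inferInstance
  have hx' : AlgebraTensorModule.rTensor A₁ Q g x = AlgebraTensorModule.rTensor A₁ Q g 0 := by
    rw [map_zero]; exact hx
  obtain ⟨⟨s, hs⟩, hsx⟩ := IsLocalizedModule.exists_of_eq (S := S) hx'
  have h1 : s • x = 0 := hsx.trans (smul_zero _)
  have h2 := h s hs Q
  rw [LinearMap.lTensor_inj_iff_rTensor_inj, injective_iff_map_eq_zero] at h2
  apply h2
  rw [← h1]
  have h3 : ∀ y : N₁' ⊗[A₁] Q, ((LinearMap.lsmul C₁ N₁' s).restrictScalars A₁).rTensor Q y = s • y := by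
    intro y
    induction y with
    | zero => simp
    | add y z hy hz => rw [map_add, hy, hz, smul_add]
    | tmul n q => rw [LinearMap.rTensor_tmul, TensorProduct.smul_tmul']; rfl
  exact h3 x

/-- Multiplication by `t` on `C₁ ⊗ N'` is universally injective over the local ring `A₁` if `A₁ ⊗ N'` is free and `t`
acts injectively on the closed fibre. -/
theorem lsmul_lTensor_injective {A A₁ C C₁ κ : Type*} [CommRing A] [CommRing A₁] [CommRing C] [CommRing C₁]
    [Algebra A A₁] [Algebra A C] [Algebra A₁ C₁] [Algebra C C₁] [Algebra A C₁] [IsScalarTower A A₁ C₁]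
    [IsScalarTower A C C₁] [Algebra.IsPushout A A₁ C C₁] [IsLocalRing A₁] [Field κ] [Algebra A₁ κ] [Algebra A κ]
    [IsScalarTower A A₁ κ] [IsLocalHom (algebraMap A₁ κ)]
    (N' : Type*) [AddCommGroup N'] [Module C N'] [Module A N'] [IsScalarTower A C N']
    (hfree : Module.Free A₁ (A₁ ⊗[A] N')) (t : C)
    (ht : ∀ x : N' ⊗[A] κ, t • x = 0 → x = 0)
    (Q : Type*) [AddCommGroup Q] [Module A₁ Q] :
    Function.Injective (((LinearMap.lsmul C₁ (C₁ ⊗[C] N') (algebraMap C C₁ t)).restrictScalars A₁).lTensor Q) := by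
  let e : C₁ ⊗[C] N' ≃ₗ[A₁] A₁ ⊗[A] N' := Algebra.IsPushout.cancelBaseChange A A₁ C C₁ N'
  have hfree' : Module.Free A₁ (C₁ ⊗[C] N') := Module.Free.of_equiv e.symm
  apply UnivInj.lTensor_injective_of_field _ κ
  rw [injective_iff_map_eq_zero]
  let E : κ ⊗[A₁] (C₁ ⊗[C] N') ≃+ N' ⊗[A] κ :=
    ((TensorProduct.congr (LinearEquiv.refl A₁ κ) e).toAddEquiv.trans
      (AlgebraTensorModule.cancelBaseChange A A₁ A₁ κ N').toAddEquiv).trans (TensorProduct.comm A κ N').toAddEquiv
  have hE : ∀ z, E ((((LinearMap.lsmul C₁ (C₁ ⊗[C] N') (algebraMap C C₁ t)).restrictScalars A₁).lTensor κ) z) = t • E z := by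
    intro z
    induction z with
    | zero => simp
    | add x y hx hy => rw [map_add, map_add, hx, hy, map_add, smul_add]
    | tmul k x =>
      obtain ⟨y, rfl⟩ := e.symm.surjective x
      induction y with
      | zero => simp
      | add x y hx hy =>
        rw [map_add, TensorProduct.tmul_add, map_add, map_add, hx, hy, map_add, smul_add]
      | tmul a n =>
        have h1 : e.symm (a ⊗ₜ n) = algebraMap A₁ C₁ a ⊗ₜ n := Algebra.IsPushout.cancelBaseChange_symm_tmul A A₁ C C₁ N' a n
        have h2 : (algebraMap C C₁ t) • ((algebraMap A₁ C₁ a) ⊗ₜ[C] n) = e.symm (a ⊗ₜ (t • n)) := by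
          rw [Algebra.IsPushout.cancelBaseChange_symm_tmul, algebraMap_smul, TensorProduct.tmul_smul]
        have h3 : ∀ (a : A₁) (n : N'), E (k ⊗ₜ e.symm (a ⊗ₜ n)) = n ⊗ₜ (a • k) := by
          intro a n
          simp [E]
        rw [LinearMap.lTensor_tmul, h3, LinearMap.restrictScalars_apply, LinearMap.lsmul_apply, h1, h2, h3,
          TensorProduct.smul_tmul']
  intro z hz
  apply E.injective
  rw [map_zero]
  apply ht
  rw [← hE, hz, map_zero]

end Groth.Agent.Flat2C.PureSpread
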