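import Groth.Agent.Flat2C.PureSpread
import Mathlib.RingTheory.Localization.LocalizationLocalization
import Mathlib.AlgebraicGeometry.OpenImmersion

/-!
Assembling a pure spreadout from a model killing the torsion of the closed fibre (Stacks 0AT8).
-/

set_option autoImplicit false
universe u

namespace Groth.Agent.Flat2C.PureSpread2

open TensorProduct

attribute [local instance] Algebra.TensorProduct.rightAlgebra

theorem core {A A₁ B B₁ C κ : Type u} [CommRing A] [CommRing A₁] [IsLocalRing A₁] [CommRing B] [CommRing B₁]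
    [CommRing C] [Field κ]
    [Algebra A A₁] [Algebra A B] [Algebra A B₁] [Algebra B B₁] [Algebra A₁ B₁] [IsScalarTower A B B₁]
    [IsScalarTower A A₁ B₁] [hpo : Algebra.IsPushout A B A₁ B₁]
    [Algebra B C] [Algebra A C] [IsScalarTower A B C]
    [Algebra A κ] [Algebra A₁ κ] [IsScalarTower A A₁ κ] [IsLocalHom (algebraMap A₁ κ)]
    (T : Submonoid B) (t₀ : B) (ht₀ : t₀ ∈ T) [IsLocalization.Away t₀ C]
    (N₀ N : Type u) [AddCommGroup N₀] [Module B N₀] [Module A N₀] [IsScalarTower A B N₀]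
    [Module.FinitePresentation B N₀]
    [AddCommGroup N] [Module (Localization T) N] [Module B N] [IsScalarTower B (Localization T) N]
    [Module A N] [IsScalarTower A B N] [IsScalarTower A (Localization T) N]
    (φ₀ : N₀ →ₗ[B] N) (hφ₀ : IsBaseChange (Localization T) φ₀)
    (hkill : ∀ t ∈ T, ∀ x : N₀ ⊗[A] κ, t • x = 0 → t₀ • x = 0)
    (hfree : Module.Free A₁ (A₁ ⊗[A] (C ⊗[B] N₀)))
    (N₁ : Type u) [AddCommGroup N₁] [Module (Localization (T.map (algebraMap B B₁))) N₁] [Module A₁ N₁]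
    [IsScalarTower A₁ (Localization (T.map (algebraMap B B₁))) N₁] [Module B N₁]
    [IsScalarTower B (Localization (T.map (algebraMap B B₁))) N₁] [Module A N₁] [IsScalarTower A A₁ N₁]
    [IsScalarTower A B N₁]
    (h : N →ₗ[B] N₁) (hh : IsBaseChange A₁ (h.restrictScalars A)) :
    FlatCA.HasPureSpreadout A₁ B₁ (T.map (algebraMap B B₁)) N₁ := by
  let L := Localization T
  let L₁ := Localization (T.map (algebraMap B B₁))
  let C₁ := B₁ ⊗[B] C
  -- `C → L`
  have hle : Submonoid.powers t₀ ≤ T := by rwa [Submonoid.powers_le]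
  let aCL : Algebra C L := IsLocalization.localizationAlgebraOfSubmonoidLe C L (Submonoid.powers t₀) T hle
  have tBCL : IsScalarTower B C L :=
    IsLocalization.localization_isScalarTower_of_submonoid_le C L (Submonoid.powers t₀) T hle
  -- `C₁ → L₁`
  have hle₁ : Algebra.algebraMapSubmonoid B₁ (Submonoid.powers t₀) ≤ T.map (algebraMap B B₁) :=
    Submonoid.monotone_map hle
  have hlocC₁ : IsLocalization (Algebra.algebraMapSubmonoid B₁ (Submonoid.powers t₀)) C₁ := inferInstance
  let aC₁L₁ : Algebra C₁ L₁ := IsLocalization.localizationAlgebraOfSubmonoidLe C₁ L₁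
    (Algebra.algebraMapSubmonoid B₁ (Submonoid.powers t₀)) (T.map (algebraMap B B₁)) hle₁
  have tB₁C₁L₁ : IsScalarTower B₁ C₁ L₁ :=
    IsLocalization.localization_isScalarTower_of_submonoid_le C₁ L₁
      (Algebra.algebraMapSubmonoid B₁ (Submonoid.powers t₀)) (T.map (algebraMap B B₁)) hle₁
  have hlocL₁ : IsLocalization ((T.map (algebraMap B B₁)).map (algebraMap B₁ C₁)) L₁ :=
    IsLocalization.isLocalization_of_submonoid_le C₁ L₁
      (Algebra.algebraMapSubmonoid B₁ (Submonoid.powers t₀)) (T.map (algebraMap B B₁)) hle₁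
  -- `L → L₁`
  let aLL₁ : Algebra L L₁ := (IsLocalization.map L₁ (algebraMap B B₁) (T.le_comap_map) : L →+* L₁).toAlgebra
  have tBLL₁ : IsScalarTower B L L₁ := IsScalarTower.of_algebraMap_eq fun b => by
    change _ = IsLocalization.map L₁ (algebraMap B B₁) (T.le_comap_map) (algebraMap B L b)
    rw [IsLocalization.map_eq, ← IsScalarTower.algebraMap_apply]
  -- `C → L₁`
  let aCL₁ : Algebra C L₁ := ((algebraMap L L₁).comp (algebraMap C L)).toAlgebra
  have tCLL₁ : IsScalarTower C L L₁ := IsScalarTower.of_algebraMap_eq fun _ => rfl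
  have tBCL₁ : IsScalarTower B C L₁ := IsScalarTower.of_algebraMap_eq fun b => by
    change _ = algebraMap L L₁ (algebraMap C L (algebraMap B C b))
    rw [← IsScalarTower.algebraMap_apply B C L, ← IsScalarTower.algebraMap_apply B L L₁]
  have tCC₁L₁ : IsScalarTower C C₁ L₁ := by
    apply IsScalarTower.of_algebraMap_eq'
    apply IsLocalization.ringHom_ext (Submonoid.powers t₀)
    rw [RingHom.comp_assoc, ← IsScalarTower.algebraMap_eq B C C₁, ← IsScalarTower.algebraMap_eq B C L₁,
      IsScalarTower.algebraMap_eq B B₁ C₁, ← RingHom.comp_assoc, ← IsScalarTower.algebraMap_eq B₁ C₁ L₁,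
      ← IsScalarTower.algebraMap_eq B B₁ L₁]
  -- pushouts
  have tALL₁ : IsScalarTower A L L₁ := IsScalarTower.of_algebraMap_eq fun a => by
    rw [IsScalarTower.algebraMap_apply A B L₁, IsScalarTower.algebraMap_apply A B L, IsScalarTower.algebraMap_apply B L L₁]
  have tACC₁ : IsScalarTower A C C₁ := IsScalarTower.of_algebraMap_eq fun a => by
    rw [IsScalarTower.algebraMap_apply A B₁ C₁, IsScalarTower.algebraMap_apply A B B₁,
      ← IsScalarTower.algebraMap_apply B B₁ C₁, IsScalarTower.algebraMap_apply A B C, ← IsScalarTower.algebraMap_apply B C C₁]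
  have po1 : Algebra.IsPushout B B₁ L L₁ := by
    have : IsLocalization (Algebra.algebraMapSubmonoid B₁ T) L₁ :=
      inferInstanceAs (IsLocalization (T.map (algebraMap B B₁)) (Localization (T.map (algebraMap B B₁))))
    exact Algebra.isPushout_of_isLocalization T L B₁ L₁
  have po1' := po1.symm
  have po2 : Algebra.IsPushout A L A₁ L₁ :=
    (Algebra.IsPushout.comp_iff A B A₁ B₁ (T := L) (T' := L₁)).mpr po1'
  have po2' : Algebra.IsPushout A A₁ L L₁ := po2.symm
  have po3 : Algebra.IsPushout A C A₁ C₁ :=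
    (Algebra.IsPushout.comp_iff A B A₁ B₁ (T := C) (T' := C₁)).mpr inferInstance
  have po3' : Algebra.IsPushout A A₁ C C₁ := po3.symm
  -- module structures on `N₁`, `N`
  let mLN₁ : Module L N₁ := Module.compHom N₁ (algebraMap L L₁)
  have tLL₁N₁ : IsScalarTower L L₁ N₁ := IsScalarTower.of_algebraMap_smul fun _ _ => rfl
  have tBLN₁ : IsScalarTower B L N₁ := IsScalarTower.of_algebraMap_smul fun b x => by
    rw [← algebraMap_smul L₁ (algebraMap B L b) x, ← IsScalarTower.algebraMap_apply, algebraMap_smul]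
  have tALN₁ : IsScalarTower A L N₁ := IsScalarTower.of_algebraMap_smul fun a x => by
    rw [← algebraMap_smul L₁ (algebraMap A L a) x, ← IsScalarTower.algebraMap_apply,
      IsScalarTower.algebraMap_apply A B L₁, algebraMap_smul, algebraMap_smul]
  let hL : N →ₗ[L] N₁ := h.extendScalarsOfIsLocalization T L
  have hLb : IsBaseChange L₁ hL := by
    rw [PushoutBC.isBaseChange_iff (R := A) (S := A₁) (A := L) (B := L₁)]
    exact hh
  let mCN : Module C N := Module.compHom N (algebraMap C L)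
  have tCLN : IsScalarTower C L N := IsScalarTower.of_algebraMap_smul fun _ _ => rfl
  have tBCN : IsScalarTower B C N := IsScalarTower.of_algebraMap_smul fun b x => by
    rw [← algebraMap_smul L (algebraMap B C b) x, ← IsScalarTower.algebraMap_apply, algebraMap_smul]
  let ψ : (C ⊗[B] N₀) →ₗ[C] N := (TensorProduct.isBaseChange B N₀ C).lift φ₀
  have hψ : IsBaseChange L ψ := by
    apply IsBaseChange.of_comp (TensorProduct.isBaseChange B N₀ C)
    rw [(TensorProduct.isBaseChange B N₀ C).lift_comp φ₀]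
    exact hφ₀
  let mCN₁ : Module C N₁ := Module.compHom N₁ (algebraMap C L₁)
  have tCL₁N₁ : IsScalarTower C L₁ N₁ := IsScalarTower.of_algebraMap_smul fun _ _ => rfl
  have tCLN₁ : IsScalarTower C L N₁ := IsScalarTower.of_algebraMap_smul fun b x => rfl
  let χ : (C ⊗[B] N₀) →ₗ[C] N₁ := (hL.restrictScalars C) ∘ₗ ψ
  have hχ : IsBaseChange L₁ χ := IsBaseChange.comp hψ hLb
  let mC₁N₁ : Module C₁ N₁ := Module.compHom N₁ (algebraMap C₁ L₁)
  have tC₁L₁N₁ : IsScalarTower C₁ L₁ N₁ := IsScalarTower.of_algebraMap_smul fun _ _ => rfl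
  have tCC₁N₁ : IsScalarTower C C₁ N₁ := IsScalarTower.of_algebraMap_smul fun c x => by
    rw [← algebraMap_smul L₁ (algebraMap C C₁ c) x, ← IsScalarTower.algebraMap_apply, algebraMap_smul]
  let g : (C₁ ⊗[C] (C ⊗[B] N₀)) →ₗ[C₁] N₁ := (TensorProduct.isBaseChange C (C ⊗[B] N₀) C₁).lift χ
  have hg : IsBaseChange L₁ g := by
    apply IsBaseChange.of_comp (TensorProduct.isBaseChange C (C ⊗[B] N₀) C₁)
    rw [(TensorProduct.isBaseChange C (C ⊗[B] N₀) C₁).lift_comp χ]
    exact hχ
  have hgloc : IsLocalizedModule ((T.map (algebraMap B B₁)).map (algebraMap B₁ C₁)) g :=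
    (isLocalizedModule_iff_isBaseChange ((T.map (algebraMap B B₁)).map (algebraMap B₁ C₁)) L₁ g).mpr hg
  have tA₁C₁N₁ : IsScalarTower A₁ C₁ N₁ := IsScalarTower.of_algebraMap_smul fun a x => by
    rw [← algebraMap_smul L₁ (algebraMap A₁ C₁ a) x, IsScalarTower.algebraMap_apply A₁ B₁ C₁,
      ← IsScalarTower.algebraMap_apply B₁ C₁ L₁, ← IsScalarTower.algebraMap_apply A₁ B₁ L₁, algebraMap_smul]
  have tA₁C₁L₁ : IsScalarTower A₁ C₁ L₁ := IsScalarTower.of_algebraMap_eq fun a => by
    rw [IsScalarTower.algebraMap_apply A₁ B₁ C₁, ← IsScalarTower.algebraMap_apply B₁ C₁ L₁,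
      ← IsScalarTower.algebraMap_apply A₁ B₁ L₁]
  -- projectivity
  let e : C₁ ⊗[C] (C ⊗[B] N₀) ≃ₗ[A₁] A₁ ⊗[A] (C ⊗[B] N₀) :=
    Algebra.IsPushout.cancelBaseChange A A₁ C C₁ (C ⊗[B] N₀)
  have hproj : Module.Projective A₁ (C₁ ⊗[C] (C ⊗[B] N₀)) := by
    have := Module.Free.of_equiv e.symm
    infer_instance
  -- universal injectivity
  have huniv : FlatCA.UnivInj A₁ (g.restrictScalars A₁) := by
    apply PureSpread.univInj_of_isLocalizedModule ((T.map (algebraMap B B₁)).map (algebraMap B₁ C₁)) g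
    rintro s ⟨_, ⟨t, ht, rfl⟩, rfl⟩ Q _ _
    have hs : (algebraMap B₁ C₁) ((algebraMap B B₁) t) = algebraMap C C₁ (algebraMap B C t) := by
      rw [← IsScalarTower.algebraMap_apply B B₁ C₁, ← IsScalarTower.algebraMap_apply B C C₁]
    rw [hs]
    have hinst : IsLocalizedModule (Submonoid.powers t₀) (TensorProduct.mk B C N₀ 1) :=
      (isLocalizedModule_iff_isBaseChange (Submonoid.powers t₀) C _).mpr (TensorProduct.isBaseChange B N₀ C)
    refine PureSpread.lsmul_lTensor_injective (A := A) (A₁ := A₁) (C := C) (C₁ := C₁) (κ := κ) (C ⊗[B] N₀) hfree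
      (algebraMap B C t) ?_ Q
    intro x hx
    refine TorsKill.smul_injective_of_kill (A := A) (B := B) (κ := κ) T t₀ ht₀ hkill (TensorProduct.mk B C N₀ 1) t ht x ?_
    rw [← hx, algebraMap_smul]
  refine ⟨C₁, inferInstance, inferInstance, inferInstance, inferInstance, aC₁L₁, tB₁C₁L₁, tA₁C₁L₁, mC₁N₁, tC₁L₁N₁,
    tA₁C₁N₁, C₁ ⊗[C] (C ⊗[B] N₀), inferInstance, inferInstance, inferInstance, inferInstance, g, ?_, inferInstance,
    hg, hproj, huniv⟩
  -- open immersion
  have haway : IsLocalization.Away (algebraMap B B₁ t₀) C₁ := by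
    have h1 : Algebra.algebraMapSubmonoid B₁ (Submonoid.powers t₀) = Submonoid.powers (algebraMap B B₁ t₀) :=
      Algebra.algebraMapSubmonoid_powers t₀
    rw [h1] at hlocC₁
    exact hlocC₁
  exact AlgebraicGeometry.IsOpenImmersion.of_isLocalization (algebraMap B B₁ t₀)

end Groth.Agent.Flat2C.PureSpread2
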