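import Groth.Agent.Flat2C.StrictM
import Groth.Agent.Flat2C.PowTors
import Groth.Agent.Flat2C.FlatAt
import Groth.Agent.Fdesc.FlatBC

/-!
# Pullback of strict transforms of modules

* `isTorsQuot_pullback_flat` : flat pullback of a torsion quotient.
* `isTorsQuot_pullback_of_torsFree` : arbitrary pullback, when the target is torsion free.
* `isFlatOverAt_comp` : flat over `S` and `S` flat over `T`.
* `isFlatOverAt_of_flat_source` : flatness over the base descends along a flat morphism of the source.
-/

set_option autoImplicit false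
universe u

open CategoryTheory CategoryTheory.Limits AlgebraicGeometry TopologicalSpace Opposite

namespace Groth.Agent.Flat2C.StrictMPull

open Groth.Agent.Divis.CartierBasic Groth.Agent.Flat2C.StrictMAlg Groth.Agent.Flat2C.StrictM
open Groth.Agent.Fdesc.PullbackStalk Groth.Agent.CycB.StalkExact

variable {X Y S T : Scheme.{u}}

theorem stalkLin_eq_stalkMap {M N : X.Modules} (φ : M ⟶ N) (x : X) :
    stalkLin φ x = Groth.Agent.Fdesc.Skyscraper.stalkMap φ x := by
  ext t
  obtain ⟨U, hU, s, rfl⟩ := TopCat.Presheaf.exists_germ_eq M.presheaf t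
  rw [stalkLin_germ, Groth.Agent.Fdesc.Skyscraper.stalkMap_germ]

theorem isTorsQuot_iff_pow (E : X.IdealSheafData) {H G : X.Modules} (π : H ⟶ G) :
    IsTorsQuot E π ↔ ∀ x, PowTors.IsTorsQuot (stalkIdeal E x) (stalkLin π x) := Iff.rfl

theorem stalkIdeal_fg {E : X.IdealSheafData} (hE : BlowUp.IsFiniteTypeIdeal E) (x : X) :
    (stalkIdeal E x).FG := by
  obtain ⟨U, hU⟩ := exists_affine x
  rw [stalkIdeal_eq E U hU]
  exact (hE U).map _

/-- Flat pullback of the quotient by the torsion. -/
theorem isTorsQuot_pullback_flat (c : Y ⟶ X) [Flat c] {E : X.IdealSheafData}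
    (hE : BlowUp.IsFiniteTypeIdeal E) {H G : X.Modules} {π : H ⟶ G} (h : IsTorsQuot E π) :
    IsTorsQuot (E.comap c) ((Scheme.Modules.pullback c).map π) := by
  intro y
  let := stalkAlg c y
  let := FlatMod.moduleStalkOver c ((Scheme.Modules.pullback c).obj H) y
  have := isScalarTower c ((Scheme.Modules.pullback c).obj H) y
  let := FlatMod.moduleStalkOver c ((Scheme.Modules.pullback c).obj G) y
  have := isScalarTower c ((Scheme.Modules.pullback c).obj G) y
  have hH := isBaseChange_can c H y
  have hG := isBaseChange_can c G y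
  have hfl : Module.Flat (X.presheaf.stalk (c.base y)) (Y.presheaf.stalk y) := Flat.stalkMap c y
  rw [Groth.Agent.Divis.CartierStalk.stalkIdeal_comap]
  refine PowTors.isTorsQuot_baseChange_flat hH hG (φ := stalkLin π (c.base y)) (fun m => ?_)
    (stalkIdeal_fg hE _) (h (c.base y))
  rw [stalkLin_eq_stalkMap, stalkLin_eq_stalkMap]
  exact stalkMap_pullback_canAdd c π y m

/-- Pullback of a torsion quotient along any morphism, when the target becomes torsion free with respect to an
ideal sheaf `E'` some power of which lies in the inverse image of `E`. -/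
theorem isTorsQuotAt_pullback_of_torsFree (c : Y ⟶ X) {E : X.IdealSheafData} {H G : X.Modules}
    {π : H ⟶ G} (h : IsTorsQuot E π) (E' : Y.IdealSheafData) (y : Y) (n : ℕ)
    (hE' : stalkIdeal E' y ^ n ≤ stalkIdeal (E.comap c) y)
    (hfree : PowTors.TorsFree (stalkIdeal E' y)
      (((Scheme.Modules.pullback c).obj G).presheaf.stalk y)) :
    PowTors.IsTorsQuot (stalkIdeal E' y) (stalkLin ((Scheme.Modules.pullback c).map π) y) := by
  let := stalkAlg c y
  let := FlatMod.moduleStalkOver c ((Scheme.Modules.pullback c).obj H) y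
  have := isScalarTower c ((Scheme.Modules.pullback c).obj H) y
  let := FlatMod.moduleStalkOver c ((Scheme.Modules.pullback c).obj G) y
  have := isScalarTower c ((Scheme.Modules.pullback c).obj G) y
  have hH := isBaseChange_can c H y
  have hG := isBaseChange_can c G y
  rw [Groth.Agent.Divis.CartierStalk.stalkIdeal_comap] at hE'
  refine PowTors.isTorsQuot_baseChange hH hG (φ := stalkLin π (c.base y)) (fun m => ?_)
    (h (c.base y)).1 (fun m => ((h (c.base y)).2 m).1) n hE' hfree
  rw [stalkLin_eq_stalkMap, stalkLin_eq_stalkMap]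
  exact stalkMap_pullback_canAdd c π y m

/-- Flatness over the base depends only on the stalk. -/
theorem isFlatOverAt_of_equiv (f : X ⟶ S) {M N : X.Modules} (x : X)
    (e : M.presheaf.stalk x ≃ₗ[X.presheaf.stalk x] N.presheaf.stalk x)
    (h : FlatMod.IsFlatOverAt f M x) : FlatMod.IsFlatOverAt f N x := by
  let := stalkAlg f x
  let := FlatMod.moduleStalkOver f M x
  have := isScalarTower f M x
  let := FlatMod.moduleStalkOver f N x
  have := isScalarTower f N x
  have h' : Module.Flat (S.presheaf.stalk (f.base x)) (M.presheaf.stalk x) := h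
  exact Module.Flat.of_linearEquiv (e.restrictScalars (S.presheaf.stalk (f.base x))).symm

/-- Flatness over the base, composed with a flat morphism of bases. -/
theorem isFlatOverAt_comp (f : X ⟶ S) (q : S ⟶ T) [Flat q] (M : X.Modules) (x : X)
    (h : FlatMod.IsFlatOverAt f M x) : FlatMod.IsFlatOverAt (f ≫ q) M x := by
  let := stalkAlg q (f.base x)
  let := FlatMod.moduleStalkOver f M x
  have h' : Module.Flat (S.presheaf.stalk (f.base x)) (M.presheaf.stalk x) := h
  have hfl : Module.Flat (T.presheaf.stalk (q.base (f.base x))) (S.presheaf.stalk (f.base x)) :=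
    Flat.stalkMap q (f.base x)
  let i : Module (T.presheaf.stalk (q.base (f.base x))) (M.presheaf.stalk x) :=
    FlatMod.moduleStalkOver (f ≫ q) M x
  have : IsScalarTower (T.presheaf.stalk (q.base (f.base x))) (S.presheaf.stalk (f.base x))
      (M.presheaf.stalk x) := by
    refine IsScalarTower.of_algebraMap_smul fun r m => ?_
    change (f.stalkMap x) ((q.stalkMap (f.base x)) r) • m = ((f ≫ q).stalkMap x) r • m
    congr 1
    exact (ConcreteCategory.congr_hom (Scheme.Hom.stalkMap_comp f q x) r).symm
  exact Module.Flat.trans (T.presheaf.stalk (q.base (f.base x))) (S.presheaf.stalk (f.base x))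
    (M.presheaf.stalk x)

/-- Flatness over the base descends along a flat morphism of the source. -/
theorem isFlatOverAt_of_flat_source (c : Y ⟶ X) [Flat c] (p : X ⟶ S) (M : X.Modules) (y : Y)
    (h : FlatMod.IsFlatOverAt (c ≫ p) ((Scheme.Modules.pullback c).obj M) y) :
    FlatMod.IsFlatOverAt p M (c.base y) := by
  let := stalkAlg c y
  let := stalkAlg p (c.base y)
  let i1 : Algebra (S.presheaf.stalk (p.base (c.base y))) (Y.presheaf.stalk y) :=
    (p.stalkMap (c.base y) ≫ c.stalkMap y).hom.toAlgebra
  have : IsScalarTower (S.presheaf.stalk (p.base (c.base y))) (X.presheaf.stalk (c.base y))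
    (Y.presheaf.stalk y) := IsScalarTower.of_algebraMap_eq fun _ => rfl
  let := FlatMod.moduleStalkOver p M (c.base y)
  have := isScalarTower p M (c.base y)
  have : Module.FaithfullyFlat (X.presheaf.stalk (c.base y)) (Y.presheaf.stalk y) :=
    Groth.Agent.Fdesc.StalkExt.faithfullyFlat_stalkMap c y
  let i2 : Module (S.presheaf.stalk (p.base (c.base y)))
      (((Scheme.Modules.pullback c).obj M).presheaf.stalk y) :=
    FlatMod.moduleStalkOver (c ≫ p) ((Scheme.Modules.pullback c).obj M) y
  have : IsScalarTower (S.presheaf.stalk (p.base (c.base y))) (Y.presheaf.stalk y)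
      (((Scheme.Modules.pullback c).obj M).presheaf.stalk y) := by
    refine IsScalarTower.of_algebraMap_smul fun r m => ?_
    change (c.stalkMap y) ((p.stalkMap (c.base y)) r) • m = ((c ≫ p).stalkMap y) r • m
    congr 1
    exact (ConcreteCategory.congr_hom (Scheme.Hom.stalkMap_comp c p y) r).symm
  have h' : Module.Flat (S.presheaf.stalk (p.base (c.base y)))
      (((Scheme.Modules.pullback c).obj M).presheaf.stalk y) := h
  have : Module.Flat (S.presheaf.stalk (p.base (c.base y)))
      (TensorProduct (X.presheaf.stalk (c.base y)) (Y.presheaf.stalk y)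
        (M.presheaf.stalk (c.base y))) :=
    Module.Flat.of_linearEquiv ((stalkPullbackEquiv c M y).restrictScalars
      (S.presheaf.stalk (p.base (c.base y))))
  exact Groth.Agent.Flat2C.FlatAt.flat_of_flat_tensor (S := X.presheaf.stalk (c.base y))
    (Y.presheaf.stalk y) (M.presheaf.stalk (c.base y))

end Groth.Agent.Flat2C.StrictMPull
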