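import Groth.Agent.Flat2C.Thick
import Mathlib.RingTheory.RingHom.FiniteType
import Mathlib.RingTheory.RingHom.Unramified

set_option autoImplicit false
universe u

namespace Groth.Agent.Flat2C.ThickAlg

open Groth.Agent.Flat2C.Thick

/-- Finite type lifts along nilpotent thickenings. -/
theorem finiteType_of_isNilpotent {R' A' R A : Type*} [CommRing R'] [CommRing A'] [CommRing R]
    [CommRing A] (φ' : R' →+* A') (π : R' →+* R) (ρ : A' →+* A) (φ : R →+* A)
    (comm : ρ.comp φ' = φ.comp π) (hπ : Function.Surjective π) (hρ : Function.Surjective ρ)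
    (hker : RingHom.ker ρ = (RingHom.ker π).map φ') (hn : IsNilpotent (RingHom.ker π))
    (h : φ.FiniteType) : φ'.FiniteType := by
  have h1 : (ρ.comp φ').FiniteType := by
    rw [comm]
    exact h.comp (RingHom.FiniteType.of_surjective π hπ)
  algebraize [φ', ρ, ρ.comp φ']
  have h2 : Algebra.FiniteType R' A := h1
  obtain ⟨s, hs⟩ := h2
  choose g hg using hρ
  have hsurj : ∀ a : A', a ∈ (Algebra.adjoin R' (g '' (s : Set A))).toSubmodule ⊔
      (RingHom.ker π) • (⊤ : Submodule R' A') := by
    intro a
    have ha : ρ a ∈ Algebra.adjoin R' (s : Set A) := by rw [hs]; trivial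
    have hmap : Algebra.adjoin R' (s : Set A) =
        (Algebra.adjoin R' (g '' (s : Set A))).map (IsScalarTower.toAlgHom R' A' A) := by
      rw [AlgHom.map_adjoin]
      congr 1
      ext x
      simp only [Set.mem_image, SetLike.mem_coe, exists_exists_and_eq_and]
      constructor
      · intro hx
        exact ⟨x, hx, by exact hg x⟩
      · rintro ⟨y, hy, hyx⟩
        have : ρ (g y) = x := hyx
        rw [hg] at this
        exact this ▸ hy
    rw [hmap] at ha
    obtain ⟨b, hb, hb'⟩ := ha
    have hab : a - b ∈ RingHom.ker ρ := by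
      rw [RingHom.mem_ker, map_sub, sub_eq_zero]
      exact hb'.symm
    rw [hker] at hab
    have hIA : a - b ∈ (RingHom.ker π) • (⊤ : Submodule R' A') := by
      rw [Ideal.smul_top_eq_map]
      exact hab
    rw [show a = b + (a - b) by ring]
    exact Submodule.add_mem_sup hb hIA
  have htop : (⊤ : Submodule R' A') ≤ (Algebra.adjoin R' (g '' (s : Set A))).toSubmodule := by
    apply le_of_le_sup_smul_of_isNilpotent hn
    intro a _
    exact hsurj a
  classical
  change Algebra.FiniteType R' A'
  refine ⟨⟨s.image g, ?_⟩⟩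
  rw [Finset.coe_image]
  rw [eq_top_iff]
  intro a _
  exact htop (Submodule.mem_top (x := a))

open TensorProduct in
/-- Formal unramifiedness lifts along nilpotent thickenings. -/
theorem formallyUnramified_of_isNilpotent {R' A' R A : Type u} [CommRing R'] [CommRing A'] [CommRing R]
    [CommRing A] [Algebra R' A'] [Algebra R' R] [Algebra R' A] [Algebra A' A] [Algebra R A]
    [IsScalarTower R' A' A] [IsScalarTower R' R A] [Algebra.IsPushout R' R A' A]
    (hρ : Function.Surjective (algebraMap A' A)) (hn : IsNilpotent (RingHom.ker (algebraMap A' A)))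
    [h : Algebra.FormallyUnramified R A] : Algebra.FormallyUnramified R' A' := by
  have h1 : Subsingleton (A ⊗[A'] Ω[A'⁄R']) :=
    (KaehlerDifferential.tensorKaehlerEquiv R' R A' A).injective.subsingleton
  set K : Ideal A' := RingHom.ker (algebraMap A' A) with hK
  let e : (A' ⧸ K) ≃ₐ[A'] A := Ideal.quotientKerAlgEquivOfSurjective (f := Algebra.ofId A' A) hρ
  have h2 : Subsingleton ((A' ⧸ K) ⊗[A'] Ω[A'⁄R']) :=
    (TensorProduct.congr e.toLinearEquiv (LinearEquiv.refl A' (Ω[A'⁄R']))).injective.subsingleton
  have h3 : Subsingleton (Ω[A'⁄R'] ⧸ (K • (⊤ : Submodule A' (Ω[A'⁄R'])))) :=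
    (TensorProduct.quotTensorEquivQuotSMul (Ω[A'⁄R']) K).symm.injective.subsingleton
  have h4 : K • (⊤ : Submodule A' (Ω[A'⁄R'])) = ⊤ := by
    exact Submodule.Quotient.subsingleton_iff.mp h3
  exact ⟨subsingleton_of_smul_top_eq_top hn h4⟩

end Groth.Agent.Flat2C.ThickAlg
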