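import Mathlib.Algebra.Homology.Refinements
import Mathlib.Algebra.Homology.HomotopyCategory.KProjective
import Mathlib.Algebra.Category.ModuleCat.Abelian
import Mathlib.Algebra.Category.ModuleCat.EpiMono
import Mathlib.Algebra.Homology.Embedding.CochainComplex
import Groth.Agent.Ega3A.FlatSES
import Groth.Agent.Flat2C.UnivInjMod

/-!
# Cokernels in quasi-isomorphic bounded above complexes of flat modules

`flat_coker_iff`: let `f : Q ⟶ P` be a quasi-isomorphism between bounded above complexes of flat modules.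
Then `Q^a / im Q^{a-1}` is flat iff `P^a / im P^{a-1}` is flat.
-/

set_option autoImplicit false
universe u

open CategoryTheory CategoryTheory.Limits

namespace Groth.Agent.Flat2C.TorAmpCone

variable {R : Type u} [CommRing R] {Q P : CochainComplex (ModuleCat.{u} R) ℤ} (f : Q ⟶ P)

/-- The morphism from the ring attached to an element. -/
noncomputable def el {M : ModuleCat.{u} R} (x : M) : ModuleCat.of R R ⟶ M :=
  ModuleCat.ofHom (LinearMap.toSpanSingleton R M x)

lemma el_apply {M : ModuleCat.{u} R} (x : M) (r : R) : (el x).hom r = r • x := rfl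

lemma el_comp {M N : ModuleCat.{u} R} (x : M) (g : M ⟶ N) : el x ≫ g = el (g.hom x) := by
  ext
  simp [el]

lemma exists_of_epi {A' : ModuleCat.{u} R} (π : A' ⟶ ModuleCat.of R R) [Epi π] : ∃ a' : A', π.hom a' = (1 : R) :=
  (ModuleCat.epi_iff_surjective π).mp inferInstance 1

lemma injOn_homology {i j k : ℤ} (hij : i + 1 = j) (hjk : j + 1 = k) [QuasiIsoAt f j] (x : Q.X j)
    (hx : (Q.d j k).hom x = 0) (y : P.X i) (hy : (f.f j).hom x = (P.d i j).hom y) :
    ∃ x' : Q.X i, (Q.d i j).hom x' = x := by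
  have hm : Mono (HomologicalComplex.homologyMap f j) := inferInstance
  rw [HomologicalComplex.mono_homologyMap_iff_up_to_refinements f i j k (by simp; omega) (by simp; omega)] at hm
  obtain ⟨A', π, hπ, x₁, h⟩ := hm (el x) (by rw [el_comp, hx]; ext; simp [el]) (el y) (by rw [el_comp, el_comp, hy])
  obtain ⟨a', ha'⟩ := exists_of_epi π
  refine ⟨x₁.hom a', ?_⟩
  have := congrArg (fun g => g.hom a') h
  simp only [ModuleCat.hom_comp, LinearMap.comp_apply, ha'] at this
  exact this.symm.trans (one_smul R x)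

lemma surjOn_homology {i j k : ℤ} (hij : i + 1 = j) (hjk : j + 1 = k) [QuasiIsoAt f j] (y : P.X j)
    (hy : (P.d j k).hom y = 0) :
    ∃ (x : Q.X j) (y' : P.X i), (Q.d j k).hom x = 0 ∧ (f.f j).hom x + (P.d i j).hom y' = y := by
  have hm : Epi (HomologicalComplex.homologyMap f j) := inferInstance
  rw [HomologicalComplex.epi_homologyMap_iff_up_to_refinements f i j k (by simp; omega) (by simp; omega)] at hm
  obtain ⟨A', π, hπ, x₂, hx₂, y₁, h⟩ := hm (el y) (by rw [el_comp, hy]; ext; simp [el])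
  obtain ⟨a', ha'⟩ := exists_of_epi π
  refine ⟨x₂.hom a', y₁.hom a', ?_, ?_⟩
  · have := congrArg (fun g => g.hom a') hx₂
    simpa using this
  · have := congrArg (fun g => g.hom a') h
    simp only [ModuleCat.hom_comp, LinearMap.comp_apply, ha', ModuleCat.hom_add,
      LinearMap.add_apply] at this
    exact this.symm.trans (one_smul R y)

/-- The differential of the cone, as a linear map. -/
noncomputable def δ (i j k : ℤ) : (Q.X j × P.X i) →ₗ[R] (Q.X k × P.X j) :=
  (-(Q.d j k).hom ∘ₗ LinearMap.fst R _ _).prod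
    ((f.f j).hom ∘ₗ LinearMap.fst R _ _ + (P.d i j).hom ∘ₗ LinearMap.snd R _ _)

lemma δ_apply (i j k : ℤ) (z : Q.X j × P.X i) :
    δ f i j k z = (-(Q.d j k).hom z.1, (f.f j).hom z.1 + (P.d i j).hom z.2) := rfl

lemma comm_apply (i j : ℤ) (x : Q.X i) : (P.d i j).hom ((f.f i).hom x) = (f.f j).hom ((Q.d i j).hom x) := by
  exact congrArg (fun g => g.hom x) (f.comm i j)

lemma d_d_apply (K : CochainComplex (ModuleCat.{u} R) ℤ) (i j k : ℤ) (x : K.X i) :
    (K.d j k).hom ((K.d i j).hom x) = 0 := by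
  exact congrArg (fun g => g.hom x) (K.d_comp_d i j k)

lemma δ_δ (i j k l : ℤ) (z : Q.X j × P.X i) : δ f j k l (δ f i j k z) = 0 := by
  rw [δ_apply, δ_apply]
  refine Prod.ext ?_ ?_
  · simp [d_d_apply]
  · simp [d_d_apply, comm_apply]

/-- Exactness of the cone. -/
lemma exact_δ {h i j k : ℤ} (hhi : h + 1 = i) (hij : i + 1 = j) (hjk : j + 1 = k) [QuasiIsoAt f i] [QuasiIsoAt f j]
    (z : Q.X j × P.X i) (hz : δ f i j k z = 0) : ∃ w : Q.X i × P.X h, δ f h i j w = z := by
  rw [δ_apply, Prod.mk_eq_zero, neg_eq_zero] at hz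
  obtain ⟨x', hx'⟩ := injOn_homology f hij hjk z.1 hz.1 (-z.2) (by
    rw [map_neg]; exact eq_neg_of_add_eq_zero_left hz.2)
  obtain ⟨x, y', hx, hy'⟩ := surjOn_homology f hhi hij (z.2 + (f.f i).hom x') (by
    rw [map_add, comm_apply, hx', add_comm]; exact hz.2)
  refine ⟨(x - x', y'), ?_⟩
  rw [δ_apply]
  refine Prod.ext ?_ ?_
  · simp [hx, hx']
  · simp only [map_sub]
    rw [sub_add_eq_add_sub, hy', add_sub_cancel_right]

/-- The kernels of the differentials of the cone are flat. -/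
theorem flat_ker_δ (b : ℤ) (hQ0 : ∀ i, b < i → IsZero (Q.X i)) (hP0 : ∀ i, b < i → IsZero (P.X i))
    (hQ : ∀ i, Module.Flat R (Q.X i)) (hP : ∀ i, Module.Flat R (P.X i)) [QuasiIso f] (n : ℕ) :
    ∀ i j k : ℤ, i + 1 = j → j + 1 = k → b < i + n → Module.Flat R (LinearMap.ker (δ f i j k)) := by
  induction n with
  | zero =>
    intro i j k hij hjk hb
    have h1 : Subsingleton (Q.X j) := ModuleCat.subsingleton_of_isZero (hQ0 j (by omega))
    have h2 : Subsingleton (P.X i) := ModuleCat.subsingleton_of_isZero (hP0 i (by omega))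
    have h3 : Subsingleton (LinearMap.ker (δ f i j k)) := inferInstance
    infer_instance
  | succ n ih =>
    intro i j k hij hjk hb
    have h1 := ih j k (k + 1) hjk rfl (by omega)
    have := hQ j
    have := hP i
    have h2 : Module.Flat R (Q.X j × P.X i) := Flat2C.UnivInjMod.flat_prod
    let g : (Q.X j × P.X i) →ₗ[R] LinearMap.ker (δ f j k (k + 1)) :=
      (δ f i j k).codRestrict _ (fun z => δ_δ f i j k (k + 1) z)
    refine Ega3A.FlatSES.flat_left (f := (LinearMap.ker (δ f i j k)).subtype) (g := g)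
      (Submodule.injective_subtype _) ?_ ?_
    · intro z
      constructor
      · intro hz
        exact ⟨⟨z, congrArg Subtype.val hz⟩, rfl⟩
      · rintro ⟨z, rfl⟩
        exact Subtype.ext z.2
    · rintro ⟨z, hz⟩
      obtain ⟨w, hw⟩ := exact_δ f hij hjk rfl z hz
      exact ⟨w, Subtype.ext hw⟩

/-- The cokernel module. -/
abbrev Cok (K : CochainComplex (ModuleCat.{u} R) ℤ) (i j : ℤ) : Type u := K.X j ⧸ LinearMap.range (K.d i j).hom

/-- For a quasi-isomorphism of bounded above complexes of flat modules, flatness of the cokernels of the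
differentials on both sides is equivalent. -/
theorem flat_coker_iff (b : ℤ) (hQ0 : ∀ i, b < i → IsZero (Q.X i)) (hP0 : ∀ i, b < i → IsZero (P.X i))
    (hQ : ∀ i, Module.Flat R (Q.X i)) (hP : ∀ i, Module.Flat R (P.X i)) [QuasiIso f] {h i : ℤ} (hhi : h + 1 = i) :
    Module.Flat R (Cok Q h i) ↔ Module.Flat R (Cok P h i) := by
  -- notation: `h, i, j, k` consecutive
  obtain ⟨j, hij⟩ : ∃ j, i + 1 = j := ⟨_, rfl⟩
  obtain ⟨k, hjk⟩ : ∃ k, j + 1 = k := ⟨_, rfl⟩
  obtain ⟨l, hkl⟩ : ∃ l, k + 1 = l := ⟨_, rfl⟩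
  have hZ : Module.Flat R (LinearMap.ker (δ f j k l)) :=
    flat_ker_δ f b hQ0 hP0 hQ hP (b - j + 1).toNat j k l hjk hkl (by omega)
  -- the maps
  let φ : Cok Q h i →ₗ[R] (Q.X j × Cok P h i) :=
    Submodule.liftQ _ ((-(Q.d i j).hom).prod ((Submodule.mkQ _) ∘ₗ (f.f i).hom)) (by
      rintro _ ⟨x, rfl⟩
      refine Prod.ext ?_ ?_
      · change -(Q.d i j).hom ((Q.d h i).hom x) = 0
        rw [d_d_apply, neg_zero]
      · change Submodule.Quotient.mk ((f.f i).hom ((Q.d h i).hom x)) = 0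
        rw [Submodule.Quotient.mk_eq_zero, ← comm_apply]
        exact ⟨_, rfl⟩)
  let dP : Cok P h i →ₗ[R] P.X j := Submodule.liftQ _ (P.d i j).hom (by
    rintro _ ⟨x, rfl⟩
    simp [d_d_apply])
  have hdP : ∀ x, dP (Submodule.Quotient.mk x) = (P.d i j).hom x := fun x => rfl
  let ψ₀ : (Q.X j × Cok P h i) →ₗ[R] (Q.X k × P.X j) :=
    (-(Q.d j k).hom ∘ₗ LinearMap.fst R _ _).prod ((f.f j).hom ∘ₗ LinearMap.fst R _ _ + dP ∘ₗ LinearMap.snd R _ _)
  have hψ₀ : ∀ (y : Q.X j) (p : P.X i), ψ₀ (y, Submodule.Quotient.mk p) = δ f i j k (y, p) := fun _ _ => rfl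
  let ψ : (Q.X j × Cok P h i) →ₗ[R] LinearMap.ker (δ f j k l) := ψ₀.codRestrict _ (by
    rintro ⟨y, p⟩
    obtain ⟨p, rfl⟩ := Submodule.Quotient.mk_surjective _ p
    rw [hψ₀]
    exact δ_δ f i j k l _)
  have hφmk : ∀ x : Q.X i, φ (Submodule.Quotient.mk x) = (-(Q.d i j).hom x, Submodule.Quotient.mk ((f.f i).hom x)) :=
    fun _ => rfl
  have h1 : Function.Injective φ := by
    rw [injective_iff_map_eq_zero]
    intro x hx
    obtain ⟨x, rfl⟩ := Submodule.Quotient.mk_surjective _ x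
    rw [hφmk, Prod.mk_eq_zero, neg_eq_zero, Submodule.Quotient.mk_eq_zero] at hx
    obtain ⟨p, hp⟩ := hx.2
    obtain ⟨x', hx'⟩ := injOn_homology f hhi hij x hx.1 p hp.symm
    rw [Submodule.Quotient.mk_eq_zero]
    exact ⟨x', hx'⟩
  have h2 : Function.Exact φ ψ := by
    rintro ⟨y, p⟩
    obtain ⟨p, rfl⟩ := Submodule.Quotient.mk_surjective _ p
    constructor
    · intro hz
      have hz' : δ f i j k (y, p) = 0 := congrArg Subtype.val hz
      obtain ⟨⟨x, p'⟩, hw⟩ := exact_δ f hhi hij hjk (y, p) hz'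
      rw [δ_apply, Prod.mk.injEq] at hw
      refine ⟨Submodule.Quotient.mk x, ?_⟩
      rw [hφmk]
      refine Prod.ext hw.1 ?_
      rw [← hw.2, Submodule.Quotient.mk_add, Prod.snd]
      have : (Submodule.Quotient.mk ((P.d h i).hom p') : Cok P h i) = 0 := by
        rw [Submodule.Quotient.mk_eq_zero]
        exact ⟨_, rfl⟩
      simp only [this, add_zero]
    · rintro ⟨x, hx⟩
      obtain ⟨x, rfl⟩ := Submodule.Quotient.mk_surjective _ x
      rw [← hx, hφmk]
      apply Subtype.ext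
      change ψ₀ _ = 0
      rw [hψ₀, δ_apply]
      refine Prod.ext ?_ ?_
      · simp [d_d_apply]
      · simp [comm_apply]
  have h3 : Function.Surjective ψ := by
    rintro ⟨z, hz⟩
    obtain ⟨⟨y, p⟩, hw⟩ := exact_δ f hij hjk hkl z hz
    exact ⟨(y, Submodule.Quotient.mk p), Subtype.ext hw⟩
  have h4 := Ega3A.FlatSES.flat_iff h1 h2 h3
  rw [← h4]
  constructor
  · intro _
    exact Module.Flat.of_retract (LinearMap.inr R (Q.X j) (Cok P h i)) (LinearMap.snd R _ _) (by ext; rfl)
  · intro _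
    have := hQ j
    exact Flat2C.UnivInjMod.flat_prod

end Groth.Agent.Flat2C.TorAmpCone
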