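import Groth.Prelude.Def_DDual2
import Groth.Agent.PerfB.LeftRes
import Groth.Agent.LoccohB.HomCls
import Groth.Agent.Flat2C.TorAmpCone

/-!
# Tor amplitude (flat representative form) and restriction of scalars

`hasTorAmplitudeIn_restrict_iff`: let `R → S` be a ring map such that an `S`-module is flat over `S` iff it is
flat over `R`. Then `K ∈ D(S)` is represented by a complex of flat `S`-modules in degrees `[a, b]` iff its
restriction to `R` is represented by a complex of flat `R`-modules in degrees `[a, b]`.
-/

set_option autoImplicit false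
universe u

open CategoryTheory CategoryTheory.Limits

namespace Groth.Agent.Flat2C.TorAmpRestr

open DRing Groth.Agent.Flat2C.TorAmpCone

attribute [local instance] HasDerivedCategory.standard

variable {R : Type u} [CommRing R]

/-- Projective objects. -/
def projProp (R : Type u) [CommRing R] : ObjectProperty (ModuleCat.{u} R) := fun M => Projective M

instance : (projProp R).IsClosedUnderIsomorphisms where
  of_iso e h := by
    have := Projective.of_iso e h
    exact this

instance : (projProp R).ContainsZero where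
  exists_zero := ⟨ModuleCat.of R PUnit, ModuleCat.isZero_of_subsingleton _, by
    have : Module.Projective R PUnit := inferInstance
    exact (IsProjective.iff_projective _).mp this⟩

/-- Bounded above projective resolutions. -/
theorem exists_projective_resolution (K : Cx R) (b : ℤ) (hK : ∀ i > b, K.ExactAt i) :
    ∃ (P : Cx R) (f : P ⟶ K), (∀ i, b < i → IsZero (P.X i)) ∧ (∀ i, Projective (P.X i)) ∧ QuasiIso f := by
  have H : PerfB.LeftRes.HasCovers (projProp R) K b := by
    intro n _ S
    refine ⟨Projective.over _, Projective.projective_over _, Projective.π _, ?_⟩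
    infer_instance
  exact PerfB.LeftRes.exists_resolution (P := projProp R) K b hK H

theorem flat_of_projective {M : ModuleCat.{u} R} (h : Projective M) : Module.Flat R M := by
  have : Module.Projective R M := (IsProjective.iff_projective _).mpr h
  infer_instance

/-- The cokernel is the opcycles object. -/
theorem nonempty_opcycles_equiv (K : Cx R) {h i : ℤ} (hhi : h + 1 = i) : Nonempty (K.opcycles i ≃ₗ[R] Cok K h i) := by
  have h1 := K.opcyclesIsCokernel h i (by simp; omega)
  have h2 := ModuleCat.cokernelIsColimit (K.d h i)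
  exact ⟨(IsColimit.coconePointUniqueUpToIso h1 h2).toLinearEquiv⟩

/-- Two bounded above complexes of flat modules which are isomorphic in `D(R)` have simultaneously flat cokernels. -/
theorem flat_cok_iff_of_iso (b : ℤ) (P E : Cx R) (hP0 : ∀ i, b < i → IsZero (P.X i))
    (hE0 : ∀ i, b < i → IsZero (E.X i)) (hP : TermwiseFlat P) (hE : TermwiseFlat E) (e : toD P ≅ toD E)
    {h i : ℤ} (hhi : h + 1 = i) : Module.Flat R (Cok P h i) ↔ Module.Flat R (Cok E h i) := by
  obtain ⟨Q, q, hQ0, hQp, hq⟩ := exists_projective_resolution P b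
    (fun i hi => HomologicalComplex.ExactAt.of_isZero (hP0 i hi))
  have hQf : ∀ i, Module.Flat R (Q.X i) := fun i => flat_of_projective (hQp i)
  have : Q.IsStrictlyLE b := by
    rw [CochainComplex.isStrictlyLE_iff]
    exact fun i hi => hQ0 i hi
  have : Q.IsKProjective := CochainComplex.isKProjective_of_projective Q b
  obtain ⟨g, hg⟩ := LoccohB.HomCls.Q_map_surjective_of_kProj Q E (DerivedCategory.Q.map q ≫ e.hom)
  have hgq : QuasiIso g := by
    rw [← DerivedCategory.isIso_Q_map_iff_quasiIso, hg]
    infer_instance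
  rw [← flat_coker_iff q b hQ0 hP0 hQf hP hhi, flat_coker_iff g b hQ0 hE0 hQf hE hhi]

variable {S : Type u} [CommRing S] (φ : R →+* S)

/-- Restriction of scalars on representatives. -/
noncomputable def restrictIso (E : Cx S) : (restrictD φ).obj (toD E) ≅ toD ((restrictCx φ).obj E) :=
  (ModuleCat.restrictScalars φ).mapDerivedCategoryFactors.app E

theorem exactAt_restrict_iff (K : Cx S) (i : ℤ) : ((restrictCx φ).obj K).ExactAt i ↔ K.ExactAt i := by
  rw [HomologicalComplex.exactAt_iff, HomologicalComplex.exactAt_iff]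
  exact ShortComplex.exact_map_iff_of_faithful (K.sc i) (ModuleCat.restrictScalars φ)

theorem exactAt_of_iso {K L : Cx R} (e : toD K ≅ toD L) (i : ℤ) (h : L.ExactAt i) : K.ExactAt i := by
  rw [HomologicalComplex.exactAt_iff_isZero_homology] at h ⊢
  have e' := (DerivedCategory.homologyFunctor (ModuleCat.{u} R) i).mapIso e
  have e1 := (DerivedCategory.homologyFunctorFactors (ModuleCat.{u} R) i).app K
  have e2 := (DerivedCategory.homologyFunctorFactors (ModuleCat.{u} R) i).app L
  exact h.of_iso (e1.symm ≪≫ e' ≪≫ e2)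

/-- One direction. -/
theorem hasTorAmplitudeIn_restrict (h1 : ∀ M : ModuleCat.{u} S, Module.Flat S M → Module.Flat R ((ModuleCat.restrictScalars φ).obj M))
    (a b : ℤ) (K : Dual.D S) (h : HasTorAmplitudeIn S a b K) : HasTorAmplitudeIn R a b ((restrictD φ).obj K) := by
  obtain ⟨E, hE0, hEf, ⟨e⟩⟩ := h
  refine ⟨(restrictCx φ).obj E, ?_, ?_, ⟨(restrictIso φ E).symm ≪≫ (restrictD φ).mapIso e⟩⟩
  · intro i hi
    exact (ModuleCat.restrictScalars φ).map_isZero (hE0 i hi)
  · intro i
    exact h1 _ (hEf i)

/-- The other direction. -/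
theorem hasTorAmplitudeIn_of_restrict
    (h1 : ∀ M : ModuleCat.{u} S, Module.Flat S M → Module.Flat R ((ModuleCat.restrictScalars φ).obj M))
    (h2 : ∀ M : ModuleCat.{u} S, Module.Flat R ((ModuleCat.restrictScalars φ).obj M) → Module.Flat S M)
    (a b : ℤ) (K : Dual.D S) (h : HasTorAmplitudeIn R a b ((restrictD φ).obj K)) : HasTorAmplitudeIn S a b K := by
  obtain ⟨E, hE0, hEf, ⟨e⟩⟩ := h
  let K₀ : Cx S := DerivedCategory.Q.objPreimage K
  let eK : toD K₀ ≅ K := DerivedCategory.Q.objObjPreimageIso K
  have e₀ : toD ((restrictCx φ).obj K₀) ≅ toD E := (restrictIso φ K₀).symm ≪≫ (restrictD φ).mapIso eK ≪≫ e.symm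
  have hex : ∀ i, i < a ∨ b < i → K₀.ExactAt i := by
    intro i hi
    rw [← exactAt_restrict_iff φ]
    exact exactAt_of_iso e₀ i (HomologicalComplex.ExactAt.of_isZero (hE0 i hi))
  obtain ⟨P, p, hP0, hPp, hp⟩ := exists_projective_resolution K₀ b (fun i hi => hex i (Or.inr hi))
  have hPf : TermwiseFlat P := fun i => flat_of_projective (hPp i)
  have eP : toD P ≅ toD K₀ := asIso (DerivedCategory.Q.map p)
  have eP' : toD ((restrictCx φ).obj P) ≅ toD E :=
    (restrictIso φ P).symm ≪≫ (restrictD φ).mapIso eP ≪≫ restrictIso φ K₀ ≪≫ e₀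
  have hGE : P.IsGE a := by
    rw [CochainComplex.isGE_iff]
    intro i hi
    exact exactAt_of_iso eP i (hex i (Or.inl hi))
  -- flatness of the cokernel
  have hcok : Module.Flat S (P.opcycles a) := by
    obtain ⟨h, hha⟩ : ∃ h, h + 1 = a := ⟨a - 1, by omega⟩
    have hE : Module.Flat R (Cok E h a) := by
      have := hEf a
      have h0 : IsZero (E.X h) := hE0 h (Or.inl (by omega))
      have hs : Subsingleton (E.X h) := ModuleCat.subsingleton_of_isZero h0
      have hr : LinearMap.range (E.d h a).hom = ⊥ := by
        rw [LinearMap.range_eq_bot]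
        ext x
        rw [Subsingleton.elim x 0, map_zero, map_zero]
      exact Module.Flat.of_linearEquiv (Submodule.quotEquivOfEqBot _ hr)
    rw [← flat_cok_iff_of_iso b ((restrictCx φ).obj P) E (fun i hi => (ModuleCat.restrictScalars φ).map_isZero (hP0 i hi))
      (fun i hi => hE0 i (Or.inr hi)) (fun i => h1 _ (hPf i)) hEf eP' hha] at hE
    have hS : Module.Flat S (Cok P h a) := h2 (ModuleCat.of S (Cok P h a)) hE
    obtain ⟨e1⟩ := nonempty_opcycles_equiv P hha
    exact Module.Flat.of_linearEquiv e1
  refine ⟨P.truncGE a, ?_, ?_, ⟨(asIso (DerivedCategory.Q.map (P.πTruncGE a))).symm ≪≫ eP ≪≫ eK⟩⟩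
  · rintro i (hi | hi)
    · exact CochainComplex.isZero_of_isStrictlyGE _ a i hi
    · rcases lt_trichotomy i a with h | h | h
      · exact CochainComplex.isZero_of_isStrictlyGE _ a i h
      · subst h
        refine IsZero.of_iso ?_ (P.truncGEXIsoOpcycles i)
        exact IsZero.of_epi (P.pOpcycles i) (hP0 i hi)
      · exact IsZero.of_iso (hP0 i hi) (P.truncGEXIso a i h)
  · intro i
    rcases lt_trichotomy i a with h | h | h
    · have := ModuleCat.subsingleton_of_isZero (CochainComplex.isZero_of_isStrictlyGE (P.truncGE a) a i h)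
      infer_instance
    · subst h
      exact Module.Flat.of_linearEquiv (P.truncGEXIsoOpcycles i).toLinearEquiv
    · have := hPf i
      exact Module.Flat.of_linearEquiv (P.truncGEXIso a i h).toLinearEquiv

end Groth.Agent.Flat2C.TorAmpRestr
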