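import Mathlib.RingTheory.Unramified.Finite
import Mathlib.RingTheory.Etale.Basic
import Mathlib.RingTheory.Localization.BaseChange
import Mathlib.RingTheory.Localization.Away.Basic
import Mathlib.RingTheory.Finiteness.Defs

set_option autoImplicit false

/-!
# The diagonal idempotent of an algebra which is unramified after localization
-/

namespace Groth.Agent.Flat2C.UnramifiedIdem

open TensorProduct

variable {A C : Type*} [CommRing A] [CommRing C] [Algebra A C] [Algebra.FiniteType A C]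
  (h : C) (B : Type*) [CommRing B] [Algebra A B] [Algebra C B] [IsScalarTower A C B]
  [IsLocalization.Away h B] [Algebra.FormallyUnramified A B]

/-- The multiplication map `B ⊗[A] C → B`. -/
noncomputable def mulMap (A C B : Type*) [CommRing A] [CommRing C] [Algebra A C] [CommRing B]
    [Algebra A B] [Algebra C B] [IsScalarTower A C B] : B ⊗[A] C →ₐ[B] B :=
  Algebra.TensorProduct.lift (AlgHom.id B B) (IsScalarTower.toAlgHom A C B)
    (fun _ _ => mul_comm _ _)

@[simp] theorem mulMap_tmul (A C B : Type*) [CommRing A] [CommRing C] [Algebra A C] [CommRing B]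
    [Algebra A B] [Algebra C B] [IsScalarTower A C B] (b : B) (c : C) :
    mulMap A C B (b ⊗ₜ c) = b * algebraMap C B c := by
  simp [mulMap]

include h in
/-- If `B = C_h` is unramified over `A` then there is an element `e` of `B ⊗[A] C` with
`μ e = 1` and `x * e = (μ x ⊗ 1) * e` for all `x`. -/
theorem exists_elem :
    ∃ e : B ⊗[A] C, mulMap A C B e = 1 ∧
      ∀ x : B ⊗[A] C, x * e = algebraMap B (B ⊗[A] C) (mulMap A C B x) * e := by
  have hft : Algebra.EssFiniteType A B := by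
    have : Algebra.EssFiniteType C B := Algebra.EssFiniteType.of_isLocalization B (Submonoid.powers h)
    exact Algebra.EssFiniteType.comp A C B
  let ψ : B ⊗[A] C →ₐ[B] B ⊗[A] B :=
    Algebra.TensorProduct.map (AlgHom.id B B) (IsScalarTower.toAlgHom A C B)
  let _ : Algebra (B ⊗[A] C) (B ⊗[A] B) := ψ.toRingHom.toAlgebra
  have : IsScalarTower B (B ⊗[A] C) (B ⊗[A] B) := IsScalarTower.of_algebraMap_eq fun b =>
    (ψ.commutes b).symm
  have hloc : IsLocalization ((Submonoid.powers h).map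
      (Algebra.TensorProduct.includeRight (R := A) (A := B) (B := C))) (B ⊗[A] B) := by
    apply IsLocalization.tensorProduct_tensorProduct_right A B (Submonoid.powers h) B
    ext c
    simp [RingHom.algebraMap_toAlgebra, ψ]
  let t := Algebra.FormallyUnramified.elem A B
  obtain ⟨⟨e₀, s⟩, hs⟩ := IsLocalization.surj ((Submonoid.powers h).map
      (Algebra.TensorProduct.includeRight (R := A) (A := B) (B := C))) t
  obtain ⟨s, hs'⟩ := s
  obtain ⟨_, ⟨n, rfl⟩, rfl⟩ := hs'
  have hψ : ∀ x : B ⊗[A] C, mulMap A C B x = Algebra.TensorProduct.lmul' A (ψ x) := by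
    intro x
    induction x with
    | zero => simp
    | tmul b c => simp [ψ]
    | add x y hx hy => rw [map_add, map_add, map_add, hx, hy]
  simp only [Algebra.TensorProduct.includeRight_apply] at hs
  replace hs : ψ e₀ = t * ψ (1 ⊗ₜ (h ^ n)) := hs.symm
  have h1 : mulMap A C B e₀ = algebraMap C B h ^ n := by
    rw [hψ, hs, map_mul, ← hψ, Algebra.FormallyUnramified.lmul_elem, one_mul, mulMap_tmul, one_mul,
      map_pow]
  have h2 : ∀ c : C, ∃ m : ℕ, (1 ⊗ₜ (h ^ m)) * ((1 ⊗ₜ c - algebraMap C B c ⊗ₜ 1) * e₀) = 0 := by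
    intro c
    have h3 : algebraMap (B ⊗[A] C) (B ⊗[A] B) ((1 ⊗ₜ c - algebraMap C B c ⊗ₜ 1) * e₀) = 0 := by
      change ψ _ = 0
      rw [map_mul, hs, map_sub]
      have h4 : ψ ((1 : B) ⊗ₜ[A] c) - ψ (algebraMap C B c ⊗ₜ[A] 1) =
        1 ⊗ₜ algebraMap C B c - algebraMap C B c ⊗ₜ 1 := by simp [ψ]
      rw [h4, ← mul_assoc, Algebra.FormallyUnramified.one_tmul_sub_tmul_one_mul_elem, zero_mul]
    rw [IsLocalization.map_eq_zero_iff ((Submonoid.powers h).map
      (Algebra.TensorProduct.includeRight (R := A) (A := B) (B := C)))] at h3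
    obtain ⟨⟨_, ⟨_, ⟨m, rfl⟩, rfl⟩⟩, hm⟩ := h3
    simp only [Algebra.TensorProduct.includeRight_apply] at hm
    exact ⟨m, hm⟩
  obtain ⟨S, hS⟩ := ‹Algebra.FiniteType A C›
  choose m hm using h2
  let N := S.sup m
  let e₁ := ((1 : B) ⊗ₜ[A] (h ^ N)) * e₀
  have h3 : ∀ c : C, (1 ⊗ₜ c) * e₁ = (algebraMap C B c ⊗ₜ 1) * e₁ := by
    intro c
    have hc : c ∈ Algebra.adjoin A (S : Set C) := by rw [hS]; trivial
    induction hc using Algebra.adjoin_induction with
    | mem c hc =>
      have h5 : m c ≤ N := Finset.le_sup (f := m) hc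
      rw [← sub_eq_zero, ← sub_mul]
      have h6 : e₁ = (1 ⊗ₜ (h ^ (N - m c))) * ((1 ⊗ₜ (h ^ (m c))) * e₀) := by
        rw [← mul_assoc, show ((1 : B) ⊗ₜ[A] (h ^ (N - m c))) * (1 ⊗ₜ[A] (h ^ m c)) = 1 ⊗ₜ[A] (h ^ N) by
          rw [Algebra.TensorProduct.tmul_mul_tmul, one_mul, ← pow_add, Nat.sub_add_cancel h5]]
      rw [h6, mul_left_comm, mul_left_comm _ ((1 : B) ⊗ₜ[A] (h ^ (m c))), hm c, mul_zero]
    | algebraMap r =>
      congr 1
      rw [← IsScalarTower.algebraMap_apply, Algebra.algebraMap_eq_smul_one,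
        Algebra.algebraMap_eq_smul_one, tmul_smul, smul_tmul']
    | add x y _ _ hx hy =>
      rw [tmul_add, add_mul, hx, hy, map_add, add_tmul, add_mul]
    | mul x y _ _ hx hy =>
      have h7 : ((1 : B) ⊗ₜ[A] (x * y)) = (1 ⊗ₜ x) * (1 ⊗ₜ y) := by simp
      have h8 : (algebraMap C B (x * y) ⊗ₜ[A] (1 : C)) =
        (algebraMap C B x ⊗ₜ 1) * (algebraMap C B y ⊗ₜ 1) := by simp
      rw [h7, h8, mul_assoc, hy, mul_left_comm, hx, mul_left_comm, mul_assoc]
  have hu : IsUnit (algebraMap C B h) := IsLocalization.Away.algebraMap_isUnit h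
  obtain ⟨u, hu⟩ := hu.exists_right_inv
  refine ⟨algebraMap B (B ⊗[A] C) (u ^ (N + n)) * e₁, ?_, fun x => ?_⟩
  · rw [map_mul, map_mul, h1, AlgHom.commutes]
    rw [mulMap_tmul, Algebra.algebraMap_self, RingHom.id_apply,
      one_mul, map_pow, ← pow_add, ← mul_pow, mul_comm u, hu, one_pow]
  · rw [mul_left_comm, mul_left_comm _ (algebraMap B (B ⊗[A] C) (u ^ (N + n)))]
    congr 1
    induction x with
    | zero => simp
    | tmul b c =>
      have h7 : (b ⊗ₜ[A] c : B ⊗[A] C) = (b ⊗ₜ 1) * (1 ⊗ₜ c) := by simp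
      rw [mulMap_tmul, map_mul, h7, mul_assoc, h3, ← mul_assoc]
      rfl
    | add x y hx hy => rw [add_mul, hx, hy, map_add, map_add, add_mul]

end Groth.Agent.Flat2C.UnramifiedIdem
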