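import Groth.Agent.Flat2C.ZRFlat
import Groth.Agent.S0437
import Mathlib.RingTheory.Flat.TorsionFree
import Mathlib.RingTheory.Valuation.ValuationRing
import Mathlib.RingTheory.MvPolynomial.Basic
import Mathlib.Algebra.Module.FinitePresentation

/-!
# Finite generation over the Zariski-Riemann ring

`O` the ring of integers of a `IsZR` valuation on the local ring `L`.  A finitely generated submodule
`𝓡` of `(L[x])^ι` with flat quotient over `L` has finitely generated trace on `(O[x])^ι`, and the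
quotient of `(O[x])^ι` by this trace is flat over `O`.
-/

set_option autoImplicit false
universe u

namespace Groth.Agent.Flat2C.ZRFg

open IsLocalRing Groth.Agent.Flat2C.ZRFlat

section Fr

variable {ι σ : Type} {R R' R'' : Type*} [CommRing R] [CommRing R'] [CommRing R'']

/-- Change of coefficients on the free module of rank `ι` over the polynomial ring. -/
noncomputable def frMap (ι : Type) (σ : Type) (φ : R →+* R') :
    (ι → MvPolynomial σ R) →ₛₗ[MvPolynomial.map (σ := σ) φ] (ι → MvPolynomial σ R') where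
  toFun w i := MvPolynomial.map φ (w i)
  map_add' _ _ := by funext i; simp
  map_smul' _ _ := by funext i; simp

@[simp]
theorem frMap_apply (φ : R →+* R') (w : ι → MvPolynomial σ R) (i : ι) :
    frMap ι σ φ w i = MvPolynomial.map φ (w i) := rfl

theorem coeff_frMap (φ : R →+* R') (w : ι → MvPolynomial σ R) (i : ι) (m : σ →₀ ℕ) :
    (frMap ι σ φ w i).coeff m = φ ((w i).coeff m) := by
  simp [MvPolynomial.coeff_map]

theorem frMap_frMap (φ : R →+* R') (ψ : R' →+* R'') (w : ι → MvPolynomial σ R) :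
    frMap ι σ ψ (frMap ι σ φ w) = frMap ι σ (ψ.comp φ) w := by
  funext i
  simp [MvPolynomial.map_map]

theorem frMap_injective (φ : R →+* R') (hφ : Function.Injective φ) :
    Function.Injective (frMap ι σ φ) := by
  intro w w' h
  funext i
  exact MvPolynomial.map_injective φ hφ (congrFun h i)

theorem frMap_surjective (φ : R →+* R') (hφ : Function.Surjective φ) :
    Function.Surjective (frMap ι σ φ) := by
  intro w
  choose w' hw' using fun i => MvPolynomial.map_surjective φ hφ (w i)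
  exact ⟨w', funext hw'⟩

theorem frMap_C_smul (φ : R →+* R') (a : R) (w : ι → MvPolynomial σ R) :
    frMap ι σ φ (a • w) = φ a • frMap ι σ φ w := by
  funext i
  simp only [frMap_apply, Pi.smul_apply, MvPolynomial.smul_eq_C_mul, map_mul, MvPolynomial.map_C]

theorem exists_frMap_eq (φ : R →+* R') (w : ι → MvPolynomial σ R')
    (hw : ∀ i m, ∃ a, φ a = (w i).coeff m) : ∃ w' : ι → MvPolynomial σ R, frMap ι σ φ w' = w := by
  have : ∀ i, ∃ p : MvPolynomial σ R, MvPolynomial.map φ p = w i := by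
    intro i
    have := (MvPolynomial.mem_range_map_iff_coeffs_subset (f := φ) (x := w i)).mpr (by
      rintro a ha
      obtain ⟨m, -, rfl⟩ := MvPolynomial.mem_coeffs_iff.mp ha
      obtain ⟨b, hb⟩ := hw i m
      exact ⟨b, hb⟩)
    exact this
  choose w' hw' using this
  exact ⟨w', funext hw'⟩

theorem exists_map_eq (φ : R →+* R') (p : MvPolynomial σ R')
    (hw : ∀ m, ∃ a, φ a = p.coeff m) : ∃ q : MvPolynomial σ R, MvPolynomial.map φ q = p := by
  obtain ⟨w, hw⟩ := exists_frMap_eq (ι := Unit) φ (fun _ => p) (fun _ => hw)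
  exact ⟨w (), congrFun hw ()⟩

end Fr

section flatIdeal

/-- If `N ⧸ 𝓡` is flat over `L` then every element of `I • N ∩ 𝓡` is in `I • 𝓡`. -/
theorem exists_of_flat_quotient {L S : Type*} [CommRing L] [CommRing S] [Algebra L S] {N : Type*}
    [AddCommGroup N] [Module L N] [Module S N] [IsScalarTower L S N]
    (𝓡 : Submodule S N) [Module.Flat L (N ⧸ 𝓡)] {l : Type*} [Fintype l]
    (a : l → L) (e : l → N) (h : ∑ i, a i • e i ∈ 𝓡) :
    ∃ r : l → N, (∀ i, r i ∈ 𝓡) ∧ ∑ i, a i • e i = ∑ i, a i • r i := by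
  have hrel : ∑ i, a i • (Submodule.Quotient.mk (e i) : N ⧸ 𝓡) = 0 := by
    have : (Submodule.Quotient.mk (∑ i, a i • e i) : N ⧸ 𝓡) = 0 :=
      (Submodule.Quotient.mk_eq_zero _).mpr h
    rw [← this]
    simp only [← Submodule.mkQ_apply, map_sum]
    rfl
  obtain ⟨k, b, y, hy, hb⟩ := Module.Flat.isTrivialRelation_of_sum_smul_eq_zero hrel
  choose z hz using fun j => Submodule.Quotient.mk_surjective 𝓡 (y j)
  refine ⟨fun i => e i - ∑ j, b i j • z j, fun i => ?_, ?_⟩
  · rw [← Submodule.Quotient.mk_eq_zero, Submodule.Quotient.mk_sub, sub_eq_zero]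
    refine (hy i).trans ?_
    rw [← Submodule.mkQ_apply, map_sum]
    refine Finset.sum_congr rfl fun j _ => ?_
    rw [Submodule.mkQ_apply, Submodule.Quotient.mk_smul, hz j]
  · simp only [smul_sub, Finset.sum_sub_distrib]
    have : ∑ i, a i • ∑ j, b i j • z j = 0 := by
      simp only [Finset.smul_sum, smul_smul]
      rw [Finset.sum_comm]
      refine Finset.sum_eq_zero fun j _ => ?_
      rw [← Finset.sum_smul, hb j, zero_smul]
    rw [this, sub_zero]

end flatIdeal

variable {L : Type u} [CommRing L] [IsLocalRing L] {Γ₀ : Type*}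
  [LinearOrderedCommGroupWithZero Γ₀] {v : Valuation L Γ₀} {t : L}

/-- The prime ideal of infinitely small elements of the ring of integers. -/
def P (v : Valuation L Γ₀) : Ideal v.integer := (maximalIdeal L).comap v.integer.subtype

theorem mem_P {x : v.integer} : x ∈ P v ↔ (x : L) ∈ maximalIdeal L := Iff.rfl

instance : (P v).IsPrime := Ideal.comap_isPrime _ _

theorem _root_.Groth.Agent.Flat2C.ZRFlat.IsZR.exists_inv {x : L} (hx : x ∉ maximalIdeal L) :
    ∃ y : L, y * x = 1 := by
  have hu : IsUnit x := by simpa using hx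
  exact hu.exists_left_inv

theorem exists_mul_eq {x y : v.integer} (hx : x ∉ P v) (hle : v (y : L) ≤ v (x : L)) :
    ∃ c : v.integer, x * c = y := by
  obtain ⟨w, hw⟩ := IsZR.exists_inv (x := (x : L)) hx
  refine ⟨⟨w * y, ?_⟩, ?_⟩
  · rw [Valuation.mem_integer_iff, map_mul]
    calc v w * v (y : L) ≤ v w * v (x : L) := by gcongr
      _ = 1 := by rw [← map_mul, hw, map_one]
  · apply Subtype.ext
    push_cast
    calc (x : L) * (w * y) = (w * x) * y := by ring
      _ = y := by rw [hw, one_mul]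

instance : ValuationRing (v.integer ⧸ P v) where
  cond' a b := by
    obtain ⟨x, rfl⟩ := Ideal.Quotient.mk_surjective a
    obtain ⟨y, rfl⟩ := Ideal.Quotient.mk_surjective b
    by_cases hx : x ∈ P v
    · refine ⟨0, Or.inr ?_⟩
      rw [mul_zero, eq_comm, Ideal.Quotient.eq_zero_iff_mem]
      exact hx
    by_cases hy : y ∈ P v
    · refine ⟨0, Or.inl ?_⟩
      rw [mul_zero, eq_comm, Ideal.Quotient.eq_zero_iff_mem]
      exact hy
    rcases le_total (v (y : L)) (v (x : L)) with h | h
    · obtain ⟨c, hc⟩ := exists_mul_eq hx h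
      exact ⟨Ideal.Quotient.mk _ c, Or.inl (by rw [← map_mul, hc])⟩
    · obtain ⟨c, hc⟩ := exists_mul_eq hy h
      exact ⟨Ideal.Quotient.mk _ c, Or.inr (by rw [← map_mul, hc])⟩

variable {ι σ : Type}

/-- The trace on `(O[x])^ι` of a submodule of `(L[x])^ι`. -/
noncomputable def K (v : Valuation L Γ₀) (𝓡 : Submodule (MvPolynomial σ L) (ι → MvPolynomial σ L)) :
    Submodule (MvPolynomial σ v.integer) (ι → MvPolynomial σ v.integer) :=
  𝓡.comap (frMap ι σ v.integer.subtype)

omit [IsLocalRing L] in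
theorem mem_K {𝓡 : Submodule (MvPolynomial σ L) (ι → MvPolynomial σ L)}
    {w : ι → MvPolynomial σ v.integer} : w ∈ K v 𝓡 ↔ frMap ι σ v.integer.subtype w ∈ 𝓡 := Iff.rfl

/-- A finite family of elements of `L` can be multiplied into `O` by a power of `t`. -/
theorem exists_pow_forall_mem (h : IsZR v t) (s : Finset L) :
    ∃ n : ℕ, ∀ x ∈ s, t ^ n * x ∈ v.integer := by
  classical
  induction s using Finset.induction_on with
  | empty => exact ⟨0, by simp⟩
  | insert a s ha ih =>
    obtain ⟨n, hn⟩ := ih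
    obtain ⟨m, hm⟩ := h.exists_pow_mul_mem a
    refine ⟨max n m, fun x hx => ?_⟩
    rw [Finset.mem_insert] at hx
    rcases hx with rfl | hx
    · exact h.pow_mul_mem_of_le (le_max_right _ _) hm
    · exact h.pow_mul_mem_of_le (le_max_left _ _) (hn x hx)

theorem exists_pow_smul_eq_map (h : IsZR v t) (p : MvPolynomial σ L) :
    ∃ (n : ℕ) (q : MvPolynomial σ v.integer), MvPolynomial.map v.integer.subtype q = t ^ n • p := by
  classical
  obtain ⟨n, hn⟩ := exists_pow_forall_mem h (p.support.image fun m => p.coeff m)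
  refine ⟨n, exists_map_eq _ _ fun m => ?_⟩
  rw [MvPolynomial.coeff_smul]
  by_cases hm : m ∈ p.support
  · exact ⟨⟨_, hn _ (Finset.mem_image_of_mem _ hm)⟩, rfl⟩
  · refine ⟨0, ?_⟩
    rw [MvPolynomial.notMem_support_iff.mp hm]
    simp

theorem exists_pow_smul_eq_frMap [Finite ι] (h : IsZR v t) (w : ι → MvPolynomial σ L) :
    ∃ (n : ℕ) (w' : ι → MvPolynomial σ v.integer), frMap ι σ v.integer.subtype w' = t ^ n • w := by
  classical
  cases nonempty_fintype ι
  obtain ⟨n, hn⟩ := exists_pow_forall_mem h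
    (Finset.univ.biUnion fun i => (w i).support.image fun m => (w i).coeff m)
  refine ⟨n, exists_frMap_eq _ _ fun i m => ?_⟩
  rw [Pi.smul_apply, MvPolynomial.coeff_smul]
  by_cases hm : m ∈ (w i).support
  · refine ⟨⟨_, hn ((w i).coeff m) ?_⟩, rfl⟩
    exact Finset.mem_biUnion.mpr ⟨i, Finset.mem_univ _, Finset.mem_image_of_mem _ hm⟩
  · refine ⟨0, ?_⟩
    rw [MvPolynomial.notMem_support_iff.mp hm]
    simp

/-- The embedding of the quotients. -/
noncomputable def jmap (v : Valuation L Γ₀)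
    (𝓡 : Submodule (MvPolynomial σ L) (ι → MvPolynomial σ L)) :
    ((ι → MvPolynomial σ v.integer) ⧸ K v 𝓡) →ₗ[v.integer] ((ι → MvPolynomial σ L) ⧸ 𝓡) where
  toFun := Submodule.mapQ (K v 𝓡) 𝓡 (frMap ι σ v.integer.subtype) (fun _ hw => hw)
  map_add' := map_add _
  map_smul' := by
    intro c x
    obtain ⟨w, rfl⟩ := Submodule.Quotient.mk_surjective _ x
    change (Submodule.Quotient.mk (frMap ι σ v.integer.subtype (c • w)) :
      (ι → MvPolynomial σ L) ⧸ 𝓡) = (c : L) • Submodule.Quotient.mk (frMap ι σ v.integer.subtype w)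
    rw [frMap_C_smul, ← Submodule.Quotient.mk_smul]
    rfl

omit [IsLocalRing L] in
theorem jmap_mk (𝓡 : Submodule (MvPolynomial σ L) (ι → MvPolynomial σ L))
    (w : ι → MvPolynomial σ v.integer) :
    jmap v 𝓡 (Submodule.Quotient.mk w) = Submodule.Quotient.mk (frMap ι σ v.integer.subtype w) :=
  rfl

omit [IsLocalRing L] in
theorem jmap_injective (𝓡 : Submodule (MvPolynomial σ L) (ι → MvPolynomial σ L)) :
    Function.Injective (jmap v 𝓡) := by
  rw [← LinearMap.ker_eq_bot, LinearMap.ker_eq_bot']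
  intro x hx
  obtain ⟨w, rfl⟩ := Submodule.Quotient.mk_surjective _ x
  rw [jmap_mk, Submodule.Quotient.mk_eq_zero] at hx
  rw [Submodule.Quotient.mk_eq_zero]
  exact hx

/-- The quotient of `(O[x])^ι` by the trace is flat over `O`. -/
theorem flat_quotient [Finite ι] (h : IsZR v t)
    (𝓡 : Submodule (MvPolynomial σ L) (ι → MvPolynomial σ L))
    [Module.Flat L ((ι → MvPolynomial σ L) ⧸ 𝓡)] :
    Module.Flat v.integer ((ι → MvPolynomial σ v.integer) ⧸ K v 𝓡) := by
  refine h.flat (N := (ι → MvPolynomial σ L) ⧸ 𝓡) (jmap v 𝓡) (jmap_injective 𝓡) fun y => ?_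
  obtain ⟨w, rfl⟩ := Submodule.Quotient.mk_surjective _ y
  obtain ⟨n, w', hw'⟩ := exists_pow_smul_eq_frMap h w
  exact ⟨n, Submodule.Quotient.mk w', by rw [jmap_mk, hw', Submodule.Quotient.mk_smul]⟩

/-- Reduction modulo the infinitely small elements. -/
noncomputable abbrev red (ι σ : Type) (v : Valuation L Γ₀) :
    (ι → MvPolynomial σ v.integer) →ₛₗ[MvPolynomial.map (σ := σ) (Ideal.Quotient.mk (P v))]
      (ι → MvPolynomial σ (v.integer ⧸ P v)) := frMap ι σ (Ideal.Quotient.mk (P v))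

instance : RingHomSurjective (MvPolynomial.map (σ := σ) (Ideal.Quotient.mk (P v))) :=
  ⟨MvPolynomial.map_surjective _ Ideal.Quotient.mk_surjective⟩

/-- The image of the trace modulo the infinitely small elements. -/
noncomputable def KV (v : Valuation L Γ₀)
    (𝓡 : Submodule (MvPolynomial σ L) (ι → MvPolynomial σ L)) :
    Submodule (MvPolynomial σ (v.integer ⧸ P v)) (ι → MvPolynomial σ (v.integer ⧸ P v)) :=
  (K v 𝓡).map (red ι σ v)

theorem coeff_mem_of_red_eq_zero {w : ι → MvPolynomial σ v.integer} (hw : red ι σ v w = 0)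
    (i : ι) (m : σ →₀ ℕ) : (w i).coeff m ∈ P v := by
  rw [← Ideal.Quotient.eq_zero_iff_mem, ← coeff_frMap, hw]
  simp

theorem red_eq_zero {w : ι → MvPolynomial σ v.integer} (hw : ∀ i m, (w i).coeff m ∈ P v) :
    red ι σ v w = 0 := by
  funext i
  ext m
  rw [coeff_frMap, Ideal.Quotient.eq_zero_iff_mem.mpr (hw i m)]
  simp

theorem exists_of_red_eq_zero (h : IsZR v t) {w : ι → MvPolynomial σ v.integer}
    (hw : red ι σ v w = 0) (n : ℕ) :
    ∃ w' : ι → MvPolynomial σ v.integer, red ι σ v w' = 0 ∧ h.t' ^ n • w' = w := by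
  obtain ⟨s, hs⟩ := h.isUnit.exists_left_inv
  have hmem : ∀ i m, s ^ n * (w i).coeff m ∈ maximalIdeal L := fun i m =>
    Ideal.mul_mem_left _ _ (coeff_mem_of_red_eq_zero hw i m)
  obtain ⟨w', hw'⟩ := exists_frMap_eq v.integer.subtype
    (s ^ n • frMap ι σ v.integer.subtype w) (fun i m => ⟨⟨s ^ n * (w i).coeff m,
      h.mem_integer_of_mem (hmem i m)⟩, by
        rw [Pi.smul_apply, MvPolynomial.coeff_smul, coeff_frMap]
        rfl⟩)
  have hc : ∀ i m, (((w' i).coeff m : v.integer) : L) = s ^ n * (w i).coeff m := by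
    intro i m
    have := congrArg (fun z => (z i).coeff m) hw'
    simp only [coeff_frMap, Pi.smul_apply, MvPolynomial.coeff_smul] at this
    exact this
  refine ⟨w', red_eq_zero fun i m => ?_, ?_⟩
  · rw [mem_P, hc]
    exact hmem i m
  · apply frMap_injective v.integer.subtype Subtype.val_injective
    rw [frMap_C_smul, hw', map_pow]
    change t ^ n • s ^ n • _ = _
    rw [smul_smul, ← mul_pow, mul_comm, hs, one_pow, one_smul]

theorem mem_K_of_smul_mem {𝓡 : Submodule (MvPolynomial σ L) (ι → MvPolynomial σ L)}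
    {s : v.integer} (hs : s ∉ P v) {w : ι → MvPolynomial σ v.integer} (hw : s • w ∈ K v 𝓡) :
    w ∈ K v 𝓡 := by
  obtain ⟨r, hr⟩ := IsZR.exists_inv (x := (s : L)) hs
  rw [mem_K, frMap_C_smul] at hw
  rw [mem_K]
  have := 𝓡.smul_of_tower_mem r hw
  rw [smul_smul] at this
  change (r * (s : L)) • _ ∈ 𝓡 at this
  rwa [hr, one_smul] at this

theorem t'_pow_notMem (h : IsZR v t) (n : ℕ) : h.t' ^ n ∉ P v := by
  intro hmem
  have := Ideal.IsPrime.mem_of_pow_mem inferInstance _ hmem
  rw [mem_P] at this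
  exact (mem_maximalIdeal _).mp this h.isUnit

theorem exists_dvd_pow (h : IsZR v t) {s : v.integer} (hs : s ∉ P v) :
    ∃ (n : ℕ) (c : v.integer), s * c = h.t' ^ n := by
  obtain ⟨n, hn⟩ := h.exists_le (s : L) hs
  obtain ⟨c, hc⟩ := exists_mul_eq (y := h.t' ^ n) hs (by simpa [IsZR.t'] using hn)
  exact ⟨n, c, hc⟩

theorem flat_KV (h : IsZR v t) (𝓡 : Submodule (MvPolynomial σ L) (ι → MvPolynomial σ L)) :
    Module.Flat (v.integer ⧸ P v) ((ι → MvPolynomial σ (v.integer ⧸ P v)) ⧸ KV v 𝓡) := by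
  rw [Module.Flat.flat_iff_torsion_eq_bot_of_isBezout, eq_bot_iff]
  rintro x ⟨⟨sb, hsb⟩, hx⟩
  obtain ⟨y, rfl⟩ := Submodule.Quotient.mk_surjective _ x
  obtain ⟨w, rfl⟩ := frMap_surjective _ Ideal.Quotient.mk_surjective y
  obtain ⟨s, rfl⟩ := Ideal.Quotient.mk_surjective sb
  have hs : s ∉ P v := by
    intro hmem
    rw [Ideal.Quotient.eq_zero_iff_mem.mpr hmem] at hsb
    exact zero_notMem_nonZeroDivisors hsb
  change (Ideal.Quotient.mk (P v) s) • (Submodule.Quotient.mk (red ι σ v w) : _ ⧸ KV v 𝓡) = 0 at hx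
  rw [← Submodule.Quotient.mk_smul, Submodule.Quotient.mk_eq_zero, ← frMap_C_smul] at hx
  obtain ⟨k, hk, hkw⟩ := hx
  obtain ⟨n, c, hc⟩ := exists_dvd_pow h hs
  have hred : red ι σ v (s • w - k) = 0 := by
    rw [map_sub, sub_eq_zero]
    exact hkw.symm
  obtain ⟨w', hw', hw'e⟩ := exists_of_red_eq_zero h hred n
  have key : h.t' ^ n • (w - c • w') ∈ K v 𝓡 := by
    have : h.t' ^ n • (w - c • w') = c • k := by
      rw [smul_sub, smul_comm _ c, hw'e, smul_sub, ← hc, ← smul_smul, smul_comm c s w]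
      abel
    rw [this]
    exact (K v 𝓡).smul_of_tower_mem c hk
  have hmem := mem_K_of_smul_mem (t'_pow_notMem h n) key
  rw [Submodule.mem_bot, Submodule.Quotient.mk_eq_zero]
  refine ⟨_, hmem, ?_⟩
  rw [map_sub, frMap_C_smul, hw', smul_zero, sub_zero]

theorem fg_KV [Finite ι] [Finite σ] (h : IsZR v t)
    (𝓡 : Submodule (MvPolynomial σ L) (ι → MvPolynomial σ L)) : (KV v 𝓡).FG := by
  have := flat_KV h 𝓡
  have : Module.FinitePresentation (MvPolynomial σ (v.integer ⧸ P v))
      ((ι → MvPolynomial σ (v.integer ⧸ P v)) ⧸ KV v 𝓡) :=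
    Groth.Agent.S0437.result (A := v.integer ⧸ P v) (B := MvPolynomial σ (v.integer ⧸ P v))
      (M := (ι → MvPolynomial σ (v.integer ⧸ P v)) ⧸ KV v 𝓡)
  have := Module.FinitePresentation.fg_ker (KV v 𝓡).mkQ (Submodule.mkQ_surjective _)
  rwa [Submodule.ker_mkQ] at this

/-- Infinitely small multiples of elements of `𝓡` come from the span over `O[x]` of elements
generating `𝓡` over `L[x]`. -/
theorem exists_mem_span (h : IsZR v t) (T : Set (ι → MvPolynomial σ v.integer))
    (r : ι → MvPolynomial σ L)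
    (hr : r ∈ Submodule.span (MvPolynomial σ L) (frMap ι σ v.integer.subtype '' T)) :
    ∀ p : MvPolynomial σ L, (∀ m, p.coeff m ∈ maximalIdeal L) →
      ∃ y ∈ Submodule.span (MvPolynomial σ v.integer) T,
        frMap ι σ v.integer.subtype y = p • r := by
  classical
  induction hr using Submodule.span_induction with
  | mem r hr =>
    intro p hp
    obtain ⟨s, hs, rfl⟩ := hr
    obtain ⟨q, hq⟩ := exists_map_eq v.integer.subtype p
      (fun m => ⟨⟨_, h.mem_integer_of_mem (hp m)⟩, rfl⟩)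
    refine ⟨q • s, Submodule.smul_mem _ _ (Submodule.subset_span hs), ?_⟩
    rw [LinearMap.map_smulₛₗ, hq]
  | zero =>
    intro p _
    exact ⟨0, zero_mem _, by simp⟩
  | add r r' _ _ ih ih' =>
    intro p hp
    obtain ⟨y, hy, hy'⟩ := ih p hp
    obtain ⟨z, hz, hz'⟩ := ih' p hp
    exact ⟨y + z, add_mem hy hz, by rw [map_add, hy', hz', smul_add]⟩
  | smul q r _ ih =>
    intro p hp
    have : ∀ m, (p * q).coeff m ∈ maximalIdeal L := by
      intro m
      rw [MvPolynomial.coeff_mul]
      exact sum_mem fun x _ => Ideal.mul_mem_right _ _ (hp _)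
    obtain ⟨y, hy, hy'⟩ := ih (p * q) this
    exact ⟨y, hy, by rw [hy', mul_smul]⟩

/-- An element of `𝓡` with infinitely small coefficients. -/
theorem mem_span_of_red_eq_zero [Finite ι] (h : IsZR v t)
    (𝓡 : Submodule (MvPolynomial σ L) (ι → MvPolynomial σ L))
    [Module.Flat L ((ι → MvPolynomial σ L) ⧸ 𝓡)] (T : Set (ι → MvPolynomial σ v.integer))
    (hT : 𝓡 = Submodule.span (MvPolynomial σ L) (frMap ι σ v.integer.subtype '' T))
    {w : ι → MvPolynomial σ v.integer} (hw : w ∈ K v 𝓡) (hw0 : red ι σ v w = 0) :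
    w ∈ Submodule.span (MvPolynomial σ v.integer) T := by
  classical
  cases nonempty_fintype ι
  set W : ι → MvPolynomial σ L := frMap ι σ v.integer.subtype w with hWdef
  have hWm : ∀ i m, (W i).coeff m ∈ maximalIdeal L := fun i m => by
    rw [hWdef, coeff_frMap]
    exact coeff_mem_of_red_eq_zero hw0 i m
  let S : Finset (Σ _ : ι, (σ →₀ ℕ)) := Finset.univ.sigma fun i => (W i).support
  let a : S → L := fun x => (W x.1.1).coeff x.1.2
  let e : S → (ι → MvPolynomial σ L) := fun x => Pi.single x.1.1 (MvPolynomial.monomial x.1.2 1)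
  have hsum : ∑ x : S, a x • e x = W := by
    have h1 : ∑ x : S, a x • e x = ∑ x ∈ S, (W x.1).coeff x.2 •
        (Pi.single x.1 (MvPolynomial.monomial x.2 1) : ι → MvPolynomial σ L) :=
      Finset.sum_coe_sort S (fun x => (W x.1).coeff x.2 •
        (Pi.single x.1 (MvPolynomial.monomial x.2 1) : ι → MvPolynomial σ L))
    rw [h1, Finset.sum_sigma]
    funext j
    rw [Finset.sum_apply]
    rw [Finset.sum_eq_single j]
    · rw [Finset.sum_apply]
      conv_rhs => rw [(W j).as_sum]
      refine Finset.sum_congr rfl fun m _ => ?_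
      rw [Pi.smul_apply, Pi.single_eq_same, MvPolynomial.smul_monomial, smul_eq_mul, mul_one]
    · intro i _ hij
      rw [Finset.sum_apply]
      refine Finset.sum_eq_zero fun m _ => ?_
      rw [Pi.smul_apply, Pi.single_eq_of_ne hij.symm, smul_zero]
    · intro hj
      exact absurd (Finset.mem_univ j) hj
  have hmem : ∑ x : S, a x • e x ∈ 𝓡 := by
    rw [hsum]
    exact hw
  obtain ⟨r, hr, hsum'⟩ := exists_of_flat_quotient 𝓡 a e hmem
  have hy : ∀ x : S, ∃ y ∈ Submodule.span (MvPolynomial σ v.integer) T,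
      frMap ι σ v.integer.subtype y = a x • r x := by
    intro x
    obtain ⟨y, hy, hy'⟩ := exists_mem_span h T (r x) (hT ▸ hr x) (MvPolynomial.C (a x)) (by
      intro m
      rw [MvPolynomial.coeff_C]
      split_ifs
      · exact hWm _ _
      · exact zero_mem _)
    refine ⟨y, hy, ?_⟩
    rw [hy']
    funext i
    rw [Pi.smul_apply, Pi.smul_apply, MvPolynomial.smul_eq_C_mul, smul_eq_mul]
  choose y hy hy' using hy
  have : w = ∑ x : S, y x := by
    apply frMap_injective v.integer.subtype Subtype.val_injective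
    rw [map_sum]
    simp only [hy']
    rw [← hsum', hsum]
  rw [this]
  exact sum_mem fun x _ => hy x

/-- **Finite generation of the trace.** -/
theorem fg_K [Finite ι] [Finite σ] (h : IsZR v t)
    (𝓡 : Submodule (MvPolynomial σ L) (ι → MvPolynomial σ L)) (h𝓡 : 𝓡.FG)
    [Module.Flat L ((ι → MvPolynomial σ L) ⧸ 𝓡)] : (K v 𝓡).FG := by
  classical
  obtain ⟨S, hS⟩ := fg_KV h 𝓡
  have hSK : ∀ s : S, ∃ k ∈ K v 𝓡, red ι σ v k = s.1 := by
    intro s
    have : s.1 ∈ KV v 𝓡 := hS ▸ Submodule.subset_span s.2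
    exact this
  choose k hk hks using hSK
  obtain ⟨R, hR⟩ := h𝓡
  choose n w hw using fun r : R => exists_pow_smul_eq_frMap h r.1
  have hwK : ∀ r : R, w r ∈ K v 𝓡 := by
    intro r
    rw [mem_K, hw r]
    exact 𝓡.smul_of_tower_mem _ (hR ▸ Submodule.subset_span r.2)
  let T : Set (ι → MvPolynomial σ v.integer) := Set.range w
  have hT : 𝓡 = Submodule.span (MvPolynomial σ L) (frMap ι σ v.integer.subtype '' T) := by
    apply le_antisymm
    · rw [← hR, Submodule.span_le]
      intro r hr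
      obtain ⟨s, hs⟩ := h.isUnit.exists_left_inv
      have h1 : r = s ^ (n ⟨r, hr⟩) • frMap ι σ v.integer.subtype (w ⟨r, hr⟩) := by
        rw [hw ⟨r, hr⟩, smul_smul, ← mul_pow, hs, one_pow, one_smul]
      rw [h1]
      refine Submodule.smul_of_tower_mem _ _ (Submodule.subset_span ?_)
      exact ⟨_, ⟨_, rfl⟩, rfl⟩
    · rw [Submodule.span_le]
      rintro _ ⟨_, ⟨r, rfl⟩, rfl⟩
      exact hwK r
  refine ⟨Finset.univ.image k ∪ Finset.univ.image w, ?_⟩
  apply le_antisymm
  · rw [Submodule.span_le]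
    intro x hx
    rw [Finset.coe_union, Finset.coe_image, Finset.coe_image] at hx
    rcases hx with ⟨s, -, rfl⟩ | ⟨r, -, rfl⟩
    · exact hk s
    · exact hwK r
  · intro x hx
    have h1 : red ι σ v x ∈ (Submodule.span (MvPolynomial σ v.integer) (Set.range k)).map
        (red ι σ v) := by
      rw [Submodule.map_span]
      have h2 : red ι σ v x ∈ KV v 𝓡 := ⟨x, hx, rfl⟩
      rw [← hS] at h2
      refine Submodule.span_mono ?_ h2
      intro s hs
      exact ⟨k ⟨s, hs⟩, ⟨_, rfl⟩, hks ⟨s, hs⟩⟩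
    obtain ⟨k₁, hk₁, hk₁x⟩ := h1
    have hk₁K : k₁ ∈ K v 𝓡 := by
      refine Submodule.span_le.mpr ?_ hk₁
      rintro _ ⟨s, rfl⟩
      exact hk s
    have h3 : x - k₁ ∈ Submodule.span (MvPolynomial σ v.integer) T :=
      mem_span_of_red_eq_zero h 𝓡 T hT (sub_mem hx hk₁K) (by rw [map_sub, hk₁x, sub_self])
    have h4 : x = (x - k₁) + k₁ := by abel
    rw [h4]
    refine add_mem ?_ ?_
    · refine Submodule.span_mono ?_ h3
      rintro _ ⟨r, rfl⟩
      simp
    · refine Submodule.span_mono ?_ hk₁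
      rintro _ ⟨r, rfl⟩
      simp

end Groth.Agent.Flat2C.ZRFg
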