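import Mathlib.RingTheory.Valuation.Integers
import Mathlib.RingTheory.Flat.EquationalCriterion
import Mathlib.RingTheory.LocalRing.MaximalIdeal.Basic
import Mathlib.RingTheory.MvPolynomial.Basic

set_option autoImplicit false
universe u

namespace Groth.Agent.Flat2C.ZRFlat

open IsLocalRing

variable {L : Type u} [CommRing L] [IsLocalRing L] {Γ₀ : Type*}
  [LinearOrderedCommGroupWithZero Γ₀]

/-- A valuation `v` on a local ring `L` together with a unit `t` with `v t < 1` which generates the
topology and such that the maximal ideal of `L` is exactly the set of elements infinitely small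
with respect to `t`. -/
structure IsZR (v : Valuation L Γ₀) (t : L) : Prop where
  isUnit : IsUnit t
  lt_one : v t < 1
  le_of_mem : ∀ x ∈ maximalIdeal L, ∀ n : ℕ, v x ≤ v t ^ n
  exists_le : ∀ x, x ∉ maximalIdeal L → ∃ n : ℕ, v t ^ n ≤ v x

variable {v : Valuation L Γ₀} {t : L}

theorem IsZR.mem_integer_of_mem (h : IsZR v t) {x : L} (hx : x ∈ maximalIdeal L) :
    x ∈ v.integer := by
  have := h.le_of_mem x hx 0
  simpa [Valuation.mem_integer_iff] using this

theorem IsZR.t_mem (h : IsZR v t) : t ∈ v.integer := by
  rw [Valuation.mem_integer_iff]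
  exact h.lt_one.le

/-- `t` as an element of the ring of integers. -/
def IsZR.t' (h : IsZR v t) : v.integer := ⟨t, h.t_mem⟩

theorem IsZR.exists_pow_mul_mem (h : IsZR v t) (x : L) : ∃ n : ℕ, t ^ n * x ∈ v.integer := by
  by_cases hx : x ∈ maximalIdeal L
  · exact ⟨0, by simpa using h.mem_integer_of_mem hx⟩
  · have hu : IsUnit x := by simpa using hx
    obtain ⟨y, hy⟩ := hu.exists_right_inv
    have hy' : y ∉ maximalIdeal L := by
      intro hmem
      have : x * y ∈ maximalIdeal L := Ideal.mul_mem_left _ _ hmem
      rw [hy] at this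
      exact (maximalIdeal.isMaximal L).ne_top ((Ideal.eq_top_iff_one _).mpr this)
    obtain ⟨n, hn⟩ := h.exists_le y hy'
    refine ⟨n, ?_⟩
    rw [Valuation.mem_integer_iff, map_mul, map_pow]
    calc v t ^ n * v x ≤ v y * v x := by gcongr
      _ = v (x * y) := by rw [map_mul, mul_comm]
      _ = 1 := by rw [hy, map_one]

theorem IsZR.pow_mul_mem_of_le (h : IsZR v t) {x : L} {m n : ℕ} (hmn : m ≤ n)
    (hx : t ^ m * x ∈ v.integer) : t ^ n * x ∈ v.integer := by
  obtain ⟨k, rfl⟩ := Nat.exists_eq_add_of_le hmn
  have : t ^ (m + k) * x = t ^ k * (t ^ m * x) := by ring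
  rw [this]
  exact mul_mem (pow_mem h.t_mem k) hx

/-- A unit of `L` divides a power of `t` in the ring of integers. -/
theorem IsZR.ne_zero (_ : IsZR v t) {x : L} (hx : x ∉ maximalIdeal L) : v x ≠ 0 := by
  have hu : IsUnit x := by simpa using hx
  intro h0
  obtain ⟨y, hy⟩ := hu.exists_right_inv
  have : v (x * y) = 0 := by rw [map_mul, h0, zero_mul]
  rw [hy, map_one] at this
  exact one_ne_zero this

section Flat

variable {M : Type*} [AddCommGroup M] [Module v.integer M]
  {N : Type*} [AddCommGroup N] [Module L N]

open Classical in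
/-- The relation lemma: over `L` flat, relations supported on a finite set `s` are trivial over the
ring of integers. -/
theorem IsZR.trivial_aux (h : IsZR v t) (j : M →ₗ[v.integer] N) (hj : Function.Injective j)
    (hsurj : ∀ y : N, ∃ (n : ℕ) (m : M), j m = t ^ n • y) [Module.Flat L N]
    {l : Type} [Fintype l] (f : l → v.integer) (s : Finset l) :
    ∀ x : l → M, (∀ i ∉ s, x i = 0) → ∑ i, f i • x i = 0 →
      x ∈ Submodule.span v.integer {z : l → M | ∃ (c : l → v.integer) (y : M),
        ∑ i, f i * c i = 0 ∧ z = fun i => c i • y} := by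
  induction s using Finset.strongInduction with
  | H s ih =>
  intro x hxs hx
  by_cases hb : ∃ b : l → L, (∀ i ∉ s, b i = 0) ∧ ∑ i, (f i : L) * b i = 0 ∧
      ∃ i, b i ∉ maximalIdeal L
  · obtain ⟨b, hbs, hb0, i₁, hi₁⟩ := hb
    obtain ⟨i₀, -, hi₀⟩ := Finset.exists_max_image Finset.univ (fun i => v (b i)) ⟨i₁, Finset.mem_univ _⟩
    have hmax : ∀ i, v (b i) ≤ v (b i₀) := fun i => hi₀ i (Finset.mem_univ _)
    have hi₀m : b i₀ ∉ maximalIdeal L := by
      intro hmem
      obtain ⟨n, hn⟩ := h.exists_le _ hi₁
      have h1 := h.le_of_mem _ hmem (n + 1)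
      have h2 : v t ^ n ≤ v t ^ (n + 1) := hn.trans ((hmax i₁).trans h1)
      have h3 : v t ^ (n + 1) < v t ^ n := by
        have hpos : 0 < v t ^ n :=
          zero_lt_iff.mpr (pow_ne_zero _ (h.ne_zero (by simpa using h.isUnit)))
        calc v t ^ (n + 1) = v t ^ n * v t := pow_succ _ _
          _ < v t ^ n * 1 := by gcongr; exact h.lt_one
          _ = v t ^ n := mul_one _
      exact absurd h2 (not_le.mpr h3)
    have hu : IsUnit (b i₀) := by simpa using hi₀m
    obtain ⟨w, hw⟩ := hu.exists_right_inv
    have hvw : v w * v (b i₀) = 1 := by rw [← map_mul, mul_comm, hw, map_one]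
    have hc : ∀ i, w * b i ∈ v.integer := by
      intro i
      rw [Valuation.mem_integer_iff, map_mul]
      calc v w * v (b i) ≤ v w * v (b i₀) := by gcongr; exact hmax i
        _ = 1 := hvw
    let c : l → v.integer := fun i => ⟨w * b i, hc i⟩
    have hc0 : c i₀ = 1 := by
      apply Subtype.ext
      simpa [c, mul_comm] using hw
    have hcs : ∀ i ∉ s, c i = 0 := by
      intro i hi
      apply Subtype.ext
      simp [c, hbs i hi]
    have hi₀s : i₀ ∈ s := by
      by_contra hcon
      have := hcs i₀ hcon
      rw [hc0] at this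
      exact one_ne_zero this
    have hfc : ∑ i, f i * c i = 0 := by
      apply Subtype.ext
      have : ((∑ i, f i * c i : v.integer) : L) = w * ∑ i, (f i : L) * b i := by
        rw [Finset.mul_sum]
        push_cast
        refine Finset.sum_congr rfl fun i _ => ?_
        simp only [c]
        ring
      rw [this, hb0, mul_zero]
      rfl
    let x' : l → M := fun i => x i - c i • x i₀
    have hx's : ∀ i ∉ s.erase i₀, x' i = 0 := by
      intro i hi
      by_cases hii : i = i₀
      · subst hii
        simp [x', hc0]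
      · have : i ∉ s := fun hs => hi (Finset.mem_erase.mpr ⟨hii, hs⟩)
        simp [x', hxs i this, hcs i this]
    have hx'0 : ∑ i, f i • x' i = 0 := by
      have : ∑ i, f i • x' i = ∑ i, f i • x i - (∑ i, f i * c i) • x i₀ := by
        simp only [x', smul_sub, Finset.sum_sub_distrib, Finset.sum_smul, mul_smul]
      rw [this, hx, hfc, zero_smul, sub_zero]
    have hmem := ih (s.erase i₀) (Finset.erase_ssubset hi₀s) x' hx's hx'0
    have hxeq : x = x' + fun i => c i • x i₀ := by
      funext i
      simp [x']
    rw [hxeq]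
    exact add_mem hmem (Submodule.subset_span ⟨c, x i₀, hfc, rfl⟩)
  · push Not at hb
    have hrel : ∑ i : s, ((f i : v.integer) : L) • j (x i) = 0 := by
      have h1 : ∑ i, f i • j (x i) = 0 := by
        have := congrArg j hx
        simpa [map_sum] using this
      have h2 : ∑ i ∈ s, f i • j (x i) = ∑ i, f i • j (x i) := by
        refine Finset.sum_subset (Finset.subset_univ _) fun i _ hi => ?_
        rw [hxs i hi, map_zero, smul_zero]
      rw [h1, ← Finset.sum_coe_sort] at h2
      exact h2
    obtain ⟨k, a, y, hxa, ha0⟩ := Module.Flat.isTrivialRelation_of_sum_smul_eq_zero hrel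
    -- extend by zero
    let b : Fin k → l → L := fun q i => if hi : i ∈ s then a ⟨i, hi⟩ q else 0
    have hbs : ∀ q, ∀ i ∉ s, b q i = 0 := fun q i hi => by simp [b, hi]
    have hb0 : ∀ q, ∑ i, (f i : L) * b q i = 0 := by
      intro q
      have h2 : ∑ i ∈ s, (f i : L) * b q i = ∑ i, (f i : L) * b q i := by
        refine Finset.sum_subset (Finset.subset_univ _) fun i _ hi => ?_
        rw [hbs q i hi, mul_zero]
      rw [← h2, ← Finset.sum_coe_sort]
      rw [← ha0 q]
      refine Finset.sum_congr rfl fun i _ => ?_
      simp [b]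
    have hbm : ∀ q i, b q i ∈ maximalIdeal L := fun q i => hb (b q) (hbs q) (hb0 q) i
    have hjx : ∀ i, j (x i) = ∑ q, b q i • y q := by
      intro i
      by_cases hi : i ∈ s
      · refine (hxa ⟨i, hi⟩).trans ?_
        refine Finset.sum_congr rfl fun q _ => ?_
        simp [b, hi]
      · rw [hxs i hi, map_zero]
        simp [b, hi]
    -- choose a common power
    choose n m hm using fun q => hsurj (y q)
    obtain ⟨w, hw⟩ := h.isUnit.exists_left_inv
    have hwn : ∀ n : ℕ, w ^ n * t ^ n = 1 := fun n => by rw [← mul_pow, hw, one_pow]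
    let c : Fin k → l → v.integer := fun q i =>
      ⟨w ^ (n q) * b q i, h.mem_integer_of_mem (Ideal.mul_mem_left _ _ (hbm q i))⟩
    have hc0 : ∀ q, ∑ i, f i * c q i = 0 := by
      intro q
      apply Subtype.ext
      have : ((∑ i, f i * c q i : v.integer) : L) = w ^ (n q) * ∑ i, (f i : L) * b q i := by
        rw [Finset.mul_sum]
        push_cast
        refine Finset.sum_congr rfl fun i _ => ?_
        simp only [c]
        ring
      rw [this, hb0, mul_zero]
      rfl
    have hxeq : x = ∑ q, fun i => c q i • m q := by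
      funext i
      apply hj
      rw [hjx i, Finset.sum_apply, map_sum]
      refine Finset.sum_congr rfl fun q _ => ?_
      rw [map_smul, hm q]
      change b q i • y q = (w ^ (n q) * b q i) • t ^ (n q) • y q
      rw [smul_smul]
      congr 1
      calc b q i = (w ^ n q * t ^ n q) * b q i := by rw [hwn, one_mul]
        _ = w ^ n q * b q i * t ^ n q := by ring
    rw [hxeq]
    exact sum_mem fun q _ => Submodule.subset_span ⟨c q, m q, hc0 q, rfl⟩

/-- **Flatness over the ring of integers of a Zariski-Riemann type valuation**: a module `M` over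
the ring of integers `O` embedded in a flat `L`-module `N`, each element of `N` being a fraction
with denominator a power of `t` of an element of `M`, is flat over `O`. -/
theorem IsZR.flat (h : IsZR v t) (j : M →ₗ[v.integer] N) (hj : Function.Injective j)
    (hsurj : ∀ y : N, ∃ (n : ℕ) (m : M), j m = t ^ n • y) [Module.Flat L N] :
    Module.Flat v.integer M := by
  classical
  refine Module.Flat.of_forall_isTrivialRelation fun {l f x} hfx => ?_
  have hmem := h.trivial_aux j hj hsurj (l := ULift.{0} (Fin l)) (fun i => f i.down) Finset.univ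
    (fun i => x i.down) (by simp) (by
      rw [← hfx]
      exact Fintype.sum_equiv Equiv.ulift _ _ (fun i => rfl))
  rw [Submodule.mem_span_set'] at hmem
  obtain ⟨k, a, z, hz⟩ := hmem
  choose c y hc hy using fun q => (z q).2
  refine ⟨k, fun i q => a q * c q ⟨i⟩, y, fun i => ?_, fun q => ?_⟩
  · have := congrFun hz ⟨i⟩
    rw [Finset.sum_apply] at this
    simp only at this
    rw [← this]
    refine Finset.sum_congr rfl fun q _ => ?_
    rw [Pi.smul_apply, hy q, mul_smul]
  · have h1 : ∑ i, f i * c q ⟨i⟩ = 0 := by
      rw [← hc q]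
      exact Fintype.sum_equiv Equiv.ulift.symm _ _ (fun i => rfl)
    calc ∑ i, f i * (a q * c q ⟨i⟩) = a q * ∑ i, f i * c q ⟨i⟩ := by
          rw [Finset.mul_sum]
          exact Finset.sum_congr rfl fun i _ => by ring
      _ = 0 := by rw [h1, mul_zero]

end Flat

end Groth.Agent.Flat2C.ZRFlat
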