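import Groth.Agent.Flat2C.ZRSat

/-!
# The property `Good` is local on the spectrum
-/

set_option autoImplicit false
universe u

namespace Groth.Agent.Flat2C.ZRLocal

open Groth.Agent.Flat2C.ZRFg Groth.Agent.Flat2C.ZRSat

variable {ι σ κ : Type} {A R : Type u} [CommRing A] [CommRing R] [Algebra A R]
  (ρ : κ → ι → MvPolynomial σ A) (d : R)

section

variable {S : Type u} [CommRing S] [Algebra R S] [Algebra A S] [IsScalarTower A R S]

omit [CommRing A] [Algebra A R] [Algebra R S] [Algebra A S] [IsScalarTower A R S] in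
theorem frMap_mem_span {T : Set (ι → MvPolynomial σ R)} {w : ι → MvPolynomial σ R}
    (φ : R →+* S) (hw : w ∈ Submodule.span (MvPolynomial σ R) T) :
    frMap ι σ φ w ∈ Submodule.span (MvPolynomial σ S) (frMap ι σ φ '' T) := by
  have : Submodule.span (MvPolynomial σ R) T ≤
      (Submodule.span (MvPolynomial σ S) (frMap ι σ φ '' T)).comap (frMap ι σ φ) :=
    Submodule.span_le.mpr fun x hx => Submodule.subset_span ⟨x, hx, rfl⟩
  exact this hw

theorem range_frMap_comp :
    (Set.range fun j => frMap ι σ (algebraMap A S) (ρ j)) =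
      frMap ι σ (algebraMap R S) '' (Set.range fun j => frMap ι σ (algebraMap A R) (ρ j)) := by
  rw [← Set.range_comp]
  congr 1
  funext j
  simp only [Function.comp]
  rw [frMap_frMap, IsScalarTower.algebraMap_eq A R S]

theorem frMap_mem_sat {w : ι → MvPolynomial σ R} (hw : w ∈ sat ρ d) :
    frMap ι σ (algebraMap R S) w ∈ sat ρ (algebraMap R S d) := by
  obtain ⟨n, hn⟩ := hw
  refine ⟨n, ?_⟩
  rw [← map_pow, ← frMap_C_smul, range_frMap_comp ρ (R := R)]
  exact frMap_mem_span _ hn

theorem exists_pow_smul_mem_sat [Finite ι] (s : R) [IsLocalization.Away s S]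
    {w : ι → MvPolynomial σ R}
    (hw : frMap ι σ (algebraMap R S) w ∈ sat ρ (algebraMap R S d)) :
    ∃ m : ℕ, s ^ m • w ∈ sat ρ d := by
  obtain ⟨n, hn⟩ := hw
  rw [← map_pow, ← frMap_C_smul, range_frMap_comp ρ (R := R)] at hn
  obtain ⟨m, hm⟩ := exists_pow_smul_mem_span s _ hn
  exact ⟨m, n, by rwa [smul_comm]⟩

/-- The quotient by the saturation, as a localization. -/
noncomputable def qmap (S : Type u) [CommRing S] [Algebra R S] [Algebra A S]
    [IsScalarTower A R S] :
    ((ι → MvPolynomial σ R) ⧸ sat ρ d) →ₗ[R] ((ι → MvPolynomial σ S) ⧸ sat ρ (algebraMap R S d)) where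
  toFun := Submodule.mapQ (sat ρ d) (sat ρ (algebraMap R S d)) (frMap ι σ (algebraMap R S))
    (fun _ hw => frMap_mem_sat ρ d hw)
  map_add' := map_add _
  map_smul' := by
    intro c x
    obtain ⟨w, rfl⟩ := Submodule.Quotient.mk_surjective _ x
    change (Submodule.Quotient.mk (frMap ι σ (algebraMap R S) (c • w)) :
      (ι → MvPolynomial σ S) ⧸ sat ρ (algebraMap R S d)) = _
    rw [frMap_C_smul, algebraMap_smul]
    rfl

theorem qmap_mk (w : ι → MvPolynomial σ R) :
    qmap ρ d S (Submodule.Quotient.mk w) = Submodule.Quotient.mk (frMap ι σ (algebraMap R S) w) :=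
  rfl

theorem isLocalizedModule_qmap [Finite ι] (s : R) [IsLocalization.Away s S] :
    IsLocalizedModule (Submonoid.powers s) (qmap ρ d S : _ →ₗ[R]
      ((ι → MvPolynomial σ S) ⧸ sat ρ (algebraMap R S d))) where
  map_units := by
    rintro ⟨_, n, rfl⟩
    have hu : IsUnit (algebraMap R S (s ^ n)) :=
      IsLocalization.map_units S (⟨s ^ n, n, rfl⟩ : Submonoid.powers s)
    obtain ⟨u, hu⟩ := hu
    rw [Module.End.isUnit_iff]
    constructor
    · intro x y hxy
      have hxy' : (s ^ n) • x = (s ^ n) • y := hxy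
      rw [← algebraMap_smul S (s ^ n) x, ← algebraMap_smul S (s ^ n) y, ← hu] at hxy'
      have := congrArg (fun z => (↑u⁻¹ : S) • z) hxy'
      simpa [smul_smul] using this
    · intro y
      refine ⟨(↑u⁻¹ : S) • y, ?_⟩
      change (s ^ n) • ((↑u⁻¹ : S) • y) = y
      rw [← algebraMap_smul S (s ^ n) ((↑u⁻¹ : S) • y), ← hu, smul_smul, Units.mul_inv, one_smul]
  surj := by
    intro y
    obtain ⟨y, rfl⟩ := Submodule.Quotient.mk_surjective _ y
    obtain ⟨n, w, hw⟩ := exists_frMap_eq_pow_smul s y
    refine ⟨⟨Submodule.Quotient.mk w, ⟨s ^ n, n, rfl⟩⟩, ?_⟩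
    rw [qmap_mk, hw, ← map_pow, algebraMap_smul]
    rfl
  exists_of_eq := by
    intro x₁ x₂ h
    obtain ⟨w₁, rfl⟩ := Submodule.Quotient.mk_surjective _ x₁
    obtain ⟨w₂, rfl⟩ := Submodule.Quotient.mk_surjective _ x₂
    rw [qmap_mk, qmap_mk, ← sub_eq_zero, ← Submodule.Quotient.mk_sub, ← map_sub,
      Submodule.Quotient.mk_eq_zero] at h
    obtain ⟨m, hm⟩ := exists_pow_smul_mem_sat ρ d s h
    refine ⟨⟨s ^ m, m, rfl⟩, ?_⟩
    have h3 : (Submodule.Quotient.mk (s ^ m • (w₁ - w₂)) : (ι → MvPolynomial σ R) ⧸ sat ρ d) = 0 :=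
      (Submodule.Quotient.mk_eq_zero _).mpr hm
    rw [smul_sub, Submodule.Quotient.mk_sub, sub_eq_zero] at h3
    exact h3

end

section

open Classical in
/-- `Good` is a local property. -/
theorem good_of_forall_prime [Finite ι]
    (h : ∀ z : Ideal R, z.IsPrime → ∃ s ∉ z,
      Good (Localization.Away s) ρ (algebraMap R (Localization.Away s) d)) : Good R ρ d := by
  let T : Set R := {s | Good (Localization.Away s) ρ (algebraMap R (Localization.Away s) d)}
  have hT : Ideal.span T = ⊤ := by
    by_contra hne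
    obtain ⟨z, hz, hle⟩ := Ideal.exists_le_maximal _ hne
    obtain ⟨s, hs, hgood⟩ := h z hz.isPrime
    exact hs (hle (Ideal.subset_span hgood))
  constructor
  · -- finite generation
    obtain ⟨T', hT'T, hT'⟩ := (Ideal.span_eq_top_iff_finite T).mp hT
    have hgen : ∀ s : T', ∃ W : Finset (ι → MvPolynomial σ R), (∀ w ∈ W, w ∈ sat ρ d) ∧
        ∀ w ∈ sat ρ d, ∃ n : ℕ, s.1 ^ n • w ∈ Submodule.span (MvPolynomial σ R)
          (W : Set (ι → MvPolynomial σ R)) := by
      rintro ⟨s, hs⟩
      obtain ⟨⟨Y, hY⟩, -⟩ := hT'T hs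
      have : ∀ y : Y, ∃ (n : ℕ) (w : ι → MvPolynomial σ R), w ∈ sat ρ d ∧
          frMap ι σ (algebraMap R (Localization.Away s)) w =
            algebraMap R (Localization.Away s) s ^ n • y.1 := by
        intro y
        obtain ⟨n, w, hw⟩ := exists_frMap_eq_pow_smul (R := R) s y.1
        have hmem : frMap ι σ (algebraMap R (Localization.Away s)) w ∈
            sat ρ (algebraMap R (Localization.Away s) d) := by
          rw [hw]
          exact Submodule.smul_of_tower_mem _ _ (hY ▸ Submodule.subset_span y.2)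
        obtain ⟨m, hm⟩ := exists_pow_smul_mem_sat ρ d s hmem
        refine ⟨m + n, s ^ m • w, hm, ?_⟩
        rw [frMap_C_smul, hw, map_pow, smul_smul, pow_add]
      choose n w hw hw' using this
      refine ⟨Finset.univ.image w, ?_, ?_⟩
      · intro x hx
        obtain ⟨y, -, rfl⟩ := Finset.mem_image.mp hx
        exact hw y
      · intro x hx
        apply exists_pow_smul_mem_span (S := Localization.Away s) s
        have h1 := frMap_mem_sat ρ d (S := Localization.Away s) hx
        rw [← hY] at h1
        refine Submodule.span_le.mpr ?_ h1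
        intro y hy
        have hu : IsUnit (algebraMap R (Localization.Away s) s ^ n ⟨y, hy⟩) :=
          (IsLocalization.Away.algebraMap_isUnit s).pow _
        obtain ⟨u, hu⟩ := hu
        have h2 : y = (↑u⁻¹ : Localization.Away s) •
            frMap ι σ (algebraMap R (Localization.Away s)) (w ⟨y, hy⟩) := by
          rw [hw' ⟨y, hy⟩, ← hu, smul_smul, Units.inv_mul, one_smul]
        rw [h2]
        refine Submodule.smul_of_tower_mem _ _ (Submodule.subset_span ⟨_, ?_, rfl⟩)
        simp
    choose W hW hW' using hgen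
    refine ⟨Finset.univ.biUnion W, le_antisymm ?_ ?_⟩
    · rw [Submodule.span_le]
      intro x hx
      obtain ⟨s, -, hs⟩ := Finset.mem_biUnion.mp (Finset.mem_coe.mp hx)
      exact hW s x hs
    · intro x hx
      have hall : ∀ s : T', ∃ n : ℕ, s.1 ^ n • x ∈ Submodule.span (MvPolynomial σ R)
          ((Finset.univ.biUnion W : Finset _) : Set (ι → MvPolynomial σ R)) := by
        intro s
        obtain ⟨n, hn⟩ := hW' s x hx
        refine ⟨n, Submodule.span_mono ?_ hn⟩
        intro y hy
        exact Finset.mem_coe.mpr (Finset.mem_biUnion.mpr ⟨s, Finset.mem_univ _, hy⟩)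
      choose n hn using hall
      have hspan : Ideal.span (Set.range fun s : T' => s.1 ^ n s) = ⊤ := by
        by_contra hne
        obtain ⟨z, hz, hle⟩ := Ideal.exists_le_maximal _ hne
        have : Ideal.span (T' : Set R) ≤ z := by
          rw [Ideal.span_le]
          intro s hs
          exact hz.isPrime.mem_of_pow_mem (n ⟨s, hs⟩)
            (hle (Ideal.subset_span ⟨⟨s, hs⟩, rfl⟩))
        rw [hT'] at this
        exact hz.ne_top (top_le_iff.mp this)
      have h1 : (1 : R) ∈ Ideal.span (Set.range fun s : T' => s.1 ^ n s) := by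
        rw [hspan]; trivial
      have key : ∀ r ∈ Ideal.span (Set.range fun s : T' => s.1 ^ n s),
          r • x ∈ Submodule.span (MvPolynomial σ R)
            ((Finset.univ.biUnion W : Finset _) : Set (ι → MvPolynomial σ R)) := by
        intro r hr
        induction hr using Submodule.span_induction with
        | mem r hr =>
          obtain ⟨s, rfl⟩ := hr
          exact hn s
        | zero => rw [zero_smul]; exact zero_mem _
        | add a b _ _ ha hb => rw [add_smul]; exact add_mem ha hb
        | smul a b _ hb => rw [smul_assoc]; exact Submodule.smul_of_tower_mem _ _ hb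
      simpa using key 1 h1
  · -- flatness
    have hloc : ∀ s : T, IsLocalizedModule.Away s.1 (qmap ρ d (Localization.Away s.1)) :=
      fun s => isLocalizedModule_qmap ρ d s.1
    refine Module.flat_of_isLocalized_span (S := R) (R := R) (M := (ι → MvPolynomial σ R) ⧸ sat ρ d)
      T hT (fun s => (ι → MvPolynomial σ (Localization.Away s.1)) ⧸
        sat ρ (algebraMap R (Localization.Away s.1) d)) (fun s => qmap ρ d (Localization.Away s.1))
      fun s => ?_
    have := s.2.2
    exact Module.Flat.trans R (Localization.Away s.1) _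

end

end Groth.Agent.Flat2C.ZRLocal
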