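import Mathlib.RingTheory.Ideal.Operations
import Mathlib.RingTheory.Valuation.Basic
import Mathlib.RingTheory.Finiteness.Ideal
import Mathlib.RingTheory.Ideal.Maximal

/-!
# Ideals dividing a principal ideal generated by a nonzerodivisor, near a prime
-/

set_option autoImplicit false
universe u

namespace Groth.Agent.Flat2C.ZRPrinc

variable {R : Type*} [CommRing R]

/-- If `E * C = (d)` with `d` a nonzerodivisor, then near any prime `z` the ideal `E` is principal,
generated by one of any given finite set of generators. -/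
theorem exists_generator {E C : Ideal R} {d : R} (hd : d ∈ nonZeroDivisors R)
    (hEC : E * C = Ideal.span {d}) (S : Set R) (hS : E = Ideal.span S) (z : Ideal R)
    [hz : z.IsPrime] : ∃ e ∈ S, ∃ s ∉ z, ∀ x ∈ E, ∃ y, s * x = e * y := by
  have hd' : d ∈ E * C := hEC ▸ Ideal.mem_span_singleton_self d
  -- there are `e ∈ S`, `c ∈ C`, `r ∉ z` with `e * c = d * r`
  have key : ∃ e ∈ S, ∃ c ∈ C, ∃ r ∉ z, e * c = d * r := by
    by_contra hcon
    push Not at hcon
    have h1 : ∀ x ∈ E * C, ∃ r ∈ z, x = d * r := by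
      intro x hx
      rw [hS] at hx
      refine Submodule.mul_induction_on hx ?_ ?_
      · intro e he c hc
        induction he using Submodule.span_induction with
        | mem e he =>
          have hmem : e * c ∈ Ideal.span {d} := by
            rw [← hEC, hS]
            exact Ideal.mul_mem_mul (Ideal.subset_span he) hc
          obtain ⟨r, hr⟩ := Ideal.mem_span_singleton'.mp hmem
          refine ⟨r, ?_, by rw [← hr, mul_comm]⟩
          by_contra hrz
          exact hcon e he c hc r hrz (by rw [← hr, mul_comm])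
        | zero => exact ⟨0, z.zero_mem, by simp⟩
        | add a b _ _ ha hb =>
          obtain ⟨r, hr, hr'⟩ := ha
          obtain ⟨r', hr1, hr1'⟩ := hb
          exact ⟨r + r', z.add_mem hr hr1, by rw [add_mul, hr', hr1', mul_add]⟩
        | smul a b _ hb =>
          obtain ⟨r, hr, hr'⟩ := hb
          exact ⟨a * r, z.mul_mem_left _ hr, by rw [smul_eq_mul, mul_assoc, hr']; ring⟩
      · rintro a b ⟨r, hr, rfl⟩ ⟨r', hr', rfl⟩
        exact ⟨r + r', z.add_mem hr hr', by ring⟩
    obtain ⟨r, hr, hr'⟩ := h1 d hd'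
    have h2 : d * (1 - r) = 0 := by rw [mul_sub, mul_one, ← hr', sub_self]
    have h3 : 1 - r = 0 := (mul_right_mem_nonZeroDivisors_eq_zero_iff hd).mp (by rw [mul_comm]; exact h2)
    have h4 : (1 : R) ∈ z := by rw [sub_eq_zero.mp h3]; exact hr
    exact hz.ne_top ((Ideal.eq_top_iff_one _).mpr h4)
  obtain ⟨e, he, c, hc, r, hr, hecr⟩ := key
  refine ⟨e, he, r ^ 2, fun h => hr (hz.mem_of_pow_mem _ h), fun x hx => ?_⟩
  have hxc : x * c ∈ Ideal.span {d} := by
    rw [← hEC]
    exact Ideal.mul_mem_mul hx hc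
  obtain ⟨y, hy⟩ := Ideal.mem_span_singleton'.mp hxc
  refine ⟨r * y, ?_⟩
  -- `r * x * c = e * y * c`
  have h1 : d * (r ^ 2 * x - e * (r * y)) = 0 := by
    have h2 : x * c = d * y := by rw [← hy, mul_comm]
    calc d * (r ^ 2 * x - e * (r * y)) = (d * r) * (r * x) - r * e * (d * y) := by ring
      _ = (e * c) * (r * x) - r * e * (x * c) := by rw [← hecr, ← h2]
      _ = 0 := by ring
  have h3 := (mul_right_mem_nonZeroDivisors_eq_zero_iff hd).mp (by rw [mul_comm]; exact h1)
  exact sub_eq_zero.mp h3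

/-- Variant with a valuation detecting the prime: the generator can be taken to be any element of
maximal value. -/
theorem exists_mul_eq_of_valuation {E C : Ideal R} {d : R} (hd : d ∈ nonZeroDivisors R)
    (hEC : E * C = Ideal.span {d}) (z : Ideal R) [hz : z.IsPrime]
    {Γ : Type*} [LinearOrderedCommGroupWithZero Γ] (ω : Valuation R Γ)
    (hωz : ∀ x, x ∉ z → ω x = 1) (hωz' : ∀ x ∈ z, ω x < 1) {h : R} (hE : h ∈ E)
    (hmax : ∀ x ∈ E, ω x ≤ ω h) (h0 : ω h ≠ 0) :
    ∃ s ∉ z, ∀ x ∈ E, ∃ y, s * x = h * y := by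
  obtain ⟨e, he, s, hs, hse⟩ := exists_generator hd hEC (E : Set R) (by simp) z
  obtain ⟨y, hy⟩ := hse h hE
  have h1 : ω h = ω e * ω y := by
    have := congrArg ω hy
    rwa [map_mul, map_mul, hωz s hs, one_mul] at this
  have hyz : y ∉ z := by
    intro hyz
    have h2 : ω e ≠ 0 := by
      intro h0'
      rw [h0', zero_mul] at h1
      exact h0 h1
    have h3 : ω e * ω y < ω e * 1 := by
      gcongr
      · exact zero_lt_iff.mpr h2
      · exact hωz' y hyz
    rw [← h1, mul_one] at h3
    exact absurd (hmax e he) (not_le.mpr h3)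
  refine ⟨y * s, fun h => (hz.mem_or_mem h).elim hyz hs, fun x hx => ?_⟩
  obtain ⟨w, hw⟩ := hse x hx
  refine ⟨s * w, ?_⟩
  calc y * s * x = y * (s * x) := by ring
    _ = w * (e * y) := by rw [hw]; ring
    _ = h * (s * w) := by rw [← hy]; ring

end Groth.Agent.Flat2C.ZRPrinc
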