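import Groth.Agent.Etbase.FlatStageExplicit
import Mathlib.RingTheory.Localization.Away.Basic
import Mathlib.RingTheory.Localization.Integer
import Mathlib.RingTheory.FiniteType
import Mathlib.RingTheory.Localization.AtPrime.Basic
import Mathlib.RingTheory.Flat.TorsionFree

/-! # The limit step of the flattening theorem (Zariski–Riemann proof)

Spreading out a flat finitely presented module over a subring `O` of a local ring `A_u` to
`A`-algebras `R` in which finitely many elements of `A` are divisible by `h^N`. -/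

set_option autoImplicit false
universe u v

open TensorProduct

namespace Groth.Agent.Flat2C.ZRSpread

section Loc

variable {A : Type*} [CommRing A] (u : Ideal A) [u.IsPrime]

/-- the canonical map `A_h → A_u` -/
noncomputable def toL (h : A) (hh : h ∉ u) : Localization.Away h →+* Localization.AtPrime u :=
  IsLocalization.Away.lift h (g := algebraMap A (Localization.AtPrime u))
    (IsLocalization.map_units (Localization.AtPrime u) (⟨h, hh⟩ : u.primeCompl))

/-- the canonical map `A_h → A_{hs}` -/
noncomputable def toMul (h s : A) : Localization.Away h →+* Localization.Away (h * s) :=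
  IsLocalization.Away.awayToAwayRight h s

@[simp] lemma toL_algebraMap (h : A) (hh : h ∉ u) (a : A) :
    toL u h hh (algebraMap A _ a) = algebraMap A _ a :=
  IsLocalization.Away.lift_eq _ _ _

@[simp] lemma toMul_algebraMap (h s : A) (a : A) :
    toMul h s (algebraMap A _ a) = algebraMap A _ a :=
  IsLocalization.Away.awayToAwayRight_eq _ _ _

lemma toL_comp_toMul (h s : A) (hh : h ∉ u) (hs : h * s ∉ u) :
    (toL u (h * s) hs).comp (toMul h s) = toL u h hh := by
  refine IsLocalization.ringHom_ext (Submonoid.powers h) ?_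
  ext a
  simp

lemma mul_notMem {h s : A} (hh : h ∉ u) (hs : s ∉ u) : h * s ∉ u := fun h' =>
  (‹u.IsPrime›.mem_or_mem h').elim hh hs

lemma kill (h : A) (hh : h ∉ u) (x : Localization.Away h) (hx : toL u h hh x = 0) :
    ∃ s : A, s ∉ u ∧ ∀ t : A, s ∣ t → toMul h t x = 0 := by
  obtain ⟨⟨a, ⟨_, k, rfl⟩⟩, hk⟩ := IsLocalization.surj (Submonoid.powers h) x
  simp only at hk
  have h1 : algebraMap A (Localization.AtPrime u) a = 0 := by
    rw [← toL_algebraMap u h hh, ← hk, map_mul, hx, zero_mul]
  obtain ⟨⟨s, hs⟩, hs'⟩ := (IsLocalization.map_eq_zero_iff u.primeCompl (Localization.AtPrime u) a).mp h1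
  refine ⟨s, hs, fun t ht => ?_⟩
  obtain ⟨t', rfl⟩ := ht
  have h2 : algebraMap A (Localization.Away (h * (s * t'))) a = 0 := by
    have hu : IsUnit (algebraMap A (Localization.Away (h * (s * t'))) (h * (s * t'))) :=
      IsLocalization.Away.algebraMap_isUnit _
    rw [← hu.mul_right_eq_zero, ← map_mul]
    have : h * (s * t') * a = 0 := by
      have : s * a = 0 := hs'
      linear_combination (h * t') * this
    rw [this, map_zero]
  have h3 : IsUnit (toMul h (s * t') (algebraMap A _ (h ^ k))) := by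
    rw [toMul_algebraMap, map_pow]
    refine IsUnit.pow _ (isUnit_of_dvd_unit ?_ (IsLocalization.Away.algebraMap_isUnit (h * (s * t'))))
    exact map_dvd _ (Dvd.intro _ rfl)
  have h4 : toMul h (s * t') x * toMul h (s * t') (algebraMap A _ (h ^ k)) = 0 := by
    rw [← map_mul, hk, toMul_algebraMap, h2]
  rwa [h3.mul_left_eq_zero] at h4

lemma kill_poly {σ : Type*} (h : A) (hh : h ∉ u) (v : MvPolynomial σ (Localization.Away h))
    (hv : MvPolynomial.map (toL u h hh) v = 0) :
    ∃ s : A, s ∉ u ∧ ∀ t : A, s ∣ t → MvPolynomial.map (toMul h t) v = 0 := by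
  classical
  have h1 : ∀ m : σ →₀ ℕ, toL u h hh (v.coeff m) = 0 := fun m => by
    rw [← MvPolynomial.coeff_map, hv, MvPolynomial.coeff_zero]
  choose s hs hs' using fun m => kill u h hh _ (h1 m)
  refine ⟨∏ m ∈ v.support, s m, ?_, fun t ht => ?_⟩
  · rw [‹u.IsPrime›.prod_mem_iff]
    push Not
    exact fun m _ => hs m
  · ext m
    rw [MvPolynomial.coeff_map, MvPolynomial.coeff_zero]
    by_cases hm : m ∈ v.support
    · exact hs' m t ((Finset.dvd_prod_of_mem s hm).trans ht)
    · rw [MvPolynomial.notMem_support_iff.mp hm, map_zero]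

lemma kill_family {ι : Type*} [Finite ι] {σ : Type*} (h : A) (hh : h ∉ u)
    (v : ι → MvPolynomial σ (Localization.Away h))
    (hv : ∀ i, MvPolynomial.map (toL u h hh) (v i) = 0) :
    ∃ s : A, s ∉ u ∧ ∀ t : A, s ∣ t → ∀ i, MvPolynomial.map (toMul h t) (v i) = 0 := by
  classical
  have := Fintype.ofFinite ι
  choose s hs hs' using fun i => kill_poly u h hh _ (hv i)
  refine ⟨∏ i, s i, ?_, fun t ht i => hs' i t ((Finset.dvd_prod_of_mem s (Finset.mem_univ i)).trans ht)⟩
  rw [‹u.IsPrime›.prod_mem_iff]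
  push Not
  exact fun m _ => hs m

/-- A ring map from a finitely presented ring to `A_u` lifts to some `A_h`. -/
lemma exists_lift (O₀ : Type*) [CommRing O₀] [Algebra.FinitePresentation ℤ O₀]
    (φ : O₀ →+* Localization.AtPrime u) :
    ∃ (h : A) (hh : h ∉ u) (θ : O₀ →+* Localization.Away h), (toL u h hh).comp θ = φ := by
  classical
  obtain ⟨n, f, hf, hker⟩ := Algebra.FinitePresentation.out (R := ℤ) (A := O₀)
  obtain ⟨⟨b, hb⟩, hb'⟩ := IsLocalization.exist_integer_multiples_of_finite u.primeCompl
    (fun i : Fin n => φ (f (MvPolynomial.X i)))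
  choose a ha using hb'
  have hbu : IsUnit (algebraMap A (Localization.Away b) b) := IsLocalization.Away.algebraMap_isUnit _
  let ψ : MvPolynomial (Fin n) ℤ →+* Localization.Away b :=
    MvPolynomial.eval₂Hom (Int.castRingHom _) (fun i => algebraMap A _ (a i) * ↑(hbu.unit⁻¹))
  have hψ : (toL u b hb).comp ψ = φ.comp (f : MvPolynomial (Fin n) ℤ →+* O₀) := by
    refine MvPolynomial.ringHom_ext (fun r => by simp) fun i => ?_
    have h1 : ψ (MvPolynomial.X i) * algebraMap A _ b = algebraMap A _ (a i) := by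
      simp only [ψ, MvPolynomial.coe_eval₂Hom, MvPolynomial.eval₂_X, mul_assoc]
      rw [IsUnit.val_inv_mul hbu, mul_one]
    have h2 : toL u b hb (ψ (MvPolynomial.X i)) * algebraMap A _ b = algebraMap A _ (a i) := by
      rw [← toL_algebraMap u b hb b, ← map_mul, h1, toL_algebraMap]
    have h3 : IsUnit (algebraMap A (Localization.AtPrime u) b) :=
      IsLocalization.map_units (Localization.AtPrime u) (⟨b, hb⟩ : u.primeCompl)
    have h4 := ha i
    simp only [Algebra.smul_def] at h4
    refine h3.mul_right_cancel ?_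
    rw [RingHom.comp_apply, h2, h4, mul_comm]
    rfl
  obtain ⟨G, hG⟩ := hker
  have h5 : ∀ g ∈ G, toL u b hb (ψ g) = 0 := by
    intro g hg
    have : g ∈ RingHom.ker f.toRingHom := by rw [← hG]; exact Ideal.subset_span hg
    have h6 : f g = 0 := this
    rw [← RingHom.comp_apply, hψ, RingHom.comp_apply]
    change φ (f g) = 0
    rw [h6, map_zero]
  choose! s hs hs' using fun g (hg : g ∈ G) => kill u b hb _ (h5 g hg)
  let t := ∏ g ∈ G, s g
  have ht : t ∉ u := by
    rw [‹u.IsPrime›.prod_mem_iff]
    push Not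
    exact fun m hm => hs m hm
  have hbt := mul_notMem u hb ht
  have h7 : ∀ x, f x = 0 → (toMul b t).comp ψ x = 0 := by
    intro x hx
    have : x ∈ Ideal.span (G : Set (MvPolynomial (Fin n) ℤ)) := by rw [hG]; exact hx
    have hle : Ideal.span (G : Set (MvPolynomial (Fin n) ℤ)) ≤ RingHom.ker ((toMul b t).comp ψ) := by
      rw [Ideal.span_le]
      intro g hg
      exact hs' g hg t (Finset.dvd_prod_of_mem s hg)
    exact hle this
  let θ : O₀ →+* Localization.Away (b * t) :=
    RingHom.liftOfRightInverse f.toRingHom _ (Function.rightInverse_surjInv hf)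
      ⟨(toMul b t).comp ψ, h7⟩
  have hθ : ∀ x, θ (f x) = toMul b t (ψ x) := fun x =>
    RingHom.liftOfRightInverse_comp_apply f.toRingHom _ (Function.rightInverse_surjInv hf)
      ⟨(toMul b t).comp ψ, h7⟩ x
  refine ⟨b * t, hbt, θ, ?_⟩
  ext y
  obtain ⟨x, rfl⟩ := hf y
  rw [RingHom.comp_apply, hθ, ← RingHom.comp_apply, toL_comp_toMul u b t hb hbt, ← RingHom.comp_apply, hψ]
  rfl

/-- Clearing denominators of a polynomial over `A_u`. -/
lemma clear {σ : Type*} (c : MvPolynomial σ (Localization.AtPrime u)) :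
    ∃ s : A, s ∉ u ∧ ∃ p : MvPolynomial σ A,
      MvPolynomial.map (algebraMap A (Localization.AtPrime u)) p =
        MvPolynomial.C (algebraMap A (Localization.AtPrime u) s) * c := by
  induction c using MvPolynomial.induction_on with
  | C a =>
    obtain ⟨⟨x, s⟩, hx⟩ := IsLocalization.surj u.primeCompl a
    refine ⟨s, s.2, MvPolynomial.C x, ?_⟩
    rw [MvPolynomial.map_C, ← MvPolynomial.C_mul, mul_comm _ a]
    exact congrArg _ hx.symm
  | add c₁ c₂ h₁ h₂ =>
    obtain ⟨s₁, hs₁, p₁, hp₁⟩ := h₁
    obtain ⟨s₂, hs₂, p₂, hp₂⟩ := h₂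
    refine ⟨s₁ * s₂, mul_notMem u hs₁ hs₂, MvPolynomial.C s₂ * p₁ + MvPolynomial.C s₁ * p₂, ?_⟩
    simp only [map_add, map_mul, MvPolynomial.map_C, hp₁, hp₂]
    ring
  | mul_X c i h =>
    obtain ⟨s, hs, p, hp⟩ := h
    exact ⟨s, hs, p * MvPolynomial.X i, by rw [map_mul, hp, MvPolynomial.map_X, mul_assoc]⟩

lemma clear_family {κ : Type*} [Finite κ] {σ : Type*} (c : κ → MvPolynomial σ (Localization.AtPrime u)) :
    ∃ s : A, s ∉ u ∧ ∃ p : κ → MvPolynomial σ A,
      ∀ j, MvPolynomial.map (algebraMap A (Localization.AtPrime u)) (p j) =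
        MvPolynomial.C (algebraMap A (Localization.AtPrime u) s) * c j := by
  classical
  have := Fintype.ofFinite κ
  choose s hs p hp using fun j => clear u (c j)
  refine ⟨∏ j, s j, ?_, fun j => MvPolynomial.C (∏ i ∈ Finset.univ.erase j, s i) * p j, fun j => ?_⟩
  · rw [‹u.IsPrime›.prod_mem_iff]
    push Not
    exact fun m _ => hs m
  · rw [map_mul, hp, MvPolynomial.map_C, ← mul_assoc, ← MvPolynomial.C_mul, ← map_mul,
      Finset.prod_erase_mul _ _ (Finset.mem_univ j)]

end Loc

section RLevel

/-- Lifting a map `O₀ → A_h → R_d` to a map `O₀ → R`. -/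
lemma exists_map_R {A O₀ R : Type*} [CommRing A] [CommRing O₀] [CommRing R] [Algebra A R] (h : A)
    (θ : O₀ →+* Localization.Away h) (S : Set O₀) (hS : Subring.closure S = ⊤) (N : ℕ) (f : O₀ → A)
    (hf : ∀ c ∈ S, algebraMap A (Localization.Away h) (f c) = θ c * algebraMap A _ (h ^ N))
    (d : R) (hd : d ∈ nonZeroDivisors R) (hdiv : ∃ m : ℕ, algebraMap A R h ∣ d ^ m)
    (hfd : ∀ c ∈ S, algebraMap A R (h ^ N) ∣ algebraMap A R (f c)) :
    ∃ (ε : Localization.Away h →+* Localization.Away d) (θR : O₀ →+* R),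
      (∀ a, ε (algebraMap A _ a) = algebraMap R _ (algebraMap A R a)) ∧
      (∀ x, algebraMap R (Localization.Away d) (θR x) = ε (θ x)) ∧
      Function.Injective (algebraMap R (Localization.Away d)) := by
  have hinj : Function.Injective (algebraMap R (Localization.Away d)) :=
    IsLocalization.injective _ (Submonoid.powers_le.mpr hd)
  have hu : IsUnit (algebraMap R (Localization.Away d) (algebraMap A R h)) := by
    obtain ⟨m, hm⟩ := hdiv
    have h1 := map_dvd (algebraMap R (Localization.Away d)) hm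
    refine isUnit_of_dvd_unit h1 ?_
    rw [map_pow]
    exact (IsLocalization.Away.algebraMap_isUnit d).pow m
  let ε : Localization.Away h →+* Localization.Away d :=
    IsLocalization.Away.lift h (g := (algebraMap R (Localization.Away d)).comp (algebraMap A R)) hu
  have hε : ∀ a, ε (algebraMap A _ a) = algebraMap R _ (algebraMap A R a) := fun a =>
    IsLocalization.Away.lift_eq _ _ _
  have hrange : ∀ x, ε (θ x) ∈ (algebraMap R (Localization.Away d)).range := by
    have : Subring.closure S ≤ (algebraMap R (Localization.Away d)).range.comap (ε.comp θ) := by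
      rw [Subring.closure_le]
      intro c hc
      obtain ⟨y, hy⟩ := hfd c hc
      refine ⟨y, ?_⟩
      have h2 := congrArg ε (hf c hc)
      rw [map_mul, hε, hε, hy, map_mul, mul_comm] at h2
      have h3 : IsUnit (algebraMap R (Localization.Away d) (algebraMap A R (h ^ N))) := by
        rw [map_pow, map_pow]; exact hu.pow N
      exact h3.mul_right_cancel h2
    intro x
    exact this (by rw [hS]; trivial)
  let e : R ≃+* (algebraMap R (Localization.Away d)).range :=
    RingEquiv.ofBijective (algebraMap R (Localization.Away d)).rangeRestrict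
      ⟨fun x y hxy => hinj (congrArg Subtype.val hxy), RingHom.rangeRestrict_surjective _⟩
  let θR : O₀ →+* R := (e.symm : (algebraMap R (Localization.Away d)).range →+* R).comp
    ((ε.comp θ).codRestrict (algebraMap R (Localization.Away d)).range hrange)
  refine ⟨ε, θR, hε, fun x => ?_, hinj⟩
  have h4 : e (θR x) = (⟨ε (θ x), hrange x⟩ : (algebraMap R (Localization.Away d)).range) :=
    e.apply_symm_apply _
  exact congrArg Subtype.val h4

end RLevel

section Spread

open Groth.Agent.Etbase.FlatStageExplicit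

/-- `R`-level end of the argument. -/
lemma level_R {A O₀ R : Type*} [CommRing A] [CommRing O₀] [CommRing R] [Algebra A R] {n r s : ℕ}
    {κ : Type*} [Finite κ] (ρ : κ → Fin r → MvPolynomial (Fin n) A)
    (k₀ : Fin s → Fin r → MvPolynomial (Fin n) O₀)
    (hflat : Module.Flat O₀ ((Fin r → MvPolynomial (Fin n) O₀) ⧸
      Submodule.span (MvPolynomial (Fin n) O₀) (Set.range k₀)))
    (θR : O₀ →+* R) (d : R) (hd : d ∈ nonZeroDivisors R)
    (h1 : ∀ j, ∃ q : Fin s → MvPolynomial (Fin n) O₀, ∀ l,
      MvPolynomial.map (algebraMap A R) (ρ j l) = MvPolynomial.map θR (∑ i, q i * k₀ i l))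
    (h2 : ∀ i, ∃ (b : R) (p : κ → MvPolynomial (Fin n) R), (∃ m : ℕ, b ∣ d ^ m) ∧ ∀ l,
      MvPolynomial.C b * MvPolynomial.map θR (k₀ i l) =
        ∑ᶠ j, p j * MvPolynomial.map (algebraMap A R) (ρ j l))
    (K : Submodule (MvPolynomial (Fin n) R) (Fin r → MvPolynomial (Fin n) R))
    (hK : ∀ w, w ∈ K ↔ ∃ m : ℕ, d ^ m • w ∈ Submodule.span (MvPolynomial (Fin n) R)
      (Set.range fun j => fun l => MvPolynomial.map (algebraMap A R) (ρ j l))) :
    K.FG ∧ Module.Flat R ((Fin r → MvPolynomial (Fin n) R) ⧸ K) := by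
  classical
  have := Fintype.ofFinite κ
  let _ : Algebra O₀ R := θR.toAlgebra
  let kR : Fin s → Fin r → MvPolynomial (Fin n) R := fun i l => MvPolynomial.map θR (k₀ i l)
  have hflR : Module.Flat R ((Fin r → MvPolynomial (Fin n) R) ⧸
      Submodule.span (MvPolynomial (Fin n) R) (Set.range kR)) :=
    Module.Flat.of_linearEquiv (cokPolyBC (A₀ := O₀) (A := R) k₀).symm
  have hKR : K = Submodule.span (MvPolynomial (Fin n) R) (Set.range kR) := by
    apply le_antisymm
    · intro w hw
      obtain ⟨m, hm⟩ := (hK w).mp hw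
      have hle : Submodule.span (MvPolynomial (Fin n) R)
          (Set.range fun j => fun l => MvPolynomial.map (algebraMap A R) (ρ j l)) ≤
          Submodule.span (MvPolynomial (Fin n) R) (Set.range kR) := by
        rw [Submodule.span_le]
        rintro _ ⟨j, rfl⟩
        obtain ⟨q, hq⟩ := h1 j
        have : (fun l => MvPolynomial.map (algebraMap A R) (ρ j l)) =
            ∑ i, MvPolynomial.map θR (q i) • kR i := by
          funext l
          rw [hq l, Finset.sum_apply, map_sum]
          exact Finset.sum_congr rfl fun i _ => by rw [map_mul]; rfl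
        change (fun l => MvPolynomial.map (algebraMap A R) (ρ j l)) ∈ _
        rw [this]
        exact Submodule.sum_mem _ fun i _ => Submodule.smul_mem _ _ (Submodule.subset_span ⟨i, rfl⟩)
      have hm' := hle hm
      rw [← Submodule.Quotient.mk_eq_zero] at hm' ⊢
      have hreg : IsSMulRegular ((Fin r → MvPolynomial (Fin n) R) ⧸
        Submodule.span (MvPolynomial (Fin n) R) (Set.range kR)) (d ^ m) :=
        Module.Flat.isSMulRegular_of_nonZeroDivisors (pow_mem hd m)
      apply hreg
      change d ^ m • (Submodule.Quotient.mk w : (Fin r → MvPolynomial (Fin n) R) ⧸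
        Submodule.span (MvPolynomial (Fin n) R) (Set.range kR)) = d ^ m • 0
      rw [smul_zero]
      exact hm'
    · rw [Submodule.span_le]
      rintro _ ⟨i, rfl⟩
      obtain ⟨b, p, ⟨m, c, hc⟩, hp⟩ := h2 i
      rw [SetLike.mem_coe, hK]
      refine ⟨m, ?_⟩
      have h3 : b • kR i ∈ Submodule.span (MvPolynomial (Fin n) R)
          (Set.range fun j => fun l => MvPolynomial.map (algebraMap A R) (ρ j l)) := by
        have : b • kR i = ∑ j, p j • (fun l => MvPolynomial.map (algebraMap A R) (ρ j l)) := by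
          funext l
          rw [Finset.sum_apply, Pi.smul_apply, MvPolynomial.smul_eq_C_mul]
          change MvPolynomial.C b * MvPolynomial.map θR (k₀ i l) = _
          rw [hp l, finsum_eq_sum_of_fintype]
          rfl
        rw [this]
        exact Submodule.sum_mem _ fun i _ => Submodule.smul_mem _ _ (Submodule.subset_span ⟨i, rfl⟩)
      have h4 : d ^ m • kR i = (MvPolynomial.C c : MvPolynomial (Fin n) R) • (b • kR i) := by
        funext l
        rw [hc, Pi.smul_apply, Pi.smul_apply, Pi.smul_apply, MvPolynomial.smul_eq_C_mul,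
          MvPolynomial.smul_eq_C_mul, smul_eq_mul, ← mul_assoc, ← MvPolynomial.C_mul, mul_comm b c]
      rw [h4]
      exact Submodule.smul_mem _ _ h3
  rw [hKR]
  exact ⟨Submodule.fg_span (Set.finite_range kR), hflR⟩

/-- **The limit step**: if the cokernel of `k` over the subring `O ⊆ A_u` is flat and `ρ`, `k` generate
the same submodule over `A_u` (`ρ` in the span of `k` over `O`), then for `R` in which finitely many divisibilities
hold, the `d`-saturation of the span of `ρ` over `R` is finitely generated with flat quotient. -/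
theorem spread {A : Type u} [CommRing A] (u : Ideal A) [u.IsPrime]
    (O : Subring (Localization.AtPrime u)) {n r s : ℕ} {κ : Type*} [Finite κ]
    (ρ : κ → Fin r → MvPolynomial (Fin n) A) (k : Fin s → Fin r → MvPolynomial (Fin n) O)
    (hflat : Module.Flat O ((Fin r → MvPolynomial (Fin n) O) ⧸
      Submodule.span (MvPolynomial (Fin n) O) (Set.range k)))
    (hρ : ∀ j, ∃ q : Fin s → MvPolynomial (Fin n) O, ∀ l,
      MvPolynomial.map (algebraMap A (Localization.AtPrime u)) (ρ j l) =
        MvPolynomial.map O.subtype (∑ i, q i * k i l))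
    (hk : ∀ i, (fun l => MvPolynomial.map O.subtype (k i l)) ∈
      Submodule.span (MvPolynomial (Fin n) (Localization.AtPrime u))
        (Set.range fun j => fun l => MvPolynomial.map (algebraMap A (Localization.AtPrime u)) (ρ j l))) :
    ∃ (h : A) (N : ℕ) (F : Finset A), h ∉ u ∧
      (∀ f ∈ F, ∃ c ∈ O, c * algebraMap A (Localization.AtPrime u) (h ^ N) =
        algebraMap A (Localization.AtPrime u) f) ∧
      ∀ (R : Type v) [CommRing R] [Algebra A R] (d : R), d ∈ nonZeroDivisors R →
        (∃ m : ℕ, algebraMap A R h ∣ d ^ m) →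
        (∀ f ∈ F, algebraMap A R (h ^ N) ∣ algebraMap A R f) →
        ∀ K : Submodule (MvPolynomial (Fin n) R) (Fin r → MvPolynomial (Fin n) R),
          (∀ w, w ∈ K ↔ ∃ m : ℕ, d ^ m • w ∈ Submodule.span (MvPolynomial (Fin n) R)
            (Set.range fun j => fun l => MvPolynomial.map (algebraMap A R) (ρ j l))) →
          K.FG ∧ Module.Flat R ((Fin r → MvPolynomial (Fin n) R) ⧸ K) := by
  classical
  have := Fintype.ofFinite κ
  choose q hq using hρ
  let T : Finset O := Finset.univ.biUnion fun j => Finset.univ.biUnion fun i => (q j i).coeffs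
  obtain ⟨O₀, S, k₀, hO₀, hT, hk₀, hfl₀⟩ := exists_subring_flat k hflat T
  -- lifts of the `q`
  have hq₀ : ∀ j i, ∃ p : MvPolynomial (Fin n) O₀, MvPolynomial.map O₀.subtype p = q j i := by
    intro j i
    have : q j i ∈ Set.range (MvPolynomial.map (σ := Fin n) (algebraMap O₀ O)) := by
      rw [MvPolynomial.mem_range_map_iff_coeffs_subset]
      intro x hx
      exact ⟨⟨x, hT (Finset.mem_coe.mpr (Finset.mem_biUnion.mpr ⟨j, Finset.mem_univ _,
        Finset.mem_biUnion.mpr ⟨i, Finset.mem_univ _, hx⟩⟩))⟩, rfl⟩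
    exact this
  choose q₀ hq₀ using hq₀
  -- generators
  let S₀ : Finset O₀ := S.subtype (· ∈ O₀)
  have hS₀ : Subring.closure (S₀ : Set O₀) = ⊤ := by
    have h1 : ((S₀ : Finset O₀) : Set O₀) = ((↑) : O₀ → O) ⁻¹' (S : Set O) := by
      ext x
      simp [S₀]
    rw [h1]
    rw [eq_top_iff]
    rintro ⟨x, hx⟩ -
    have hx' : x ∈ Subring.closure (S : Set O) := hO₀ ▸ hx
    have hle : Subring.closure (S : Set O) ≤
        (Subring.closure (((↑) : O₀ → O) ⁻¹' (S : Set O))).map O₀.subtype := by
      rw [Subring.closure_le]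
      intro y hy
      have hyO : y ∈ O₀ := hO₀ ▸ Subring.subset_closure hy
      exact ⟨⟨y, hyO⟩, Subring.subset_closure hy, rfl⟩
    obtain ⟨z, hz, hzx⟩ := hle hx'
    have : z = ⟨x, hx⟩ := Subtype.ext hzx
    rwa [← this]
  -- `O₀` is finitely presented over `ℤ`
  have hft : Algebra.FiniteType ℤ O₀ := by
    refine ⟨⟨S₀, ?_⟩⟩
    rw [Algebra.adjoin_int, hS₀]
    rfl
  have hfp : Algebra.FinitePresentation ℤ O₀ := Algebra.FinitePresentation.of_finiteType.mp hft
  let φ : O₀ →+* Localization.AtPrime u := O.subtype.comp O₀.subtype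
  obtain ⟨h₀, hh₀, θ, hθ⟩ := exists_lift u O₀ φ
  -- the other inclusion
  have hk' : ∀ i, ∃ c : κ → MvPolynomial (Fin n) (Localization.AtPrime u),
      ∑ j, c j • (fun l => MvPolynomial.map (algebraMap A (Localization.AtPrime u)) (ρ j l)) =
        fun l => MvPolynomial.map O.subtype (k i l) := fun i =>
    (Submodule.mem_span_range_iff_exists_fun _).mp (hk i)
  choose c hc using hk'
  choose b hb p hp using fun i => clear_family u (c i)
  -- the relations over `A_{h₀}`
  let v1 : κ × Fin r → MvPolynomial (Fin n) (Localization.Away h₀) := fun x =>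
    MvPolynomial.map (algebraMap A _) (ρ x.1 x.2) -
      MvPolynomial.map θ (∑ i, q₀ x.1 i * k₀ i x.2)
  let v2 : Fin s × Fin r → MvPolynomial (Fin n) (Localization.Away h₀) := fun x =>
    MvPolynomial.C (algebraMap A _ (b x.1)) * MvPolynomial.map θ (k₀ x.1 x.2) -
      ∑ j, MvPolynomial.map (algebraMap A _) (p x.1 j) * MvPolynomial.map (algebraMap A _) (ρ j x.2)
  have hAL : (toL u h₀ hh₀).comp (algebraMap A _) = algebraMap A (Localization.AtPrime u) := by
    ext a; simp
  have hv1 : ∀ x, MvPolynomial.map (toL u h₀ hh₀) (v1 x) = 0 := by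
    intro x
    simp only [v1, map_sub, MvPolynomial.map_map, hAL, hθ]
    rw [sub_eq_zero, hq, ← MvPolynomial.map_map]
    congr 1
    rw [map_sum]
    refine Finset.sum_congr rfl fun i _ => ?_
    rw [map_mul, hk₀, hq₀]
  have hv2 : ∀ x, MvPolynomial.map (toL u h₀ hh₀) (v2 x) = 0 := by
    intro x
    simp only [v2, map_sub, map_sum, map_mul, MvPolynomial.map_map, hAL, hθ, MvPolynomial.map_C,
      toL_algebraMap]
    rw [sub_eq_zero]
    have h1 := congrFun (hc x.1) x.2
    rw [Finset.sum_apply] at h1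
    have h2 : MvPolynomial.map φ (k₀ x.1 x.2) = MvPolynomial.map O.subtype (k x.1 x.2) := by
      rw [← hk₀, MvPolynomial.map_map]
    rw [h2, ← h1, Finset.mul_sum]
    refine Finset.sum_congr rfl fun j _ => ?_
    rw [hp, Pi.smul_apply, smul_eq_mul, mul_assoc]
  obtain ⟨s₁, hs₁, hk₁⟩ := kill_family u h₀ hh₀ v1 hv1
  obtain ⟨s₂, hs₂, hk₂⟩ := kill_family u h₀ hh₀ v2 hv2
  have hbp : (∏ i, b i) ∉ u := by
    rw [‹u.IsPrime›.prod_mem_iff]
    push Not
    exact fun m _ => hb m
  let t : A := s₁ * s₂ * ∏ i, b i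
  have ht : t ∉ u := mul_notMem u (mul_notMem u hs₁ hs₂) hbp
  have hht := mul_notMem u hh₀ ht
  have hK1 := hk₁ t ⟨s₂ * ∏ i, b i, by simp only [t]; ring⟩
  have hK2 := hk₂ t ⟨s₁ * ∏ i, b i, by simp only [t]; ring⟩
  let θ' : O₀ →+* Localization.Away (h₀ * t) := (toMul h₀ t).comp θ
  have hθ' : (toL u (h₀ * t) hht).comp θ' = φ := by
    rw [← RingHom.comp_assoc, toL_comp_toMul u h₀ t hh₀ hht, hθ]
  have hAM : (toMul h₀ t).comp (algebraMap A _) = algebraMap A (Localization.Away (h₀ * t)) := by
    ext a; simp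
  -- relations over `A_h`
  have hr1 : ∀ j l, MvPolynomial.map (algebraMap A (Localization.Away (h₀ * t))) (ρ j l) =
      MvPolynomial.map θ' (∑ i, q₀ j i * k₀ i l) := by
    intro j l
    have h1 := hK1 (j, l)
    simp only [v1, map_sub, MvPolynomial.map_map, hAM] at h1
    exact sub_eq_zero.mp h1
  have hr2 : ∀ i l, MvPolynomial.C (algebraMap A _ (b i)) * MvPolynomial.map θ' (k₀ i l) =
      ∑ j, MvPolynomial.map (algebraMap A (Localization.Away (h₀ * t))) (p i j) *
        MvPolynomial.map (algebraMap A _) (ρ j l) := by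
    intro i l
    have h1 := hK2 (i, l)
    simp only [v2, map_sub, map_sum, map_mul, MvPolynomial.map_map, hAM, MvPolynomial.map_C,
      toMul_algebraMap] at h1
    exact sub_eq_zero.mp h1
  -- numerators
  obtain ⟨⟨_, N, rfl⟩, hN⟩ := IsLocalization.exist_integer_multiples_of_finset
    (Submonoid.powers (h₀ * t)) (S₀.image θ')
  have hN' : ∀ c ∈ S₀, ∃ f : A, algebraMap A (Localization.Away (h₀ * t)) f =
      θ' c * algebraMap A _ ((h₀ * t) ^ N) := by
    intro c hc
    obtain ⟨f, hf⟩ := hN (θ' c) (Finset.mem_image_of_mem _ hc)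
    exact ⟨f, hf.trans ((Algebra.smul_def _ _).trans (mul_comm _ _))⟩
  choose! f hf using hN'
  refine ⟨h₀ * t, N, S₀.image f, hht, ?_, ?_⟩
  · intro g hg
    obtain ⟨c, hc, rfl⟩ := Finset.mem_image.mp hg
    refine ⟨φ c, (c : O).2, ?_⟩
    have h1 := congrArg (toL u (h₀ * t) hht) (hf c hc)
    rw [toL_algebraMap, map_mul, toL_algebraMap, ← RingHom.comp_apply, hθ'] at h1
    exact h1.symm
  · intro R _ _ d hd hdvd hF K hK
    obtain ⟨ε, θR, hε, hθR, hinj⟩ := exists_map_R (h₀ * t) θ' (S₀ : Set O₀) hS₀ N f hf d hd hdvd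
      (fun c hc => hF _ (Finset.mem_image_of_mem _ hc))
    have hc1 : (algebraMap R (Localization.Away d)).comp (algebraMap A R) =
        ε.comp (algebraMap A _) := by
      ext a; exact (hε a).symm
    have hc2 : (algebraMap R (Localization.Away d)).comp θR = ε.comp θ' := by
      ext a; exact hθR a
    have hminj : Function.Injective (MvPolynomial.map (σ := Fin n)
      (algebraMap R (Localization.Away d))) := MvPolynomial.map_injective _ hinj
    refine level_R ρ k₀ hfl₀ θR d hd (fun j => ⟨q₀ j, fun l => ?_⟩) (fun i =>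
      ⟨algebraMap A R (b i), fun j => MvPolynomial.map (algebraMap A R) (p i j), ?_, fun l => ?_⟩)
      K hK
    · apply hminj
      rw [MvPolynomial.map_map, MvPolynomial.map_map, hc1, hc2, ← MvPolynomial.map_map,
        ← MvPolynomial.map_map, hr1]
    · obtain ⟨m, hm⟩ := hdvd
      refine ⟨m, dvd_trans (map_dvd _ ?_) hm⟩
      exact dvd_mul_of_dvd_right (dvd_mul_of_dvd_right (Finset.dvd_prod_of_mem b (Finset.mem_univ i)) _) _
    · apply hminj
      rw [finsum_eq_sum_of_fintype, map_mul, MvPolynomial.map_C, MvPolynomial.map_map, hc2, ← hε,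
        map_sum]
      have h1 := congrArg (MvPolynomial.map ε) (hr2 i l)
      rw [map_mul, MvPolynomial.map_C, MvPolynomial.map_map, map_sum] at h1
      rw [h1]
      refine Finset.sum_congr rfl fun j _ => ?_
      rw [map_mul, map_mul, MvPolynomial.map_map, MvPolynomial.map_map, MvPolynomial.map_map,
        MvPolynomial.map_map, hc1]

end Spread

end Groth.Agent.Flat2C.ZRSpread
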