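import Mathlib.RingTheory.Valuation.ExtendToLocalization
import Mathlib.RingTheory.Valuation.ValuativeRel.Basic
import Mathlib.Order.Filter.Ultrafilter.Defs
import Mathlib.RingTheory.Localization.AtPrime.Basic
import Groth.Agent.Flat2C.ZRFlat

set_option autoImplicit false
universe u

/-!
# Ultraproducts of valuations

From a family of valuations `w J : A → Γ J`, bounded by `1`, and an ultrafilter on the index set, we
obtain a prime `p` of `A` and a valuation on `A_p` of Zariski-Riemann type with respect to a given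
element `t` such that `0 < w J t < 1` for almost all `J`.
-/

namespace Groth.Agent.Flat2C.ZRVal

open IsLocalRing ValuativeRel Filter

variable {A : Type u} [CommRing A] {ι : Type u} (𝓤 : Ultrafilter ι) {Γ : ι → Type u}
  [∀ J, LinearOrderedCommGroupWithZero (Γ J)] (w : ∀ J, Valuation A (Γ J))

/-- The ultraproduct valuative relation. -/
@[implicit_reducible]
def ultraRel : ValuativeRel A where
  vle x y := ∀ᶠ J in (𝓤 : Filter ι), w J x ≤ w J y
  vle_total x y := by
    rw [← Ultrafilter.eventually_or]
    exact Eventually.of_forall fun J => le_total _ _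
  vle_trans h₁ h₂ := by
    filter_upwards [h₁, h₂] with J a b using a.trans b
  vle_add h₁ h₂ := by
    filter_upwards [h₁, h₂] with J a b using (map_add_le_max (w J) _ _).trans (sup_le a b)
  mul_vle_mul_left h z := by
    filter_upwards [h] with J a
    simp only [map_mul]
    gcongr
  vle_mul_cancel {x y z} h0 h := by
    have h0' : ∀ᶠ J in (𝓤 : Filter ι), ¬ (w J z ≤ w J 0) := by
      rwa [← Ultrafilter.eventually_not] at h0
    filter_upwards [h0', h] with J a b
    simp only [map_mul] at b
    apply le_of_mul_le_mul_right b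
    simpa [pos_iff_ne_zero] using a
  not_vle_one_zero := by
    rw [← Ultrafilter.eventually_not]
    exact Eventually.of_forall fun J => by simp
  vle_mul_comm {x y} := Eventually.of_forall fun J => by rw [mul_comm]

/-- **The ultraproduct valuation** on the localization at the prime of infinitely small
elements. -/
theorem exists_zr (hw : ∀ J x, w J x ≤ 1) (t : A)
    (ht0 : ∀ᶠ J in (𝓤 : Filter ι), w J t ≠ 0) (ht1 : ∀ᶠ J in (𝓤 : Filter ι), w J t < 1) :
    ∃ (p : Ideal A) (_ : p.IsPrime) (Γ₀ : Type u) (_ : LinearOrderedCommGroupWithZero Γ₀)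
      (v : Valuation (Localization.AtPrime p) Γ₀),
      t ∉ p ∧ ZRFlat.IsZR v (algebraMap A _ t) ∧
        ∀ x y : A, (v (algebraMap A _ x) ≤ v (algebraMap A _ y) ↔
          ∀ᶠ J in (𝓤 : Filter ι), w J x ≤ w J y) := by
  let _ := ultraRel 𝓤 w
  let u : Valuation A (ValueGroupWithZero A) := valuation A
  have hu : ∀ x y : A, u x ≤ u y ↔ ∀ᶠ J in (𝓤 : Filter ι), w J x ≤ w J y := fun x y =>
    (Valuation.vle_iff_le u).symm
  have hu1 : ∀ x, u x ≤ 1 := by
    intro x
    rw [← map_one u, hu]
    exact Eventually.of_forall fun J => by simpa using hw J x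
  have hut0 : u t ≠ 0 := by
    intro h
    have h' : u t ≤ u 0 := by rw [h, map_zero]
    rw [hu] at h'
    obtain ⟨J, a, b⟩ := (h'.and ht0).exists
    exact b (by simpa using a)
  have hut1 : u t < 1 := by
    rw [← map_one u, lt_iff_not_ge, hu]
    intro h
    obtain ⟨J, a, b⟩ := (h.and ht1).exists
    exact absurd (a.trans_lt b) (by simp)
  have hpos : ∀ n : ℕ, 0 < u t ^ n := fun n => zero_lt_iff.mpr (pow_ne_zero _ hut0)
  let p : Ideal A :=
    { carrier := {x | ∀ n : ℕ, u x ≤ u t ^ n}
      zero_mem' := fun n => by simp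
      add_mem' := fun {x y} hx hy n => (map_add_le_max u _ _).trans (sup_le (hx n) (hy n))
      smul_mem' := fun a x hx n => by
        rw [smul_eq_mul, map_mul]
        calc u a * u x ≤ 1 * u t ^ n := by
              gcongr
              · exact hu1 a
              · exact hx n
          _ = u t ^ n := one_mul _ }
  have hp : ∀ x, x ∈ p ↔ ∀ n : ℕ, u x ≤ u t ^ n := fun x => Iff.rfl
  have hnp : ∀ x, x ∉ p ↔ ∃ n : ℕ, u t ^ n < u x := by
    intro x
    rw [hp]
    push Not
    rfl
  have htp : t ∉ p := by
    rw [hnp]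
    refine ⟨2, ?_⟩
    calc u t ^ 2 = u t * u t := sq _
      _ < u t * 1 := by
          have := zero_lt_iff.mpr hut0
          gcongr
      _ = u t := mul_one _
  have hprime : p.IsPrime := by
    constructor
    · rw [Ideal.ne_top_iff_one, hnp]
      exact ⟨1, by simpa using hut1⟩
    · intro x y hxy
      by_contra hcon
      push Not at hcon
      obtain ⟨hx, hy⟩ := hcon
      obtain ⟨n, hn⟩ := (hnp x).mp hx
      obtain ⟨m, hm⟩ := (hnp y).mp hy
      have h1 := hxy (n + m)
      rw [map_mul, pow_add] at h1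
      exact absurd h1 (not_le.mpr (mul_lt_mul'' hn hm zero_le zero_le))
  have hsupp : p.primeCompl ≤ u.supp.primeCompl := by
    intro x hx
    obtain ⟨n, hn⟩ := (hnp x).mp hx
    intro hx0
    rw [SetLike.mem_coe, Valuation.mem_supp_iff] at hx0
    rw [hx0] at hn
    exact absurd hn (by simp)
  let v : Valuation (Localization.AtPrime p) (ValueGroupWithZero A) :=
    u.extendToLocalization hsupp (Localization.AtPrime p)
  have hv : ∀ a : A, v (algebraMap A _ a) = u a := fun a =>
    Valuation.extendToLocalization_apply_map_apply _ _ _ a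
  have hvmk : ∀ (a : A) (s : p.primeCompl), v (IsLocalization.mk' _ a s) = u a * (u s)⁻¹ :=
    fun a s => Valuation.extendToLocalization_mk' _ _ _ a s
  refine ⟨p, hprime, ValueGroupWithZero A, inferInstance, v, htp, ⟨?_, ?_, ?_, ?_⟩, ?_⟩
  · exact IsLocalization.map_units _ (⟨t, htp⟩ : p.primeCompl)
  · rw [hv]
    exact hut1
  · intro x hx n
    obtain ⟨a, s, rfl⟩ := IsLocalization.exists_mk'_eq p.primeCompl x
    rw [IsLocalization.AtPrime.mk'_mem_maximal_iff (Localization.AtPrime p) p] at hx
    obtain ⟨m, hm⟩ := (hnp s).mp s.2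
    rw [hv, hvmk]
    have hs0 : 0 < u s := (hpos m).trans hm
    rw [← div_eq_mul_inv, div_le_iff₀ hs0]
    calc u a ≤ u t ^ (n + m) := hx (n + m)
      _ = u t ^ n * u t ^ m := pow_add _ _ _
      _ ≤ u t ^ n * u s := by gcongr
  · intro x hx
    obtain ⟨a, s, rfl⟩ := IsLocalization.exists_mk'_eq p.primeCompl x
    rw [IsLocalization.AtPrime.mk'_mem_maximal_iff (Localization.AtPrime p) p] at hx
    obtain ⟨n, hn⟩ := (hnp a).mp hx
    obtain ⟨m, hm⟩ := (hnp s).mp s.2
    refine ⟨n, ?_⟩
    rw [hv, hvmk]
    have hs0 : 0 < u s := (hpos m).trans hm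
    rw [← div_eq_mul_inv, le_div_iff₀ hs0]
    calc u t ^ n * u s ≤ u t ^ n * 1 := by
          gcongr
          exact hu1 _
      _ = u t ^ n := mul_one _
      _ ≤ u a := hn.le
  · intro x y
    rw [hv, hv, hu]

end Groth.Agent.Flat2C.ZRVal
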