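import Groth.Agent.Flat2C.ZRPoint
import Groth.Agent.Flat2C.ZRPrinc
import Groth.Agent.Flat2C.ZRVal
import Groth.Agent.Flat2C.ZRSpread
import Mathlib.Order.Filter.Ultrafilter.Basic

/-!
# Flattening by blowing up, ring level: the compactness argument
-/

set_option autoImplicit false
universe u

namespace Groth.Agent.Flat2C.ZRMain

open Groth.Agent.Flat2C.ZRFg Groth.Agent.Flat2C.ZRSat Groth.Agent.Flat2C.ZRLocal
  Groth.Agent.Flat2C.ZRPoint Groth.Agent.Flat2C.ZRFlat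

/-- A bad point for the ideal `J`. -/
structure Bad {A : Type u} [CommRing A] {ι σ κ : Type} (ρ : κ → ι → MvPolynomial σ A)
    (J : Ideal A) where
  R : Type u
  [cr : CommRing R]
  [al : Algebra A R]
  d : R
  hd : d ∈ nonZeroDivisors R
  hJ : J.map (algebraMap A R) = Ideal.span {d}
  z : Ideal R
  hz : z.IsPrime
  hdz : d ∈ z
  bad : ∀ s, s ∉ z → ¬ Good (Localization.Away s) ρ (algebraMap R _ d)
  Γ : Type u
  [lo : LinearOrderedCommGroupWithZero Γ]
  ω : Valuation R Γ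
  le_one : ∀ x, ω x ≤ 1
  eq_one : ∀ x, x ∉ z → ω x = 1
  lt_one : ∀ x ∈ z, ω x < 1
  ne_zero : ω d ≠ 0

attribute [instance] Bad.cr Bad.al Bad.lo

theorem nonempty_bad {A : Type u} [CommRing A] (I₀ : Ideal A) {ι σ κ : Type} [Finite ι] [Finite κ]
    (ρ : κ → ι → MvPolynomial σ A)
    (hflat : ∀ (R : Type u) [CommRing R] [Algebra A R], I₀.map (algebraMap A R) = ⊤ →
      Module.Flat R ((ι → MvPolynomial σ R) ⧸ Submodule.span (MvPolynomial σ R)
        (Set.range fun j => frMap ι σ (algebraMap A R) (ρ j))))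
    {J : Ideal A} (hJ : J.FG) (hrad : J.radical = I₀.radical)
    {R : Type u} [CommRing R] [Algebra A R] {d : R} (hd : d ∈ nonZeroDivisors R)
    (hJd : J.map (algebraMap A R) = Ideal.span {d}) (hbad : ¬ Good R ρ d) :
    Nonempty (Bad ρ J) := by
  obtain ⟨z, hz, hdz, hs⟩ := exists_prime I₀ ρ hflat hJ hrad hJd hbad
  obtain ⟨Γ, _, ω, h1, h2, h3, h4⟩ := exists_valuation z d hd
  exact ⟨⟨R, d, hd, hJd, z, hz, hdz, hs, Γ, ω, h1, h2, h3, h4⟩⟩

/-- The ideal of elements of value at most `γ`. -/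
def leIdeal {R : Type*} [CommRing R] {Γ : Type*} [LinearOrderedCommGroupWithZero Γ]
    (ω : Valuation R Γ) (h1 : ∀ x, ω x ≤ 1) (γ : Γ) : Ideal R where
  carrier := {x | ω x ≤ γ}
  add_mem' := fun {a b} ha hb => (ω.map_add a b).trans (max_le ha hb)
  zero_mem' := by simp
  smul_mem' := fun c x hx => by
    rw [Set.mem_ofPred_eq, smul_eq_mul, map_mul]
    calc ω c * ω x ≤ 1 * ω x := by gcongr; exact h1 c
      _ = ω x := one_mul _
      _ ≤ γ := hx

theorem mem_leIdeal {R : Type*} [CommRing R] {Γ : Type*} [LinearOrderedCommGroupWithZero Γ]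
    {ω : Valuation R Γ} {h1 : ∀ x, ω x ≤ 1} {γ : Γ} {x : R} : x ∈ leIdeal ω h1 γ ↔ ω x ≤ γ :=
  Iff.rfl

theorem pow_le_leIdeal {R : Type*} [CommRing R] {Γ : Type*} [LinearOrderedCommGroupWithZero Γ]
    {ω : Valuation R Γ} {h1 : ∀ x, ω x ≤ 1} {γ : Γ} {I : Ideal R} (hI : I ≤ leIdeal ω h1 γ)
    (m : ℕ) : I ^ m ≤ leIdeal ω h1 (γ ^ m) := by
  induction m with
  | zero => intro x _; rw [mem_leIdeal, pow_zero]; exact h1 x
  | succ m ih =>
    rw [pow_succ, Ideal.mul_le]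
    intro a ha b hb
    rw [mem_leIdeal, map_mul, pow_succ]
    gcongr
    · exact ih ha
    · exact hI hb

section

variable {A : Type u} [CommRing A] {I₀ : Ideal A} {ι σ κ : Type}
  {ρ : κ → ι → MvPolynomial σ A}

/-- The valuation on `A` of a bad point. -/
noncomputable def Bad.w {J : Ideal A} (D : Bad ρ J) : Valuation A D.Γ :=
  D.ω.comap (algebraMap A D.R)

theorem Bad.w_apply {J : Ideal A} (D : Bad ρ J) (x : A) : D.w x = D.ω (algebraMap A D.R x) := rfl

theorem Bad.w_le_one {J : Ideal A} (D : Bad ρ J) (x : A) : D.w x ≤ 1 := D.le_one _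

theorem Bad.exists_generator {J : Ideal A} (D : Bad ρ J) (hJ : J.FG)
    (hrad : J.radical = I₀.radical) (G : Finset A) (hG : Ideal.span (G : Set A) = I₀) :
    ∃ g ∈ G, D.w g ≠ 0 ∧ D.w g < 1 ∧ ∀ x ∈ I₀, D.w x ≤ D.w g := by
  obtain ⟨m, hm⟩ := Ideal.exists_pow_le_of_le_radical_of_fg (I := J) (J := I₀)
    (by rw [← hrad]; exact Ideal.le_radical) hJ
  have hdm : D.d ^ m ∈ I₀.map (algebraMap A D.R) := by
    have h1 := Ideal.map_mono (f := algebraMap A D.R) hm
    rw [Ideal.map_pow, D.hJ] at h1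
    exact h1 (Ideal.pow_mem_pow (Ideal.mem_span_singleton_self _) m)
  have hne : ∃ g ∈ G, D.w g ≠ 0 := by
    by_contra hcon
    push Not at hcon
    have h1 : I₀.map (algebraMap A D.R) ≤ D.ω.supp := by
      rw [← hG, Ideal.map_span, Ideal.span_le]
      rintro _ ⟨g, hg, rfl⟩
      rw [SetLike.mem_coe, Valuation.mem_supp_iff]
      exact hcon g hg
    have h2 := h1 hdm
    rw [Valuation.mem_supp_iff, map_pow] at h2
    exact pow_ne_zero m D.ne_zero h2
  obtain ⟨g₀, hg₀, hg₀'⟩ := hne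
  obtain ⟨g, hg, hmax⟩ := Finset.exists_max_image G D.w ⟨g₀, hg₀⟩
  have hgI : g ∈ I₀ := hG ▸ Ideal.subset_span hg
  refine ⟨g, hg, ?_, ?_, ?_⟩
  · intro h0
    have := hmax g₀ hg₀
    rw [h0, le_zero_iff] at this
    exact hg₀' this
  · have h1 : g ∈ J.radical := by rw [hrad]; exact Ideal.le_radical hgI
    obtain ⟨k, hk⟩ := h1
    have h2 : algebraMap A D.R g ^ k ∈ D.z := by
      rw [← map_pow]
      have h3 : algebraMap A D.R (g ^ k) ∈ J.map (algebraMap A D.R) := Ideal.mem_map_of_mem _ hk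
      rw [D.hJ] at h3
      exact (Ideal.span_singleton_le_iff_mem _).mpr D.hdz h3
    exact D.lt_one _ (D.hz.mem_of_pow_mem _ h2)
  · intro x hx
    have h1 : I₀ ≤ leIdeal D.w D.w_le_one (D.w g) := by
      rw [← hG, Ideal.span_le]
      intro y hy
      exact hmax y hy
    exact h1 hx

/-- The set of ideals over which we take a limit. -/
abbrev Idl (I₀ : Ideal A) : Type u := {J : Ideal A // J.FG ∧ J.radical = I₀.radical}

theorem exists_ultrafilter (hI₀ : I₀.FG) :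
    ∃ 𝓤 : Ultrafilter (Idl I₀), ∀ J : Idl I₀, ∀ᶠ J' in (𝓤 : Filter (Idl I₀)), J.1 ∣ J'.1 := by
  let S : Idl I₀ → Set (Idl I₀) := fun J => {J' | J.1 ∣ J'.1}
  have hne : Nonempty (Idl I₀) := ⟨⟨I₀, hI₀, rfl⟩⟩
  have hdir : Directed (· ≥ ·) fun J => Filter.principal (S J) := by
    intro J J'
    refine ⟨⟨J.1 * J'.1, J.2.1.mul J'.2.1, by
      rw [Ideal.radical_mul, J.2.2, J'.2.2, inf_idem]⟩, ?_, ?_⟩
    · simp only [ge_iff_le, Filter.le_principal_iff, Filter.mem_principal]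
      intro J'' h
      exact (Dvd.intro _ rfl : J.1 ∣ J.1 * J'.1).trans h
    · simp only [ge_iff_le, Filter.le_principal_iff, Filter.mem_principal]
      intro J'' h
      exact (Dvd.intro_left _ rfl : J'.1 ∣ J.1 * J'.1).trans h
  have hnb : (⨅ J, Filter.principal (S J)).NeBot :=
    Filter.iInf_neBot_of_directed hdir fun J => by
      rw [Filter.principal_neBot_iff]
      exact ⟨J, dvd_rfl⟩
  refine ⟨Ultrafilter.of (⨅ J, Filter.principal (S J)), fun J => ?_⟩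
  have h1 : ∀ᶠ J' in ⨅ J, Filter.principal (S J), J.1 ∣ J'.1 :=
    Filter.mem_iInf_of_mem J (Filter.mem_principal_self _)
  exact Ultrafilter.of_le _ h1

/-- Admissible ideals. -/
theorem mul_mem_idl (hI₀ : I₀.FG) {E : Ideal A} (hE : E.FG) {m : ℕ} (hm : I₀ ^ m ≤ E) :
    (E * I₀).FG ∧ (E * I₀).radical = I₀.radical := by
  refine ⟨hE.mul hI₀, ?_⟩
  rw [Ideal.radical_mul, inf_eq_right, Ideal.radical_le_radical_iff]
  intro x hx
  exact ⟨m, hm (Ideal.pow_mem_pow hx m)⟩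

/-- The key divisibility near the bad point. -/
theorem Bad.exists_dvd {J : Ideal A} (D : Bad ρ J) {t : A} (ht0 : D.w t ≠ 0)
    (htmax : ∀ x ∈ I₀, D.w x ≤ D.w t) (a b : A) (m : ℕ)
    (hab : D.w a ≤ D.w b) (htb : D.w (t ^ m) ≤ D.w b) (C : Ideal A)
    (hC : J = (Ideal.span {a, b} ⊔ I₀ ^ m) * I₀ * C) :
    ∃ s, s ∉ D.z ∧ (∃ y, s * algebraMap A D.R a = algebraMap A D.R b * y) ∧
      (∃ y, s * D.d = algebraMap A D.R b * y) := by
  obtain ⟨E, hEdef⟩ : ∃ E : Ideal A, E = Ideal.span {a, b} ⊔ I₀ ^ m := ⟨_, rfl⟩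
  rw [← hEdef] at hC
  have hEC : E.map (algebraMap A D.R) * (I₀ * C).map (algebraMap A D.R) =
      Ideal.span {D.d} := by
    rw [← Ideal.map_mul, ← mul_assoc, ← D.hJ, ← hC]
  have := D.hz
  have hbE : b ∈ E := hEdef ▸ Ideal.mem_sup_left (Ideal.subset_span (by simp))
  have haE : a ∈ E := hEdef ▸ Ideal.mem_sup_left (Ideal.subset_span (by simp))
  have hmax : E.map (algebraMap A D.R) ≤
      leIdeal D.ω D.le_one (D.ω (algebraMap A D.R b)) := by
    rw [Ideal.map_le_iff_le_comap, hEdef]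
    refine sup_le ?_ ?_
    · rw [Ideal.span_le]
      rintro x (rfl | rfl)
      · exact hab
      · exact le_rfl
    · have h1 : I₀ ≤ leIdeal D.w D.w_le_one (D.w t) := htmax
      intro x hx
      have h2 := pow_le_leIdeal h1 m hx
      rw [mem_leIdeal] at h2
      rw [map_pow] at htb
      exact h2.trans htb
  have h0 : D.ω (algebraMap A D.R b) ≠ 0 := by
    intro h0
    rw [D.w_apply b, h0, le_zero_iff, map_pow] at htb
    exact pow_ne_zero m ht0 htb
  obtain ⟨s, hs, hsE⟩ := ZRPrinc.exists_mul_eq_of_valuation D.hd hEC D.z D.ω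
    D.eq_one D.lt_one (Ideal.mem_map_of_mem _ hbE) (fun x hx => hmax hx) h0
  refine ⟨s, hs, hsE _ (Ideal.mem_map_of_mem _ haE), hsE _ ?_⟩
  have h1 : D.d ∈ E.map (algebraMap A D.R) * (I₀ * C).map (algebraMap A D.R) := by
    rw [hEC]; exact Ideal.mem_span_singleton_self _
  exact Ideal.mul_le_left h1

/-- The key divisibility near the bad point. -/
theorem eventually_dvd (hI₀ : I₀.FG) (D : ∀ J : Idl I₀, Bad ρ J.1) (𝓤 : Ultrafilter (Idl I₀))
    (h𝓤 : ∀ J : Idl I₀, ∀ᶠ J' in (𝓤 : Filter (Idl I₀)), J.1 ∣ J'.1) {t : A}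
    (ht : ∀ᶠ J in (𝓤 : Filter (Idl I₀)), (D J).w t ≠ 0 ∧ (D J).w t < 1 ∧
      ∀ x ∈ I₀, (D J).w x ≤ (D J).w t) (a b : A) (m : ℕ)
    (hab : ∀ᶠ J in (𝓤 : Filter (Idl I₀)), (D J).w a ≤ (D J).w b)
    (htb : ∀ᶠ J in (𝓤 : Filter (Idl I₀)), (D J).w (t ^ m) ≤ (D J).w b) :
    ∀ᶠ J in (𝓤 : Filter (Idl I₀)), ∃ s, s ∉ (D J).z ∧
      (∃ y, s * algebraMap A (D J).R a = algebraMap A (D J).R b * y) ∧
      (∃ y, s * (D J).d = algebraMap A (D J).R b * y) := by
  have hE : (Ideal.span {a, b} ⊔ I₀ ^ m).FG := (Submodule.fg_span (by simp)).sup (hI₀.pow)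
  have h1 := h𝓤 ⟨(Ideal.span {a, b} ⊔ I₀ ^ m) * I₀, mul_mem_idl hI₀ hE le_sup_right⟩
  refine ((h1.and ht).and (hab.and htb)).mono ?_
  rintro J ⟨⟨⟨C, hC⟩, ht0, -, htmax⟩, hab, htb⟩
  exact (D J).exists_dvd ht0 htmax a b m hab htb C hC

end

/-- The limit step at the limit valuation. -/
theorem exists_spread {A : Type u} [CommRing A] (I₀ : Ideal A) {n r : ℕ}
    {κ : Type} [Finite κ] (ρ : κ → Fin r → MvPolynomial (Fin n) A)
    (hflat : ∀ (R : Type u) [CommRing R] [Algebra A R], I₀.map (algebraMap A R) = ⊤ →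
      Module.Flat R ((Fin r → MvPolynomial (Fin n) R) ⧸ Submodule.span (MvPolynomial (Fin n) R)
        (Set.range fun j => frMap (Fin r) (Fin n) (algebraMap A R) (ρ j))))
    (p : Ideal A) [p.IsPrime] {Γ₀ : Type u} [LinearOrderedCommGroupWithZero Γ₀]
    (v : Valuation (Localization.AtPrime p) Γ₀) {t : A} (htI : t ∈ I₀) (htp : t ∉ p)
    (hv : IsZR v (algebraMap A _ t)) (hv1 : ∀ x : A, v (algebraMap A _ x) ≤ 1) :
    ∃ (h : A) (N : ℕ) (F : Finset A), h ∉ p ∧
      (∀ f ∈ F, ∃ c ∈ v.integer, c * algebraMap A (Localization.AtPrime p) (h ^ N) =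
        algebraMap A (Localization.AtPrime p) f) ∧
      ∀ (R : Type u) [CommRing R] [Algebra A R] (d : R), d ∈ nonZeroDivisors R →
        (∃ m : ℕ, algebraMap A R h ∣ d ^ m) →
        (∀ f ∈ F, algebraMap A R (h ^ N) ∣ algebraMap A R f) → Good R ρ d := by
  have htop : I₀.map (algebraMap A (Localization.AtPrime p)) = ⊤ :=
    Ideal.eq_top_of_isUnit_mem _ (Ideal.mem_map_of_mem _ htI)
      (IsLocalization.map_units _ (⟨t, htp⟩ : p.primeCompl))
  have hfl := hflat (Localization.AtPrime p) htop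
  obtain ⟨𝓡, h𝓡⟩ : ∃ 𝓡, 𝓡 = Submodule.span (MvPolynomial (Fin n) (Localization.AtPrime p))
      (Set.range fun j => frMap (Fin r) (Fin n) (algebraMap A (Localization.AtPrime p)) (ρ j)) :=
    ⟨_, rfl⟩
  rw [← h𝓡] at hfl
  have hfg : 𝓡.FG := h𝓡 ▸ Submodule.fg_span (Set.finite_range _)
  obtain ⟨s, k, hk⟩ := Submodule.fg_iff_exists_fin_generating_family.mp (fg_K hv 𝓡 hfg)
  have hflK := flat_quotient hv 𝓡
  rw [← hk] at hflK
  obtain ⟨h, N, F, hhp, hF, hR⟩ := ZRSpread.spread p v.integer ρ k hflK (fun j => by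
      have h1 : ∀ i m, ∃ a : v.integer, v.integer.subtype a =
          (frMap (Fin r) (Fin n) (algebraMap A (Localization.AtPrime p)) (ρ j) i).coeff m := by
        intro i m
        rw [coeff_frMap]
        exact ⟨⟨_, hv1 _⟩, rfl⟩
      obtain ⟨ρ', hρ'⟩ := exists_frMap_eq v.integer.subtype _ h1
      have h2 : ρ' ∈ K v 𝓡 := by
        rw [mem_K, hρ', h𝓡]
        exact Submodule.subset_span ⟨j, rfl⟩
      rw [← hk, Submodule.mem_span_range_iff_exists_fun] at h2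
      obtain ⟨q, hq⟩ := h2
      refine ⟨q, fun l => ?_⟩
      have h3 := congrFun hρ' l
      rw [frMap_apply, frMap_apply] at h3
      rw [← h3, ← hq]
      simp) (fun i => by
      have h1 : k i ∈ K v 𝓡 := hk ▸ Submodule.subset_span ⟨i, rfl⟩
      rw [mem_K, h𝓡] at h1
      exact h1)
  exact ⟨h, N, F, hhp, hF, fun R _ _ d hd h1 h2 => hR R d hd h1 h2 (sat ρ d) fun w => Iff.rfl⟩

theorem dvd_of_unit_mul {R : Type*} [CommRing R] {s a b y : R} (hs : IsUnit s)
    (h : s * a = b * y) : b ∣ a := by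
  obtain ⟨e, he⟩ := hs.exists_left_inv
  refine ⟨y * e, ?_⟩
  calc a = (e * s) * a := by rw [he, one_mul]
    _ = b * y * e := by rw [mul_assoc, h]; ring
    _ = b * (y * e) := by ring

theorem absurd_of_bad {A : Type u} [CommRing A] (I₀ : Ideal A) (hI₀ : I₀.FG) {n r : ℕ}
    {κ : Type} [Finite κ] (ρ : κ → Fin r → MvPolynomial (Fin n) A)
    (hflat : ∀ (R : Type u) [CommRing R] [Algebra A R], I₀.map (algebraMap A R) = ⊤ →
      Module.Flat R ((Fin r → MvPolynomial (Fin n) R) ⧸ Submodule.span (MvPolynomial (Fin n) R)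
        (Set.range fun j => frMap (Fin r) (Fin n) (algebraMap A R) (ρ j))))
    (D : ∀ J : Idl I₀, Bad ρ J.1) : False := by
  obtain ⟨𝓤, h𝓤⟩ := exists_ultrafilter hI₀
  obtain ⟨G, hG⟩ := hI₀
  -- the generator `t`
  obtain ⟨t, htG, ht⟩ : ∃ t ∈ G, ∀ᶠ J in (𝓤 : Filter (Idl I₀)), (D J).w t ≠ 0 ∧ (D J).w t < 1 ∧
      ∀ x ∈ I₀, (D J).w x ≤ (D J).w t := by
    have h1 : (⋃ g ∈ (G : Set A), {J : Idl I₀ | (D J).w g ≠ 0 ∧ (D J).w g < 1 ∧
        ∀ x ∈ I₀, (D J).w x ≤ (D J).w g}) ∈ 𝓤 := by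
      refine Filter.mem_of_superset Filter.univ_mem fun J _ => ?_
      obtain ⟨g, hg, h⟩ := (D J).exists_generator J.2.1 J.2.2 G hG
      exact Set.mem_biUnion (Finset.mem_coe.mpr hg) h
    obtain ⟨g, hg, h⟩ := (Ultrafilter.finite_biUnion_mem_iff G.finite_toSet).mp h1
    exact ⟨g, hg, h⟩
  have htI : t ∈ I₀ := hG ▸ Ideal.subset_span htG
  obtain ⟨p, hp, Γ₀, _, v, htp, hv, hvw⟩ := ZRVal.exists_zr 𝓤 (fun J => (D J).w)
    (fun J => (D J).w_le_one) t (ht.mono fun J h => h.1) (ht.mono fun J h => h.2.1)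
  have hv1 : ∀ x : A, v (algebraMap A _ x) ≤ 1 := by
    intro x
    have := (hvw x 1).mpr (Filter.Eventually.of_forall fun J => by
      rw [map_one]; exact (D J).w_le_one x)
    rwa [map_one, map_one] at this
  obtain ⟨h, N, F, hhp, hF, hR⟩ := exists_spread I₀ ρ hflat p v htI htp hv hv1
  have hhm : algebraMap A (Localization.AtPrime p) h ∉
      IsLocalRing.maximalIdeal (Localization.AtPrime p) := by
    rw [IsLocalization.AtPrime.to_map_mem_maximal_iff _ p]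
    exact hhp
  obtain ⟨m, hm⟩ := hv.exists_le _ hhm
  rw [← map_pow, ← map_pow] at hm
  have hm1 := (hvw _ _).mp hm
  have hI₀ : I₀.FG := ⟨G, hG⟩
  -- the finitely many divisibilities
  have e1 := eventually_dvd hI₀ D 𝓤 h𝓤 ht h h m (Filter.Eventually.of_forall fun J => le_rfl) hm1
  have e2 : ∀ᶠ J in (𝓤 : Filter (Idl I₀)), ∀ f ∈ F, ∃ s, s ∉ (D J).z ∧
      (∃ y, s * algebraMap A (D J).R f = algebraMap A (D J).R (h ^ N) * y) ∧
      (∃ y, s * (D J).d = algebraMap A (D J).R (h ^ N) * y) := by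
    rw [Filter.eventually_all_finset]
    intro f hf
    obtain ⟨c, hc, hcf⟩ := hF f hf
    refine eventually_dvd hI₀ D 𝓤 h𝓤 ht f (h ^ N) (m * N) ((hvw _ _).mp ?_) ((hvw _ _).mp ?_)
    · rw [← hcf, map_mul]
      calc v c * v _ ≤ 1 * v _ := by gcongr; exact hc
        _ = _ := one_mul _
    · rw [pow_mul, map_pow (algebraMap A _) (t ^ m), map_pow (algebraMap A _) h, map_pow v,
        map_pow v]
      exact pow_le_pow_left₀ zero_le hm N
  obtain ⟨J, ⟨s₁, hs₁, -, y₁, hy₁⟩, hJ⟩ := (e1.and e2).exists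
  have hz := (D J).hz
  choose s hs using hJ
  let s₂ : (D J).R := ∏ f : F, s f.1 f.2
  have hs₂ : s₂ ∉ (D J).z := by
    intro hmem
    rw [Ideal.IsPrime.prod_mem_iff] at hmem
    obtain ⟨f, -, hf⟩ := hmem
    exact (hs f.1 f.2).1 hf
  have hs12 : s₁ * s₂ ∉ (D J).z := fun h => (hz.mem_or_mem h).elim hs₁ hs₂
  refine (D J).bad (s₁ * s₂) hs12 (hR _ _ ?_ ⟨1, ?_⟩ fun f hf => ?_)
  · exact IsLocalization.map_nonZeroDivisors_le (Submonoid.powers (s₁ * s₂)) _
      ⟨_, (D J).hd, rfl⟩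
  · rw [pow_one]
    have hu : IsUnit (algebraMap (D J).R (Localization.Away (s₁ * s₂)) s₁) := by
      have := IsLocalization.Away.algebraMap_isUnit (S := Localization.Away (s₁ * s₂)) (s₁ * s₂)
      rw [map_mul] at this
      exact isUnit_of_mul_isUnit_left this
    refine dvd_of_unit_mul hu (y := algebraMap _ _ y₁) ?_
    rw [← map_mul, hy₁, map_mul,
      IsScalarTower.algebraMap_apply A (D J).R (Localization.Away (s₁ * s₂))]
  · obtain ⟨-, ⟨y, hy⟩, -⟩ := hs f hf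
    have hu : IsUnit (algebraMap (D J).R (Localization.Away (s₁ * s₂)) (s f hf)) := by
      have := IsLocalization.Away.algebraMap_isUnit (S := Localization.Away (s₁ * s₂)) (s₁ * s₂)
      have hd : s f hf ∣ s₁ * s₂ :=
        (Finset.dvd_prod_of_mem (fun f : F => s f.1 f.2) (Finset.mem_univ ⟨f, hf⟩)).mul_left _
      exact isUnit_of_dvd_unit (map_dvd _ hd) this
    refine dvd_of_unit_mul hu (y := algebraMap _ _ y) ?_
    rw [IsScalarTower.algebraMap_apply A (D J).R (Localization.Away (s₁ * s₂)) f, ← map_mul, hy,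
      map_mul, IsScalarTower.algebraMap_apply A (D J).R (Localization.Away (s₁ * s₂))]

/-- **Flattening by blowing up, ring level**, for a module presented by a finite family `ρ` of
relations over a polynomial ring. -/
theorem main {A : Type u} [CommRing A] (I₀ : Ideal A) (hI₀ : I₀.FG) {n r : ℕ}
    {κ : Type} [Finite κ] (ρ : κ → Fin r → MvPolynomial (Fin n) A)
    (hflat : ∀ (R : Type u) [CommRing R] [Algebra A R], I₀.map (algebraMap A R) = ⊤ →
      Module.Flat R ((Fin r → MvPolynomial (Fin n) R) ⧸ Submodule.span (MvPolynomial (Fin n) R)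
        (Set.range fun j => frMap (Fin r) (Fin n) (algebraMap A R) (ρ j)))) :
    ∃ J : Ideal A, J.FG ∧ J.radical = I₀.radical ∧
      ∀ (R : Type u) [CommRing R] [Algebra A R] (d : R), d ∈ nonZeroDivisors R →
        J.map (algebraMap A R) = Ideal.span {d} → Good R ρ d := by
  by_contra hcon
  push Not at hcon
  have hD : ∀ J : Idl I₀, Nonempty (Bad ρ J.1) := by
    intro J
    obtain ⟨R, _, _, d, hd, hJd, hbad⟩ := hcon J.1 J.2.1 J.2.2
    exact nonempty_bad I₀ ρ hflat J.2.1 J.2.2 hd hJd hbad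
  exact absurd_of_bad I₀ hI₀ ρ hflat fun J => (hD J).some

end Groth.Agent.Flat2C.ZRMain
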