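import Groth.Agent.Flat2C.ZRLocal
import Mathlib.RingTheory.Valuation.LocalSubring
import Mathlib.RingTheory.Localization.AtPrime.Basic

/-!
# Bad points: valuations at primes where the strict transform is not flat or not of finite
presentation
-/

set_option autoImplicit false
universe u

namespace Groth.Agent.Flat2C.ZRPoint

open Groth.Agent.Flat2C.ZRFg Groth.Agent.Flat2C.ZRSat Groth.Agent.Flat2C.ZRLocal

/-- There is a valuation centered at any given prime, with a given nonzerodivisor not in its
support. -/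
theorem exists_valuation {R : Type u} [CommRing R] (z : Ideal R) [hz : z.IsPrime] (d : R)
    (hd : d ∈ nonZeroDivisors R) :
    ∃ (Γ : Type u) (_ : LinearOrderedCommGroupWithZero Γ) (ω : Valuation R Γ),
      (∀ x, ω x ≤ 1) ∧ (∀ x, x ∉ z → ω x = 1) ∧ (∀ x ∈ z, ω x < 1) ∧ ω d ≠ 0 := by
  have hnil : ¬ IsNilpotent (algebraMap R (Localization.AtPrime z) d) := by
    rintro ⟨n, hn⟩
    rw [← map_pow, IsLocalization.map_eq_zero_iff z.primeCompl] at hn
    obtain ⟨s, hs⟩ := hn
    have : (s : R) = 0 :=
      (mul_right_mem_nonZeroDivisors_eq_zero_iff (pow_mem hd n)).mp hs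
    exact s.2 (by rw [this]; exact z.zero_mem)
  rw [nilpotent_iff_mem_prime] at hnil
  push Not at hnil
  obtain ⟨q, hq, hdq⟩ := hnil
  let f : Localization.AtPrime z →+* FractionRing (Localization.AtPrime z ⧸ q) :=
    (algebraMap _ _).comp (Ideal.Quotient.mk q)
  obtain ⟨V, hV, hloc⟩ := IsLocalRing.exists_factor_valuationRing f
  let f' : Localization.AtPrime z →+* V := f.codRestrict V.toSubring hV
  have hf' : ∀ x, ((f' x : V) : FractionRing (Localization.AtPrime z ⧸ q)) = f x := fun x => rfl
  have hf0 : ∀ x, f x = 0 ↔ x ∈ q := by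
    intro x
    rw [← Ideal.Quotient.eq_zero_iff_mem]
    exact IsFractionRing.to_map_eq_zero_iff (R := Localization.AtPrime z ⧸ q)
  have hunit : ∀ x, IsUnit (f' x) ↔ IsUnit x := fun x => ⟨fun h => hloc.map_nonunit x h, fun h =>
    h.map f'⟩
  let ω : Valuation R V.ValueGroup := V.valuation.comap (f.comp (algebraMap R _))
  have hω : ∀ x, ω x = V.valuation (f' (algebraMap R _ x)) := fun x => rfl
  refine ⟨V.ValueGroup, inferInstance, ω, fun x => ?_, fun x hx => ?_, fun x hx => ?_, ?_⟩
  · rw [hω]; exact V.valuation_le_one _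
  · rw [hω, ← V.valuation_eq_one_iff, hunit]
    exact IsLocalization.map_units _ (⟨x, hx⟩ : z.primeCompl)
  · rw [hω, ← V.valuation_lt_one_iff, IsLocalRing.mem_maximalIdeal, mem_nonunits_iff, hunit,
      ← mem_nonunits_iff, ← IsLocalRing.mem_maximalIdeal,
      IsLocalization.AtPrime.to_map_mem_maximal_iff _ z]
    exact hx
  · rw [hω, hf', Valuation.ne_zero_iff, Ne, hf0]
    exact hdq

theorem sat_eq_of_isUnit {A R : Type u} [CommRing A] [CommRing R] [Algebra A R] {ι σ κ : Type}
    (ρ : κ → ι → MvPolynomial σ A) {d : R} (hd : IsUnit d) :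
    sat ρ d = Submodule.span (MvPolynomial σ R)
      (Set.range fun j => frMap ι σ (algebraMap A R) (ρ j)) := by
  ext w
  rw [mem_sat]
  constructor
  · rintro ⟨n, hn⟩
    obtain ⟨e, he⟩ := (hd.pow n).exists_left_inv
    have := Submodule.smul_of_tower_mem
      (Submodule.span (MvPolynomial σ R) (Set.range fun j => frMap ι σ (algebraMap A R) (ρ j)))
      e hn
    rwa [smul_smul, he, one_smul] at this
  · intro h
    exact ⟨0, by rwa [pow_zero, one_smul]⟩

theorem map_eq_top_of_radical {A R : Type u} [CommRing A] [CommRing R] [Algebra A R]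
    {I₀ J : Ideal A} (hJ : J.FG) (hrad : J.radical = I₀.radical)
    (h : J.map (algebraMap A R) = ⊤) : I₀.map (algebraMap A R) = ⊤ := by
  obtain ⟨m, hm⟩ := Ideal.exists_pow_le_of_le_radical_of_fg (I := J) (J := I₀)
    (by rw [← hrad]; exact Ideal.le_radical) hJ
  have h1 := Ideal.map_mono (f := algebraMap A R) hm
  rw [Ideal.map_pow, h, Ideal.top_pow] at h1
  exact top_le_iff.mp h1

/-- If the strict transform is not good then it is not good near a prime containing `d`. -/
theorem exists_prime {A : Type u} [CommRing A] (I₀ : Ideal A) {ι σ κ : Type} [Finite ι] [Finite κ]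
    (ρ : κ → ι → MvPolynomial σ A)
    (hflat : ∀ (R : Type u) [CommRing R] [Algebra A R], I₀.map (algebraMap A R) = ⊤ →
      Module.Flat R ((ι → MvPolynomial σ R) ⧸ Submodule.span (MvPolynomial σ R)
        (Set.range fun j => frMap ι σ (algebraMap A R) (ρ j))))
    {J : Ideal A} (hJ : J.FG) (hrad : J.radical = I₀.radical)
    {R : Type u} [CommRing R] [Algebra A R] {d : R}
    (hJd : J.map (algebraMap A R) = Ideal.span {d}) (hbad : ¬ Good R ρ d) :
    ∃ z : Ideal R, z.IsPrime ∧ d ∈ z ∧
      ∀ s, s ∉ z → ¬ Good (Localization.Away s) ρ (algebraMap R _ d) := by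
  by_contra hcon
  push Not at hcon
  refine hbad (good_of_forall_prime ρ d fun z hz => ?_)
  by_cases hdz : d ∈ z
  · exact hcon z hz hdz
  · refine ⟨d, hdz, ?_⟩
    have hunit : IsUnit (algebraMap R (Localization.Away d) d) :=
      IsLocalization.Away.algebraMap_isUnit d
    have htop : I₀.map (algebraMap A (Localization.Away d)) = ⊤ := by
      refine map_eq_top_of_radical hJ hrad ?_
      rw [IsScalarTower.algebraMap_eq A R (Localization.Away d), ← Ideal.map_map, hJd,
        Ideal.map_span, Set.image_singleton, Ideal.span_singleton_eq_top]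
      exact hunit
    rw [Good, sat_eq_of_isUnit ρ hunit]
    exact ⟨Submodule.fg_span (Set.finite_range _), hflat _ htop⟩

end Groth.Agent.Flat2C.ZRPoint
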